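import Mathlib
import Groth.Prelude.Def_W4c1liftfrobW2

set_option autoImplicit false

/-!
Witt vectors of length two over a perfect ring of characteristic `p`, flat modules over them,
and flat liftings (helper library for the `FrobAlg` W₂-rows).
-/

universe u v

open TensorProduct

namespace Groth.Agent.H2.W2

open FrobAlg

theorem fin2_cases (i : Fin 2) : i = 0 ∨ i = 1 := by fin_cases i <;> simp

section basic

variable (p : ℕ) [Fact p.Prime] (k : Type u) [CommRing k] [CharP k p]

theorem coeff_p_mul (x : W2 p k) :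
    ((p : W2 p k) * x).coeff 0 = 0 ∧ ((p : W2 p k) * x).coeff 1 = x.coeff 0 ^ p := by
  obtain ⟨X, rfl⟩ := WittVector.truncate_surjective p 2 k x
  have h1 : (p : W2 p k) * WittVector.truncate 2 X =
      WittVector.truncate 2 (WittVector.verschiebung (WittVector.frobenius X)) := by
    rw [WittVector.verschiebung_frobenius, map_mul, map_natCast, mul_comm]
  rw [h1]
  refine ⟨?_, ?_⟩
  · rw [WittVector.coeff_truncate]
    exact WittVector.verschiebung_coeff_zero _
  · rw [WittVector.coeff_truncate, WittVector.coeff_truncate]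
    exact (WittVector.verschiebung_coeff_succ _ 0).trans (WittVector.coeff_frobenius_charP p _ 0)

theorem coeff_p_zero : ((p : W2 p k)).coeff 0 = 0 := by
  have h := (coeff_p_mul p k 1).1
  rwa [mul_one] at h

theorem p_mul_p : (p : W2 p k) * (p : W2 p k) = 0 := by
  apply TruncatedWittVector.ext
  intro i
  rcases fin2_cases i with rfl | rfl
  · rw [(coeff_p_mul p k _).1]; simp
  · rw [(coeff_p_mul p k _).2, coeff_p_zero, zero_pow (Fact.out : p.Prime).ne_zero]; simp

variable [PerfectRing k p]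

theorem ker_res : RingHom.ker (res p k) = Ideal.span {(p : W2 p k)} := by
  ext x
  rw [RingHom.mem_ker, res_apply, Ideal.mem_span_singleton']
  constructor
  · intro h
    obtain ⟨b, hb⟩ := (PerfectRing.bijective_frobenius (R := k) (p := p)).2 (x.coeff 1)
    replace hb : b ^ p = x.coeff 1 := hb
    refine ⟨TruncatedWittVector.mk p ![b, 0], ?_⟩
    rw [mul_comm]
    apply TruncatedWittVector.ext
    intro i
    rcases fin2_cases i with rfl | rfl
    · rw [(coeff_p_mul p k _).1, h]
    · rw [(coeff_p_mul p k _).2, TruncatedWittVector.coeff_mk]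
      exact hb
  · rintro ⟨a, rfl⟩
    rw [mul_comm]
    exact (coeff_p_mul p k a).1

theorem p_mul_eq_zero_iff (x : W2 p k) : (p : W2 p k) * x = 0 ↔ x.coeff 0 = 0 := by
  constructor
  · intro h
    have h1 := (coeff_p_mul p k x).2
    rw [h] at h1
    have h2 : x.coeff 0 ^ p = (0 : k) ^ p := by
      rw [← h1, zero_pow (Fact.out : p.Prime).ne_zero]; simp
    exact (PerfectRing.bijective_frobenius (R := k) (p := p)).1 h2
  · intro h
    apply TruncatedWittVector.ext
    intro i
    rcases fin2_cases i with rfl | rfl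
    · rw [(coeff_p_mul p k _).1]; simp
    · rw [(coeff_p_mul p k _).2, h, zero_pow (Fact.out : p.Prime).ne_zero]; simp

theorem exists_eq_p_smul {M : Type v} [AddCommGroup M] [Module (W2 p k) M]
    [Module.Flat (W2 p k) M] (m : M) (h : (p : W2 p k) • m = 0) :
    ∃ m' : M, m = (p : W2 p k) • m' := by
  obtain ⟨n, a, y, hxy, hfa⟩ := Module.Flat.isTrivialRelation_of_sum_smul_eq_zero (ι := Fin 1)
    (f := fun _ => (p : W2 p k)) (x := fun _ => m) (by rw [Fin.sum_univ_one]; exact h)
  have hc : ∀ j : Fin n, ∃ c : W2 p k, a 0 j = (p : W2 p k) * c := by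
    intro j
    have h1 : (p : W2 p k) * a 0 j = 0 := by
      have h0 := hfa j
      rw [Fin.sum_univ_one] at h0
      exact h0
    have h2 : a 0 j ∈ RingHom.ker (res p k) := by
      rw [RingHom.mem_ker, res_apply]; exact (p_mul_eq_zero_iff p k _).mp h1
    rw [ker_res, Ideal.mem_span_singleton'] at h2
    obtain ⟨c, hc⟩ := h2
    exact ⟨c, by rw [← hc, mul_comm]⟩
  choose c hc using hc
  refine ⟨∑ j, c j • y j, ?_⟩
  have hm : m = ∑ j, a 0 j • y j := hxy 0
  rw [hm, Finset.smul_sum]
  refine Finset.sum_congr rfl fun j _ => ?_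
  rw [hc j, mul_smul]

theorem exists_eq_p_mul_of_flat {B : Type v} [CommRing B] (ι : W2 p k →+* B)
    (hι : ι.Flat) (b : B) (h : (p : B) * b = 0) : ∃ b' : B, b = (p : B) * b' := by
  letI := ι.toAlgebra
  haveI : Module.Flat (W2 p k) B := hι
  have h' : (p : W2 p k) • b = 0 := by
    rw [Algebra.smul_def, RingHom.algebraMap_toAlgebra, map_natCast]; exact h
  obtain ⟨b', hb'⟩ := exists_eq_p_smul p k b h'
  refine ⟨b', ?_⟩
  rw [hb', Algebra.smul_def, RingHom.algebraMap_toAlgebra, map_natCast]

end basic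

section field

variable (p : ℕ) [Fact p.Prime] (k : Type u) [Field k] [CharP k p] [PerfectRing k p]

theorem isUnit_of_coeff_ne_zero (x : W2 p k) (hx : x.coeff 0 ≠ 0) : IsUnit x := by
  obtain ⟨u, hu⟩ : ∃ u : W2 p k, u = TruncatedWittVector.mk p ![(x.coeff 0)⁻¹, 0] := ⟨_, rfl⟩
  have hu0 : u.coeff 0 = (x.coeff 0)⁻¹ := by rw [hu]; rfl
  have h1 : (x * u).coeff 0 = 1 := by
    have h := map_mul (res p k) x u
    rw [res_apply, res_apply, res_apply] at h
    rw [h, hu0]
    exact mul_inv_cancel₀ hx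
  have h2 : x * u - 1 ∈ RingHom.ker (res p k) := by
    rw [RingHom.mem_ker, map_sub, map_one, res_apply, h1, sub_self]
  rw [ker_res, Ideal.mem_span_singleton'] at h2
  obtain ⟨y, hy⟩ := h2
  have hpp := p_mul_p p k
  have hxu : x * u = 1 + y * p := by rw [hy]; ring
  have h3 : x * (u * (1 - y * p)) = 1 := by
    calc x * (u * (1 - y * p)) = (x * u) * (1 - y * p) := by ring
      _ = (1 + y * p) * (1 - y * p) := by rw [hxu]
      _ = 1 - y * y * ((p : W2 p k) * p) := by ring
      _ = 1 := by rw [hpp, mul_zero, sub_zero]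
  exact IsUnit.of_mul_eq_one _ h3

theorem ideal_cases (I : Ideal (W2 p k)) :
    I = ⊥ ∨ I = Ideal.span {(p : W2 p k)} ∨ I = ⊤ := by
  by_cases h1 : ∃ x ∈ I, x.coeff 0 ≠ 0
  · obtain ⟨x, hxI, hx⟩ := h1
    right; right
    exact Ideal.eq_top_of_isUnit_mem _ hxI (isUnit_of_coeff_ne_zero p k x hx)
  · push Not at h1
    have hle : I ≤ Ideal.span {(p : W2 p k)} := by
      intro x hx
      rw [← ker_res, RingHom.mem_ker, res_apply]
      exact h1 x hx
    by_cases h2 : I = ⊥
    · left; exact h2
    · right; left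
      refine le_antisymm hle ?_
      obtain ⟨x, hxI, hx0⟩ := Submodule.exists_mem_ne_zero_of_ne_bot h2
      have hxp := hle hxI
      rw [Ideal.mem_span_singleton'] at hxp
      obtain ⟨y, hy⟩ := hxp
      have hy0 : y.coeff 0 ≠ 0 := by
        intro h
        apply hx0
        rw [← hy, mul_comm]
        exact (p_mul_eq_zero_iff p k y).mpr h
      obtain ⟨v, hv⟩ := (isUnit_of_coeff_ne_zero p k y hy0).exists_left_inv
      rw [Ideal.span_singleton_le_iff_mem]
      have hpv : (p : W2 p k) = v * x := by rw [← hy, ← mul_assoc, hv, one_mul]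
      rw [hpv]
      exact I.mul_mem_left v hxI

theorem flat_of_forall {M : Type v} [AddCommGroup M] [Module (W2 p k) M]
    (h : ∀ m : M, (p : W2 p k) • m = 0 → ∃ m' : M, m = (p : W2 p k) • m') :
    Module.Flat (W2 p k) M := by
  rw [Module.Flat.iff_lift_lsmul_comp_subtype_injective]
  intro I _
  rcases ideal_cases p k I with rfl | rfl | rfl
  · intro x y _
    exact Subsingleton.elim x y
  · rw [injective_iff_map_eq_zero]
    intro t ht
    have hP : (p : W2 p k) ∈ Ideal.span {(p : W2 p k)} := Ideal.mem_span_singleton_self _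
    have hform : ∀ t : (Ideal.span {(p : W2 p k)} : Ideal (W2 p k)) ⊗[W2 p k] M,
        ∃ m : M, t = (⟨(p : W2 p k), hP⟩ : (Ideal.span {(p : W2 p k)} : Ideal (W2 p k))) ⊗ₜ m := by
      intro t
      induction t using TensorProduct.induction_on with
      | zero => exact ⟨0, (TensorProduct.tmul_zero _ _).symm⟩
      | tmul x m =>
        obtain ⟨c, hc⟩ := Ideal.mem_span_singleton'.mp x.2
        refine ⟨c • m, ?_⟩
        have hx : x = c • (⟨(p : W2 p k), hP⟩ : (Ideal.span {(p : W2 p k)} : Ideal (W2 p k))) :=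
          Subtype.ext (by rw [Submodule.coe_smul, smul_eq_mul]; exact hc.symm)
        rw [hx, TensorProduct.smul_tmul]
      | add t₁ t₂ h₁ h₂ =>
        obtain ⟨m₁, rfl⟩ := h₁
        obtain ⟨m₂, rfl⟩ := h₂
        exact ⟨m₁ + m₂, (TensorProduct.tmul_add _ _ _).symm⟩
    obtain ⟨m, rfl⟩ := hform t
    have ht' : (p : W2 p k) • m = 0 := by simpa using ht
    obtain ⟨m', rfl⟩ := h m ht'
    have hz : (p : W2 p k) • (⟨(p : W2 p k), hP⟩ :
        (Ideal.span {(p : W2 p k)} : Ideal (W2 p k))) = 0 :=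
      Subtype.ext (by rw [Submodule.coe_smul, smul_eq_mul, p_mul_p]; rfl)
    rw [← TensorProduct.smul_tmul, hz, TensorProduct.zero_tmul]
  · have h1 : (1 : W2 p k) ∈ (⊤ : Ideal (W2 p k)) := Submodule.mem_top
    apply Function.LeftInverse.injective
      (g := fun m : M => (⟨1, h1⟩ : (⊤ : Ideal (W2 p k))) ⊗ₜ[W2 p k] m)
    intro t
    induction t using TensorProduct.induction_on with
    | zero => simp
    | tmul x m =>
      rw [TensorProduct.lift.tmul]
      show (⟨1, h1⟩ : (⊤ : Ideal (W2 p k))) ⊗ₜ[W2 p k] ((x : W2 p k) • m) = x ⊗ₜ m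
      rw [← TensorProduct.smul_tmul]
      congr 1
      exact Subtype.ext (by simp)
    | add t₁ t₂ h₁ h₂ =>
      simp only [map_add, TensorProduct.tmul_add] at h₁ h₂ ⊢
      rw [h₁, h₂]

theorem flat_iff {M : Type v} [AddCommGroup M] [Module (W2 p k) M] :
    Module.Flat (W2 p k) M ↔
      ∀ m : M, (p : W2 p k) • m = 0 → ∃ m' : M, m = (p : W2 p k) • m' :=
  ⟨fun _ m h => exists_eq_p_smul p k m h, flat_of_forall p k⟩

end field

section lift

variable (p : ℕ) [Fact p.Prime] (k : Type u) [CommRing k] [CharP k p] [PerfectRing k p]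
variable {A : Type v} [CommRing A] [Algebra k A] {B : Type v} [CommRing B]
  {ι : W2 p k →+* B} {π : B →+* A}

theorem natCast_mul_natCast (ι : W2 p k →+* B) : (p : B) * (p : B) = 0 := by
  have h := congrArg ι (p_mul_p p k)
  rwa [map_mul, map_natCast, map_zero] at h

theorem lift_ker (h : IsLift p k A B ι π) : RingHom.ker π = Ideal.span {(p : B)} := by
  rw [h.ker_eq, ker_res, Ideal.map_span, Set.image_singleton, map_natCast]

theorem lift_exists (h : IsLift p k A B ι π) {x : B} (hx : π x = 0) :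
    ∃ y, x = (p : B) * y := by
  have hx' : x ∈ RingHom.ker π := hx
  rw [lift_ker p k h, Ideal.mem_span_singleton'] at hx'
  obtain ⟨y, hy⟩ := hx'
  exact ⟨y, by rw [← hy, mul_comm]⟩

theorem lift_map_p (h : IsLift p k A B ι π) : π (p : B) = 0 := by
  have hp : (p : B) ∈ RingHom.ker π := by
    rw [lift_ker p k h]; exact Ideal.mem_span_singleton_self _
  exact hp

theorem lift_p_mul (h : IsLift p k A B ι π) {x : B} (hx : π x = 0) : (p : B) * x = 0 := by
  obtain ⟨y, rfl⟩ := lift_exists p k h hx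
  rw [← mul_assoc, natCast_mul_natCast p k ι, zero_mul]

theorem lift_of_p_mul (h : IsLift p k A B ι π) {x : B} (hx : (p : B) * x = 0) : π x = 0 := by
  obtain ⟨y, rfl⟩ := exists_eq_p_mul_of_flat p k ι h.flat x hx
  rw [map_mul, lift_map_p p k h, zero_mul]

end lift

end Groth.Agent.H2.W2
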