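import Mathlib
import Groth.Agent.H2.W2

set_option autoImplicit false

/-!
Frobenius liftings on quotients of polynomial rings over `W₂(k)` (helper for S13138).
-/

universe u

open MvPolynomial

namespace Groth.Agent.H2.W2

open FrobAlg

section poly

variable (p : ℕ) [Fact p.Prime] (k : Type u) [CommRing k] [CharP k p] (n : ℕ)

theorem pR_sq : ((p : MvPolynomial (Fin n) (W2 p k)) * (p : MvPolynomial (Fin n) (W2 p k))) = 0 := by
  have h := congrArg (C : W2 p k →+* MvPolynomial (Fin n) (W2 p k)) (p_mul_p p k)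
  rwa [map_mul, map_natCast, map_zero] at h

theorem p_mul_add_pow (u v : MvPolynomial (Fin n) (W2 p k)) :
    (p : MvPolynomial (Fin n) (W2 p k)) * (u + v) ^ p = p * u ^ p + p * v ^ p := by
  obtain ⟨r, hr⟩ := exists_add_pow_prime_eq (Fact.out : p.Prime) u v
  rw [hr]
  linear_combination (u * v * r) * pR_sq p k n

/-- the perturbed Frobenius lift on the polynomial ring -/
noncomputable def EE (g : Fin n → MvPolynomial (Fin n) (W2 p k)) :
    MvPolynomial (Fin n) (W2 p k) →+* MvPolynomial (Fin n) (W2 p k) :=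
  eval₂Hom (C.comp (sigma p k)) fun j => X j ^ p + (p : MvPolynomial (Fin n) (W2 p k)) * g j

theorem EE_C (g : Fin n → MvPolynomial (Fin n) (W2 p k)) (w : W2 p k) :
    EE p k n g (C w) = C (sigma p k w) := by
  simp [EE]

theorem EE_X (g : Fin n → MvPolynomial (Fin n) (W2 p k)) (j : Fin n) :
    EE p k n g (X j) = X j ^ p + (p : MvPolynomial (Fin n) (W2 p k)) * g j := by
  simp [EE]

theorem polyFrob_C (w : W2 p k) : polyFrob p k (Fin n) (C w) = C (sigma p k w) := by
  simp [polyFrob]

theorem polyFrob_X (j : Fin n) :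
    polyFrob p k (Fin n) (X j) = (X j : MvPolynomial (Fin n) (W2 p k)) ^ p := by
  simp [polyFrob]

theorem polyFrob_eq_EE : polyFrob p k (Fin n) = EE p k n 0 := by
  apply MvPolynomial.ringHom_ext
  · intro w; rw [polyFrob_C, EE_C]
  · intro j; rw [polyFrob_X, EE_X]; simp

theorem map_res_EE (g : Fin n → MvPolynomial (Fin n) (W2 p k))
    (f : MvPolynomial (Fin n) (W2 p k)) :
    MvPolynomial.map (res p k) (EE p k n g f) = (MvPolynomial.map (res p k) f) ^ p := by
  have h : (MvPolynomial.map (res p k)).comp (EE p k n g) =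
      (frobenius (MvPolynomial (Fin n) k) p).comp (MvPolynomial.map (res p k)) := by
    apply MvPolynomial.ringHom_ext
    · intro w
      simp only [RingHom.comp_apply, EE_C, map_C, frobenius_def, res_apply, WittGrp.coeff_frob,
        map_pow]
    · intro j
      simp only [RingHom.comp_apply, EE_X, map_add, map_pow, map_mul, map_X, map_natCast,
        frobenius_def, CharP.cast_eq_zero, zero_mul, add_zero]
  exact RingHom.congr_fun h f

theorem map_res_polyFrob (f : MvPolynomial (Fin n) (W2 p k)) :
    MvPolynomial.map (res p k) (polyFrob p k (Fin n) f) = (MvPolynomial.map (res p k) f) ^ p := by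
  rw [polyFrob_eq_EE, map_res_EE]

variable [PerfectRing k p]

theorem ker_map_res :
    RingHom.ker (MvPolynomial.map (res p k) :
      MvPolynomial (Fin n) (W2 p k) →+* MvPolynomial (Fin n) k) =
      Ideal.span {(p : MvPolynomial (Fin n) (W2 p k))} := by
  rw [MvPolynomial.ker_map, ker_res, Ideal.map_span, Set.image_singleton, map_natCast]

theorem polyFrob_eq (f : MvPolynomial (Fin n) (W2 p k)) :
    ∃ c, polyFrob p k (Fin n) f = f ^ p + (p : MvPolynomial (Fin n) (W2 p k)) * c := by
  have h : polyFrob p k (Fin n) f - f ^ p ∈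
      RingHom.ker (MvPolynomial.map (res p k) :
        MvPolynomial (Fin n) (W2 p k) →+* MvPolynomial (Fin n) k) := by
    rw [RingHom.mem_ker, map_sub, map_res_polyFrob, map_pow, sub_self]
  rw [ker_map_res, Ideal.mem_span_singleton'] at h
  obtain ⟨c, hc⟩ := h
  exact ⟨c, by rw [mul_comm, hc]; ring⟩

theorem taylor (g : Fin n → MvPolynomial (Fin n) (W2 p k)) (f : MvPolynomial (Fin n) (W2 p k)) :
    EE p k n g f = polyFrob p k (Fin n) f +
      ∑ j, (p : MvPolynomial (Fin n) (W2 p k)) * (pderiv j f) ^ p * g j := by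
  have hp0 : p ≠ 0 := (Fact.out : p.Prime).ne_zero
  induction f using MvPolynomial.induction_on with
  | C a =>
    rw [EE_C, polyFrob_C]
    simp [zero_pow hp0]
  | add f₁ f₂ h₁ h₂ =>
    rw [map_add, map_add, h₁, h₂]
    have hterm : ∀ j, (p : MvPolynomial (Fin n) (W2 p k)) * (pderiv j (f₁ + f₂)) ^ p * g j =
        (p : MvPolynomial (Fin n) (W2 p k)) * (pderiv j f₁) ^ p * g j + (p : MvPolynomial (Fin n) (W2 p k)) * (pderiv j f₂) ^ p * g j := by
      intro j
      rw [map_add, p_mul_add_pow, add_mul]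
    rw [Finset.sum_congr rfl (fun j _ => hterm j), Finset.sum_add_distrib]
    ring
  | mul_X f i h =>
    rw [map_mul, map_mul, h, EE_X, polyFrob_X]
    obtain ⟨c, hc⟩ := polyFrob_eq p k n f
    have hS : (∑ j, (p : MvPolynomial (Fin n) (W2 p k)) * (pderiv j f) ^ p * g j) * p = 0 := by
      rw [Finset.sum_mul]
      apply Finset.sum_eq_zero
      intro j _
      linear_combination ((pderiv j f) ^ p * g j) * pR_sq p k n
    have hterm : ∀ j, (p : MvPolynomial (Fin n) (W2 p k)) * (pderiv j (f * X i)) ^ p * g j =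
        ((p : MvPolynomial (Fin n) (W2 p k)) * (pderiv j f) ^ p * g j) * X i ^ p +
          (if j = i then (p : MvPolynomial (Fin n) (W2 p k)) * f ^ p * g j else 0) := by
      intro j
      rw [pderiv_mul]
      by_cases hji : j = i
      · subst hji
        rw [pderiv_X_self, mul_one, if_pos rfl, p_mul_add_pow, mul_pow]
        ring
      · rw [pderiv_X_of_ne (Ne.symm hji), mul_zero, add_zero, if_neg hji, add_zero, mul_pow]
        ring
    rw [Finset.sum_congr rfl (fun j _ => hterm j), Finset.sum_add_distrib, ← Finset.sum_mul,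
      Finset.sum_ite_eq' Finset.univ i, if_pos (Finset.mem_univ i), hc]
    linear_combination (c * g i) * pR_sq p k n + (g i) * hS

end poly

section main

variable (p : ℕ) [Fact p.Prime] (k : Type u) [CommRing k] [CharP k p] [PerfectRing k p]
  {n m : ℕ} (f' : Fin m → MvPolynomial (Fin n) (W2 p k))

theorem frobenius_lifts_iff
    (hflat : ((Ideal.Quotient.mk (Ideal.span (Set.range f'))).comp
      (MvPolynomial.C : W2 p k →+* MvPolynomial (Fin n) (W2 p k))).Flat) :
    (∃ Φ : (MvPolynomial (Fin n) (W2 p k) ⧸ Ideal.span (Set.range f')) →+*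
        (MvPolynomial (Fin n) (W2 p k) ⧸ Ideal.span (Set.range f')),
      Φ.comp ((Ideal.Quotient.mk (Ideal.span (Set.range f'))).comp MvPolynomial.C) =
        ((Ideal.Quotient.mk (Ideal.span (Set.range f'))).comp MvPolynomial.C).comp (sigma p k) ∧
      ∀ b, Ideal.quotientMap ((Ideal.span (Set.range f')).map (MvPolynomial.map (res p k)))
          (MvPolynomial.map (res p k)) Ideal.le_comap_map (Φ b) =
        (Ideal.quotientMap ((Ideal.span (Set.range f')).map (MvPolynomial.map (res p k)))
          (MvPolynomial.map (res p k)) Ideal.le_comap_map b) ^ p) ↔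
    ∃ h : Fin n → MvPolynomial (Fin n) (W2 p k), ∀ i,
      polyFrob p k (Fin n) (f' i) - f' i ^ p
        - (p : MvPolynomial (Fin n) (W2 p k)) * ∑ j, MvPolynomial.pderiv j (f' i) ^ p * h j
        ∈ Ideal.span {(p : MvPolynomial (Fin n) (W2 p k))} * Ideal.span (Set.range f') := by
  have hp : p.Prime := Fact.out
  have hpp := pR_sq p k n
  have hresS : Function.Surjective (res p k) := fun a =>
    ⟨TruncatedWittVector.mk p ![a, 0], by rw [res_apply]; rfl⟩
  have hρS : Function.Surjective (MvPolynomial.map (res p k) :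
      MvPolynomial (Fin n) (W2 p k) → MvPolynomial (Fin n) k) :=
    MvPolynomial.map_surjective _ hresS
  -- kernel of the reduction map on the quotient
  have hkerQ : ∀ b : MvPolynomial (Fin n) (W2 p k) ⧸ Ideal.span (Set.range f'),
      Ideal.quotientMap ((Ideal.span (Set.range f')).map (MvPolynomial.map (res p k)))
        (MvPolynomial.map (res p k)) Ideal.le_comap_map b = 0 →
      ∃ c, b = (p : MvPolynomial (Fin n) (W2 p k) ⧸ Ideal.span (Set.range f')) * c := by
    intro b hb
    obtain ⟨g₀, rfl⟩ := Ideal.Quotient.mk_surjective b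
    rw [Ideal.quotientMap_mk, Ideal.Quotient.eq_zero_iff_mem,
      Ideal.mem_map_iff_of_surjective _ hρS] at hb
    obtain ⟨j, hj, hjg⟩ := hb
    have h1 : g₀ - j ∈ RingHom.ker (MvPolynomial.map (res p k) :
        MvPolynomial (Fin n) (W2 p k) →+* MvPolynomial (Fin n) k) := by
      rw [RingHom.mem_ker, map_sub, hjg, sub_self]
    rw [ker_map_res, Ideal.mem_span_singleton'] at h1
    obtain ⟨c, hc⟩ := h1
    refine ⟨Ideal.Quotient.mk _ c, ?_⟩
    have h2 : g₀ = j + c * p := by rw [hc]; ring
    rw [h2, map_add, Ideal.Quotient.eq_zero_iff_mem.mpr hj, zero_add, map_mul, map_natCast,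
      mul_comm]
  have hfl := exists_eq_p_mul_of_flat p k _ hflat
  have hinf : ∀ x : MvPolynomial (Fin n) (W2 p k),
      x ∈ Ideal.span {(p : MvPolynomial (Fin n) (W2 p k))} → x ∈ Ideal.span (Set.range f') →
      x ∈ Ideal.span {(p : MvPolynomial (Fin n) (W2 p k))} * Ideal.span (Set.range f') := by
    intro x hx1 hx2
    obtain ⟨b, rfl⟩ := Ideal.mem_span_singleton'.mp hx1
    have h1 : (p : MvPolynomial (Fin n) (W2 p k) ⧸ Ideal.span (Set.range f')) *
        Ideal.Quotient.mk _ b = 0 := by
      rw [← map_natCast (Ideal.Quotient.mk (Ideal.span (Set.range f'))) p, ← map_mul,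
        Ideal.Quotient.eq_zero_iff_mem, mul_comm]
      exact hx2
    obtain ⟨b', hb'⟩ := hfl _ h1
    obtain ⟨b'', rfl⟩ := Ideal.Quotient.mk_surjective b'
    rw [← map_natCast (Ideal.Quotient.mk (Ideal.span (Set.range f'))) p, ← map_mul,
      Ideal.Quotient.eq] at hb'
    rw [Ideal.mem_span_singleton_mul]
    refine ⟨b - (p : MvPolynomial (Fin n) (W2 p k)) * b'', hb', ?_⟩
    linear_combination (-b'') * hpp
  constructor
  · rintro ⟨Φ, hΦ1, hΦ2⟩
    have hg : ∀ j, ∃ gj : MvPolynomial (Fin n) (W2 p k),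
        Φ (Ideal.Quotient.mk _ (X j)) = Ideal.Quotient.mk _ (X j ^ p + (p : MvPolynomial (Fin n) (W2 p k)) * gj) := by
      intro j
      have h1 : Ideal.quotientMap ((Ideal.span (Set.range f')).map (MvPolynomial.map (res p k)))
          (MvPolynomial.map (res p k)) Ideal.le_comap_map
          (Φ (Ideal.Quotient.mk _ (X j)) - Ideal.Quotient.mk _ (X j ^ p)) = 0 := by
        simp only [map_sub, hΦ2, map_pow, sub_self]
      obtain ⟨c, hc⟩ := hkerQ _ h1
      obtain ⟨c', rfl⟩ := Ideal.Quotient.mk_surjective c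
      refine ⟨c', ?_⟩
      rw [map_add, map_mul, map_natCast, ← hc]
      ring
    choose g hg using hg
    have hcomp : Φ.comp (Ideal.Quotient.mk (Ideal.span (Set.range f'))) =
        (Ideal.Quotient.mk (Ideal.span (Set.range f'))).comp (EE p k n g) := by
      apply MvPolynomial.ringHom_ext
      · intro w
        have h1 := RingHom.congr_fun hΦ1 w
        simp only [RingHom.comp_apply] at h1
        simp only [RingHom.comp_apply, EE_C]
        exact h1
      · intro j
        simp only [RingHom.comp_apply, EE_X]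
        exact hg j
    refine ⟨fun j => - g j, fun i => ?_⟩
    have hfi : f' i ∈ Ideal.span (Set.range f') := Ideal.subset_span ⟨i, rfl⟩
    have hEi : EE p k n g (f' i) ∈ Ideal.span (Set.range f') := by
      rw [← Ideal.Quotient.eq_zero_iff_mem]
      have h1 := RingHom.congr_fun hcomp (f' i)
      simp only [RingHom.comp_apply] at h1
      rw [← h1, Ideal.Quotient.eq_zero_iff_mem.mpr hfi, map_zero]
    rw [taylor] at hEi
    have e : ∑ j, pderiv j (f' i) ^ p * (fun j => - g j) j =
        - ∑ j, pderiv j (f' i) ^ p * g j := by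
      rw [← Finset.sum_neg_distrib]
      exact Finset.sum_congr rfl (fun j _ => by ring)
    have e2 : ∑ j, (p : MvPolynomial (Fin n) (W2 p k)) * (pderiv j (f' i)) ^ p * g j =
        p * ∑ j, pderiv j (f' i) ^ p * g j := by
      rw [Finset.mul_sum]
      exact Finset.sum_congr rfl (fun j _ => by ring)
    rw [e2] at hEi
    rw [e]
    apply hinf
    · obtain ⟨c, hc⟩ := polyFrob_eq p k n (f' i)
      rw [hc, Ideal.mem_span_singleton']
      exact ⟨c + ∑ j, pderiv j (f' i) ^ p * g j, by ring⟩
    · have e3 : polyFrob p k (Fin n) (f' i) - f' i ^ p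
          - (p : MvPolynomial (Fin n) (W2 p k)) * -∑ j, pderiv j (f' i) ^ p * g j =
          (polyFrob p k (Fin n) (f' i) + p * ∑ j, pderiv j (f' i) ^ p * g j) - f' i ^ p := by
        ring
      rw [e3]
      exact Ideal.sub_mem _ hEi (Ideal.pow_mem_of_mem _ hfi p hp.pos)
  · rintro ⟨h, hh⟩
    have hfi : ∀ i, f' i ∈ Ideal.span (Set.range f') := fun i => Ideal.subset_span ⟨i, rfl⟩
    have hEJ : Ideal.span (Set.range f') ≤
        Ideal.comap (EE p k n (fun j => - h j)) (Ideal.span (Set.range f')) := by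
      rw [Ideal.span_le]
      rintro _ ⟨i, rfl⟩
      show EE p k n (fun j => - h j) (f' i) ∈ Ideal.span (Set.range f')
      rw [taylor]
      have e : ∑ j, (p : MvPolynomial (Fin n) (W2 p k)) * (pderiv j (f' i)) ^ p *
          (fun j => - h j) j = - (p * ∑ j, pderiv j (f' i) ^ p * h j) := by
        rw [Finset.mul_sum, ← Finset.sum_neg_distrib]
        exact Finset.sum_congr rfl (fun j _ => by ring)
      rw [e]
      have e3 : polyFrob p k (Fin n) (f' i) +
          -((p : MvPolynomial (Fin n) (W2 p k)) * ∑ j, pderiv j (f' i) ^ p * h j) =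
          (polyFrob p k (Fin n) (f' i) - f' i ^ p - p * ∑ j, pderiv j (f' i) ^ p * h j)
            + f' i ^ p := by ring
      rw [e3]
      exact Ideal.add_mem _ ((Ideal.mul_le_inf.trans inf_le_right) (hh i))
        (Ideal.pow_mem_of_mem _ (hfi i) p hp.pos)
    refine ⟨Ideal.quotientMap _ (EE p k n (fun j => - h j)) hEJ, ?_, ?_⟩
    · refine RingHom.ext fun w => ?_
      simp only [RingHom.comp_apply, Ideal.quotientMap_mk, EE_C]
    · intro b
      obtain ⟨g₀, rfl⟩ := Ideal.Quotient.mk_surjective b
      rw [Ideal.quotientMap_mk, Ideal.quotientMap_mk, Ideal.quotientMap_mk, map_res_EE, map_pow]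

end main

end Groth.Agent.H2.W2
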