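import Mathlib

namespace Groth.Agent.H2.ASCover

open PowerSeries

variable {k : Type*} [Field k]

section hom

variable (σ : PowerSeries k →ₐ[k] PowerSeries k)

lemma map_C' (c : k) : σ (C c) = C c := σ.commutes c

lemma lemA : ∀ (N : ℕ) (x : PowerSeries k), ∃ y r, σ x - x = (σ X - X) * y + X ^ N * r := by
  intro N
  induction N with
  | zero =>
    intro x
    exact ⟨0, σ x - x, by simp⟩
  | succ N ih =>
    intro x
    obtain ⟨x', hx'⟩ : (X : PowerSeries k) ∣ x - C (constantCoeff x) := by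
      rw [X_dvd_iff]
      simp
    obtain ⟨y', r', h'⟩ := ih x'
    refine ⟨σ x' + X * y', r', ?_⟩
    have hx : x = C (constantCoeff x) + X * x' := by rw [← hx']; ring
    have h2 : σ x - x = (σ X - X) * σ x' + X * (σ x' - x') := by
      conv_lhs => rw [hx]
      rw [map_add, map_mul, map_C']
      ring
    rw [h2, h']
    ring

lemma order_le_map (x : PowerSeries k) : (σ X - X).order ≤ (σ x - x).order := by
  rw [← ENat.forall_natCast_le_iff_le]
  intro n hn
  obtain ⟨y, r, h⟩ := lemA σ n x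
  rw [h]
  refine le_trans ?_ (min_order_le_order_add _ _)
  refine le_min ?_ ?_
  · calc (n : ℕ∞) ≤ (σ X - X).order := hn
      _ ≤ (σ X - X).order + y.order := le_self_add
      _ = _ := (order_mul _ _).symm
  · calc (n : ℕ∞) = (X ^ n : PowerSeries k).order := (order_X_pow n).symm
      _ ≤ (X ^ n : PowerSeries k).order + r.order := le_self_add
      _ = _ := (order_mul _ _).symm

lemma constantCoeff_map {u : PowerSeries k} (hσX : σ X = X * u) (x : PowerSeries k) :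
    constantCoeff (σ x) = constantCoeff x := by
  obtain ⟨x', hx'⟩ : (X : PowerSeries k) ∣ x - C (constantCoeff x) := by
    rw [X_dvd_iff]
    simp
  have hx : x = C (constantCoeff x) + X * x' := by rw [← hx']; ring
  have h2 : σ x = C (constantCoeff x) + X * (u * σ x') := by
    conv_lhs => rw [hx]
    rw [map_add, map_mul, map_C', hσX]
    ring
  rw [h2]
  simp

end hom

section basic

lemma isUnit_geom (v : PowerSeries k) (hv1 : constantCoeff v = 1) (j : ℕ) (hj : (j : k) ≠ 0) :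
    IsUnit (∑ l ∈ Finset.range j, v ^ l) := by
  rw [isUnit_iff_constantCoeff, map_sum]
  simp only [map_pow, hv1, one_pow, Finset.sum_const, Finset.card_range, nsmul_eq_mul, mul_one]
  exact isUnit_iff_ne_zero.mpr hj

lemma order_pow_sub_one (v : PowerSeries k) (hv1 : constantCoeff v = 1) (j : ℕ)
    (hj : (j : k) ≠ 0) : (v ^ j - 1).order = (v - 1).order := by
  rw [← mul_geom_sum v j, order_mul, order_zero_of_unit (isUnit_geom v hv1 j hj), add_zero]

lemma eq_one_of_pow_eq_one (v : PowerSeries k) (hv1 : constantCoeff v = 1) (n : ℕ)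
    (hn : (n : k) ≠ 0) (hvn : v ^ n = 1) : v = 1 := by
  have h := mul_geom_sum v n
  rw [hvn, sub_self] at h
  rcases mul_eq_zero.mp h with h | h
  · exact sub_eq_zero.mp h
  · exact absurd h (isUnit_geom v hv1 n hn).ne_zero

lemma order_sub_one {u : PowerSeries k} (hu1 : constantCoeff u = 1) (n : ℕ) (hn : (n : k) ≠ 0)
    (hun : u ^ n * (1 + X ^ n) = 1) (hu : IsUnit u) : (u - 1).order = n := by
  rw [← order_pow_sub_one u hu1 n hn]
  have h : u ^ n - 1 = -(u ^ n * X ^ n) := by linear_combination hun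
  rw [h, order_neg, order_mul, order_X_pow, order_zero_of_unit (hu.pow n), zero_add]

lemma val_zpow_mul_pow (uu : (PowerSeries k)ˣ) (u : PowerSeries k)
    (huu : (uu : PowerSeries k) = u) (i : ℤ) (j : ℕ) :
    ((uu ^ i : (PowerSeries k)ˣ) : PowerSeries k) * u ^ j
      = ((uu ^ (i + j) : (PowerSeries k)ˣ) : PowerSeries k) := by
  subst huu
  rw [zpow_add, zpow_natCast, Units.val_mul, Units.val_pow_eq_pow_val]

lemma order_zpow_sub_one {u : PowerSeries k} (hu1 : constantCoeff u = 1) (n : ℕ)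
    (hn : (n : k) ≠ 0) (hun : u ^ n * (1 + X ^ n) = 1)
    (uu : (PowerSeries k)ˣ) (huu : (uu : PowerSeries k) = u)
    (i : ℤ) (hi : (i : k) ≠ 0) :
    (((uu ^ i : (PowerSeries k)ˣ) : PowerSeries k) - 1).order = n := by
  have hu : IsUnit u := huu ▸ uu.isUnit
  obtain ⟨j, rfl | rfl⟩ := Int.eq_nat_or_neg i
  · have hj : (j : k) ≠ 0 := by simpa using hi
    rw [zpow_natCast, Units.val_pow_eq_pow_val, huu, order_pow_sub_one u hu1 j hj,
      order_sub_one hu1 n hn hun hu]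
  · have hj : (j : k) ≠ 0 := by simpa using hi
    have h1 : ((uu ^ (-(j : ℤ)) : (PowerSeries k)ˣ) : PowerSeries k) * u ^ j = 1 := by
      rw [val_zpow_mul_pow uu u huu, neg_add_cancel, zpow_zero, Units.val_one]
    have h2 : ((uu ^ (-(j : ℤ)) : (PowerSeries k)ˣ) : PowerSeries k) - 1
        = -(((uu ^ (-(j : ℤ)) : (PowerSeries k)ˣ) : PowerSeries k) * (u ^ j - 1)) := by
      linear_combination h1
    rw [h2, order_neg, order_mul, order_zero_of_unit (Units.isUnit _), zero_add,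
      order_pow_sub_one u hu1 j hj, order_sub_one hu1 n hn hun hu]

end basic

section s64

theorem core64 (p : ℕ) [CharP k p] (n : ℕ) (hpn : ¬ p ∣ n)
    (u : PowerSeries k) (hu1 : constantCoeff u = 1) (hun : u ^ n * (1 + X ^ n) = 1)
    (uu : (PowerSeries k)ˣ) (huu : (uu : PowerSeries k) = u)
    (a : ℤ) (σ : PowerSeries k →ₐ[k] PowerSeries k) (hσX : σ X = X * u)
    (m₀ : ℕ) (hm₀ : 1 ≤ m₀) (d : ℕ → k) (hd : d m₀ ≠ 0)
    (c : ℕ → PowerSeries k)
    (hc : ∀ m : ℕ, 1 ≤ m → m ≤ m₀ →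
      X ^ m * c m = ((uu ^ (a - m) : (PowerSeries k)ˣ) : PowerSeries k) - 1)
    (h : PowerSeries k)
    (hh : ((uu ^ a : (PowerSeries k)ˣ) : PowerSeries k) * σ h - h =
      ∑ m ∈ Finset.Icc 1 m₀, d m • c m) :
    (((a - m₀ : ℤ)) : k) = 0 := by
  by_contra hne
  have hnk : (n : k) ≠ 0 := by
    rw [Ne, CharP.cast_eq_zero_iff k p]
    exact hpn
  have hu : IsUnit u := huu ▸ uu.isUnit
  have hm0' : m₀ ≠ 0 := by omega
  -- Step 1
  have s1 : X ^ m₀ * (((uu ^ a : (PowerSeries k)ˣ) : PowerSeries k) * σ h - h) =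
      ∑ m ∈ Finset.Icc 1 m₀, d m • (X ^ (m₀ - m) *
        (((uu ^ (a - m) : (PowerSeries k)ˣ) : PowerSeries k) - 1)) := by
    rw [hh, Finset.mul_sum]
    apply Finset.sum_congr rfl
    intro m hm
    rw [Finset.mem_Icc] at hm
    rw [mul_smul_comm, ← hc m hm.1 hm.2, ← mul_assoc, ← pow_add, Nat.sub_add_cancel hm.2]
  obtain ⟨Y, hY⟩ : ∃ Y : PowerSeries k,
      Y = ∑ m ∈ Finset.Icc 1 m₀, d m • X ^ (m₀ - m) - X ^ m₀ * h := ⟨_, rfl⟩
  have s2 : σ Y = ∑ m ∈ Finset.Icc 1 m₀, d m • (X ^ (m₀ - m) * u ^ (m₀ - m))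
      - X ^ m₀ * u ^ m₀ * σ h := by
    rw [hY, map_sub, map_sum, map_mul, map_pow, hσX, mul_pow]
    congr 1
    apply Finset.sum_congr rfl
    intro m _
    rw [map_smul, map_pow, hσX, mul_pow]
  have e3 : ∀ m, m ≤ m₀ →
      ((uu ^ (a - m₀) : (PowerSeries k)ˣ) : PowerSeries k) * u ^ (m₀ - m)
      = ((uu ^ (a - m) : (PowerSeries k)ˣ) : PowerSeries k) := by
    intro m hm
    rw [val_zpow_mul_pow uu u huu]
    have : a - (m₀ : ℤ) + ((m₀ - m : ℕ) : ℤ) = a - m := by omega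
    rw [this]
  have e4 : ((uu ^ (a - m₀) : (PowerSeries k)ˣ) : PowerSeries k) * u ^ m₀
      = ((uu ^ a : (PowerSeries k)ˣ) : PowerSeries k) := by
    rw [val_zpow_mul_pow uu u huu, sub_add_cancel]
  have s4 : ((uu ^ (a - m₀) : (PowerSeries k)ˣ) : PowerSeries k) * σ Y =
      ∑ m ∈ Finset.Icc 1 m₀, d m • (X ^ (m₀ - m) *
        ((uu ^ (a - m) : (PowerSeries k)ˣ) : PowerSeries k))
      - X ^ m₀ * (((uu ^ a : (PowerSeries k)ˣ) : PowerSeries k) * σ h) := by
    rw [s2, mul_sub, Finset.mul_sum]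
    congr 1
    · apply Finset.sum_congr rfl
      intro m hm
      rw [Finset.mem_Icc] at hm
      rw [mul_smul_comm, ← e3 m hm.2]
      congr 1
      ring
    · rw [← e4]
      ring
  have e1 : ∑ m ∈ Finset.Icc 1 m₀, d m • (X ^ (m₀ - m) *
        (((uu ^ (a - m) : (PowerSeries k)ˣ) : PowerSeries k) - 1)) =
      ∑ m ∈ Finset.Icc 1 m₀, d m • (X ^ (m₀ - m) *
        ((uu ^ (a - m) : (PowerSeries k)ˣ) : PowerSeries k))
      - ∑ m ∈ Finset.Icc 1 m₀, d m • X ^ (m₀ - m) := by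
    rw [← Finset.sum_sub_distrib]
    apply Finset.sum_congr rfl
    intro m _
    rw [mul_sub, mul_one, smul_sub]
  have s5 : Y = ((uu ^ (a - m₀) : (PowerSeries k)ˣ) : PowerSeries k) * σ Y := by
    rw [s4, hY]
    linear_combination s1 + e1
  have hY0 : constantCoeff Y = d m₀ := by
    rw [hY, map_sub, map_sum, Finset.sum_eq_single m₀]
    · simp [hm0']
    · intro m hm hne'
      rw [Finset.mem_Icc] at hm
      have : m₀ - m ≠ 0 := by omega
      simp [this]
    · intro hnot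
      exact absurd (Finset.mem_Icc.mpr ⟨hm₀, le_rfl⟩) hnot
  have hYu : Y.order = 0 := by
    apply order_zero_of_unit
    rw [isUnit_iff_constantCoeff, hY0]
    exact isUnit_iff_ne_zero.mpr hd
  have hσXo : (σ X - X).order = ((n + 1 : ℕ) : ℕ∞) := by
    have : σ X - X = X * (u - 1) := by rw [hσX]; ring
    rw [this, order_mul, order_X, order_sub_one hu1 n hnk hun hu]
    push_cast
    ring
  have h6 : (((uu ^ (a - m₀) : (PowerSeries k)ˣ) : PowerSeries k) - 1) * Y
      = -(((uu ^ (a - m₀) : (PowerSeries k)ˣ) : PowerSeries k) * (σ Y - Y)) := by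
    linear_combination (-1 : PowerSeries k) * s5
  have hW0 : ((uu ^ (a - m₀) : (PowerSeries k)ˣ) : PowerSeries k).order = 0 :=
    order_zero_of_unit (Units.isUnit _)
  have h7 := congrArg order h6
  rw [order_mul, order_neg, order_mul, hYu, add_zero, hW0, zero_add,
    order_zpow_sub_one hu1 n hnk hun uu huu (a - m₀) hne] at h7
  have h8 := order_le_map σ Y
  rw [hσXo, ← h7] at h8
  exact absurd h8 (by exact_mod_cast Nat.not_succ_le_self n)

theorem main64 (p : ℕ) [CharP k p] (n : ℕ) (hpn : ¬ p ∣ n)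
    (u : PowerSeries k) (hu1 : constantCoeff u = 1)
    (hun : u ^ n * (1 + X ^ n) = 1) (hu : IsUnit u) (a : ℤ)
    (c : ℕ → PowerSeries k)
    (hc : ∀ m : ℕ, 1 ≤ m → m ≤ n →
      X ^ m * c m = ((hu.unit ^ (a - m) : (PowerSeries k)ˣ) : PowerSeries k) - 1)
    (coef : ℕ → k) (h : PowerSeries k)
    (hh : ((hu.unit ^ a : (PowerSeries k)ˣ) : PowerSeries k) * PowerSeries.subst (X * u) h - h =
      ∑ m ∈ (Finset.Icc 1 n).filter (fun m : ℕ => ¬ (p : ℤ) ∣ a - (m : ℤ)), coef m • c m) :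
    ∀ m ∈ (Finset.Icc 1 n).filter (fun m : ℕ => ¬ (p : ℤ) ∣ a - (m : ℤ)), coef m = 0 := by
  classical
  by_contra hcon
  push Not at hcon
  obtain ⟨m₁, hm₁F, hm₁c⟩ := hcon
  obtain ⟨S, hS⟩ : ∃ S : Finset ℕ, S = ((Finset.Icc 1 n).filter
      (fun m : ℕ => ¬ (p : ℤ) ∣ a - (m : ℤ))).filter (fun m => coef m ≠ 0) := ⟨_, rfl⟩
  have hSne : S.Nonempty := ⟨m₁, by rw [hS, Finset.mem_filter]; exact ⟨hm₁F, hm₁c⟩⟩
  obtain ⟨m₀, hm₀⟩ : ∃ m₀, m₀ = S.max' hSne := ⟨_, rfl⟩
  have hm₀S : m₀ ∈ S := hm₀ ▸ S.max'_mem hSne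
  have hmax : ∀ m ∈ S, m ≤ m₀ := fun m hm => hm₀ ▸ S.le_max' m hm
  rw [hS, Finset.mem_filter, Finset.mem_filter, Finset.mem_Icc] at hm₀S
  obtain ⟨⟨⟨h1, h2⟩, h3⟩, h4⟩ := hm₀S
  obtain ⟨d, hd⟩ : ∃ d : ℕ → k, d = fun m : ℕ => if (p : ℤ) ∣ a - (m : ℤ) then 0 else coef m :=
    ⟨_, rfl⟩
  have hdm : ∀ m, d m = if (p : ℤ) ∣ a - (m : ℤ) then 0 else coef m := fun m => by rw [hd]
  have stepB : ∑ m ∈ (Finset.Icc 1 n).filter (fun m : ℕ => ¬ (p : ℤ) ∣ a - (m : ℤ)),
      coef m • c m = ∑ m ∈ Finset.Icc 1 n, d m • c m := by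
    rw [Finset.sum_filter]
    apply Finset.sum_congr rfl
    intro m _
    by_cases hp : (p : ℤ) ∣ a - (m : ℤ)
    · rw [if_neg (not_not.mpr hp), hdm, if_pos hp, zero_smul]
    · rw [if_pos hp, hdm, if_neg hp]
  have stepA : ∑ m ∈ Finset.Icc 1 m₀, d m • c m = ∑ m ∈ Finset.Icc 1 n, d m • c m := by
    apply Finset.sum_subset (Finset.Icc_subset_Icc le_rfl h2)
    intro m hm hnm
    rw [Finset.mem_Icc] at hm hnm
    have hlt : m₀ < m := by omega
    rw [hdm]
    split_ifs with hp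
    · rw [zero_smul]
    · have hcm0 : coef m = 0 := by
        by_contra hcm
        have hmS : m ∈ S := by
          rw [hS, Finset.mem_filter, Finset.mem_filter, Finset.mem_Icc]
          exact ⟨⟨hm, hp⟩, hcm⟩
        exact absurd (hmax m hmS) (by omega)
      rw [hcm0, zero_smul]
  have ha : HasSubst (X * u : PowerSeries k) := HasSubst.of_constantCoeff_zero' (by simp)
  have e : (substAlgHom ha : PowerSeries k →ₐ[k] PowerSeries k) h = subst (X * u) h :=
    congrFun (coe_substAlgHom ha) h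
  have hdm0 : d m₀ ≠ 0 := by
    rw [hdm, if_neg h3]
    exact h4
  have hfin := core64 p n hpn u hu1 hun hu.unit hu.unit_spec a
    (substAlgHom ha : PowerSeries k →ₐ[k] PowerSeries k) (substAlgHom_X ha) m₀ h1 d hdm0 c
    (fun m hm1 hm2 => hc m hm1 (hm2.trans h2)) h (by rw [e, hh, stepB, ← stepA])
  exact h3 ((CharP.intCast_eq_zero_iff k p _).mp hfin)

end s64

section s63

noncomputable def Useq (σ : PowerSeries k →ₐ[k] PowerSeries k) (u : PowerSeries k) :
    ℕ → PowerSeries k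
  | 0 => 1
  | (j + 1) => u * σ (Useq σ u j)

lemma Useq_zero (σ : PowerSeries k →ₐ[k] PowerSeries k) (u : PowerSeries k) :
    Useq σ u 0 = 1 := rfl

lemma Useq_succ (σ : PowerSeries k →ₐ[k] PowerSeries k) (u : PowerSeries k) (j : ℕ) :
    Useq σ u (j + 1) = u * σ (Useq σ u j) := rfl

variable (σ : PowerSeries k →ₐ[k] PowerSeries k) (u : PowerSeries k) (hσX : σ X = X * u)

include hσX

lemma iter_X (j : ℕ) : (⇑σ)^[j] X = X * Useq σ u j := by
  induction j with
  | zero => simp [Useq_zero]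
  | succ j ih =>
    rw [Function.iterate_succ_apply', ih, map_mul, hσX, Useq_succ]
    ring

lemma iter_pow (n : ℕ) (hun : u ^ n * (1 + X ^ n) = 1) (j : ℕ) :
    ((⇑σ)^[j] X) ^ n * (1 + (j : PowerSeries k) * X ^ n) = X ^ n := by
  induction j with
  | zero => simp
  | succ j ih =>
    have hE : (σ X) ^ n * (1 + X ^ n) = X ^ n := by
      rw [hσX, mul_pow]
      linear_combination X ^ n * hun
    have hT := congrArg σ ih
    simp only [map_mul, map_pow, map_add, map_one, map_natCast] at hT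
    rw [Function.iterate_succ_apply']
    push_cast
    linear_combination (1 + X ^ n) * hT
      + (1 - (σ ((⇑σ)^[j] X)) ^ n * (j : PowerSeries k)) * hE

lemma constantCoeff_Useq (hu1 : constantCoeff u = 1) (j : ℕ) :
    constantCoeff (Useq σ u j) = 1 := by
  induction j with
  | zero => simp [Useq_zero]
  | succ j ih => rw [Useq_succ, map_mul, constantCoeff_map σ hσX, ih, hu1, mul_one]

lemma Useq_p (p : ℕ) [CharP k p] (n : ℕ) (hnk : (n : k) ≠ 0) (hu1 : constantCoeff u = 1)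
    (hun : u ^ n * (1 + X ^ n) = 1) : Useq σ u p = 1 := by
  have h := iter_pow σ u hσX n hun p
  have hp0 : ((p : ℕ) : PowerSeries k) = 0 := by
    rw [← map_natCast (C : k →+* PowerSeries k) p, CharP.cast_eq_zero k p, map_zero]
  rw [hp0, zero_mul, add_zero, mul_one, iter_X σ u hσX, mul_pow] at h
  have h2 : Useq σ u p ^ n = 1 := by
    apply mul_left_cancel₀ (pow_ne_zero n (X_ne_zero (R := k)))
    rw [h, mul_one]
  exact eq_one_of_pow_eq_one _ (constantCoeff_Useq σ u hσX hu1 p) n hnk h2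

lemma dvd_map_sub_one (m : ℕ) (x : PowerSeries k) (hx : X ^ m ∣ x - 1) :
    X ^ m ∣ σ x - 1 := by
  obtain ⟨r, hr⟩ := hx
  refine ⟨u ^ m * σ r, ?_⟩
  have : σ x - 1 = σ (x - 1) := by rw [map_sub, map_one]
  rw [this, hr, map_mul, map_pow, hσX, mul_pow]
  ring

omit hσX in
lemma dvd_mul_sub_one (m : ℕ) (x y : PowerSeries k) (hx : X ^ m ∣ x - 1) (hy : X ^ m ∣ y - 1) :
    X ^ m ∣ x * y - 1 := by
  have : x * y - 1 = x * (y - 1) + (x - 1) := by ring
  rw [this]
  exact dvd_add (dvd_mul_of_dvd_right hy _) hx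

lemma dvd_Useq_sub_one (m : ℕ) (hu : X ^ m ∣ u - 1) (j : ℕ) : X ^ m ∣ Useq σ u j - 1 := by
  induction j with
  | zero => rw [Useq_zero, sub_self]; exact dvd_zero _
  | succ j ih =>
    rw [Useq_succ]
    exact dvd_mul_sub_one m _ _ hu (dvd_map_sub_one σ u hσX m _ ih)

omit hσX in
lemma D_zpow (m : ℕ) (v : (PowerSeries k)ˣ) (hv : X ^ m ∣ (v : PowerSeries k) - 1) (i : ℤ) :
    X ^ m ∣ ((v ^ i : (PowerSeries k)ˣ) : PowerSeries k) - 1 := by
  have hnat : ∀ j : ℕ, X ^ m ∣ ((v ^ j : (PowerSeries k)ˣ) : PowerSeries k) - 1 := by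
    intro j
    induction j with
    | zero => simp
    | succ j ih =>
      rw [pow_succ, Units.val_mul]
      exact dvd_mul_sub_one m _ _ ih hv
  obtain ⟨j, rfl | rfl⟩ := Int.eq_nat_or_neg i
  · rw [zpow_natCast]
    exact hnat j
  · rw [zpow_neg, zpow_natCast]
    have : ((v ^ j)⁻¹ : (PowerSeries k)ˣ) - (1 : PowerSeries k)
        = -(((v ^ j)⁻¹ : (PowerSeries k)ˣ) : PowerSeries k)
          * (((v ^ j : (PowerSeries k)ˣ) : PowerSeries k) - 1) := by
      have h1 : (((v ^ j)⁻¹ : (PowerSeries k)ˣ) : PowerSeries k)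
          * ((v ^ j : (PowerSeries k)ˣ) : PowerSeries k) = 1 := Units.inv_mul _
      linear_combination h1
    rw [this]
    exact dvd_mul_of_dvd_right (hnat j) _

lemma prod_Useq (p : ℕ) [CharP k p] (n : ℕ) (hnk : (n : k) ≠ 0) (hu1 : constantCoeff u = 1)
    (hun : u ^ n * (1 + X ^ n) = 1) :
    u ^ p * σ (∏ j ∈ Finset.range p, Useq σ u j) = ∏ j ∈ Finset.range p, Useq σ u j := by
  have hp1 : Useq σ u p = 1 := Useq_p σ u hσX p n hnk hu1 hun
  have a1 := Finset.prod_range_succ' (Useq σ u) p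
  have b1 := Finset.prod_range_succ (Useq σ u) p
  rw [a1, Useq_zero, mul_one, hp1, mul_one] at b1
  rw [map_prod, ← b1]
  have hup : u ^ p = ∏ _j ∈ Finset.range p, u := by rw [Finset.prod_const, Finset.card_range]
  rw [hup, ← Finset.prod_mul_distrib]
  apply Finset.prod_congr rfl
  intro j _
  rw [Useq_succ]

theorem core63 (p : ℕ) [CharP k p] (n : ℕ) (hpn : ¬ p ∣ n)
    (hu1 : constantCoeff u = 1) (hun : u ^ n * (1 + X ^ n) = 1)
    (uu : (PowerSeries k)ˣ) (huu : (uu : PowerSeries k) = u) (a : ℤ) (m : ℕ)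
    (hmn : m ≤ n) (hdvd : (p : ℤ) ∣ a - m) (c : PowerSeries k)
    (hc : X ^ m * c = ((uu ^ (a - m) : (PowerSeries k)ˣ) : PowerSeries k) - 1) :
    ∃ h : PowerSeries k, ((uu ^ a : (PowerSeries k)ˣ) : PowerSeries k) * σ h - h = c := by
  have hnk : (n : k) ≠ 0 := by
    rw [Ne, CharP.cast_eq_zero_iff k p]
    exact hpn
  have hu : IsUnit u := huu ▸ uu.isUnit
  obtain ⟨i', hi'⟩ := hdvd
  have hXn : X ^ n ∣ u - 1 := by
    have h1 := order_sub_one hu1 n hnk hun hu
    have h2 := X_pow_order_mul_divXPowOrder (f := u - 1)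
    rw [h1, ENat.toNat_natCast] at h2
    exact Dvd.intro _ h2
  have hXm : X ^ m ∣ u - 1 := (pow_dvd_pow X hmn).trans hXn
  obtain ⟨P, hP⟩ : ∃ P, P = ∏ j ∈ Finset.range p, Useq σ u j := ⟨_, rfl⟩
  have hPσ : u ^ p * σ P = P := by
    rw [hP]
    exact prod_Useq σ u hσX p n hnk hu1 hun
  have hP1 : constantCoeff P = 1 := by
    rw [hP, map_prod]
    exact Finset.prod_eq_one (fun j _ => constantCoeff_Useq σ u hσX hu1 j)
  have hPD : X ^ m ∣ P - 1 := by
    rw [hP]
    apply Finset.prod_induction _ (fun x => X ^ m ∣ x - 1)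
    · intro x y hx hy
      exact dvd_mul_sub_one m x y hx hy
    · rw [sub_self]
      exact dvd_zero _
    · intro j _
      exact dvd_Useq_sub_one σ u hσX m hXm j
  have hPu : IsUnit P := by
    rw [isUnit_iff_constantCoeff, hP1]
    exact isUnit_one
  obtain ⟨PP, hPP⟩ := hPu
  obtain ⟨σu, hσu⟩ : ∃ σu : (PowerSeries k)ˣ →* (PowerSeries k)ˣ,
      ∀ v : (PowerSeries k)ˣ, ((σu v : (PowerSeries k)ˣ) : PowerSeries k) = σ v :=
    ⟨Units.map (σ : PowerSeries k →* PowerSeries k), fun v => rfl⟩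
  have hσPP : σu PP * uu ^ p = PP := by
    apply Units.ext
    rw [Units.val_mul, hσu, Units.val_pow_eq_pow_val, huu, hPP, mul_comm]
    exact hPσ
  have hT : uu ^ (a - m) = (uu ^ p) ^ i' := by rw [hi', zpow_mul, zpow_natCast]
  have key : σu (PP ^ i') * uu ^ (a - m) = PP ^ i' := by
    rw [map_zpow, hT, ← mul_zpow, hσPP]
  have f1 : σ ((PP ^ i' : (PowerSeries k)ˣ) : PowerSeries k)
      * ((uu ^ (a - m) : (PowerSeries k)ˣ) : PowerSeries k)
      = ((PP ^ i' : (PowerSeries k)ˣ) : PowerSeries k) := by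
    have := congrArg Units.val key
    rwa [Units.val_mul, hσu] at this
  have f2 : ((uu ^ a : (PowerSeries k)ˣ) : PowerSeries k)
      = ((uu ^ (a - m) : (PowerSeries k)ˣ) : PowerSeries k) * u ^ m := by
    rw [val_zpow_mul_pow uu u huu, sub_add_cancel]
  obtain ⟨h0, f3⟩ : X ^ m ∣ ((PP ^ i' : (PowerSeries k)ˣ) : PowerSeries k) - 1 :=
    D_zpow m PP (by rw [hPP]; exact hPD) i'
  have f5 : σ ((PP ^ i' : (PowerSeries k)ˣ) : PowerSeries k) - 1 = X ^ m * u ^ m * σ h0 := by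
    have h5 : σ (((PP ^ i' : (PowerSeries k)ˣ) : PowerSeries k) - 1) = σ (X ^ m * h0) :=
      congrArg σ f3
    rw [map_sub, map_one, map_mul, map_pow, hσX, mul_pow] at h5
    exact h5
  refine ⟨-h0, ?_⟩
  apply mul_left_cancel₀ (pow_ne_zero m (X_ne_zero (R := k)))
  rw [map_neg]
  linear_combination (-(X ^ m * σ h0)) * f2
    + ((uu ^ (a - m) : (PowerSeries k)ˣ) : PowerSeries k) * f5 - f3 - hc - f1

end s63

section s63main

theorem main63 (p : ℕ) [CharP k p] (n : ℕ) (hpn : ¬ p ∣ n)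
    (u : PowerSeries k) (hu1 : constantCoeff u = 1)
    (hun : u ^ n * (1 + X ^ n) = 1) (hu : IsUnit u) (a : ℤ) (m : ℕ)
    (hmn : m ≤ n) (hdvd : (p : ℤ) ∣ a - m) (c : PowerSeries k)
    (hc : X ^ m * c = ((hu.unit ^ (a - m) : (PowerSeries k)ˣ) : PowerSeries k) - 1) :
    ∃ h : PowerSeries k,
      ((hu.unit ^ a : (PowerSeries k)ˣ) : PowerSeries k) * PowerSeries.subst (X * u) h - h = c := by
  have ha : HasSubst (X * u : PowerSeries k) := HasSubst.of_constantCoeff_zero' (by simp)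
  obtain ⟨h, hh⟩ := core63 (substAlgHom ha : PowerSeries k →ₐ[k] PowerSeries k) u
    (substAlgHom_X ha) p n hpn hu1 hun hu.unit hu.unit_spec a m hmn hdvd c hc
  have e : (substAlgHom ha : PowerSeries k →ₐ[k] PowerSeries k) h = subst (X * u) h :=
    congrFun (coe_substAlgHom ha) h
  exact ⟨h, by rw [← e]; exact hh⟩

end s63main

end Groth.Agent.H2.ASCover
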