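import Mathlib
import Groth.Prelude.Def_W4stkadequateTF

set_option autoImplicit false
universe u
open CategoryTheory Limits Opposite

namespace Groth.Agent.H2.TF

variable {A : Type u} [CommRing A]

/-- restriction map as an additive map -/
noncomputable def rmap (F : Adeq.MVF A) {X Y : (Adeq.Alg A)ᵒᵖᵒᵖ} (f : X ⟶ Y) :
    F.obj X →+ F.obj Y :=
  AddMonoidHom.mk' (fun x => F.map f x) (fun x y => map_add (F.map f).hom x y)

lemma rmap_apply (F : Adeq.MVF A) {X Y : (Adeq.Alg A)ᵒᵖᵒᵖ} (f : X ⟶ Y) (x : F.obj X) :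
    rmap F f x = F.map f x := rfl

lemma rmap_comp (F : Adeq.MVF A) {X Y Z : (Adeq.Alg A)ᵒᵖᵒᵖ} (f : X ⟶ Y) (g : Y ⟶ Z)
    (x : F.obj X) : rmap F (f ≫ g) x = rmap F g (rmap F f x) := F.map_comp_apply f g x

lemma rmap_id (F : Adeq.MVF A) (X : (Adeq.Alg A)ᵒᵖᵒᵖ) (x : F.obj X) : rmap F (𝟙 X) x = x := by
  show F.map (𝟙 X) x = x
  rw [F.map_id]; rfl

lemma rmap_congr (F : Adeq.MVF A) {X Y : (Adeq.Alg A)ᵒᵖᵒᵖ} {f g : X ⟶ Y} (h : f = g)
    (x : F.obj X) : rmap F f x = rmap F g x := by rw [h]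

/-- component of a morphism as an additive map -/
noncomputable def capp {F G : Adeq.MVF A} (φ : F ⟶ G) (X : (Adeq.Alg A)ᵒᵖᵒᵖ) :
    F.obj X →+ G.obj X :=
  (φ.app X).hom.toAddMonoidHom

lemma capp_nat {F G : Adeq.MVF A} (φ : F ⟶ G) {X Y : (Adeq.Alg A)ᵒᵖᵒᵖ} (f : X ⟶ Y)
    (x : F.obj X) : capp φ Y (rmap F f x) = rmap G f (capp φ X x) :=
  PresheafOfModules.naturality_apply φ f x

open AdeqTF Adeq

variable (B : Adeq.Alg A) {N N' N'' : ModuleCat.{u} B}

lemma mem_tangent (F : MVF A) (x : F.obj (pt (ext B N))) :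
    x ∈ tangent B N F ↔ rmap F (ptHom (fst B N)) x = 0 := Iff.rfl

lemma tangentMap_coe (F : MVF A) (g : N ⟶ N') (x : tangent B N F) :
    ((tangentMap B F g x : tangent B N' F) : F.obj (pt (ext B N'))) =
      rmap F (ptHom (map B g)) x.1 := rfl

lemma inl_fst : inl B N ≫ fst B N = 𝟙 B := by
  apply CommAlgCat.hom_ext
  refine AlgHom.ext fun x => ?_
  exact TrivSqZeroExt.fst_inl N x

lemma map_id' : map B (𝟙 N) = 𝟙 (ext B N) := by
  apply CommAlgCat.hom_ext
  refine AlgHom.ext fun x => ?_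
  show TrivSqZeroExt.map (ModuleCat.Hom.hom (𝟙 N)) x = x
  rw [ModuleCat.hom_id, TrivSqZeroExt.map_id]; rfl

lemma map_comp' (g : N ⟶ N') (g' : N' ⟶ N'') : map B (g ≫ g') = map B g ≫ map B g' := by
  apply CommAlgCat.hom_ext
  refine AlgHom.ext fun x => ?_
  show TrivSqZeroExt.map (g ≫ g').hom x = TrivSqZeroExt.map g'.hom (TrivSqZeroExt.map g.hom x)
  rw [ModuleCat.hom_comp, TrivSqZeroExt.map_comp_map]; rfl

lemma map_zero' : map B (0 : N ⟶ N') = fst B N ≫ inl B N' := by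
  apply CommAlgCat.hom_ext
  refine AlgHom.ext fun x => ?_
  show TrivSqZeroExt.map (0 : N ⟶ N').hom x = TrivSqZeroExt.inl (TrivSqZeroExt.fst x)
  apply TrivSqZeroExt.ext
  · rw [TrivSqZeroExt.fst_map, TrivSqZeroExt.fst_inl]
  · rw [TrivSqZeroExt.snd_map, TrivSqZeroExt.snd_inl, ModuleCat.hom_zero, LinearMap.zero_apply]

lemma tangentMap_id (F : MVF A) (x : tangent B N F) : tangentMap B F (𝟙 N) x = x := by
  apply Subtype.ext
  rw [tangentMap_coe]
  have h : ptHom (map B (𝟙 N)) = 𝟙 (pt (ext B N)) := by rw [map_id']; rfl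
  rw [rmap_congr F h, rmap_id]

lemma tangentMap_comp (F : MVF A) (g : N ⟶ N') (g' : N' ⟶ N'') (x : tangent B N F) :
    tangentMap B F (g ≫ g') x = tangentMap B F g' (tangentMap B F g x) := by
  apply Subtype.ext
  rw [tangentMap_coe, tangentMap_coe, tangentMap_coe, ← rmap_comp]
  exact rmap_congr F (by rw [map_comp']; rfl) _

lemma tangentMap_zero (F : MVF A) (x : tangent B N F) :
    tangentMap B F (0 : N ⟶ N') x = 0 := by
  apply Subtype.ext
  rw [tangentMap_coe]
  have h : ptHom (map B (0 : N ⟶ N')) = ptHom (fst B N) ≫ ptHom (inl B N') := by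
    rw [map_zero']; rfl
  rw [rmap_congr F h, rmap_comp, (mem_tangent B F x.1).mp x.2, map_zero]; rfl

/-- the map on tangent modules induced by a morphism of functors -/
noncomputable def tanApp {F G : MVF A} (φ : F ⟶ G) (N : ModuleCat.{u} B) :
    tangent B N F →+ tangent B N G :=
  ((capp φ _).comp (tangent B N F).subtype).codRestrict _ (fun x => by
    rw [mem_tangent]
    show rmap G _ (capp φ _ x.1) = 0
    rw [← capp_nat, (mem_tangent B F x.1).mp x.2, map_zero])

lemma tanApp_coe {F G : MVF A} (φ : F ⟶ G) (N : ModuleCat.{u} B) (x : tangent B N F) :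
    ((tanApp B φ N x : tangent B N G) : G.obj (pt (ext B N))) = capp φ _ x.1 := rfl

lemma tanApp_tangentMap {F G : MVF A} (φ : F ⟶ G) (g : N ⟶ N') (x : tangent B N F) :
    tanApp B φ N' (tangentMap B F g x) = tangentMap B G g (tanApp B φ N x) := by
  apply Subtype.ext
  rw [tanApp_coe, tangentMap_coe, tangentMap_coe, tanApp_coe, capp_nat]

section Exact

variable {C : ShortComplex (MVF A)} (hC : C.ShortExact)
include hC

lemma f_inj (X : (Adeq.Alg A)ᵒᵖᵒᵖ) : Function.Injective (capp C.f X) := by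
  haveI := hC.mono_f
  exact PresheafOfModules.injective_of_mono C.f X

lemma g_surj (X : (Adeq.Alg A)ᵒᵖᵒᵖ) : Function.Surjective (capp C.g X) := by
  haveI := hC.epi_g
  exact PresheafOfModules.surjective_of_epi C.g X

lemma exact_mid (X : (Adeq.Alg A)ᵒᵖᵒᵖ) (y : C.X₂.obj X) (hy : capp C.g X y = 0) :
    ∃ x, capp C.f X x = y := by
  have h1 : (PresheafOfModules.evaluation.{u+1} (Adeq.ringOf A) X).Additive :=
    PresheafOfModules.instAdditiveModuleCatCarrierObjOppositeRingCatEvaluation _ _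
  have h2 : PreservesFiniteLimits (PresheafOfModules.evaluation.{u+1} (Adeq.ringOf A) X) :=
    PresheafOfModules.evaluation_preservesFiniteLimits (R := Adeq.ringOf A) X
  have h3 : PreservesFiniteColimits (PresheafOfModules.evaluation.{u+1} (Adeq.ringOf A) X) :=
    PresheafOfModules.Finite.evaluation_preservesFiniteColimits (R := Adeq.ringOf A) X
  have hX := hC.map_of_exact (PresheafOfModules.evaluation.{u+1} (Adeq.ringOf A) X)
  exact (ShortComplex.moduleCat_exact_iff _).mp hX.exact y hy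

omit hC in
lemma gf_zero (X : (Adeq.Alg A)ᵒᵖᵒᵖ) (x : C.X₁.obj X) : capp C.g X (capp C.f X x) = 0 := by
  have := congrArg (fun φ => capp φ X x) C.zero
  exact this

lemma tan_f_inj (N : ModuleCat.{u} B) : Function.Injective (tanApp B C.f N) := by
  intro x y hxy
  apply Subtype.ext
  apply f_inj hC
  have := congrArg Subtype.val hxy
  exact this

lemma tan_exact (N : ModuleCat.{u} B) (y : tangent B N C.X₂) (hy : tanApp B C.g N y = 0) :
    ∃ x, tanApp B C.f N x = y := by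
  have hy' : capp C.g _ y.1 = 0 := congrArg Subtype.val hy
  obtain ⟨x, hx⟩ := exact_mid hC _ y.1 hy'
  have hxT : x ∈ tangent B N C.X₁ := by
    rw [mem_tangent]
    apply f_inj hC
    rw [capp_nat, hx, (mem_tangent B C.X₂ y.1).mp y.2, map_zero]
  exact ⟨⟨x, hxT⟩, Subtype.ext hx⟩

lemma tan_g_surj (N : ModuleCat.{u} B) : Function.Surjective (tanApp B C.g N) := by
  intro z
  obtain ⟨y, hy⟩ := g_surj hC _ z.1
  have hif : ptHom (inl B N) ≫ ptHom (fst B N) = 𝟙 (pt B) := by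
    show ptHom (inl B N ≫ fst B N) = _
    rw [inl_fst]; rfl
  let y' := y - rmap C.X₂ (ptHom (inl B N)) (rmap C.X₂ (ptHom (fst B N)) y)
  have hy'T : y' ∈ tangent B N C.X₂ := by
    rw [mem_tangent]
    show rmap C.X₂ _ (y - _) = 0
    rw [map_sub, ← rmap_comp C.X₂ (ptHom (inl B N)) (ptHom (fst B N)), rmap_congr C.X₂ hif,
      rmap_id, sub_self]
  refine ⟨⟨y', hy'T⟩, ?_⟩
  apply Subtype.ext
  rw [tanApp_coe]
  show capp C.g _ (y - _) = z.1
  rw [map_sub, capp_nat, capp_nat, hy, (mem_tangent B C.X₃ z.1).mp z.2, map_zero, sub_zero]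

omit hC in
lemma tan_gf (N : ModuleCat.{u} B) (x : tangent B N C.X₁) :
    tanApp B C.g N (tanApp B C.f N x) = 0 := by
  apply Subtype.ext
  rw [tanApp_coe, tanApp_coe]
  exact gf_zero _ _

end Exact

end Groth.Agent.H2.TF
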