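import Mathlib
import Groth.Agent.H2.TF

/-! Toolkit for adequate functors: pointwise criteria. -/

set_option autoImplicit false
universe u
open CategoryTheory Limits Opposite TensorProduct

namespace Groth.Agent.H2.Adq

open Adeq Groth.Agent.H2.TF

variable {A : Type u} [CommRing A]

section Basic

variable {F G H : MVF A}

lemma capp_comp (φ : F ⟶ G) (ψ : G ⟶ H) (X : (Alg A)ᵒᵖᵒᵖ) (x : F.obj X) :
    capp (φ ≫ ψ) X x = capp ψ X (capp φ X x) := rfl

lemma capp_id (X : (Alg A)ᵒᵖᵒᵖ) (x : F.obj X) : capp (𝟙 F) X x = x := rfl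

lemma capp_zero (X : (Alg A)ᵒᵖᵒᵖ) (x : F.obj X) : capp (0 : F ⟶ G) X x = 0 := rfl

lemma capp_smul (φ : F ⟶ G) (B : Alg A) (r : (B : Type u)) (x : F.obj (pt B)) :
    capp φ (pt B) (r • x) = r • capp φ (pt B) x := (φ.app (pt B)).hom.map_smul r x

lemma rmap_smul (F : MVF A) {B B' : Alg A} (f : B ⟶ B') (r : (B : Type u)) (x : F.obj (pt B)) :
    rmap F (ptHom f) (r • x) = (f.hom r) • rmap F (ptHom f) x :=
  F.map_smul (ptHom f) r x

lemma hom_ext' (φ ψ : F ⟶ G)
    (h : ∀ (X : (Alg A)ᵒᵖᵒᵖ) (x : F.obj X), capp φ X x = capp ψ X x) : φ = ψ := by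
  apply PresheafOfModules.hom_ext
  intro X
  apply ModuleCat.hom_ext
  apply LinearMap.ext
  exact h X

lemma eval_exact {S : ShortComplex (MVF A)} (hS : S.Exact) (X : (Alg A)ᵒᵖᵒᵖ) (y : S.X₂.obj X)
    (hy : capp S.g X y = 0) : ∃ x, capp S.f X x = y := by
  have h1 : (PresheafOfModules.evaluation.{u+1} (Adeq.ringOf A) X).Additive :=
    PresheafOfModules.instAdditiveModuleCatCarrierObjOppositeRingCatEvaluation _ _
  have h2 : PreservesFiniteLimits (PresheafOfModules.evaluation.{u+1} (Adeq.ringOf A) X) :=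
    PresheafOfModules.evaluation_preservesFiniteLimits (R := Adeq.ringOf A) X
  have h3 : PreservesFiniteColimits (PresheafOfModules.evaluation.{u+1} (Adeq.ringOf A) X) :=
    PresheafOfModules.Finite.evaluation_preservesFiniteColimits (R := Adeq.ringOf A) X
  have hX := hS.map (PresheafOfModules.evaluation.{u+1} (Adeq.ringOf A) X)
  exact (ShortComplex.moduleCat_exact_iff _).mp hX y hy

lemma ker_exists (f : F ⟶ G) (X : (Alg A)ᵒᵖᵒᵖ) (y : F.obj X) (hy : capp f X y = 0) :
    ∃ k, capp (kernel.ι f) X k = y :=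
  eval_exact (S := ShortComplex.mk (kernel.ι f) f (kernel.condition f))
    (ShortComplex.exact_of_f_is_kernel _ (kernelIsKernel f)) X y hy

lemma kerι_inj (f : F ⟶ G) (X : (Alg A)ᵒᵖᵒᵖ) : Function.Injective (capp (kernel.ι f) X) :=
  PresheafOfModules.injective_of_mono (kernel.ι f) X

lemma kerι_cond (f : F ⟶ G) (X : (Alg A)ᵒᵖᵒᵖ) (k : (kernel f).obj X) :
    capp f X (capp (kernel.ι f) X k) = 0 := by
  have := congrArg (fun φ => capp φ X k) (kernel.condition f)
  exact this

lemma coker_exact (f : F ⟶ G) (X : (Alg A)ᵒᵖᵒᵖ) (y : G.obj X)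
    (hy : capp (cokernel.π f) X y = 0) : ∃ x, capp f X x = y :=
  eval_exact (S := ShortComplex.mk f (cokernel.π f) (cokernel.condition f))
    (ShortComplex.exact_of_g_is_cokernel _ (cokernelIsCokernel f)) X y hy

lemma cokerπ_surj (f : F ⟶ G) (X : (Alg A)ᵒᵖᵒᵖ) :
    Function.Surjective (capp (cokernel.π f) X) :=
  PresheafOfModules.surjective_of_epi (cokernel.π f) X

lemma cokerπ_cond (f : F ⟶ G) (X : (Alg A)ᵒᵖᵒᵖ) (x : F.obj X) :
    capp (cokernel.π f) X (capp f X x) = 0 := by
  have := congrArg (fun φ => capp φ X x) (cokernel.condition f)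
  exact this

lemma isIso_of_bijective (φ : F ⟶ G) (h : ∀ X, Function.Bijective (capp φ X)) : IsIso φ := by
  have : Mono φ := PresheafOfModules.mono_of_injective (fun X => (h X).1)
  have : Epi φ := PresheafOfModules.epi_of_surjective (fun X => (h X).2)
  exact isIso_of_mono_of_epi φ

lemma iso_hom_inv (e : F ≅ G) (X : (Alg A)ᵒᵖᵒᵖ) (y : G.obj X) :
    capp e.hom X (capp e.inv X y) = y := by
  have := congrArg (fun φ => capp φ X y) e.inv_hom_id
  exact this

lemma iso_inv_hom (e : F ≅ G) (X : (Alg A)ᵒᵖᵒᵖ) (x : F.obj X) :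
    capp e.inv X (capp e.hom X x) = x := by
  have := congrArg (fun φ => capp φ X x) e.hom_inv_id
  exact this

end Basic

section Criterion

theorem adequate_of_exact (F : MVF A) (M N : ModuleCat.{u+1} A) (φ : M ⟶ N)
    (i : F ⟶ (underline A).obj M)
    (hz : i ≫ (underline A).map φ = 0) (hi : ∀ X, Function.Injective (capp i X))
    (hex : ∀ X (y : ((underline A).obj M).obj X),
      capp ((underline A).map φ) X y = 0 → ∃ x, capp i X x = y) :
    adequate A F := by
  refine ⟨M, N, φ, ⟨?_⟩⟩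
  have hl : kernel.lift ((underline A).map φ) i hz ≫ kernel.ι _ = i := kernel.lift_ι _ _ _
  haveI : IsIso (kernel.lift ((underline A).map φ) i hz) := by
    apply isIso_of_bijective
    intro X
    constructor
    · intro x y hxy
      apply hi X
      have h1 := congrArg (fun φ => capp φ X x) hl
      have h2 := congrArg (fun φ => capp φ X y) hl
      simp only [capp_comp] at h1 h2
      rw [← h1, ← h2, hxy]
    · intro k
      obtain ⟨x, hx⟩ := hex X (capp (kernel.ι _) X k) (kerι_cond _ X k)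
      refine ⟨x, kerι_inj _ X ?_⟩
      have h1 := congrArg (fun φ => capp φ X x) hl
      simp only [capp_comp] at h1
      rw [h1, hx]
  exact asIso (kernel.lift ((underline A).map φ) i hz)

theorem exists_exact_of_adequate (F : MVF A) (hF : adequate A F) :
    ∃ (M N : ModuleCat.{u+1} A) (φ : M ⟶ N) (i : F ⟶ (underline A).obj M),
      i ≫ (underline A).map φ = 0 ∧ (∀ X, Function.Injective (capp i X)) ∧
      ∀ X (y : ((underline A).obj M).obj X),
        capp ((underline A).map φ) X y = 0 → ∃ x, capp i X x = y := by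
  obtain ⟨M, N, φ, ⟨e⟩⟩ := hF
  refine ⟨M, N, φ, e.hom ≫ kernel.ι _, by rw [Category.assoc, kernel.condition, comp_zero],
    ?_, ?_⟩
  · intro X
    have : Mono (e.hom ≫ kernel.ι ((underline A).map φ)) := mono_comp _ _
    exact PresheafOfModules.injective_of_mono (e.hom ≫ kernel.ι ((underline A).map φ)) X
  · intro X y hy
    obtain ⟨k, hk⟩ := ker_exists _ X y hy
    refine ⟨capp e.inv X k, ?_⟩
    rw [capp_comp, iso_hom_inv, hk]

end Criterion

section Underline

lemma underline_map_apply {M N : ModuleCat.{u+1} A} (g : M ⟶ N) (B : Alg A)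
    (z : (B : Type u) ⊗[A] M) :
    capp ((underline A).map g) (pt B) z = g.hom.baseChange B z := rfl

lemma underline_rmap {M : ModuleCat.{u+1} A} {B B' : Alg A} (f : B ⟶ B')
    (z : (B : Type u) ⊗[A] M) :
    rmap ((underline A).obj M) (ptHom f) z = f.hom.toLinearMap.rTensor M z := rfl

end Underline

end Groth.Agent.H2.Adq
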