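import Mathlib
import Groth.Agent.H2.Adq

/-! The extension lemma for linearly adequate functors (via square-zero extensions). -/

set_option autoImplicit false
universe u v w
open CategoryTheory Limits Opposite TensorProduct

namespace Groth.Agent.H2.Adq

open Adeq Groth.Agent.H2.TF

section Mat

variable {A : Type u} [CommRing A] {n m : ℕ} (T : Fin m → Fin n → A)

/-- the relation submodule spanned by the rows of `T` -/
abbrev Rel : Submodule A (Fin n → A) :=
  Submodule.span A (Set.range (fun j : Fin m => (fun i => T j i)))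

/-- the module `Q = A^n / rows` -/
abbrev QM : Type u := (Fin n → A) ⧸ Rel T

/-- the generators of `Q` -/
def qg (i : Fin n) : QM T := Submodule.Quotient.mk (Pi.single i 1)

lemma mk_eq_sum (v : Fin n → A) :
    (Submodule.Quotient.mk v : QM T) = ∑ i, v i • qg T i := by
  have hv : v = ∑ i, v i • (Pi.single i 1 : Fin n → A) := by
    ext k
    simp [Finset.sum_apply, Pi.single_apply]
  conv_lhs => rw [hv]
  show (Rel T).mkQ (∑ i, v i • (Pi.single i 1 : Fin n → A)) = _
  rw [map_sum]
  refine Finset.sum_congr rfl fun i _ => ?_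
  rw [map_smul]; rfl

lemma sum_T_qg (j : Fin m) : ∑ i, T j i • qg T i = 0 := by
  rw [← mk_eq_sum T (fun i => T j i), Submodule.Quotient.mk_eq_zero]
  exact Submodule.subset_span ⟨j, rfl⟩

/-- the linear map `Q → B` attached to a solution `c` of the linear system -/
noncomputable def ctil (B : Type w) [CommRing B] [Algebra A B] (c : Fin n → B)
    (hc : ∀ j, ∑ i, T j i • c i = 0) : QM T →ₗ[A] B :=
  Submodule.liftQ _ (Fintype.linearCombination A c) (by
    rw [Submodule.span_le]
    rintro _ ⟨j, rfl⟩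
    show Fintype.linearCombination A c (fun i => T j i) = 0
    rw [Fintype.linearCombination_apply]
    exact hc j)

lemma ctil_qg (B : Type w) [CommRing B] [Algebra A B] (c : Fin n → B)
    (hc : ∀ j, ∑ i, T j i • c i = 0) (i : Fin n) : ctil T B c hc (qg T i) = c i := by
  show Submodule.liftQ _ (Fintype.linearCombination A c) _ (Submodule.Quotient.mk _) = _
  rw [Submodule.liftQ_apply, Fintype.linearCombination_apply_single, one_smul]

lemma exists_sum_qg_tmul {M : Type v} [AddCommGroup M] [Module A M] (w : QM T ⊗[A] M) :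
    ∃ μ : Fin n → M, w = ∑ i, qg T i ⊗ₜ[A] μ i := by
  induction w using TensorProduct.induction_on with
  | zero => exact ⟨0, by simp⟩
  | tmul x y =>
    obtain ⟨v, rfl⟩ := Submodule.Quotient.mk_surjective _ x
    refine ⟨fun i => v i • y, ?_⟩
    rw [mk_eq_sum, TensorProduct.sum_tmul]
    refine Finset.sum_congr rfl fun i _ => ?_
    rw [TensorProduct.smul_tmul]
  | add x y hx hy =>
    obtain ⟨μ, rfl⟩ := hx
    obtain ⟨ν, rfl⟩ := hy
    refine ⟨μ + ν, ?_⟩
    rw [← Finset.sum_add_distrib]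
    refine Finset.sum_congr rfl fun i _ => ?_
    rw [Pi.add_apply, TensorProduct.tmul_add]

end Mat

section Core

variable {A : Type u} [CommRing A]
variable {P P' M : Type v}
  [AddCommGroup P] [Module A P] [AddCommGroup P'] [Module A P'] [AddCommGroup M] [Module A M]
variable {n m : ℕ} (b : Module.Basis (Fin n) A P) (b' : Module.Basis (Fin m) A P')
  (φ₀ : P →ₗ[A] P')

/-- matrix of `φ₀` -/
noncomputable def matT : Fin m → Fin n → A := fun j i => b'.repr (φ₀ (b i)) j

omit [AddCommGroup P'] [Module A P'] [AddCommGroup M] [Module A M] in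
lemma eq_sum_repr_tmul (B : Type w) [CommRing B] [Algebra A B] (z : B ⊗[A] P) :
    z = ∑ i, ((b.baseChange B).repr z i) ⊗ₜ[A] b i := by
  conv_lhs => rw [← (b.baseChange B).sum_repr z]
  refine Finset.sum_congr rfl fun i _ => ?_
  rw [Module.Basis.baseChange_apply, TensorProduct.smul_tmul', smul_eq_mul, mul_one]

omit [AddCommGroup M] [Module A M] in
lemma rel_of_ker (B : Type w) [CommRing B] [Algebra A B] (c : Fin n → B)
    (h : φ₀.baseChange B (∑ i, c i ⊗ₜ[A] b i) = 0) (j : Fin m) :
    ∑ i, matT b b' φ₀ j i • c i = 0 := by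
  have h2 := congrArg (fun w => (b'.baseChange B).repr w j) h
  simp only [map_sum, LinearMap.baseChange_tmul, Finsupp.coe_finsetSum, Finset.sum_apply,
    Module.Basis.baseChange_repr_tmul, map_zero, Finsupp.coe_zero, Pi.zero_apply] at h2
  exact h2

omit [AddCommGroup M] [Module A M] in
lemma ker_of_rel (B : Type w) [CommRing B] [Algebra A B] (c : Fin n → B)
    (h : ∀ j, ∑ i, matT b b' φ₀ j i • c i = 0) :
    φ₀.baseChange B (∑ i, c i ⊗ₜ[A] b i) = 0 := by
  rw [map_sum]
  have key : ∀ i, φ₀.baseChange B (c i ⊗ₜ[A] b i) =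
      ∑ j, (matT b b' φ₀ j i • c i) ⊗ₜ[A] b' j := by
    intro i
    rw [LinearMap.baseChange_tmul]
    conv_lhs => rw [← b'.sum_repr (φ₀ (b i))]
    rw [TensorProduct.tmul_sum]
    refine Finset.sum_congr rfl fun j _ => ?_
    rw [TensorProduct.tmul_smul, TensorProduct.smul_tmul']; rfl
  rw [Finset.sum_congr rfl fun i _ => key i, Finset.sum_comm]
  refine Finset.sum_eq_zero fun j _ => ?_
  rw [← TensorProduct.sum_tmul, h j, TensorProduct.zero_tmul]

include b b' in
theorem ext_core
    (R : ∀ (B : Type u) [CommRing B] [Algebra A B], B ⊗[A] P → B ⊗[A] M → Prop)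
    (htot : ∀ (B : Type u) [CommRing B] [Algebra A B] (c : B ⊗[A] P),
      φ₀.baseChange B c = 0 → ∃ y, R B c y)
    (hfun : ∀ (B : Type u) [CommRing B] [Algebra A B] (c : B ⊗[A] P) (y y' : B ⊗[A] M),
      R B c y → R B c y' → y = y')
    (hnat : ∀ (B B' : Type u) [CommRing B] [Algebra A B] [CommRing B'] [Algebra A B']
      (f : B →ₐ[A] B') (c : B ⊗[A] P) (y : B ⊗[A] M), R B c y →
      R B' (f.toLinearMap.rTensor P c) (f.toLinearMap.rTensor M y))
    (hsmul : ∀ (B : Type u) [CommRing B] [Algebra A B] (r : B) (c : B ⊗[A] P) (y : B ⊗[A] M),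
      R B c y → R B (r • c) (r • y))
    (hker : ∀ (B : Type u) [CommRing B] [Algebra A B] (c : B ⊗[A] P) (y : B ⊗[A] M),
      R B c y → φ₀.baseChange B c = 0) :
    ∃ g : P →ₗ[A] M, ∀ (B : Type u) [CommRing B] [Algebra A B] (c : B ⊗[A] P) (y : B ⊗[A] M),
      R B c y → y = g.baseChange B c := by
  classical
  set T := matT b b' φ₀ with hT
  let U := TrivSqZeroExt A (QM T)
  let uc : Fin n → U := fun i => TrivSqZeroExt.inr (qg T i)
  let uel : U ⊗[A] P := ∑ i, uc i ⊗ₜ[A] b i
  have hu : φ₀.baseChange U uel = 0 := by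
    apply ker_of_rel
    intro j
    have h1 : ∀ i, matT b b' φ₀ j i • uc i =
        TrivSqZeroExt.inrHom A (QM T) (T j i • qg T i) := fun i => by
      rw [map_smul]; rfl
    rw [Finset.sum_congr rfl fun i _ => h1 i, ← map_sum, sum_T_qg, map_zero]
  obtain ⟨y, hy⟩ := htot U uel hu
  have h00 : R A 0 0 := by
    obtain ⟨y0, hy0⟩ := htot A 0 (map_zero _)
    have := hsmul A 0 0 y0 hy0
    rwa [zero_smul, zero_smul] at this
  have hfst : (TrivSqZeroExt.fstHom A A (QM T)).toLinearMap.rTensor M y = 0 := by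
    have h1 := hnat U A (TrivSqZeroExt.fstHom A A (QM T)) uel y hy
    have h2 : (TrivSqZeroExt.fstHom A A (QM T)).toLinearMap.rTensor P uel = 0 := by
      show (TrivSqZeroExt.fstHom A A (QM T)).toLinearMap.rTensor P (∑ i, uc i ⊗ₜ[A] b i) = 0
      rw [map_sum]
      refine Finset.sum_eq_zero fun i _ => ?_
      rw [LinearMap.rTensor_tmul]
      show (TrivSqZeroExt.fst (TrivSqZeroExt.inr (qg T i) : U)) ⊗ₜ[A] b i = 0
      rw [TrivSqZeroExt.fst_inr, TensorProduct.zero_tmul]
    rw [h2] at h1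
    exact hfun A 0 _ _ h1 h00
  have hdec : y = (TrivSqZeroExt.inrHom A (QM T)).rTensor M
      ((TrivSqZeroExt.sndHom A (QM T)).rTensor M y) := by
    have hid : (LinearMap.id : U →ₗ[A] U) =
        (Algebra.linearMap A U) ∘ₗ (TrivSqZeroExt.fstHom A A (QM T)).toLinearMap +
        (TrivSqZeroExt.inrHom A (QM T)) ∘ₗ (TrivSqZeroExt.sndHom A (QM T)) := by
      apply LinearMap.ext; intro x
      show x = algebraMap A U (TrivSqZeroExt.fst x) + TrivSqZeroExt.inr (TrivSqZeroExt.snd x)
      rw [TrivSqZeroExt.algebraMap_eq_inl, TrivSqZeroExt.inl_fst_add_inr_snd_eq]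
    have h3 := congrArg (fun f => LinearMap.rTensor M f y) hid
    simp only [LinearMap.rTensor_id, LinearMap.id_apply, LinearMap.rTensor_add,
      LinearMap.add_apply, LinearMap.rTensor_comp, LinearMap.comp_apply] at h3
    rw [hfst, map_zero, zero_add] at h3
    exact h3
  obtain ⟨μ, hμ⟩ := exists_sum_qg_tmul T ((TrivSqZeroExt.sndHom A (QM T)).rTensor M y)
  have hy' : y = ∑ i, uc i ⊗ₜ[A] μ i := by
    rw [hdec, hμ, map_sum]
    refine Finset.sum_congr rfl fun i _ => ?_
    rw [LinearMap.rTensor_tmul]; rfl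
  refine ⟨b.constr A μ, ?_⟩
  intro B _ _ c z hcz
  set cc : Fin n → B := fun i => (b.baseChange B).repr c i with hcc
  have hc : c = ∑ i, cc i ⊗ₜ[A] b i := eq_sum_repr_tmul b B c
  have hrel : ∀ j, ∑ i, T j i • cc i = 0 := by
    intro j
    apply rel_of_ker b b' φ₀ B cc
    rw [← hc]; exact hker B c z hcz
  let ct : QM T →ₗ[A] B := ctil T B cc hrel
  let gl : QM T →ₗ[A] DualNumber B := ((TrivSqZeroExt.inrHom B B).restrictScalars A) ∘ₗ ct
  let θ : U →ₐ[A] DualNumber B := TrivSqZeroExt.lift (Algebra.ofId A (DualNumber B)) gl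
    (fun x y => TrivSqZeroExt.inr_mul_inr _ _ _)
    (fun r x => by
      rw [map_smul, Algebra.smul_def]; rfl)
    (fun r x => by
      rw [op_smul_eq_smul, map_smul, Algebra.smul_def, mul_comm]; rfl)
  have hθ : ∀ i, θ (uc i) = (TrivSqZeroExt.inr (cc i) : DualNumber B) := by
    intro i
    show TrivSqZeroExt.lift _ gl _ _ _ (TrivSqZeroExt.inr (qg T i)) = _
    rw [TrivSqZeroExt.lift_apply_inr]
    show TrivSqZeroExt.inr (ct (qg T i)) = _
    rw [ctil_qg]
  let inlB : B →ₐ[A] DualNumber B := IsScalarTower.toAlgHom A B (DualNumber B)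
  have heps : ∀ x : B, (DualNumber.eps : DualNumber B) * inlB x = TrivSqZeroExt.inr x := by
    intro x
    show (DualNumber.eps : DualNumber B) * algebraMap B (DualNumber B) x = _
    rw [TrivSqZeroExt.algebraMap_eq_inl]
    show (TrivSqZeroExt.inr 1 : DualNumber B) * TrivSqZeroExt.inl x = _
    rw [TrivSqZeroExt.inr_mul_inl]
    congr 1
    show MulOpposite.op x • (1 : B) = x
    rw [op_smul_eq_smul, smul_eq_mul, mul_one]
  let sndL : DualNumber B →ₗ[A] B := (TrivSqZeroExt.sndHom B B).restrictScalars A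
  have hretr : ∀ (X : Type v) [AddCommGroup X] [Module A X] (w : B ⊗[A] X),
      sndL.rTensor X ((DualNumber.eps : DualNumber B) • inlB.toLinearMap.rTensor X w) = w := by
    intro X _ _ w
    induction w using TensorProduct.induction_on with
    | zero => rw [map_zero, smul_zero, map_zero]
    | tmul x mm =>
      rw [LinearMap.rTensor_tmul, TensorProduct.smul_tmul', smul_eq_mul]
      show sndL.rTensor X (((DualNumber.eps : DualNumber B) * inlB x) ⊗ₜ[A] mm) = _
      rw [heps, LinearMap.rTensor_tmul]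
      rfl
    | add x y hx hy => rw [map_add, smul_add, map_add, hx, hy]
  have hsum : ∀ (X : Type v) [AddCommGroup X] [Module A X] (ν : Fin n → X),
      (DualNumber.eps : DualNumber B) • inlB.toLinearMap.rTensor X (∑ i, cc i ⊗ₜ[A] ν i) =
        ∑ i, (TrivSqZeroExt.inr (cc i) : DualNumber B) ⊗ₜ[A] ν i := by
    intro X _ _ ν
    rw [map_sum, Finset.smul_sum]
    refine Finset.sum_congr rfl fun i _ => ?_
    rw [LinearMap.rTensor_tmul, TensorProduct.smul_tmul', smul_eq_mul]
    show ((DualNumber.eps : DualNumber B) * inlB (cc i)) ⊗ₜ[A] ν i = _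
    rw [heps]
  have hθsum : ∀ (X : Type v) [AddCommGroup X] [Module A X] (ν : Fin n → X),
      θ.toLinearMap.rTensor X (∑ i, uc i ⊗ₜ[A] ν i) =
        ∑ i, (TrivSqZeroExt.inr (cc i) : DualNumber B) ⊗ₜ[A] ν i := by
    intro X _ _ ν
    rw [map_sum]
    refine Finset.sum_congr rfl fun i _ => ?_
    rw [LinearMap.rTensor_tmul]
    show (θ (uc i)) ⊗ₜ[A] ν i = _
    rw [hθ]
  have r1 := hsmul (DualNumber B) DualNumber.eps _ _ (hnat B (DualNumber B) inlB c z hcz)
  have r2 := hnat U (DualNumber B) θ uel y hy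
  have e1 : (DualNumber.eps : DualNumber B) • inlB.toLinearMap.rTensor P c =
      θ.toLinearMap.rTensor P uel := by
    conv_lhs => rw [hc]
    rw [hsum P b]
    exact (hθsum P b).symm
  rw [e1] at r1
  have e2 := hfun _ _ _ _ r1 r2
  rw [hy', hθsum M μ, ← hsum M μ] at e2
  have e3 := congrArg (sndL.rTensor M) e2
  rw [hretr M, hretr M] at e3
  rw [e3]
  conv_rhs => rw [hc]
  rw [map_sum]
  refine Finset.sum_congr rfl fun i _ => ?_
  rw [LinearMap.baseChange_tmul, Module.Basis.constr_basis]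

end Core

section Bridge

variable {A : Type u} [CommRing A]

theorem ext_lemma (P P' M : ModuleCat.{u+1} A) [Module.Finite A P] [Module.Free A P]
    [Module.Finite A P'] [Module.Free A P'] (φ₀ : P ⟶ P')
    (φ : kernel ((underline A).map φ₀) ⟶ (underline A).obj M) :
    ∃ g : P ⟶ M, kernel.ι ((underline A).map φ₀) ≫ (underline A).map g = φ := by
  classical
  let b : Module.Basis (Fin _) A P :=
    (Module.Free.chooseBasis A P).reindex (Fintype.equivFin (Module.Free.ChooseBasisIndex A P))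
  let b' : Module.Basis (Fin _) A P' :=
    (Module.Free.chooseBasis A P').reindex (Fintype.equivFin (Module.Free.ChooseBasisIndex A P'))
  let R : ∀ (B : Type u) [CommRing B] [Algebra A B], B ⊗[A] P → B ⊗[A] M → Prop :=
    fun B _ _ c y => ∃ k : (kernel ((underline A).map φ₀)).obj (pt (algOf A B)),
      capp (kernel.ι ((underline A).map φ₀)) (pt (algOf A B)) k = c ∧
        capp φ (pt (algOf A B)) k = y
  refine Exists.elim (ext_core b b' φ₀.hom R ?_ ?_ ?_ ?_ ?_) (fun g hg => ?_)
  · intro B _ _ c hc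
    obtain ⟨k, hk⟩ := ker_exists ((underline A).map φ₀) (pt (algOf A B)) c hc
    exact ⟨_, k, hk, rfl⟩
  · rintro B _ _ c y y' ⟨k, hk, rfl⟩ ⟨k', hk', rfl⟩
    have : k = k' := kerι_inj ((underline A).map φ₀) (pt (algOf A B)) (hk.trans hk'.symm)
    rw [this]
  · rintro B B' _ _ _ _ f c y ⟨k, rfl, rfl⟩
    exact ⟨rmap _ (ptHom (CommAlgCat.ofHom f)) k,
      capp_nat (kernel.ι ((underline A).map φ₀)) (ptHom (CommAlgCat.ofHom f)) k,
      capp_nat φ (ptHom (CommAlgCat.ofHom f)) k⟩
  · rintro B _ _ r c y ⟨k, rfl, rfl⟩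
    exact ⟨_, capp_smul (kernel.ι ((underline A).map φ₀)) (algOf A B) r k,
      capp_smul φ (algOf A B) r k⟩
  · rintro B _ _ c y ⟨k, rfl, rfl⟩
    exact kerι_cond ((underline A).map φ₀) (pt (algOf A B)) k
  · refine ⟨ModuleCat.ofHom g, ?_⟩
    apply hom_ext'
    rintro ⟨⟨B⟩⟩ x
    have h := hg B _ _ ⟨x, rfl, rfl⟩
    exact h.symm

end Bridge

end Groth.Agent.H2.Adq
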