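import Mathlib
import Groth.Agent.H2.Adq

/-! Adequate functors are locally generated by linearly adequate ones. -/

set_option autoImplicit false
universe u v w
open CategoryTheory Limits Opposite TensorProduct

namespace Groth.Agent.H2.Adq

open Adeq Groth.Agent.H2.TF

section Core

theorem gen_core {A : Type u} [CommRing A] (B : Type w) [CommRing B] [Algebra A B]
    {M N : Type v} [AddCommGroup M] [Module A M] [AddCommGroup N] [Module A N]
    (φ : M →ₗ[A] N) (z : B ⊗[A] M) (hz : φ.baseChange B z = 0) :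
    ∃ (κ σ : Type v) (_ : Fintype κ) (_ : Fintype σ)
      (T : (κ →₀ A) →ₗ[A] (σ →₀ A)) (ρ : (κ →₀ A) →ₗ[A] M)
      (χ : (σ →₀ A) →ₗ[A] N) (c : B ⊗[A] (κ →₀ A)),
      φ ∘ₗ ρ = χ ∘ₗ T ∧ T.baseChange B c = 0 ∧ ρ.baseChange B c = z := by
  classical
  obtain ⟨S, hS⟩ := TensorProduct.exists_finset z
  let ι₀ := ↥S
  let bv : ι₀ → B := fun i => i.1.1
  let mv : ι₀ → M := fun i => i.1.2
  have hz' : z = ∑ i : ι₀, bv i ⊗ₜ[A] mv i := by
    rw [hS]; exact (Finset.sum_coe_sort S (fun p => p.1 ⊗ₜ[A] p.2)).symm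
  let N₀ : Submodule A N := Submodule.span A (Set.range (fun i => φ (mv i)))
  have hN₀ : N₀.FG := Submodule.fg_span (Set.finite_range _)
  let g₀ : ι₀ → N₀ := fun i => ⟨φ (mv i), Submodule.subset_span ⟨i, rfl⟩⟩
  let t : N₀ ⊗[A] B := ∑ i, g₀ i ⊗ₜ[A] bv i
  have ht : N₀.subtype.rTensor B t = N₀.subtype.rTensor B 0 := by
    rw [map_zero]
    show N₀.subtype.rTensor B (∑ i, g₀ i ⊗ₜ[A] bv i) = 0
    rw [map_sum]
    have h0 : (TensorProduct.comm A B N) (φ.baseChange B z) = 0 := by rw [hz, map_zero]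
    rw [hz', map_sum, map_sum] at h0
    rw [← h0]
    refine Finset.sum_congr rfl fun i _ => ?_
    rw [LinearMap.rTensor_tmul, LinearMap.baseChange_tmul, TensorProduct.comm_tmul]
    rfl
  obtain ⟨N', hN'fg, hle, heq⟩ := hN₀.exists_rTensor_fg_inclusion_eq ht
  rw [map_zero] at heq
  obtain ⟨S', hS'⟩ := hN'fg
  let σ := ↥S'
  let ι := ι₀ ⊕ σ
  let g : ι → N' := Sum.elim (fun i => Submodule.inclusion hle (g₀ i))
    (fun s => ⟨s.1, hS' ▸ Submodule.subset_span s.2⟩)
  let nb : ι → B := Sum.elim bv (fun _ => 0)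
  have hspan : Submodule.span A (Set.range g) = ⊤ := by
    apply Submodule.map_injective_of_injective N'.injective_subtype
    rw [Submodule.map_subtype_top, Submodule.map_span]
    apply le_antisymm
    · rw [Submodule.span_le]
      rintro _ ⟨x, -, rfl⟩
      exact x.2
    · conv_lhs => rw [← hS']
      apply Submodule.span_mono
      intro x hx
      exact ⟨g (Sum.inr ⟨x, hx⟩), ⟨_, rfl⟩, rfl⟩
  have hsum : ∑ i, g i ⊗ₜ[A] nb i = (0 : N' ⊗[A] B) := by
    rw [Fintype.sum_sum_type]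
    have h2 : ∑ s : σ, g (Sum.inr s) ⊗ₜ[A] nb (Sum.inr s) = 0 :=
      Finset.sum_eq_zero fun s _ => TensorProduct.tmul_zero _ _
    rw [h2, add_zero, ← heq]
    show _ = (Submodule.inclusion hle).rTensor B (∑ i, g₀ i ⊗ₜ[A] bv i)
    rw [map_sum]
    refine Finset.sum_congr rfl fun i _ => ?_
    rw [LinearMap.rTensor_tmul]
    rfl
  obtain ⟨k, a, y, hay, ham⟩ := TensorProduct.vanishesTrivially_of_sum_tmul_eq_zero A hspan hsum
  let κ := ULift.{v} (Fin k)
  have hay' : ∀ i, nb i = ∑ j : κ, a i j.down • y j.down := fun i => by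
    rw [hay i]; exact (Equiv.ulift.sum_comp (fun j => a i j • y j)).symm
  have ham' : ∀ j : κ, (∑ i : ι₀, a (Sum.inl i) j.down • φ (mv i)) +
      ∑ s : σ, a (Sum.inr s) j.down • (s.1 : N) = 0 := by
    intro j
    have h := congrArg N'.subtype (ham j.down)
    rw [map_sum, Fintype.sum_sum_type, map_zero] at h
    have e1 : ∀ i : ι₀, N'.subtype (a (Sum.inl i) j.down • g (Sum.inl i)) =
        a (Sum.inl i) j.down • φ (mv i) := fun i => by
      rw [map_smul]; rfl
    have e2 : ∀ s : σ, N'.subtype (a (Sum.inr s) j.down • g (Sum.inr s)) =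
        a (Sum.inr s) j.down • (s.1 : N) := fun s => by
      rw [map_smul]; rfl
    rw [Finset.sum_congr rfl fun i _ => e1 i, Finset.sum_congr rfl fun s _ => e2 s] at h
    exact h
  let Tm : (κ →₀ A) →ₗ[A] (σ →₀ A) :=
    Finsupp.linearCombination A (fun j : κ => ∑ s : σ, Finsupp.single s (a (Sum.inr s) j.down))
  let ρ : (κ →₀ A) →ₗ[A] M :=
    Finsupp.linearCombination A (fun j : κ => ∑ i : ι₀, a (Sum.inl i) j.down • mv i)
  let χ : (σ →₀ A) →ₗ[A] N := Finsupp.linearCombination A (fun s : σ => -(s.1 : N))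
  let c : B ⊗[A] (κ →₀ A) := ∑ j : κ, y j.down ⊗ₜ[A] Finsupp.single j (1 : A)
  have h1 : ∀ j : κ, ρ (Finsupp.single j 1) = ∑ i : ι₀, a (Sum.inl i) j.down • mv i := by
    intro j
    show Finsupp.linearCombination A _ (Finsupp.single j 1) = _
    rw [Finsupp.linearCombination_single, one_smul]
  have h2 : ∀ j : κ, Tm (Finsupp.single j 1) =
      ∑ s : σ, Finsupp.single s (a (Sum.inr s) j.down) := by
    intro j
    show Finsupp.linearCombination A _ (Finsupp.single j 1) = _
    rw [Finsupp.linearCombination_single, one_smul]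
  have h3 : ∀ (s : σ) (r : A), χ (Finsupp.single s r) = r • (-(s.1 : N)) := fun s r => by
    show Finsupp.linearCombination A _ (Finsupp.single s r) = _
    rw [Finsupp.linearCombination_single]
  refine ⟨κ, σ, inferInstance, inferInstance, Tm, ρ, χ, c, ?_, ?_, ?_⟩
  · refine Finsupp.lhom_ext' fun j => LinearMap.ext_ring ?_
    show φ (ρ (Finsupp.single j 1)) = χ (Tm (Finsupp.single j 1))
    rw [h1, h2, map_sum, map_sum]
    rw [Finset.sum_congr rfl fun s _ => h3 s _]
    rw [Finset.sum_congr rfl fun i _ => map_smul φ _ _]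
    rw [eq_neg_of_add_eq_zero_left (ham' j), ← Finset.sum_neg_distrib]
    exact Finset.sum_congr rfl fun s _ => (smul_neg _ _).symm
  · show Tm.baseChange B (∑ j : κ, y j.down ⊗ₜ[A] Finsupp.single j (1 : A)) = 0
    rw [map_sum]
    have h4 : ∀ j : κ, Tm.baseChange B (y j.down ⊗ₜ[A] Finsupp.single j (1:A)) =
        ∑ s : σ, (a (Sum.inr s) j.down • y j.down) ⊗ₜ[A] Finsupp.single s (1:A) := by
      intro j
      rw [LinearMap.baseChange_tmul, h2, TensorProduct.tmul_sum]
      refine Finset.sum_congr rfl fun s _ => ?_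
      rw [TensorProduct.smul_tmul, Finsupp.smul_single, smul_eq_mul, mul_one]
    rw [Finset.sum_congr rfl fun j _ => h4 j, Finset.sum_comm]
    refine Finset.sum_eq_zero fun s _ => ?_
    rw [← TensorProduct.sum_tmul, ← hay' (Sum.inr s)]
    exact TensorProduct.zero_tmul _ _
  · show ρ.baseChange B (∑ j : κ, y j.down ⊗ₜ[A] Finsupp.single j (1 : A)) = z
    rw [map_sum, hz']
    have h4 : ∀ j : κ, ρ.baseChange B (y j.down ⊗ₜ[A] Finsupp.single j (1:A)) =
        ∑ i : ι₀, (a (Sum.inl i) j.down • y j.down) ⊗ₜ[A] mv i := by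
      intro j
      rw [LinearMap.baseChange_tmul, h1, TensorProduct.tmul_sum]
      refine Finset.sum_congr rfl fun i _ => ?_
      rw [TensorProduct.smul_tmul]
    rw [Finset.sum_congr rfl fun j _ => h4 j, Finset.sum_comm]
    refine Finset.sum_congr rfl fun i _ => ?_
    rw [← TensorProduct.sum_tmul, ← hay' (Sum.inl i)]
    rfl

end Core

section Bridge

variable {A : Type u} [CommRing A]

theorem exists_linAdequate_hit (F : MVF A) (hF : adequate A F) (B : Alg A)
    (ξ : F.obj (pt B)) :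
    ∃ (P P' : ModuleCat.{u+1} A) (_ : Module.Finite A P) (_ : Module.Free A P)
      (_ : Module.Finite A P') (_ : Module.Free A P') (T : P ⟶ P')
      (ℓ : kernel ((underline A).map T) ⟶ F) (k : (kernel ((underline A).map T)).obj (pt B)),
      capp ℓ (pt B) k = ξ := by
  classical
  obtain ⟨M, N, φ, ⟨e⟩⟩ := hF
  let z : (B : Type u) ⊗[A] M := capp (e.hom ≫ kernel.ι ((underline A).map φ)) (pt B) ξ
  have hz : φ.hom.baseChange B z = 0 :=
    kerι_cond ((underline A).map φ) (pt B) (capp e.hom (pt B) ξ)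
  obtain ⟨κ, σ, _, _, T, ρ, χ, c, h1, h2, h3⟩ := gen_core (B : Type u) φ.hom z hz
  let P : ModuleCat.{u+1} A := ModuleCat.of A (κ →₀ A)
  let P' : ModuleCat.{u+1} A := ModuleCat.of A (σ →₀ A)
  let Tm : P ⟶ P' := ModuleCat.ofHom T
  let ρm : P ⟶ M := ModuleCat.ofHom ρ
  let χm : P' ⟶ N := ModuleCat.ofHom χ
  have hcomm : ρm ≫ φ = Tm ≫ χm := by
    apply ModuleCat.hom_ext
    exact h1
  have hzero : (kernel.ι ((underline A).map Tm) ≫ (underline A).map ρm) ≫
      (underline A).map φ = 0 := by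
    rw [Category.assoc, ← Functor.map_comp, hcomm, Functor.map_comp, ← Category.assoc,
      kernel.condition, zero_comp]
  obtain ⟨k, hk⟩ := ker_exists ((underline A).map Tm) (pt B) c h2
  refine ⟨P, P', inferInstanceAs (Module.Finite A (κ →₀ A)),
    inferInstanceAs (Module.Free A (κ →₀ A)), inferInstanceAs (Module.Finite A (σ →₀ A)),
    inferInstanceAs (Module.Free A (σ →₀ A)), Tm,
    kernel.lift _ (kernel.ι ((underline A).map Tm) ≫ (underline A).map ρm) hzero ≫ e.inv,
    k, ?_⟩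
  have hinj : Function.Injective (capp (e.hom ≫ kernel.ι ((underline A).map φ)) (pt B)) := by
    have : Mono (e.hom ≫ kernel.ι ((underline A).map φ)) := mono_comp _ _
    exact PresheafOfModules.injective_of_mono (e.hom ≫ kernel.ι ((underline A).map φ)) (pt B)
  apply hinj
  have h5 : (kernel.lift _ (kernel.ι ((underline A).map Tm) ≫ (underline A).map ρm) hzero ≫
      e.inv) ≫ (e.hom ≫ kernel.ι ((underline A).map φ)) =
      kernel.ι ((underline A).map Tm) ≫ (underline A).map ρm := by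
    rw [Category.assoc, ← Category.assoc e.inv, e.inv_hom_id, Category.id_comp, kernel.lift_ι]
  have h6 := congrArg (fun f => capp f (pt B) k) h5
  simp only [capp_comp] at h6
  refine h6.trans ?_
  rw [hk]
  exact h3

theorem exists_epi_cofan (F : MVF A) (hF : adequate A F) :
    ∃ (ι : Type (u + 1)) (L : ι → MVF A), (∀ i, linAdequate A (L i)) ∧
      ∃ (c : Cofan L) (_ : IsColimit c) (π : c.pt ⟶ F), Epi π := by
  classical
  let ι := Σ B : Alg A, F.obj (pt B)
  have H := fun (p : ι) => exists_linAdequate_hit F hF p.1 p.2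
  choose P P' hP1 hP2 hP3 hP4 T ℓ k hk using H
  let L : ι → MVF A := fun p => kernel ((underline A).map (T p))
  refine ⟨ι, L, fun p => ⟨P p, P' p, T p, hP1 p, hP2 p, hP3 p, hP4 p, ⟨Iso.refl _⟩⟩, ?_⟩
  refine ⟨Cofan.mk (∐ L) (Sigma.ι L), coproductIsCoproduct L, Sigma.desc ℓ, ?_⟩
  apply PresheafOfModules.epi_of_surjective
  rintro ⟨⟨B⟩⟩ ξ
  refine ⟨capp (Sigma.ι L ⟨B, ξ⟩) (pt B) (k ⟨B, ξ⟩), ?_⟩
  have h := congrArg (fun φ => capp φ (pt B) (k ⟨B, ξ⟩)) (Sigma.ι_desc ℓ ⟨B, ξ⟩)
  exact h.trans (hk ⟨B, ξ⟩)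

end Bridge

end Groth.Agent.H2.Adq
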