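import Mathlib
import Groth.Agent.H2.AdqExt
import Groth.Agent.H2.AdqGen

/-! Cokernels and kernels of maps of adequate functors. -/

set_option autoImplicit false
universe u v w
open CategoryTheory Limits Opposite TensorProduct

namespace Groth.Agent.H2.Adq

open Adeq Groth.Agent.H2.TF DirectSum

section BC

variable {A : Type u} [CommRing A] (B : Type w) [CommRing B] [Algebra A B]
variable {M N K : Type v} [AddCommGroup M] [Module A M] [AddCommGroup N] [Module A N]
  [AddCommGroup K] [Module A K]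

lemma bc_comp_apply (f : N →ₗ[A] K) (g : M →ₗ[A] N) (x : B ⊗[A] M) :
    f.baseChange B (g.baseChange B x) = (f ∘ₗ g).baseChange B x := by
  rw [LinearMap.baseChange_comp]; rfl

lemma bc_add_apply (f g : M →ₗ[A] N) (x : B ⊗[A] M) :
    (f + g).baseChange B x = f.baseChange B x + g.baseChange B x := by
  rw [LinearMap.baseChange_add]; rfl

lemma bc_neg_apply (f : M →ₗ[A] N) (x : B ⊗[A] M) :
    (-f).baseChange B x = -(f.baseChange B x) := by
  rw [LinearMap.baseChange_neg]; rfl

lemma bc_zero_apply (x : B ⊗[A] M) : (0 : M →ₗ[A] N).baseChange B x = 0 := by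
  rw [LinearMap.baseChange_zero]; rfl

lemma bc_id_apply (x : B ⊗[A] M) : (LinearMap.id : M →ₗ[A] M).baseChange B x = x := by
  rw [LinearMap.baseChange_id]; rfl

lemma bc_surjective (f : M →ₗ[A] N) (hf : Function.Surjective f) :
    Function.Surjective (f.baseChange B) := by
  intro y
  obtain ⟨x, hx⟩ := LinearMap.lTensor_surjective B hf y
  exact ⟨x, hx⟩

lemma bc_exact (f : M →ₗ[A] N) (g : N →ₗ[A] K) (h : Function.Exact f g)
    (hg : Function.Surjective g) (y : B ⊗[A] N) (hy : g.baseChange B y = 0) :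
    ∃ x, f.baseChange B x = y := by
  have h1 := lTensor_exact B h hg
  exact (h1 y).mp hy

lemma inl_fst_add_inr_snd :
    LinearMap.inl A M N ∘ₗ LinearMap.fst A M N + LinearMap.inr A M N ∘ₗ LinearMap.snd A M N =
      LinearMap.id := by
  apply LinearMap.ext; intro x
  simp

end BC

section DS

variable {A : Type u} [CommRing A] (B : Type w) [CommRing B] [Algebra A B]
variable {J : Type v} [DecidableEq J] (P : J → Type v) [∀ j, AddCommGroup (P j)]
  [∀ j, Module A (P j)]

lemma bc_ds_decomp (y : B ⊗[A] (⨁ j, P j)) :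
    ∃ s : Finset J, ∀ s' : Finset J, s ⊆ s' →
      y = ∑ j ∈ s', (lof A J P j).baseChange B ((component A J P j).baseChange B y) := by
  classical
  induction y using TensorProduct.induction_on with
  | zero => exact ⟨∅, fun s' _ => by simp⟩
  | tmul b x =>
    refine ⟨DFinsupp.support x, fun s' hs => ?_⟩
    simp only [LinearMap.baseChange_tmul]
    rw [← TensorProduct.tmul_sum]
    congr 1
    have h1 : ∑ j ∈ s', lof A J P j (component A J P j x) =
        ∑ j ∈ DFinsupp.support x, DirectSum.of P j (x j) := by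
      symm
      apply Finset.sum_subset hs
      intro j _ hj
      rw [DFinsupp.notMem_support_iff] at hj
      show DirectSum.of P j (x j) = 0
      rw [hj, map_zero]
    rw [h1, DirectSum.sum_support_of]
  | add y₁ y₂ h₁ h₂ =>
    obtain ⟨s₁, h₁⟩ := h₁
    obtain ⟨s₂, h₂⟩ := h₂
    refine ⟨s₁ ∪ s₂, fun s' hs => ?_⟩
    simp only [map_add, Finset.sum_add_distrib]
    exact congrArg₂ (· + ·) (h₁ s' (Finset.union_subset_left hs))
      (h₂ s' (Finset.union_subset_right hs))

end DS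

section CokerCore

variable {A : Type u} [CommRing A]
variable {J : Type v} [DecidableEq J] (P P' : J → ModuleCat.{v} A) (T : ∀ j, P j ⟶ P' j)
  (M : ModuleCat.{v} A) (g : ∀ j, P j ⟶ M)

/-- the big map `⨁ P_j → M × ⨁ P'_j` -/
noncomputable def hbig : (⨁ j, P j) →ₗ[A] M × (⨁ j, P' j) :=
  (toModule A J M (fun j => (g j).hom)).prod (lmap (fun j => (T j).hom))

abbrev Q1 : Type v := (M × (⨁ j, P' j)) ⧸ LinearMap.range (hbig P P' T M g)

abbrev Q2 : Type v := (⨁ j, P' j) ⧸ LinearMap.range (lmap (fun j => (T j).hom))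

noncomputable def qmap : M →ₗ[A] Q1 P P' T M g :=
  (LinearMap.range (hbig P P' T M g)).mkQ ∘ₗ LinearMap.inl A M (⨁ j, P' j)

noncomputable def rmapQ : Q1 P P' T M g →ₗ[A] Q2 P P' T :=
  Submodule.liftQ _ ((LinearMap.range (lmap (fun j => (T j).hom))).mkQ ∘ₗ
    LinearMap.snd A M (⨁ j, P' j)) (by
    rintro _ ⟨p, rfl⟩
    rw [LinearMap.mem_ker]
    show (LinearMap.range (lmap (fun j => (T j).hom))).mkQ (lmap (fun j => (T j).hom) p) = 0
    rw [Submodule.mkQ_apply, Submodule.Quotient.mk_eq_zero]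
    exact ⟨p, rfl⟩)

lemma rmapQ_comp_qmap : rmapQ P P' T M g ∘ₗ qmap P P' T M g = 0 := by
  apply LinearMap.ext; intro m
  show (LinearMap.range (lmap (fun j => (T j).hom))).mkQ (0 : ⨁ j, P' j) = 0
  rw [map_zero]

lemma rmapQ_comp_mkQ : rmapQ P P' T M g ∘ₗ (LinearMap.range (hbig P P' T M g)).mkQ =
    (LinearMap.range (lmap (fun j => (T j).hom))).mkQ ∘ₗ LinearMap.snd A M (⨁ j, P' j) :=
  Submodule.liftQ_mkQ _ _ _

lemma qmap_comp_g (j : J) :
    qmap P P' T M g ∘ₗ (g j).hom =
      -(((LinearMap.range (hbig P P' T M g)).mkQ ∘ₗ LinearMap.inr A M (⨁ j, P' j) ∘ₗ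
        lof A J (fun j => P' j) j) ∘ₗ (T j).hom) := by
  apply LinearMap.ext; intro x
  rw [LinearMap.neg_apply, eq_neg_iff_add_eq_zero]
  show (LinearMap.range (hbig P P' T M g)).mkQ ((g j).hom x, 0) +
    (LinearMap.range (hbig P P' T M g)).mkQ (0, lof A J (fun j => P' j) j ((T j).hom x)) = 0
  rw [← map_add, Prod.mk_add_mk, add_zero, zero_add, Submodule.mkQ_apply,
    Submodule.Quotient.mk_eq_zero]
  refine ⟨lof A J (fun j => P j) j x, ?_⟩
  show ((toModule A J M (fun j => (g j).hom)) (lof A J (fun j => P j) j x),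
    lmap (fun j => (T j).hom) (lof A J (fun j => P j) j x)) = _
  rw [toModule_lof, lmap_lof]

variable (B : Type w) [CommRing B] [Algebra A B]

lemma coker_C1 (j : J) (p : B ⊗[A] P j) (hp : (T j).hom.baseChange B p = 0) :
    (qmap P P' T M g).baseChange B ((g j).hom.baseChange B p) = 0 := by
  rw [bc_comp_apply, qmap_comp_g, bc_neg_apply, ← bc_comp_apply, hp, map_zero, neg_zero]

lemma coker_C3 (w : B ⊗[A] Q1 P P' T M g) (hw : (rmapQ P P' T M g).baseChange B w = 0) :
    ∃ x : B ⊗[A] M, (qmap P P' T M g).baseChange B x = w := by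
  obtain ⟨v, rfl⟩ := bc_surjective B _
    (Submodule.mkQ_surjective (LinearMap.range (hbig P P' T M g))) w
  rw [bc_comp_apply, rmapQ_comp_mkQ, ← bc_comp_apply] at hw
  obtain ⟨p, hp⟩ := bc_exact B (lmap (fun j => (T j).hom))
    (LinearMap.range (lmap (fun j => (T j).hom))).mkQ (LinearMap.exact_map_mkQ_range _)
    (Submodule.mkQ_surjective _) _ hw
  refine ⟨(LinearMap.fst A M (⨁ j, P' j)).baseChange B v -
    (toModule A J M (fun j => (g j).hom)).baseChange B p, ?_⟩
  have hv : v = (LinearMap.inl A M (⨁ j, P' j)).baseChange B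
      ((LinearMap.fst A M (⨁ j, P' j)).baseChange B v) +
      (LinearMap.inr A M (⨁ j, P' j)).baseChange B
      ((LinearMap.snd A M (⨁ j, P' j)).baseChange B v) := by
    rw [bc_comp_apply, bc_comp_apply, ← bc_add_apply, inl_fst_add_inr_snd, bc_id_apply]
  have hh : hbig P P' T M g = LinearMap.inl A M (⨁ j, P' j) ∘ₗ
      (toModule A J M (fun j => (g j).hom)) +
      LinearMap.inr A M (⨁ j, P' j) ∘ₗ lmap (fun j => (T j).hom) := by
    apply LinearMap.ext; intro x
    simp [hbig]
  have hhp : (hbig P P' T M g).baseChange B p =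
      (LinearMap.inl A M (⨁ j, P' j)).baseChange B
        ((toModule A J M (fun j => (g j).hom)).baseChange B p) +
      (LinearMap.inr A M (⨁ j, P' j)).baseChange B
        ((LinearMap.snd A M (⨁ j, P' j)).baseChange B v) := by
    rw [← hp, bc_comp_apply, bc_comp_apply, ← bc_add_apply, ← hh]
  have hmk : ((LinearMap.range (hbig P P' T M g)).mkQ).baseChange B
      ((hbig P P' T M g).baseChange B p) = 0 := by
    rw [bc_comp_apply, LinearMap.range_mkQ_comp, bc_zero_apply]
  have key : (LinearMap.inl A M (⨁ j, P' j)).baseChange B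
      ((LinearMap.fst A M (⨁ j, P' j)).baseChange B v -
        (toModule A J M (fun j => (g j).hom)).baseChange B p) =
      v - (hbig P P' T M g).baseChange B p := by
    rw [map_sub, hhp]
    conv_rhs => arg 1; rw [hv]
    abel
  show ((LinearMap.range (hbig P P' T M g)).mkQ ∘ₗ LinearMap.inl A M (⨁ j, P' j)).baseChange B
    _ = _
  rw [← bc_comp_apply, key, map_sub, hmk, sub_zero]

lemma coker_C2 (x : B ⊗[A] M) (hx : (qmap P P' T M g).baseChange B x = 0) :
    ∃ (s : Finset J) (p : ∀ j, B ⊗[A] P j), (∀ j, (T j).hom.baseChange B (p j) = 0) ∧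
      x = ∑ j ∈ s, (g j).hom.baseChange B (p j) := by
  have h0 : ((LinearMap.range (hbig P P' T M g)).mkQ).baseChange B
      ((LinearMap.inl A M (⨁ j, P' j)).baseChange B x) = 0 := by
    rw [bc_comp_apply]; exact hx
  obtain ⟨p, hp⟩ := bc_exact B (hbig P P' T M g) (LinearMap.range (hbig P P' T M g)).mkQ
    (LinearMap.exact_map_mkQ_range _) (Submodule.mkQ_surjective _) _ h0
  have hT : (lmap (fun j => (T j).hom)).baseChange B p = 0 := by
    have h1 := congrArg ((LinearMap.snd A M (⨁ j, P' j)).baseChange B) hp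
    rw [bc_comp_apply, bc_comp_apply] at h1
    have e1 : LinearMap.snd A M (⨁ j, P' j) ∘ₗ hbig P P' T M g = lmap (fun j => (T j).hom) :=
      LinearMap.ext fun _ => rfl
    have e2 : LinearMap.snd A M (⨁ j, P' j) ∘ₗ LinearMap.inl A M (⨁ j, P' j) = 0 :=
      LinearMap.ext fun _ => rfl
    rw [e1, e2, bc_zero_apply] at h1
    exact h1
  have hG : (toModule A J M (fun j => (g j).hom)).baseChange B p = x := by
    have h1 := congrArg ((LinearMap.fst A M (⨁ j, P' j)).baseChange B) hp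
    rw [bc_comp_apply, bc_comp_apply] at h1
    have e1 : LinearMap.fst A M (⨁ j, P' j) ∘ₗ hbig P P' T M g =
        toModule A J M (fun j => (g j).hom) := LinearMap.ext fun _ => rfl
    have e2 : LinearMap.fst A M (⨁ j, P' j) ∘ₗ LinearMap.inl A M (⨁ j, P' j) = LinearMap.id :=
      LinearMap.ext fun _ => rfl
    rw [e1, e2, bc_id_apply] at h1
    exact h1
  obtain ⟨s, hs⟩ := bc_ds_decomp B (fun j => P j) p
  refine ⟨s, fun j => (component A J (fun j => P j) j).baseChange B p, fun j => ?_, ?_⟩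
  · have e3 : (T j).hom ∘ₗ component A J (fun j => P j) j =
        component A J (fun j => P' j) j ∘ₗ lmap (fun j => (T j).hom) :=
      LinearMap.ext fun _ => rfl
    rw [bc_comp_apply, e3, ← bc_comp_apply, hT, map_zero]
  · conv_lhs => rw [← hG, hs s (Finset.Subset.refl _)]
    rw [map_sum]
    refine Finset.sum_congr rfl fun j _ => ?_
    have e4 : toModule A J M (fun j => (g j).hom) ∘ₗ lof A J (fun j => P j) j = (g j).hom :=
      LinearMap.ext fun y => by rw [LinearMap.comp_apply, toModule_lof]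
    rw [bc_comp_apply, e4]

end CokerCore

section Main

variable {A : Type u} [CommRing A]

lemma capp_add {F G : MVF A} (φ ψ : F ⟶ G) (X : (Alg A)ᵒᵖᵒᵖ) (x : F.obj X) :
    capp (φ + ψ) X x = capp φ X x + capp ψ X x := rfl

lemma coker_desc_apply {F G H : MVF A} (f : F ⟶ G) (k : G ⟶ H) (w : f ≫ k = 0)
    (X : (Alg A)ᵒᵖᵒᵖ) (x : G.obj X) :
    capp (cokernel.desc f k w) X (capp (cokernel.π f) X x) = capp k X x :=
  congrArg (fun φ => capp φ X x) (cokernel.π_desc f k w)

theorem coker_resolution (F : MVF A) (hF : adequate A F) (M : ModuleCat.{u+1} A)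
    (ψ : F ⟶ (underline A).obj M) :
    ∃ (Q₁ Q₂ : ModuleCat.{u+1} A) (q : M ⟶ Q₁) (r : Q₁ ⟶ Q₂),
      ψ ≫ (underline A).map q = 0 ∧
      (∀ (B : Alg A) (x : (B : Type u) ⊗[A] M), q.hom.baseChange B x = 0 →
        ∃ ξ, capp ψ (pt B) ξ = x) ∧
      (∀ (B : Alg A) (w : (B : Type u) ⊗[A] Q₁), r.hom.baseChange B w = 0 →
        ∃ x : (B : Type u) ⊗[A] M, q.hom.baseChange B x = w) ∧
      q ≫ r = 0 := by
  classical
  let J := Σ B : Alg A, F.obj (pt B)
  have H := fun (p : J) => exists_linAdequate_hit F hF p.1 p.2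
  choose P P' hP1 hP2 hP3 hP4 T ℓ k hk using H
  have H2 := fun (p : J) => @ext_lemma A _ (P p) (P' p) M (hP1 p) (hP2 p) (hP3 p) (hP4 p)
    (T p) (ℓ p ≫ ψ)
  choose g hg using H2
  refine ⟨ModuleCat.of A (Q1 P P' T M g), ModuleCat.of A (Q2 P P' T),
    ModuleCat.ofHom (qmap P P' T M g), ModuleCat.ofHom (rmapQ P P' T M g), ?_, ?_, ?_, ?_⟩
  · apply hom_ext'
    rintro ⟨⟨B⟩⟩ ξ
    rw [capp_comp, capp_zero]
    have hkj : capp (ℓ ⟨B, ξ⟩) (pt B) (k ⟨B, ξ⟩) = ξ := hk ⟨B, ξ⟩
    have e1 : capp ψ (pt B) ξ = (g ⟨B, ξ⟩).hom.baseChange B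
        (capp (kernel.ι ((underline A).map (T ⟨B, ξ⟩))) (pt B) (k ⟨B, ξ⟩)) := by
      have h1 := congrArg (fun f => capp f (pt B) (k ⟨B, ξ⟩)) (hg ⟨B, ξ⟩)
      simp only [capp_comp] at h1
      rw [hkj] at h1
      exact h1.symm
    rw [e1]
    exact coker_C1 P P' T M g (B : Type u) ⟨B, ξ⟩ _
      (kerι_cond ((underline A).map (T ⟨B, ξ⟩)) (pt B) (k ⟨B, ξ⟩))
  · intro B x hx
    obtain ⟨s, p, hp, hxs⟩ := coker_C2 P P' T M g (B : Type u) x hx
    have H3 := fun j => ker_exists ((underline A).map (T j)) (pt B) (p j) (hp j)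
    choose κ hκ using H3
    refine ⟨∑ j ∈ s, capp (ℓ j) (pt B) (κ j), ?_⟩
    rw [map_sum, hxs]
    refine Finset.sum_congr rfl fun j _ => ?_
    have h1 := congrArg (fun f => capp f (pt B) (κ j)) (hg j)
    simp only [capp_comp] at h1
    rw [hκ j] at h1
    exact h1.symm
  · intro B w hw
    exact coker_C3 P P' T M g (B : Type u) w hw
  · apply ModuleCat.hom_ext
    rw [ModuleCat.hom_comp, ModuleCat.hom_zero]
    exact rmapQ_comp_qmap P P' T M g

theorem adequate_coker_to_underline (F : MVF A) (hF : adequate A F) (M : ModuleCat.{u+1} A)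
    (ψ : F ⟶ (underline A).obj M) : adequate A (cokernel ψ) := by
  obtain ⟨Q₁, Q₂, q, r, h1, h2, h3, h4⟩ := coker_resolution F hF M ψ
  refine adequate_of_exact (cokernel ψ) Q₁ Q₂ r (cokernel.desc ψ ((underline A).map q) h1)
    ?_ ?_ ?_
  · rw [← cancel_epi (cokernel.π ψ), ← Category.assoc, cokernel.π_desc, comp_zero,
      ← Functor.map_comp, h4, Functor.map_zero]
  · rintro ⟨⟨B⟩⟩
    rw [injective_iff_map_eq_zero]
    intro z hz
    obtain ⟨x, rfl⟩ := cokerπ_surj ψ (pt B) z
    rw [coker_desc_apply] at hz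
    obtain ⟨ξ, rfl⟩ := h2 B x hz
    exact cokerπ_cond ψ (pt B) ξ
  · rintro ⟨⟨B⟩⟩ w hw
    obtain ⟨x, rfl⟩ := h3 B w hw
    exact ⟨capp (cokernel.π ψ) (pt B) x, coker_desc_apply ψ _ h1 (pt B) x⟩

theorem adequate_of_exact_adequate (H C : MVF A) (hC : adequate A C) (N : ModuleCat.{u+1} A)
    (j : H ⟶ C) (η : C ⟶ (underline A).obj N) (hz : j ≫ η = 0)
    (hj : ∀ X, Function.Injective (capp j X))
    (hex : ∀ X (c : C.obj X), capp η X c = 0 → ∃ h, capp j X h = c) : adequate A H := by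
  obtain ⟨M', N', φ', i, hi0, hi, hiex⟩ := exists_exact_of_adequate C hC
  let MN : ModuleCat.{u+1} A := ModuleCat.of A (M' × N)
  let ψ : C ⟶ (underline A).obj MN :=
    i ≫ (underline A).map (ModuleCat.ofHom (LinearMap.inl A M' N)) +
      η ≫ (underline A).map (ModuleCat.ofHom (LinearMap.inr A M' N))
  obtain ⟨Q₁, Q₂, q, r, h1, h2, h3, h4⟩ := coker_resolution C hC MN ψ
  let QN : ModuleCat.{u+1} A := ModuleCat.of A (Q₁ × N)
  let θl : (M' × N) →ₗ[A] (Q₁ × N) := q.hom.prod (LinearMap.snd A M' N)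
  have hψ : ∀ (B : Alg A) (c : C.obj (pt B)), capp ψ (pt B) c =
      (LinearMap.inl A M' N).baseChange B (capp i (pt B) c) +
        (LinearMap.inr A M' N).baseChange B (capp η (pt B) c) := fun B c => rfl
  have f1 : ∀ (B : Alg A) (c : C.obj (pt B)), q.hom.baseChange B (capp ψ (pt B) c) = 0 :=
    fun B c => congrArg (fun f => capp f (pt B) c) h1
  have f2 : ∀ (B : Alg A) (c : C.obj (pt B)),
      (LinearMap.snd A M' N).baseChange B (capp ψ (pt B) c) = capp η (pt B) c := by
    intro B c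
    rw [hψ, map_add, bc_comp_apply, bc_comp_apply]
    have e1 : LinearMap.snd A M' N ∘ₗ LinearMap.inl A M' N = 0 := LinearMap.ext fun _ => rfl
    have e2 : LinearMap.snd A M' N ∘ₗ LinearMap.inr A M' N = LinearMap.id :=
      LinearMap.ext fun _ => rfl
    rw [e1, e2, bc_zero_apply, bc_id_apply, zero_add]
  have f3 : ∀ (B : Alg A) (c : C.obj (pt B)),
      (LinearMap.fst A M' N).baseChange B (capp ψ (pt B) c) = capp i (pt B) c := by
    intro B c
    rw [hψ, map_add, bc_comp_apply, bc_comp_apply]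
    have e1 : LinearMap.fst A M' N ∘ₗ LinearMap.inl A M' N = LinearMap.id :=
      LinearMap.ext fun _ => rfl
    have e2 : LinearMap.fst A M' N ∘ₗ LinearMap.inr A M' N = 0 := LinearMap.ext fun _ => rfl
    rw [e1, e2, bc_zero_apply, bc_id_apply, add_zero]
  have f4 : ∀ (B : Alg A) (h : H.obj (pt B)), capp η (pt B) (capp j (pt B) h) = 0 :=
    fun B h => congrArg (fun f => capp f (pt B) h) hz
  have hθ : θl = LinearMap.inl A Q₁ N ∘ₗ q.hom + LinearMap.inr A Q₁ N ∘ₗ LinearMap.snd A M' N := by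
    apply LinearMap.ext; intro x
    simp [θl]
  have f5 : ∀ (B : Alg A) (y : (B : Type u) ⊗[A] (M' × N)), θl.baseChange B y =
      (LinearMap.inl A Q₁ N).baseChange B (q.hom.baseChange B y) +
        (LinearMap.inr A Q₁ N).baseChange B ((LinearMap.snd A M' N).baseChange B y) := by
    intro B y
    rw [bc_comp_apply, bc_comp_apply, ← bc_add_apply, ← hθ]
  refine adequate_of_exact H MN QN (ModuleCat.ofHom θl) (j ≫ ψ) ?_ ?_ ?_
  · apply hom_ext'
    rintro ⟨⟨B⟩⟩ h
    rw [capp_comp, capp_comp, capp_zero]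
    show θl.baseChange B (capp ψ (pt B) (capp j (pt B) h)) = 0
    rw [f5, f1, f2, map_zero, zero_add]
    exact (congrArg ((LinearMap.inr A Q₁ N).baseChange B) (f4 B h)).trans (map_zero _)
  · rintro ⟨⟨B⟩⟩ a b hab
    apply hj
    apply hi
    rw [capp_comp, capp_comp] at hab
    have h5 := congrArg ((LinearMap.fst A M' N).baseChange B) hab
    rw [f3, f3] at h5
    exact h5
  · rintro ⟨⟨B⟩⟩ y hy
    have hy' : θl.baseChange B y = 0 := hy
    have g1 : q.hom.baseChange B y = 0 := by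
      have h5 := congrArg ((LinearMap.fst A Q₁ N).baseChange B) hy'
      rw [bc_comp_apply, map_zero] at h5
      have e1 : LinearMap.fst A Q₁ N ∘ₗ θl = q.hom := LinearMap.ext fun _ => rfl
      rw [e1] at h5
      exact h5
    have g2 : (LinearMap.snd A M' N).baseChange B y = 0 := by
      have h5 := congrArg ((LinearMap.snd A Q₁ N).baseChange B) hy'
      rw [bc_comp_apply, map_zero] at h5
      have e1 : LinearMap.snd A Q₁ N ∘ₗ θl = LinearMap.snd A M' N := LinearMap.ext fun _ => rfl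
      rw [e1] at h5
      exact h5
    obtain ⟨c, hc⟩ := h2 B y g1
    have g3 : capp η (pt B) c = 0 := by
      rw [← f2, hc]; exact g2
    obtain ⟨h, rfl⟩ := hex (pt B) c g3
    exact ⟨h, hc⟩

theorem adequate_kernel {F G : MVF A} (φ : F ⟶ G) (hF : adequate A F) (hG : adequate A G) :
    adequate A (kernel φ) := by
  obtain ⟨M, N, θ, i, hi0, hi, hiex⟩ := exists_exact_of_adequate G hG
  refine adequate_of_exact_adequate (kernel φ) F hF M (kernel.ι φ) (φ ≫ i) ?_ (kerι_inj φ) ?_
  · rw [← Category.assoc, kernel.condition, zero_comp]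
  · intro X c hc
    rw [capp_comp] at hc
    have h1 : capp φ X c = 0 := hi X (by rw [hc, map_zero])
    exact ker_exists φ X c h1

theorem adequate_cokernel {F G : MVF A} (φ : F ⟶ G) (hF : adequate A F) (hG : adequate A G) :
    adequate A (cokernel φ) := by
  obtain ⟨M, N, θ, i, hi0, hi, hiex⟩ := exists_exact_of_adequate G hG
  have hC : adequate A (cokernel (φ ≫ i)) := adequate_coker_to_underline F hF M (φ ≫ i)
  have w1 : φ ≫ (i ≫ cokernel.π (φ ≫ i)) = 0 := by
    rw [← Category.assoc]; exact cokernel.condition (φ ≫ i)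
  have w2 : (φ ≫ i) ≫ (underline A).map θ = 0 := by rw [Category.assoc, hi0, comp_zero]
  refine adequate_of_exact_adequate (cokernel φ) (cokernel (φ ≫ i)) hC N
    (cokernel.desc φ (i ≫ cokernel.π (φ ≫ i)) w1)
    (cokernel.desc (φ ≫ i) ((underline A).map θ) w2) ?_ ?_ ?_
  · rw [← cancel_epi (cokernel.π φ), ← Category.assoc, cokernel.π_desc, Category.assoc,
      cokernel.π_desc, hi0, comp_zero]
  · intro X
    rw [injective_iff_map_eq_zero]
    intro z hz
    obtain ⟨g, rfl⟩ := cokerπ_surj φ X z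
    rw [coker_desc_apply, capp_comp] at hz
    obtain ⟨f, hf⟩ := coker_exact (φ ≫ i) X _ hz
    rw [capp_comp] at hf
    have h1 : capp φ X f = g := hi X hf
    rw [← h1]
    exact cokerπ_cond φ X f
  · intro X c hc
    obtain ⟨x, rfl⟩ := cokerπ_surj (φ ≫ i) X c
    rw [coker_desc_apply] at hc
    obtain ⟨g, rfl⟩ := hiex X x hc
    refine ⟨capp (cokernel.π φ) X g, ?_⟩
    rw [coker_desc_apply, capp_comp]

end Main

end Groth.Agent.H2.Adq
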