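import Mathlib
import Groth.Agent.H2.AdqCoker

/-! Colimits of adequate functors. -/

set_option autoImplicit false
universe u v w
open CategoryTheory Limits Opposite TensorProduct

namespace Groth.Agent.H2.Adq

open Adeq Groth.Agent.H2.TF DirectSum

variable {A : Type u} [CommRing A]

theorem sigma_span {J : Type (u+1)} (F : J → MVF A) (X : (Alg A)ᵒᵖᵒᵖ) (z : (∐ F).obj X) :
    ∃ (s : Finset J) (zf : ∀ j, (F j).obj X), z = ∑ j ∈ s, capp (Sigma.ι F j) X (zf j) := by
  classical
  let R := (ringOf A).obj X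
  let Θ : (⨁ j, (F j).obj X) →ₗ[R] (∐ F).obj X :=
    DirectSum.toModule R J _ (fun j => ((Sigma.ι F j).app X).hom)
  have hΘ : LinearMap.range Θ = ⊤ := by
    have h3 : PreservesColimitsOfSize.{u+1,u+1}
        (PresheafOfModules.evaluation.{u+1} (Adeq.ringOf A) X) :=
      PresheafOfModules.evaluation_preservesColimitsOfSize.{u+1, u, u+1, u+1, u+1, u}
        (Adeq.ringOf A) X
    have hcol := isColimitOfPreserves (PresheafOfModules.evaluation.{u+1} (ringOf A) X)
      (colimit.isColimit (Discrete.functor F))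
    let W : ModuleCat.{u+1} R := ModuleCat.of R (((∐ F).obj X) ⧸ LinearMap.range Θ)
    have heq : (ModuleCat.ofHom (LinearMap.range Θ).mkQ : (∐ F).obj X ⟶ W) = 0 := by
      apply hcol.hom_ext
      rintro ⟨j⟩
      apply ModuleCat.hom_ext
      apply LinearMap.ext
      intro x
      show (LinearMap.range Θ).mkQ (((Sigma.ι F j).app X).hom x) = 0
      rw [Submodule.mkQ_apply, Submodule.Quotient.mk_eq_zero]
      refine ⟨DirectSum.lof R J (fun j => ((F j).obj X : Type (u+1))) j x, ?_⟩
      show DirectSum.toModule R J _ _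
        (DirectSum.lof R J (fun j => ((F j).obj X : Type (u+1))) j x) = _
      rw [DirectSum.toModule_lof]
    have h2 : (LinearMap.range Θ).mkQ = 0 := by
      have h3 := congrArg ModuleCat.Hom.hom heq
      exact h3
    rw [← Submodule.ker_mkQ (LinearMap.range Θ), h2, LinearMap.ker_zero]
  have hz : z ∈ LinearMap.range Θ := by rw [hΘ]; trivial
  obtain ⟨w, rfl⟩ := hz
  refine ⟨DFinsupp.support w, fun j => w j, ?_⟩
  conv_lhs => rw [← DirectSum.sum_support_of w]
  rw [map_sum]
  refine Finset.sum_congr rfl fun j _ => ?_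
  show DirectSum.toModule R J _ _
    (DirectSum.lof R J (fun j => ((F j).obj X : Type (u+1))) j (w j)) = _
  rw [DirectSum.toModule_lof]
  rfl

theorem adequate_sigma {J : Type (u+1)} (F : J → MVF A) (hF : ∀ j, adequate A (F j)) :
    adequate A (∐ F) := by
  classical
  choose M N φ i hi0 hi hiex using fun j => exists_exact_of_adequate (F j) (hF j)
  let Mb : ModuleCat.{u+1} A := ModuleCat.of A (⨁ j, M j)
  let Nb : ModuleCat.{u+1} A := ModuleCat.of A (⨁ j, N j)
  let Φl : (⨁ j, M j) →ₗ[A] (⨁ j, N j) := lmap (fun j => (φ j).hom)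
  let lofm : ∀ j, M j ⟶ Mb := fun j => ModuleCat.ofHom (lof A J (fun j => M j) j)
  let ib : ∐ F ⟶ (underline A).obj Mb := Sigma.desc (fun j => i j ≫ (underline A).map (lofm j))
  have hib : ∀ (B : Alg A) (j : J) (x : (F j).obj (pt B)),
      capp ib (pt B) (capp (Sigma.ι F j) (pt B) x) =
        (lof A J (fun j => M j) j).baseChange B (capp (i j) (pt B) x) := by
    intro B j x
    have h1 := congrArg (fun f => capp f (pt B) x)
      (Sigma.ι_desc (fun j => i j ≫ (underline A).map (lofm j)) j)
    exact h1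
  refine adequate_of_exact (∐ F) Mb Nb (ModuleCat.ofHom Φl) ib ?_ ?_ ?_
  · apply Sigma.hom_ext
    intro j
    rw [← Category.assoc, Sigma.ι_desc, Category.assoc, ← Functor.map_comp, comp_zero]
    have e : lofm j ≫ ModuleCat.ofHom Φl =
        φ j ≫ ModuleCat.ofHom (lof A J (fun j => N j) j) := by
      apply ModuleCat.hom_ext
      apply LinearMap.ext
      intro x
      show Φl (lof A J (fun j => M j) j x) = lof A J (fun j => N j) j ((φ j).hom x)
      show lmap (fun j => (φ j).hom) (lof A J (fun j => M j) j x) = _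
      rw [lmap_lof]
    rw [e, Functor.map_comp, ← Category.assoc, hi0 j, zero_comp]
  · rintro ⟨⟨B⟩⟩
    rw [injective_iff_map_eq_zero]
    intro z hz
    obtain ⟨s, zf, rfl⟩ := sigma_span F (pt B) z
    rw [map_sum] at hz
    have hz' : ∑ k ∈ s, (lof A J (fun j => M j) k).baseChange B (capp (i k) (pt B) (zf k)) =
        (0 : (B : Type u) ⊗[A] (⨁ j, M j)) :=
      (Finset.sum_congr rfl fun k _ => (hib B k (zf k)).symm).trans hz
    refine Finset.sum_eq_zero fun j hj => ?_
    have h1 : capp (i j) (pt B) (zf j) = 0 := by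
      have h2 := congrArg ((component A J (fun j => M j) j).baseChange B) hz'
      rw [map_sum, map_zero, Finset.sum_eq_single_of_mem j hj] at h2
      · rw [bc_comp_apply, component_comp_lof_same, bc_id_apply] at h2
        exact h2
      · intro k _ hkj
        rw [bc_comp_apply, component_comp_lof, dif_neg hkj, bc_zero_apply]
    have h4 : zf j = 0 := hi j (pt B) (by rw [h1, map_zero])
    rw [h4, map_zero]
  · rintro ⟨⟨B⟩⟩ y hy
    have hy' : Φl.baseChange B y = 0 := hy
    obtain ⟨s, hs⟩ := bc_ds_decomp (B : Type u) (fun j => M j) y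
    have h1 : ∀ j, (φ j).hom.baseChange B
        ((component A J (fun j => M j) j).baseChange B y) = 0 := by
      intro j
      have e3 : (φ j).hom ∘ₗ component A J (fun j => M j) j =
          component A J (fun j => N j) j ∘ₗ Φl := LinearMap.ext fun _ => rfl
      rw [bc_comp_apply, e3, ← bc_comp_apply, hy', map_zero]
    choose x hx using fun j => hiex j (pt B) _ (h1 j)
    refine ⟨∑ j ∈ s, capp (Sigma.ι F j) (pt B) (x j), ?_⟩
    rw [map_sum]
    conv_rhs => rw [hs s (Finset.Subset.refl _)]
    refine Finset.sum_congr rfl fun j _ => ?_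
    rw [hib, hx j]

theorem adequate_colimit {J : Type (u+1)} [SmallCategory J] (D : J ⥤ MVF A)
    (hD : ∀ j, adequate A (D.obj j)) : adequate A (colimit D) := by
  classical
  let s : (∐ fun f : Σ p : J × J, p.1 ⟶ p.2 => D.obj f.1.1) ⟶ ∐ D.obj :=
    Sigma.desc fun f => D.map f.2 ≫ colimit.ι (Discrete.functor D.obj) ⟨f.1.2⟩
  let t : (∐ fun f : Σ p : J × J, p.1 ⟶ p.2 => D.obj f.1.1) ⟶ ∐ D.obj :=
    Sigma.desc fun f => colimit.ι (Discrete.functor D.obj) ⟨f.1.1⟩
  have e1 : colimit D ≅ coequalizer s t :=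
    colimit.isoColimitCocone (colimitCoconeOfCoequalizerAndCoproduct D)
  have e2 : coequalizer s t ≅ cokernel (s - t) :=
    (coequalizerIsCoequalizer s t).coconePointUniqueUpToIso
      (Preadditive.isColimitCoforkOfCokernelCofork (cokernelIsCokernel (s - t)))
  have h := adequate_cokernel (s - t) (adequate_sigma _ (fun f => hD f.1.1))
    (adequate_sigma _ hD)
  exact (adequate A).prop_of_iso (e1 ≪≫ e2).symm h

end Groth.Agent.H2.Adq
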