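import Mathlib
import Groth.Agent.H2.TF

set_option autoImplicit false
universe u
open CategoryTheory Limits Opposite

namespace Groth.Agent.H2.TF

open Adeq

variable {A : Type u} [CommRing A]

section CR

variable (C : Alg A) (J : Type (u+1)) [AddCommGroup J] [Module (C : Type u) J]

/-- values of the coinduced functor -/
def CR (D : Alg A) : Type (u+1) := (D ⟶ C) → J

instance (D : Alg A) : AddCommGroup (CR C J D) := inferInstanceAs (AddCommGroup ((D ⟶ C) → J))

instance (D : Alg A) : Module (D : Type u) (CR C J D) where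
  smul d x := fun φ => φ.hom d • x φ
  one_smul x := by
    funext φ
    show φ.hom 1 • x φ = x φ
    rw [map_one, one_smul]
  mul_smul a b x := by
    funext φ
    show φ.hom (a * b) • x φ = φ.hom a • (φ.hom b • x φ)
    rw [map_mul, mul_smul]
  smul_zero a := by
    funext φ
    exact smul_zero _
  smul_add a x y := by
    funext φ
    exact smul_add _ _ _
  add_smul a b x := by
    funext φ
    show φ.hom (a + b) • x φ = φ.hom a • x φ + φ.hom b • x φ
    rw [map_add, add_smul]
  zero_smul x := by
    funext φ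
    show φ.hom 0 • x φ = 0
    rw [map_zero, zero_smul]

lemma CR_smul_apply (D : Alg A) (d : (D : Type u)) (x : CR C J D) (φ : D ⟶ C) :
    (d • x) φ = φ.hom d • x φ := rfl

/-- transition maps -/
def crMap {D D' : Alg A} (f : D ⟶ D') : CR C J D →+ CR C J D' where
  toFun x := fun ψ => x (f ≫ ψ)
  map_zero' := rfl
  map_add' _ _ := rfl

lemma crMap_apply {D D' : Alg A} (f : D ⟶ D') (x : CR C J D) (ψ : D' ⟶ C) :
    crMap C J f x ψ = x (f ≫ ψ) := rfl

/-- the underlying abelian presheaf -/
noncomputable abbrev crAb : (Alg A)ᵒᵖᵒᵖ ⥤ Ab.{u+1} where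
  obj X := AddCommGrpCat.of (CR C J X.unop.unop)
  map {X Y} f := AddCommGrpCat.ofHom (crMap C J f.unop.unop)
  map_id X := by
    refine AddCommGrpCat.hom_ext (AddMonoidHom.ext fun x => ?_)
    funext ψ
    show x (𝟙 _ ≫ ψ) = x ψ
    rw [Category.id_comp]
  map_comp {X Y Z} f g := by
    refine AddCommGrpCat.hom_ext (AddMonoidHom.ext fun x => ?_)
    funext ψ
    show x ((f.unop.unop ≫ g.unop.unop) ≫ ψ) = x (f.unop.unop ≫ (g.unop.unop ≫ ψ))
    rw [Category.assoc]

/-- the module-valued functor coinduced from a `C`-module. -/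
noncomputable def coRep : MVF A :=
  PresheafOfModules.ofPresheaf (crAb C J) (by
    intro X Y f r m
    change crMap C J f.unop.unop (r • m) = (f.unop.unop.hom r) • crMap C J f.unop.unop m
    funext ψ
    rfl)


lemma rmap_coRep {D D' : Alg A} (f : D ⟶ D') (x : CR C J D) :
    rmap (coRep C J) (ptHom f) x = crMap C J f x := rfl

/-- the values of the morphism into the coinduced functor attached to a linear map -/
noncomputable def toVal (F : MVF A) (α : F.obj (pt C) →ₗ[(C : Type u)] J) (D : Alg A) :
    F.obj (pt D) →+ CR C J D where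
  toFun w := fun φ => α (rmap F (ptHom φ) w)
  map_zero' := by
    funext φ
    show α (rmap F (ptHom φ) 0) = 0
    rw [map_zero, map_zero]
  map_add' w w' := by
    funext φ
    show α (rmap F (ptHom φ) (w + w')) = α (rmap F (ptHom φ) w) + α (rmap F (ptHom φ) w')
    rw [map_add, map_add]

lemma toVal_apply (F : MVF A) (α : F.obj (pt C) →ₗ[(C : Type u)] J) (D : Alg A)
    (w : F.obj (pt D)) (φ : D ⟶ C) : toVal C J F α D w φ = α (rmap F (ptHom φ) w) := rfl

/-- the morphism into the coinduced functor attached to a linear map `F(C) → J`. -/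
noncomputable def toCoRep (F : MVF A) (α : F.obj (pt C) →ₗ[(C : Type u)] J) : F ⟶ coRep C J :=
  PresheafOfModules.homMk (M₁ := F) (M₂ := coRep C J)
    { app := fun X => AddCommGrpCat.ofHom (toVal C J F α X.unop.unop)
      naturality := by
        intro X Y f
        refine AddCommGrpCat.hom_ext (AddMonoidHom.ext fun w => ?_)
        funext ψ
        show α (rmap F (ptHom ψ) (rmap F f w)) = α (rmap F (ptHom (f.unop.unop ≫ ψ)) w)
        rw [← rmap_comp]
        rfl }
    (by
      intro X r m
      funext φ
      show α (rmap F (ptHom φ) (r • m)) = φ.hom r • α (rmap F (ptHom φ) m)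
      have h1 : rmap F (ptHom φ) (r • m) = (φ.hom r) • rmap F (ptHom φ) m :=
        F.map_smul (ptHom φ) r m
      rw [h1, map_smul])

lemma toCoRep_app (F : MVF A) (α : F.obj (pt C) →ₗ[(C : Type u)] J) (D : Alg A)
    (w : F.obj (pt D)) : capp (toCoRep C J F α) (pt D) w = toVal C J F α D w := rfl

end CR


section Inj

variable (C : Alg A) (J : ModuleCat.{u+1} ((ringOf A).obj (pt C)))

/-- the module structure over the underlying type of `C`. -/
instance modJ : Module (C : Type u) J := J.isModule

theorem coRep_injective [Injective J] : Injective (coRep C J) := by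
  constructor
  intro X Y g i _
  let α : X.obj (pt C) →ₗ[((ringOf A).obj (pt C))] J :=
    { toFun := fun w => (capp g (pt C) w : CR C J C) (𝟙 C)
      map_add' := fun w w' => by
        show (capp g (pt C) (w + w') : CR C J C) (𝟙 C) = _
        rw [map_add]; rfl
      map_smul' := fun c w => by
        have h1 : capp g (pt C) (c • w) = c • capp g (pt C) w := (g.app (pt C)).hom.map_smul c w
        show (capp g (pt C) (c • w) : CR C J C) (𝟙 C) = c • (capp g (pt C) w : CR C J C) (𝟙 C)
        rw [h1]
        rfl }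
  haveI : Mono (i.app (pt C)) :=
    (ModuleCat.mono_iff_injective _).mpr (PresheafOfModules.injective_of_mono i (pt C))
  have hβ : i.app (pt C) ≫ Injective.factorThru (ModuleCat.ofHom α) (i.app (pt C)) =
      ModuleCat.ofHom α := Injective.comp_factorThru _ _
  refine ⟨toCoRep C J Y (Injective.factorThru (ModuleCat.ofHom α) (i.app (pt C))).hom, ?_⟩
  apply PresheafOfModules.hom_ext
  intro X'
  apply ModuleCat.hom_ext
  apply LinearMap.ext
  intro w
  show (toVal C J Y _ X'.unop.unop (capp i X' w) : CR C J X'.unop.unop) = (capp g X' w : CR C J X'.unop.unop)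
  funext φ
  rw [toVal_apply, ← capp_nat]
  have h2 := congrArg (fun ψ => ψ.hom (rmap X (ptHom φ) w)) hβ
  simp only at h2
  refine Eq.trans h2 ?_
  show (capp g (pt C) (rmap X (ptHom φ) w) : CR C J C) (𝟙 C) = _
  rw [capp_nat]
  show (capp g X' w : CR C J X'.unop.unop) (φ ≫ 𝟙 C) = _
  rw [Category.comp_id]

end Inj

theorem enoughInjectives : EnoughInjectives (MVF A) := by
  constructor
  intro F
  let Jc : ∀ C : Alg A, ModuleCat.{u+1} ((ringOf A).obj (pt C)) :=
    fun C => Injective.under (F.obj (pt C))
  let ι : ∀ C : Alg A, F.obj (pt C) ⟶ Jc C := fun C => Injective.ι (F.obj (pt C))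
  let m : ∀ C : Alg A, F ⟶ coRep C (Jc C) := fun C => toCoRep C (Jc C) F (ι C).hom
  haveI : ∀ C : Alg A, Injective (coRep C (Jc C)) := fun C => coRep_injective C (Jc C)
  refine ⟨⟨∏ᶜ (fun C : Alg A => coRep C (Jc C)), inferInstance, Pi.lift m, ?_⟩⟩
  constructor
  intro Z f g hfg
  have hC : ∀ C : Alg A, f ≫ m C = g ≫ m C := fun C => by
    have := congrArg (fun t => t ≫ Pi.π (fun C : Alg A => coRep C (Jc C)) C) hfg
    simpa using this
  apply PresheafOfModules.hom_ext
  intro X
  apply ModuleCat.hom_ext
  apply LinearMap.ext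
  intro w
  have h1 := congrArg (fun φ => (capp φ X w)) (hC X.unop.unop)
  have h2 : (ι X.unop.unop).hom (rmap F (ptHom (𝟙 X.unop.unop)) (capp f X w)) =
      (ι X.unop.unop).hom (rmap F (ptHom (𝟙 X.unop.unop)) (capp g X w)) :=
    congrFun h1 (𝟙 X.unop.unop)
  have hinj : Function.Injective (ι X.unop.unop) :=
    (ModuleCat.mono_iff_injective _).mp inferInstance
  have h3 := hinj h2
  have e : ptHom (𝟙 X.unop.unop) = 𝟙 X := rfl
  rw [rmap_congr F e, rmap_id, rmap_congr F e, rmap_id] at h3
  exact h3

end Groth.Agent.H2.TF
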