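import Mathlib
import Groth.Agent.H2.AdqColim
import Groth.Agent.H2.CoRep

/-! The inclusion of adequate functors has a right adjoint (via the general adjoint functor
theorem). -/

set_option autoImplicit false
universe u v w
open CategoryTheory Limits Opposite TensorProduct

namespace Groth.Agent.H2.Adq

open Adeq Groth.Agent.H2.TF

variable {A : Type u} [CommRing A]

section Std

variable (A)

/-- standard finite free module -/
noncomputable abbrev Pstd (k : ℕ) : ModuleCat.{u+1} A :=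
  ModuleCat.of A (ULift.{u+1} (Fin k) →₀ A)

/-- index set of the standard linearly adequate functors -/
abbrev Lam : Type (u+1) := Σ (k s : ℕ), (Pstd A k ⟶ Pstd A s)

variable {A}

/-- the standard linearly adequate functors -/
noncomputable abbrev Lstd (l : Lam A) : MVF A := kernel ((underline A).map l.2.2)

lemma adequate_Lstd (l : Lam A) : adequate A (Lstd l) := ⟨_, _, l.2.2, ⟨Iso.refl _⟩⟩

/-- a finite free module is isomorphic to a standard one -/
lemma exists_iso_Pstd (P : ModuleCat.{u+1} A) [Module.Finite A P] [Module.Free A P] :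
    ∃ k : ℕ, Nonempty (P ≅ Pstd A k) := by
  classical
  let b : Module.Basis (Fin _) A P :=
    (Module.Free.chooseBasis A P).reindex (Fintype.equivFin (Module.Free.ChooseBasisIndex A P))
  exact ⟨_, ⟨(b.repr.trans (Finsupp.domLCongr Equiv.ulift.symm)).toModuleIso⟩⟩

theorem std_hit (F : MVF A) (hF : adequate A F) (p : Σ B : Alg A, F.obj (pt B)) :
    ∃ (l : Lam A) (ℓ : Lstd l ⟶ F) (k : (Lstd l).obj (pt p.1)), capp ℓ (pt p.1) k = p.2 := by
  obtain ⟨B, ξ⟩ := p
  obtain ⟨P, P', h1, h2, h3, h4, T, ℓ, k, hk⟩ := exists_linAdequate_hit F hF B ξ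
  obtain ⟨n, ⟨e⟩⟩ := exists_iso_Pstd P
  obtain ⟨m, ⟨e'⟩⟩ := exists_iso_Pstd P'
  let Ts : Pstd A n ⟶ Pstd A m := e.inv ≫ T ≫ e'.hom
  have w : (underline A).map T ≫ ((underline A).mapIso e').hom =
      ((underline A).mapIso e).hom ≫ (underline A).map Ts := by
    rw [Functor.mapIso_hom, Functor.mapIso_hom, ← Functor.map_comp, ← Functor.map_comp,
      Iso.hom_inv_id_assoc]
  let κ : kernel ((underline A).map T) ≅ kernel ((underline A).map Ts) :=
    kernel.mapIso _ _ ((underline A).mapIso e) ((underline A).mapIso e') w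
  refine ⟨⟨n, m, Ts⟩, κ.inv ≫ ℓ, capp κ.hom (pt B) k, ?_⟩
  rw [capp_comp, iso_inv_hom]
  exact hk

end Std

section Sol

theorem sigma_desc_surj {J : Type (u+1)} (L : J → MVF A) (F : MVF A) (ℓ : ∀ j, L j ⟶ F)
    (h : ∀ (B : Alg A) (ξ : F.obj (pt B)), ∃ (j : J) (k : (L j).obj (pt B)),
      capp (ℓ j) (pt B) k = ξ) : Epi (Sigma.desc ℓ) := by
  apply PresheafOfModules.epi_of_surjective
  rintro ⟨⟨B⟩⟩ ξ
  obtain ⟨j, k, hk⟩ := h B ξ
  refine ⟨capp (Sigma.ι L j) (pt B) k, ?_⟩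
  have h1 := congrArg (fun φ => capp φ (pt B) k) (Sigma.ι_desc ℓ j)
  exact h1.trans hk

theorem solution_set (G : MVF A) :
    ∃ (ι₀ : Type (u+1)) (Bf : ι₀ → MVF A) (_ : ∀ i, adequate A (Bf i)) (f : ∀ i, Bf i ⟶ G),
      ∀ (F : MVF A) (_ : adequate A F) (a : F ⟶ G), ∃ (i : ι₀) (g : F ⟶ Bf i), g ≫ f i = a := by
  classical
  let Ob := Σ l : Lam A, (Lstd l ⟶ G)
  let C : MVF A := ∐ (fun o : Ob => Lstd o.1)
  have hC : adequate A C := adequate_sigma _ (fun o => adequate_Lstd o.1)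
  let ε' : C ⟶ G := Sigma.desc (fun o : Ob => o.2)
  let Ob' := Σ l : Lam A, (Lstd l ⟶ C)
  let ι₀ := {S : Set Ob' // ∀ s ∈ S, s.2 ≫ ε' = 0}
  let dS : ∀ S : ι₀, (∐ (fun s : ↥S.1 => Lstd s.1.1)) ⟶ C :=
    fun S => Sigma.desc (fun s : ↥S.1 => s.1.2)
  have hdS : ∀ S : ι₀, dS S ≫ ε' = 0 := by
    intro S
    apply Sigma.hom_ext
    intro s
    rw [← Category.assoc, Sigma.ι_desc, comp_zero]
    exact S.2 s.1 s.2
  refine ⟨ι₀, fun S => cokernel (dS S),
    fun S => adequate_cokernel (dS S) (adequate_sigma _ (fun s => adequate_Lstd s.1.1)) hC,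
    fun S => cokernel.desc (dS S) ε' (hdS S), ?_⟩
  intro F hF a
  -- cover F
  let J := Σ B : Alg A, F.obj (pt B)
  choose l ℓ k hk using std_hit F hF
  let π : (∐ (fun j : J => Lstd (l j))) ⟶ F := Sigma.desc ℓ
  haveI : Epi π := sigma_desc_surj _ F ℓ (fun B ξ => ⟨⟨B, ξ⟩, k ⟨B, ξ⟩, hk ⟨B, ξ⟩⟩)
  let m : (∐ (fun j : J => Lstd (l j))) ⟶ C :=
    Sigma.desc (fun j => Sigma.ι (fun o : Ob => Lstd o.1) ⟨l j, ℓ j ≫ a⟩)
  have hm : m ≫ ε' = π ≫ a := by
    apply Sigma.hom_ext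
    intro j
    rw [← Category.assoc, Sigma.ι_desc, Sigma.ι_desc, ← Category.assoc, Sigma.ι_desc]
  have hK : adequate A (kernel π) :=
    adequate_kernel π (adequate_sigma _ (fun j => adequate_Lstd (l j))) hF
  choose l' ℓ' k' hk' using std_hit (kernel π) hK
  let S₀ : Set Ob' := Set.range (fun j' : (Σ B : Alg A, (kernel π).obj (pt B)) =>
    (⟨l' j', ℓ' j' ≫ kernel.ι π ≫ m⟩ : Ob'))
  have hS₀ : ∀ s ∈ S₀, s.2 ≫ ε' = 0 := by
    rintro _ ⟨j', rfl⟩
    show (ℓ' j' ≫ kernel.ι π ≫ m) ≫ ε' = 0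
    rw [Category.assoc, Category.assoc, hm, ← Category.assoc (kernel.ι π), kernel.condition,
      zero_comp, comp_zero]
  let S : ι₀ := ⟨S₀, hS₀⟩
  have key : kernel.ι π ≫ (m ≫ cokernel.π (dS S)) = 0 := by
    apply hom_ext'
    rintro ⟨⟨B⟩⟩ x
    rw [capp_zero]
    have hx : capp (ℓ' ⟨B, x⟩) (pt B) (k' ⟨B, x⟩) = x := hk' ⟨B, x⟩
    let s : ↥S.1 := ⟨⟨l' ⟨B, x⟩, ℓ' ⟨B, x⟩ ≫ kernel.ι π ≫ m⟩, ⟨⟨B, x⟩, rfl⟩⟩
    have h1 : Sigma.ι (fun s : ↥S.1 => Lstd s.1.1) s ≫ dS S =
        ℓ' ⟨B, x⟩ ≫ kernel.ι π ≫ m := Sigma.ι_desc _ s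
    have h2 := congrArg (fun φ => capp φ (pt B) (k' ⟨B, x⟩)) h1
    simp only [capp_comp] at h2
    rw [hx] at h2
    rw [capp_comp, capp_comp, ← h2]
    exact cokerπ_cond (dS S) (pt B) _
  have hcok := Abelian.epiIsCokernelOfKernel (KernelFork.ofι (kernel.ι π) (kernel.condition π))
    (kernelIsKernel π)
  obtain ⟨g, hg⟩ := CokernelCofork.IsColimit.desc' hcok (m ≫ cokernel.π (dS S)) key
  refine ⟨S, g, ?_⟩
  have hg' : π ≫ g = m ≫ cokernel.π (dS S) := hg
  rw [← cancel_epi π, ← Category.assoc, hg', Category.assoc, cokernel.π_desc, hm]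

end Sol

section Adj

instance closedUnderColimits (J : Type (u+1)) [SmallCategory J] :
    (adequate A).IsClosedUnderColimitsOfShape J :=
  .mk' (by
    rintro _ ⟨F, hF⟩
    exact adequate_colimit F hF)

instance hasColimitsAdequate : HasColimitsOfSize.{u+1, u+1} (Adequate A) :=
  ⟨fun J _ => inferInstance⟩

instance preservesColimitsι : PreservesColimitsOfSize.{u+1, u+1} (adequate A).ι :=
  ⟨fun {J} _ => inferInstance⟩

theorem isLeftAdjoint_ι : (adequate A).ι.IsLeftAdjoint := by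
  haveI : PreservesLimitsOfSize.{u+1, u+1} (adequate A).ι.op := preservesLimitsOfSize_op _
  have hsol : SolutionSetCondition.{u+1} (adequate A).ι.op := by
    intro G'
    obtain ⟨ι₀, Bf, hB, f, hf⟩ := solution_set G'.unop
    refine ⟨ι₀, fun i => op ⟨Bf i, hB i⟩, fun i => (f i).op, ?_⟩
    intro X h
    obtain ⟨i, g, hg⟩ := hf X.unop.obj X.unop.property h.unop
    refine ⟨i, (ObjectProperty.homMk g).op, ?_⟩
    apply Quiver.Hom.unop_inj
    exact hg
  haveI : (adequate A).ι.op.IsRightAdjoint :=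
    isRightAdjoint_of_preservesLimits_of_solutionSetCondition _ hsol
  exact ⟨_, ⟨(Adjunction.ofIsRightAdjoint (adequate A).ι.op).unop⟩⟩

instance preservesMonoι : (adequate A).ι.PreservesMonomorphisms where
  preserves {X Y} f hf := by
    apply Preadditive.mono_of_kernel_zero
    have hK : adequate A (kernel ((adequate A).ι.map f)) :=
      adequate_kernel _ X.property Y.property
    let K : Adequate A := ⟨kernel ((adequate A).ι.map f), hK⟩
    let κ : K ⟶ X := ObjectProperty.homMk (kernel.ι ((adequate A).ι.map f))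
    have h0 : κ ≫ f = 0 := by
      apply ObjectProperty.hom_ext
      exact kernel.condition ((adequate A).ι.map f)
    have h1 : κ = 0 := by
      rw [← cancel_mono f, h0, zero_comp]
    have h2 := congrArg (fun φ => (adequate A).ι.map φ) h1
    exact h2

theorem enoughInjectives_adequate : EnoughInjectives (Adequate A) := by
  haveI : (adequate A).ι.IsLeftAdjoint := isLeftAdjoint_ι
  haveI : EnoughInjectives (MVF A) := Groth.Agent.H2.TF.enoughInjectives (A := A)
  exact EnoughInjectives.of_adjunction (Adjunction.ofIsLeftAdjoint (adequate A).ι)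

end Adj

end Groth.Agent.H2.Adq
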