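import Mathlib
import Groth.Agent.H2.AdqCoker

/-! Change of rings for adequate functors. -/

set_option autoImplicit false
set_option linter.style.haveILetI false
universe u v w
open CategoryTheory Limits Opposite TensorProduct

namespace Groth.Agent.H2.Adq

open Adeq Groth.Agent.H2.TF

variable (A A' : Type u) [CommRing A] [CommRing A'] [Algebra A A']

section Unit

lemma unit_nat {B B'' : Alg A} (f : B ⟶ B'') :
    f ≫ Alg.unit A A' B'' =
      Alg.unit A A' B ≫ (Alg.restr A A').map ((Alg.baseChange A A').map f) := by
  apply CommAlgCat.hom_ext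
  exact DFunLike.ext _ _ (fun b => rfl)

/-- the unit `G → push (restr G)` -/
noncomputable def etaG (G : MVF A) : G ⟶ (push A A').obj ((restr A A').obj G) :=
  PresheafOfModules.homMk
    { app X := AddCommGrpCat.ofHom (rmap G (ptHom (Alg.unit A A' X.unop.unop)))
      naturality {X Y} f := by
        ext x
        change rmap G (ptHom (Alg.unit A A' Y.unop.unop)) (rmap G f x) =
          rmap G (ptHom ((Alg.restr A A').map ((Alg.baseChange A A').map f.unop.unop)))
            (rmap G (ptHom (Alg.unit A A' X.unop.unop)) x)
        rw [← rmap_comp, ← rmap_comp]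
        exact rmap_congr G (congrArg ptHom (unit_nat A A' f.unop.unop)) x }
    (by
      intro X r m
      exact rmap_smul G (Alg.unit A A' X.unop.unop) r m)

lemma etaG_apply (G : MVF A) (B : Alg A) (x : G.obj (pt B)) :
    capp (etaG A A' G) (pt B) x = rmap G (ptHom (Alg.unit A A' B)) x := rfl

end Unit

section Restr

/-- the `A`-algebra structure on an `A'`-algebra -/
@[reducible] def algR (B' : Alg A') : Algebra A (B' : Type u) :=
  ((Alg.restr A A').obj B').algebra

lemma towerR (B' : Alg A') : @IsScalarTower A A' (B' : Type u) _ _ (algR A A' B').toSMul :=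
  letI := algR A A' B'
  IsScalarTower.of_algebraMap_eq (fun _ => rfl)

variable (M N : ModuleCat.{u+1} A)

noncomputable def cEquiv (B' : Alg A') :
    letI := algR A A' B'
    (B' : Type u) ⊗[A] M ≃ₗ[(B' : Type u)] (B' : Type u) ⊗[A'] (A' ⊗[A] M) :=
  letI := algR A A' B'
  haveI := towerR A A' B'
  (AlgebraTensorModule.cancelBaseChange A A' (B' : Type u) (B' : Type u) M).symm

lemma cEquiv_tmul (B' : Alg A') (b : (B' : Type u)) (m : M) :
    letI := algR A A' B'
    cEquiv A A' M B' (b ⊗ₜ[A] m) = b ⊗ₜ[A'] ((1 : A') ⊗ₜ[A] m) := by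
  letI := algR A A' B'
  haveI := towerR A A' B'
  exact AlgebraTensorModule.cancelBaseChange_symm_tmul A A' (B' : Type u) b m

noncomputable def cRestr : (restr A A').obj ((underline A).obj M) ⟶
    (underline A').obj (ModuleCat.of A' (A' ⊗[A] M)) :=
  PresheafOfModules.homMk
    { app X := AddCommGrpCat.ofHom (cEquiv A A' M X.unop.unop).toLinearMap.toAddMonoidHom
      naturality {X Y} f := by
        ext x
        letI := algR A A' X.unop.unop
        letI := algR A A' Y.unop.unop
        change cEquiv A A' M Y.unop.unop
          ((((Alg.restr A A').map f.unop.unop).hom.toLinearMap.rTensor M) x) =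
          (f.unop.unop.hom.toLinearMap.rTensor (A' ⊗[A] M)) (cEquiv A A' M X.unop.unop x)
        induction x using TensorProduct.induction_on with
        | zero => simp
        | tmul b m =>
          rw [LinearMap.rTensor_tmul, cEquiv_tmul, cEquiv_tmul, LinearMap.rTensor_tmul]
          rfl
        | add x y hx hy => rw [map_add, map_add, hx, hy, map_add, map_add] }
    (by
      intro X r m
      exact (cEquiv A A' M X.unop.unop).map_smul r m)

lemma cRestr_apply (B' : Alg A')
    (z : ((underline A).obj M).obj (pt ((Alg.restr A A').obj B'))) :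
    capp (cRestr A A' M) (pt B') z = cEquiv A A' M B' z := rfl

variable {M N}

lemma cEquiv_compat (φ : M ⟶ N) (B' : Alg A')
    (z : ((underline A).obj M).obj (pt ((Alg.restr A A').obj B'))) :
    capp ((underline A').map (ModuleCat.ofHom (φ.hom.baseChange A'))) (pt B')
      (cEquiv A A' M B' z) =
    cEquiv A A' N B' (capp ((underline A).map φ) (pt ((Alg.restr A A').obj B')) z) := by
  letI := algR A A' B'
  show (φ.hom.baseChange A').baseChange (B' : Type u) (cEquiv A A' M B' z) =
    cEquiv A A' N B' (φ.hom.baseChange (B' : Type u) z)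
  induction z using TensorProduct.induction_on with
  | zero => simp
  | tmul b m =>
    rw [LinearMap.baseChange_tmul, cEquiv_tmul, cEquiv_tmul, LinearMap.baseChange_tmul,
      LinearMap.baseChange_tmul]
  | add x y hx hy => rw [map_add, map_add, hx, hy, map_add, map_add]

theorem adequate_restr (F : MVF A) (hF : adequate A F) :
    adequate A' ((restr A A').obj F) := by
  obtain ⟨M, N, φ, i, hi0, hi, hiex⟩ := exists_exact_of_adequate F hF
  refine adequate_of_exact (A := A') _ (ModuleCat.of A' (A' ⊗[A] M))
    (ModuleCat.of A' (A' ⊗[A] N)) (ModuleCat.ofHom (φ.hom.baseChange A'))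
    ((restr A A').map i ≫ cRestr A A' M) ?_ ?_ ?_
  · apply hom_ext'
    rintro ⟨⟨B'⟩⟩ x
    rw [capp_comp, capp_comp, capp_zero]
    show capp ((underline A').map (ModuleCat.ofHom (φ.hom.baseChange A'))) (pt B')
      (cEquiv A A' M B' (capp i (pt ((Alg.restr A A').obj B')) x)) = 0
    rw [cEquiv_compat]
    have h1 : capp ((underline A).map φ) (pt ((Alg.restr A A').obj B'))
        (capp i (pt ((Alg.restr A A').obj B')) x) = 0 :=
      congrArg (fun f => capp f (pt ((Alg.restr A A').obj B')) x) hi0
    exact (congrArg (cEquiv A A' N B') h1).trans (map_zero _)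
  · rintro ⟨⟨B'⟩⟩ a b hab
    apply hi (pt ((Alg.restr A A').obj B'))
    exact (cEquiv A A' M B').injective hab
  · rintro ⟨⟨B'⟩⟩ y hy
    obtain ⟨z, rfl⟩ := (cEquiv A A' M B').surjective y
    have h1 : capp ((underline A).map φ) (pt ((Alg.restr A A').obj B')) z = 0 := by
      apply (cEquiv A A' N B').injective
      exact ((cEquiv_compat A A' φ B' z).symm.trans hy).trans (map_zero _).symm
    obtain ⟨x, hx⟩ := hiex (pt ((Alg.restr A A').obj B')) z h1
    refine ⟨x, ?_⟩
    show cEquiv A A' M B' (capp i (pt ((Alg.restr A A').obj B')) x) = _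
    rw [hx]

end Restr

section Push

variable (M' N' : ModuleCat.{u+1} A')

/-- restriction of scalars of an `A'`-module to `A` -/
noncomputable abbrev rsc : ModuleCat.{u+1} A :=
  (ModuleCat.restrictScalars (algebraMap A A')).obj M'

/-- the `A`-module structure on an `A'`-module -/
@[reducible] def modR : Module A (M' : Type (u+1)) := Module.compHom M' (algebraMap A A')

lemma towerM : @IsScalarTower A A' (M' : Type (u+1)) _ _ (modR A A' M').toSMul :=
  letI := modR A A' M'
  IsScalarTower.of_algebraMap_smul (fun _ _ => rfl)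

noncomputable def dEquiv (B : Alg A) :
    letI := modR A A' M'
    (A' ⊗[A] (B : Type u)) ⊗[A'] M' ≃+ (B : Type u) ⊗[A] M' :=
  letI := modR A A' M'
  haveI := towerM A A' M'
  (TensorProduct.comm A' (A' ⊗[A] (B : Type u)) M').toAddEquiv.trans
    ((AlgebraTensorModule.cancelBaseChange A A' A' M' (B : Type u)).toAddEquiv.trans
      (TensorProduct.comm A M' (B : Type u)).toAddEquiv)

lemma dEquiv_tmul (B : Alg A) (a : A') (b : (B : Type u)) (m : M') :
    letI := modR A A' M'
    dEquiv A A' M' B ((a ⊗ₜ[A] b) ⊗ₜ[A'] m) = b ⊗ₜ[A] (a • m) := by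
  letI := modR A A' M'
  haveI := towerM A A' M'
  show (TensorProduct.comm A M' (B : Type u))
    ((AlgebraTensorModule.cancelBaseChange A A' A' M' (B : Type u))
      ((TensorProduct.comm A' (A' ⊗[A] (B : Type u)) M') ((a ⊗ₜ[A] b) ⊗ₜ[A'] m))) = _
  rw [TensorProduct.comm_tmul, AlgebraTensorModule.cancelBaseChange_tmul, TensorProduct.comm_tmul]

lemma dEquiv_nat {B B'' : Alg A} (f : B ⟶ B'') (z : (A' ⊗[A] (B : Type u)) ⊗[A'] M') :
    letI := modR A A' M'
    dEquiv A A' M' B''
      ((((Alg.baseChange A A').map f).hom.toLinearMap.rTensor M') z) =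
      (f.hom.toLinearMap.rTensor M') (dEquiv A A' M' B z) := by
  letI := modR A A' M'
  induction z using TensorProduct.induction_on with
  | zero => simp
  | tmul t m =>
    induction t using TensorProduct.induction_on with
    | zero => simp
    | tmul a b =>
      rw [LinearMap.rTensor_tmul, dEquiv_tmul, LinearMap.rTensor_tmul]
      show dEquiv A A' M' B'' ((a ⊗ₜ[A] f.hom b) ⊗ₜ[A'] m) = _
      rw [dEquiv_tmul]
      rfl
    | add x y hx hy =>
      rw [TensorProduct.add_tmul, map_add, map_add, hx, hy, map_add, map_add]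
  | add x y hx hy => rw [map_add, map_add, hx, hy, map_add, map_add]

lemma dEquiv_smul (B : Alg A) (r : (B : Type u)) (z : (A' ⊗[A] (B : Type u)) ⊗[A'] M') :
    letI := modR A A' M'
    dEquiv A A' M' B (((1 : A') ⊗ₜ[A] r : A' ⊗[A] (B : Type u)) • z) =
      r • dEquiv A A' M' B z := by
  letI := modR A A' M'
  induction z using TensorProduct.induction_on with
  | zero => simp
  | tmul t m =>
    induction t using TensorProduct.induction_on with
    | zero => simp
    | tmul a b =>
      rw [TensorProduct.smul_tmul', smul_eq_mul, Algebra.TensorProduct.tmul_mul_tmul, one_mul,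
        dEquiv_tmul, dEquiv_tmul, TensorProduct.smul_tmul', smul_eq_mul]
    | add x y hx hy =>
      rw [TensorProduct.add_tmul, smul_add, map_add, hx, hy, map_add, smul_add]
  | add x y hx hy => rw [smul_add, map_add, hx, hy, map_add, smul_add]

noncomputable def dPush : (push A A').obj ((underline A').obj M') ⟶
    (underline A).obj (rsc A A' M') :=
  PresheafOfModules.homMk
    { app X := AddCommGrpCat.ofHom (dEquiv A A' M' X.unop.unop).toAddMonoidHom
      naturality {X Y} f := by
        ext x
        exact dEquiv_nat A A' M' f.unop.unop x }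
    (by
      intro X r m
      exact dEquiv_smul A A' M' X.unop.unop r m)

lemma dPush_apply (B : Alg A)
    (z : ((underline A').obj M').obj (pt ((Alg.baseChange A A').obj B))) :
    capp (dPush A A' M') (pt B) z = dEquiv A A' M' B z := rfl

variable {M' N'}

/-- an `A'`-linear map as an `A`-linear map -/
noncomputable def linR (φ : M' ⟶ N') :
    letI := modR A A' M'
    letI := modR A A' N'
    (M' : Type (u+1)) →ₗ[A] (N' : Type (u+1)) :=
  letI := modR A A' M'
  letI := modR A A' N'
  { toFun := φ.hom
    map_add' := fun x y => map_add φ.hom x y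
    map_smul' := fun a m => map_smul φ.hom (algebraMap A A' a) m }

lemma dEquiv_compat (φ : M' ⟶ N') (B : Alg A)
    (z : ((underline A').obj M').obj (pt ((Alg.baseChange A A').obj B))) :
    capp ((underline A).map ((ModuleCat.restrictScalars (algebraMap A A')).map φ)) (pt B)
      (dEquiv A A' M' B z) =
    dEquiv A A' N' B (capp ((underline A').map φ) (pt ((Alg.baseChange A A').obj B)) z) := by
  letI := modR A A' M'
  letI := modR A A' N'
  show ((linR A A' φ).baseChange (B : Type u)) (dEquiv A A' M' B z) =
    dEquiv A A' N' B (φ.hom.baseChange (A' ⊗[A] (B : Type u)) z)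
  induction z using TensorProduct.induction_on with
  | zero => rw [map_zero, map_zero, map_zero, map_zero]
  | tmul t m =>
    induction t using TensorProduct.induction_on with
    | zero => rw [TensorProduct.zero_tmul, map_zero, map_zero, map_zero, map_zero]
    | tmul a b =>
      rw [dEquiv_tmul, LinearMap.baseChange_tmul, LinearMap.baseChange_tmul, dEquiv_tmul]
      congr 1
      exact map_smul φ.hom a m
    | add x y hx hy =>
      rw [TensorProduct.add_tmul, map_add, map_add, hx, hy, map_add, map_add]
  | add x y hx hy => rw [map_add, map_add, hx, hy, map_add, map_add]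

theorem adequate_push (F' : MVF A') (hF' : adequate A' F') :
    adequate A ((push A A').obj F') := by
  obtain ⟨M', N', φ, i, hi0, hi, hiex⟩ := exists_exact_of_adequate F' hF'
  refine adequate_of_exact (A := A) _ (rsc A A' M') (rsc A A' N')
    ((ModuleCat.restrictScalars (algebraMap A A')).map φ)
    ((push A A').map i ≫ dPush A A' M') ?_ ?_ ?_
  · apply hom_ext'
    rintro ⟨⟨B⟩⟩ x
    rw [capp_comp, capp_comp, capp_zero]
    show capp ((underline A).map ((ModuleCat.restrictScalars (algebraMap A A')).map φ)) (pt B)
      (dEquiv A A' M' B (capp i (pt ((Alg.baseChange A A').obj B)) x)) = 0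
    rw [dEquiv_compat]
    have h1 : capp ((underline A').map φ) (pt ((Alg.baseChange A A').obj B))
        (capp i (pt ((Alg.baseChange A A').obj B)) x) = 0 :=
      congrArg (fun f => capp f (pt ((Alg.baseChange A A').obj B)) x) hi0
    exact (congrArg (dEquiv A A' N' B) h1).trans (map_zero _)
  · rintro ⟨⟨B⟩⟩ a b hab
    apply hi (pt ((Alg.baseChange A A').obj B))
    exact (dEquiv A A' M' B).injective hab
  · rintro ⟨⟨B⟩⟩ y hy
    obtain ⟨z, rfl⟩ := (dEquiv A A' M' B).surjective y
    have h1 : capp ((underline A').map φ) (pt ((Alg.baseChange A A').obj B)) z = 0 := by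
      apply (dEquiv A A' N' B).injective
      exact ((dEquiv_compat A A' φ B z).symm.trans hy).trans (map_zero _).symm
    obtain ⟨x, hx⟩ := hiex (pt ((Alg.baseChange A A').obj B)) z h1
    refine ⟨x, ?_⟩
    show dEquiv A A' M' B (capp i (pt ((Alg.baseChange A A').obj B)) x) = _
    rw [hx]

end Push

section Descent

variable {A A'}

lemma capp_sub {F G : MVF A} (φ ψ : F ⟶ G) (X : (Alg A)ᵒᵖᵒᵖ) (x : F.obj X) :
    capp (φ - ψ) X x = capp φ X x - capp ψ X x := rfl

theorem adequate_of_restr (F : MVF A) (h₁ : adequate A' ((restr A A').obj F))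
    (h₂ : ∀ B : Alg A, Function.Injective (F.map (ptHom (Alg.unit A A' B))) ∧
      ∀ y : F.obj (pt ((Alg.restr A A').obj ((Alg.baseChange A A').obj B))),
        F.map (ptHom (Alg.unit A A' ((Alg.restr A A').obj ((Alg.baseChange A A').obj B)))) y =
          F.map (ptHom ((Alg.restr A A').map ((Alg.baseChange A A').map (Alg.unit A A' B)))) y →
        y ∈ Set.range (F.map (ptHom (Alg.unit A A' B)))) : adequate A F := by
  have hP₁ : adequate A ((push A A').obj ((restr A A').obj F)) := adequate_push A A' _ h₁
  have hP₂ : adequate A ((push A A').obj ((restr A A').obj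
      ((push A A').obj ((restr A A').obj F)))) :=
    adequate_push A A' _ (adequate_restr A A' _ hP₁)
  let d : (push A A').obj ((restr A A').obj F) ⟶
      (push A A').obj ((restr A A').obj ((push A A').obj ((restr A A').obj F))) :=
    (push A A').map ((restr A A').map (etaG A A' F)) -
      etaG A A' ((push A A').obj ((restr A A').obj F))
  have hK := adequate_kernel d hP₁ hP₂
  have hd : ∀ (B : Alg A) (y : F.obj (pt ((Alg.restr A A').obj ((Alg.baseChange A A').obj B)))),
      capp d (pt B) y = 0 ↔
        rmap F (ptHom (Alg.unit A A' ((Alg.restr A A').obj ((Alg.baseChange A A').obj B)))) y =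
        rmap F (ptHom ((Alg.restr A A').map ((Alg.baseChange A A').map (Alg.unit A A' B)))) y := by
    intro B y
    show (rmap F (ptHom (Alg.unit A A' ((Alg.restr A A').obj ((Alg.baseChange A A').obj B)))) y -
        rmap F (ptHom ((Alg.restr A A').map ((Alg.baseChange A A').map (Alg.unit A A' B)))) y :
        F.obj (pt ((Alg.restr A A').obj ((Alg.baseChange A A').obj
          ((Alg.restr A A').obj ((Alg.baseChange A A').obj B)))))) = 0 ↔ _
    exact sub_eq_zero
  have hzero : etaG A A' F ≫ d = 0 := by
    apply hom_ext'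
    rintro ⟨⟨B⟩⟩ x
    rw [capp_comp, capp_zero, etaG_apply]
    apply (hd B _).mpr
    rw [← rmap_comp, ← rmap_comp]
    exact rmap_congr F (congrArg ptHom (unit_nat A A' (Alg.unit A A' B))) x
  have hl : kernel.lift d (etaG A A' F) hzero ≫ kernel.ι d = etaG A A' F := kernel.lift_ι _ _ _
  haveI : IsIso (kernel.lift d (etaG A A' F) hzero) := by
    apply isIso_of_bijective
    rintro ⟨⟨B⟩⟩
    constructor
    · intro x y hxy
      apply (h₂ B).1
      have e1 := congrArg (fun φ => capp φ (pt B) x) hl
      have e2 := congrArg (fun φ => capp φ (pt B) y) hl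
      simp only [capp_comp] at e1 e2
      rw [hxy] at e1
      exact (e1.symm.trans e2 : capp (etaG A A' F) (pt B) x = capp (etaG A A' F) (pt B) y)
    · intro k
      have hk := (hd B _).mp (kerι_cond d (pt B) k)
      obtain ⟨x, hx⟩ := (h₂ B).2 (capp (kernel.ι d) (pt B) k) hk
      refine ⟨x, kerι_inj d (pt B) ?_⟩
      have e1 := congrArg (fun φ => capp φ (pt B) x) hl
      simp only [capp_comp] at e1
      rw [e1]
      exact hx
  exact (adequate A).prop_of_iso (asIso (kernel.lift d (etaG A A' F) hzero)).symm hK

end Descent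

end Groth.Agent.H2.Adq
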