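import Mathlib
import Groth.Agent.H2.Adq

/-! Adequate functors commute with filtered colimits. -/

set_option autoImplicit false
universe u v
open CategoryTheory Limits Opposite TensorProduct

namespace Groth.Agent.H2.Adq

open Adeq Groth.Agent.H2.TF

noncomputable section

section AlgColim

/-- the forgetful functor of commutative algebras, through rings under `A` -/
def forgetIso (A : Type u) [CommRing A] : forget (CommAlgCat.{u} A) ≅
    (commAlgCatEquivUnder (CommRingCat.of A)).functor ⋙ Under.forget _ ⋙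
      forget CommRingCat.{u} :=
  NatIso.ofComponents (fun _ => Iso.refl _) (fun _ => rfl)

lemma forget_preserves (A : Type u) [CommRing A] :
    PreservesFilteredColimitsOfSize.{u, u} (forget (CommAlgCat.{u} A)) := by
  have h : PreservesFilteredColimitsOfSize.{u, u}
      ((commAlgCatEquivUnder (CommRingCat.of A)).functor ⋙ Under.forget _ ⋙
        forget CommRingCat.{u}) := inferInstance
  constructor
  intro J _ _
  have := h.preserves_filtered_colimits J
  exact preservesColimitsOfShape_of_natIso (forgetIso A).symm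

variable {A : Type u} [CommRing A]
variable {J : Type u} [SmallCategory J] [IsFiltered J] (D : J ⥤ Alg A) (c : Cocone D)
  (hc : IsColimit c)

include hc

lemma alg_rep (b : (c.pt : Type u)) :
    ∃ (j : J) (x : (D.obj j : Type u)), (c.ι.app j).hom x = b := by
  haveI := forget_preserves A
  obtain ⟨j, x, hx⟩ := Concrete.isColimit_exists_rep D hc b
  exact ⟨j, x, hx⟩

lemma alg_eq {j : J} (x y : (D.obj j : Type u))
    (h : (c.ι.app j).hom x = (c.ι.app j).hom y) :
    ∃ (k : J) (g : j ⟶ k), (D.map g).hom x = (D.map g).hom y := by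
  haveI := forget_preserves A
  obtain ⟨k, f, g, hfg⟩ := (Concrete.isColimit_rep_eq_iff_exists D hc x y).mp h
  refine ⟨IsFiltered.coeq f g, f ≫ IsFiltered.coeqHom f g, ?_⟩
  have h1 : (D.map (f ≫ IsFiltered.coeqHom f g)).hom x =
      (D.map (IsFiltered.coeqHom f g)).hom ((D.map f).hom x) := by
    rw [D.map_comp]; rfl
  have h2 : (D.map (f ≫ IsFiltered.coeqHom f g)).hom y =
      (D.map (IsFiltered.coeqHom f g)).hom ((D.map g).hom y) := by
    rw [IsFiltered.coeq_condition f g, D.map_comp]; rfl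
  rw [h1, h2]
  exact congrArg _ hfg

lemma alg_common {j : J} {Y : Type v} (s : Finset Y) (vv : Y → (D.obj j : Type u))
    (hv : ∀ y ∈ s, (c.ι.app j).hom (vv y) = 0) :
    ∃ (k : J) (g : j ⟶ k), ∀ y ∈ s, (D.map g).hom (vv y) = 0 := by
  classical
  induction s using Finset.induction_on with
  | empty => exact ⟨j, 𝟙 j, fun y hy => absurd hy (Finset.notMem_empty y)⟩
  | insert a s ha ih =>
    obtain ⟨k1, g1, h1⟩ := ih (fun y hy => hv y (Finset.mem_insert_of_mem hy))
    obtain ⟨k2, g2, h2⟩ := alg_eq D c hc (vv a) 0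
      (by rw [hv a (Finset.mem_insert_self a s), map_zero])
    rw [map_zero] at h2
    obtain ⟨k, e1, e2, he⟩ := IsFiltered.span g1 g2
    refine ⟨k, g1 ≫ e1, ?_⟩
    intro y hy
    rcases Finset.mem_insert.mp hy with rfl | hy'
    · rw [he, D.map_comp]
      show (D.map e2).hom ((D.map g2).hom (vv y)) = 0
      rw [h2, map_zero]
    · rw [D.map_comp]
      show (D.map e1).hom ((D.map g1).hom (vv y)) = 0
      rw [h1 y hy', map_zero]

end AlgColim

section Tensor

variable {A : Type u} [CommRing A]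

lemma fsr_nat {P P' : Type*} [AddCommGroup P] [Module A P] [AddCommGroup P'] [Module A P']
    (φ : P →ₗ[A] P') (Y : Type v) [DecidableEq Y] (w : P ⊗[A] (Y →₀ A)) (y : Y) :
    finsuppScalarRight A A P' Y (φ.rTensor (Y →₀ A) w) y =
      φ (finsuppScalarRight A A P Y w y) := by
  induction w using TensorProduct.induction_on with
  | zero => simp
  | tmul b p =>
    rw [LinearMap.rTensor_tmul, finsuppScalarRight_apply_tmul_apply,
      finsuppScalarRight_apply_tmul_apply, map_smul]
  | add a b ha hb =>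
    rw [map_add, map_add, Finsupp.add_apply, ha, hb, map_add, Finsupp.add_apply, map_add]

lemma rl_comm {P P' Q Q' : Type*} [AddCommGroup P] [Module A P] [AddCommGroup P'] [Module A P']
    [AddCommGroup Q] [Module A Q] [AddCommGroup Q'] [Module A Q']
    (φ : P →ₗ[A] P') (T : Q →ₗ[A] Q') (w : P ⊗[A] Q) :
    T.lTensor P' (φ.rTensor Q w) = φ.rTensor Q' (T.lTensor P w) := by
  induction w using TensorProduct.induction_on with
  | zero => simp
  | tmul b q => simp
  | add a b ha hb => simp only [map_add, ha, hb]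

variable {J : Type u} [SmallCategory J] [IsFiltered J] (D : J ⥤ Alg A) (c : Cocone D)
  (hc : IsColimit c)
variable (M : Type v) [AddCommGroup M] [Module A M]

/-- transition maps on tensors -/
abbrev tD {j k : J} (g : j ⟶ k) : (D.obj j : Type u) ⊗[A] M →ₗ[A] (D.obj k : Type u) ⊗[A] M :=
  (D.map g).hom.toLinearMap.rTensor M

/-- cocone maps on tensors -/
abbrev tι (j : J) : (D.obj j : Type u) ⊗[A] M →ₗ[A] (c.pt : Type u) ⊗[A] M :=
  (c.ι.app j).hom.toLinearMap.rTensor M

lemma tι_tD {j k : J} (g : j ⟶ k) (w : (D.obj j : Type u) ⊗[A] M) :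
    tι D c M k (tD D M g w) = tι D c M j w := by
  have h : (c.ι.app k).hom.toLinearMap ∘ₗ (D.map g).hom.toLinearMap =
      (c.ι.app j).hom.toLinearMap := by
    apply LinearMap.ext; intro x
    exact congrArg (fun φ => φ.hom x) (c.w g)
  show ((c.ι.app k).hom.toLinearMap.rTensor M) (((D.map g).hom.toLinearMap.rTensor M) w) = _
  rw [← LinearMap.comp_apply, ← LinearMap.rTensor_comp, h]

lemma tD_comp {j k l : J} (g : j ⟶ k) (h : k ⟶ l) (w : (D.obj j : Type u) ⊗[A] M) :
    tD D M (g ≫ h) w = tD D M h (tD D M g w) := by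
  have e : (D.map (g ≫ h)).hom.toLinearMap =
      (D.map h).hom.toLinearMap ∘ₗ (D.map g).hom.toLinearMap := by
    rw [D.map_comp]; rfl
  show ((D.map (g ≫ h)).hom.toLinearMap.rTensor M) w = _
  rw [e, LinearMap.rTensor_comp]; rfl

include hc

lemma tens_rep (z : (c.pt : Type u) ⊗[A] M) :
    ∃ (j : J) (w : (D.obj j : Type u) ⊗[A] M), tι D c M j w = z := by
  induction z using TensorProduct.induction_on with
  | zero => exact ⟨IsFiltered.nonempty.some, 0, map_zero _⟩
  | tmul b m =>
    obtain ⟨j, x, hx⟩ := alg_rep D c hc b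
    refine ⟨j, x ⊗ₜ m, ?_⟩
    show ((c.ι.app j).hom.toLinearMap.rTensor M) (x ⊗ₜ m) = _
    rw [LinearMap.rTensor_tmul]
    exact congrArg (· ⊗ₜ[A] m) hx
  | add z1 z2 h1 h2 =>
    obtain ⟨j1, w1, rfl⟩ := h1
    obtain ⟨j2, w2, rfl⟩ := h2
    refine ⟨IsFiltered.max j1 j2, tD D M (IsFiltered.leftToMax j1 j2) w1 +
      tD D M (IsFiltered.rightToMax j1 j2) w2, ?_⟩
    rw [map_add, tι_tD, tι_tD]

lemma tens_eq_free (Y : Type v) {j : J} (w : (D.obj j : Type u) ⊗[A] (Y →₀ A))
    (h : tι D c (Y →₀ A) j w = 0) :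
    ∃ (k : J) (g : j ⟶ k), tD D (Y →₀ A) g w = 0 := by
  classical
  let vv := finsuppScalarRight A A (D.obj j : Type u) Y w
  have h0 : ∀ y ∈ vv.support, (c.ι.app j).hom (vv y) = 0 := by
    intro y _
    have h1 := fsr_nat (c.ι.app j).hom.toLinearMap Y w y
    have h2 : ((c.ι.app j).hom.toLinearMap.rTensor (Y →₀ A)) w = 0 := h
    rw [h2, map_zero, Finsupp.zero_apply] at h1
    exact h1.symm
  obtain ⟨k, g, hg⟩ := alg_common D c hc vv.support vv h0
  refine ⟨k, g, ?_⟩
  apply (finsuppScalarRight A A (D.obj k : Type u) Y).injective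
  rw [map_zero]
  ext y
  rw [Finsupp.zero_apply]
  have h1 := fsr_nat (D.map g).hom.toLinearMap Y w y
  refine h1.trans ?_
  by_cases hy : y ∈ vv.support
  · exact hg y hy
  · have h3 : vv y = 0 := Finsupp.notMem_support_iff.mp hy
    show (D.map g).hom.toLinearMap (vv y) = 0
    rw [h3, map_zero]

lemma tens_eq {j : J} (w : (D.obj j : Type u) ⊗[A] M) (h : tι D c M j w = 0) :
    ∃ (k : J) (g : j ⟶ k), tD D M g w = 0 := by
  classical
  let p : (M →₀ A) →ₗ[A] M := Finsupp.linearCombination A (id : M → M)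
  have hp : Function.Surjective p := Finsupp.linearCombination_id_surjective A M
  let K := LinearMap.ker p
  let q : (K →₀ A) →ₗ[A] K := Finsupp.linearCombination A (id : K → K)
  have hq : Function.Surjective q := Finsupp.linearCombination_id_surjective A K
  let T : (K →₀ A) →ₗ[A] (M →₀ A) := K.subtype ∘ₗ q
  have hpT : ∀ y, p (T y) = 0 := fun y => (q y).2
  have hex : Function.Exact T p := by
    intro x
    constructor
    · intro hx
      obtain ⟨y, hy⟩ := hq ⟨x, hx⟩
      refine ⟨y, ?_⟩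
      show K.subtype (q y) = x
      rw [hy]; rfl
    · rintro ⟨y, rfl⟩
      exact hpT y
  obtain ⟨wt, hwt⟩ := LinearMap.lTensor_surjective (D.obj j : Type u) hp w
  have hexC := lTensor_exact (c.pt : Type u) hex hp
  have h1 : p.lTensor (c.pt : Type u) (tι D c (M →₀ A) j wt) = 0 := by
    show p.lTensor _ ((c.ι.app j).hom.toLinearMap.rTensor _ wt) = 0
    rw [rl_comm, hwt]; exact h
  obtain ⟨vC, hvC⟩ := (hexC _).mp h1
  obtain ⟨j', v', hv'⟩ := tens_rep D c hc (K →₀ A) vC
  let k := IsFiltered.max j j'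
  let g : j ⟶ k := IsFiltered.leftToMax j j'
  let g' : j' ⟶ k := IsFiltered.rightToMax j j'
  let uu := tD D (M →₀ A) g wt - T.lTensor (D.obj k : Type u) (tD D (K →₀ A) g' v')
  have hu : tι D c (M →₀ A) k uu = 0 := by
    show tι D c (M →₀ A) k (_ - _) = 0
    rw [map_sub, tι_tD]
    have e0 : tι D c (M →₀ A) k (T.lTensor (D.obj k : Type u) (tD D (K →₀ A) g' v')) =
        T.lTensor (c.pt : Type u) (tι D c (K →₀ A) k (tD D (K →₀ A) g' v')) :=
      (rl_comm _ _ _).symm
    rw [e0, tι_tD, hv', hvC, sub_self]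
  obtain ⟨k', hh, hk'⟩ := tens_eq_free D c hc M uu hu
  refine ⟨k', g ≫ hh, ?_⟩
  rw [← hwt]
  have e1 : tD D M (g ≫ hh) (p.lTensor (D.obj j : Type u) wt) =
      p.lTensor (D.obj k' : Type u) (tD D (M →₀ A) (g ≫ hh) wt) := (rl_comm _ _ _).symm
  rw [e1, tD_comp]
  have e2 : tD D (M →₀ A) g wt =
      uu + T.lTensor (D.obj k : Type u) (tD D (K →₀ A) g' v') := by
    show _ = (_ - _) + _
    rw [sub_add_cancel]
  rw [e2, map_add, hk', zero_add]
  have e3 : tD D (M →₀ A) hh (T.lTensor (D.obj k : Type u) (tD D (K →₀ A) g' v')) =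
      T.lTensor (D.obj k' : Type u) (tD D (K →₀ A) hh (tD D (K →₀ A) g' v')) :=
    (rl_comm _ _ _).symm
  rw [e3, ← LinearMap.comp_apply, ← LinearMap.lTensor_comp]
  have e4 : p ∘ₗ T = 0 := by
    apply LinearMap.ext; intro y; exact hpT y
  rw [e4, LinearMap.lTensor_zero, LinearMap.zero_apply]

end Tensor

section Main

variable {A : Type u} [CommRing A]

theorem filtered_colimit (F : MVF A) (hF : adequate A F) {J : Type u} [SmallCategory J]
    [IsFiltered J] (D : J ⥤ Alg A) (c : Cocone D) (hc : IsColimit c) :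
    Nonempty (IsColimit (F.toAb.mapCocone c)) := by
  obtain ⟨M, N, φ, i, hi0, hi, hiex⟩ := exists_exact_of_adequate F hF
  have hiN : ∀ {B B' : Alg A} (f : B ⟶ B') (x : F.obj (pt B)),
      capp i (pt B') (rmap F (ptHom f) x) =
        f.hom.toLinearMap.rTensor M (capp i (pt B) x) := by
    intro B B' f x
    rw [capp_nat, underline_rmap]
  have hφN : ∀ {B B' : Alg A} (f : B ⟶ B') (z : (B : Type u) ⊗[A] M),
      capp ((underline A).map φ) (pt B') (f.hom.toLinearMap.rTensor M z) =
        f.hom.toLinearMap.rTensor N (capp ((underline A).map φ) (pt B) z) := by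
    intro B B' f z
    have h := capp_nat ((underline A).map φ) (ptHom f) z
    rw [underline_rmap, underline_rmap] at h
    exact h
  have hz : ∀ (B : Alg A) (x : F.obj (pt B)),
      capp ((underline A).map φ) (pt B) (capp i (pt B) x) = 0 :=
    fun B x => congrArg (fun k => capp k (pt B) x) hi0
  have hS : ∀ y : F.obj (pt c.pt), ∃ (j : J) (x : F.obj (pt (D.obj j))),
      rmap F (ptHom (c.ι.app j)) x = y := by
    intro y
    obtain ⟨j, w, hw⟩ := tens_rep D c hc M (capp i (pt c.pt) y)
    have hw' : (c.ι.app j).hom.toLinearMap.rTensor M w = capp i (pt c.pt) y := hw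
    have h1 : tι D c N j (capp ((underline A).map φ) (pt (D.obj j)) w) = 0 := by
      show (c.ι.app j).hom.toLinearMap.rTensor N _ = 0
      rw [← hφN, hw']
      exact hz c.pt y
    obtain ⟨k, g, hg⟩ := tens_eq D c hc N _ h1
    have h2 : capp ((underline A).map φ) (pt (D.obj k)) (tD D M g w) = 0 := by
      show capp ((underline A).map φ) (pt (D.obj k))
        ((D.map g).hom.toLinearMap.rTensor M w) = 0
      rw [hφN]; exact hg
    obtain ⟨x, hx⟩ := hiex (pt (D.obj k)) _ h2
    refine ⟨k, x, hi (pt c.pt) ?_⟩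
    rw [hiN, hx]
    exact (tι_tD D c M g w).trans hw
  have hI : ∀ (j : J) (x : F.obj (pt (D.obj j))), rmap F (ptHom (c.ι.app j)) x = 0 →
      ∃ (k : J) (g : j ⟶ k), rmap F (ptHom (D.map g)) x = 0 := by
    intro j x hx
    have h1 : tι D c M j (capp i (pt (D.obj j)) x) = 0 := by
      show (c.ι.app j).hom.toLinearMap.rTensor M _ = 0
      rw [← hiN, hx]
      exact map_zero _
    obtain ⟨k, g, hg⟩ := tens_eq D c hc M _ h1
    refine ⟨k, g, hi (pt (D.obj k)) ?_⟩
    rw [hiN, map_zero]; exact hg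
  haveI hpres : PreservesColimitsOfShape J (forget AddCommGrpCat.{u+1}) := by
    have h : PreservesFilteredColimitsOfSize.{u, u} (forget AddCommGrpCat.{u+1}) :=
      preservesFilteredColimitsOfSize_shrink.{u, u+1, u, u+1} _
    exact h.preserves_filtered_colimits J
  haveI : ReflectsColimitsOfShape J (forget AddCommGrpCat.{u+1}) :=
    reflectsColimitsOfShape_of_reflectsIsomorphisms
  refine ⟨isColimitOfReflects (forget AddCommGrpCat.{u+1}) ?_⟩
  refine Types.FilteredColimit.isColimitOf' _ _ ?_ ?_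
  · intro y
    obtain ⟨j, x, hx⟩ := hS y
    exact ⟨j, x, hx.symm⟩
  · intro j x y hxy
    let x' : F.obj (pt (D.obj j)) := x
    let y' : F.obj (pt (D.obj j)) := y
    have hxy' : rmap F (ptHom (c.ι.app j)) x' = rmap F (ptHom (c.ι.app j)) y' := hxy
    have h0 : rmap F (ptHom (c.ι.app j)) (x' - y') = 0 := by
      rw [map_sub]; exact sub_eq_zero.mpr hxy'
    obtain ⟨k, g, hg⟩ := hI j (x' - y') h0
    refine ⟨k, g, ?_⟩
    rw [map_sub] at hg
    exact sub_eq_zero.mp hg

end Main

end

end Groth.Agent.H2.Adq
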