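import Mathlib
import Groth.Agent.H2.Adq

/-! Additive unit-compatible transformations into functors with flat base change are linear. -/

set_option autoImplicit false
set_option linter.style.haveILetI false
universe u
open CategoryTheory Limits Opposite TensorProduct Polynomial

namespace Groth.Agent.H2.Adq

open Adeq Groth.Agent.H2.TF

variable {A : Type u} [CommRing A]

lemma bc_one_tmul (F : MVF A) {B B' : Alg A} (f : B ⟶ B') (x : F.obj (pt B)) :
    (F.bc f).hom ((1 : (B' : Type u)) ⊗ₜ x) = rmap F (ptHom f) x := by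
  have h := ModuleCat.extendRestrictScalarsAdj_homEquiv_apply.{u+1, u, u}
    (f := f.hom.toRingHom) (F.bc f) x
  rw [MVF.bc, Equiv.apply_symm_apply] at h
  exact h.symm

section Pol

variable (B : Type u) [CommRing B] (b : B)

/-- the polynomial `X² + bX - 1` -/
noncomputable def pol : B[X] := X ^ 2 + (C b * X - 1)

lemma pol_monic : (pol B b).Monic := by
  apply Polynomial.monic_X_pow_add
  refine lt_of_le_of_lt (b := (1 : WithBot ℕ)) ?_ (by norm_num)
  compute_degree

lemma root_mul : AdjoinRoot.root (pol B b) *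
    (AdjoinRoot.root (pol B b) + algebraMap B (AdjoinRoot (pol B b)) b) = 1 := by
  have h2 : AdjoinRoot.mk (pol B b) (X ^ 2 + (C b * X - 1)) = 0 := AdjoinRoot.mk_self
  rw [map_add, map_pow, map_sub, map_mul, map_one, AdjoinRoot.mk_X, AdjoinRoot.mk_C] at h2
  rw [AdjoinRoot.algebraMap_eq]
  linear_combination h2

lemma pol_natDegree [Nontrivial B] : (pol B b).natDegree = 2 := by
  unfold pol
  rw [natDegree_add_eq_left_of_degree_lt, natDegree_X_pow]
  rw [degree_X_pow]
  refine lt_of_le_of_lt (b := (1 : WithBot ℕ)) ?_ (by norm_num)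
  compute_degree

/-- a `B`-linear retraction of `B → B[X]/(X² + bX - 1)` -/
lemma exists_retraction [Nontrivial B] :
    ∃ ρ : AdjoinRoot (pol B b) →ₗ[B] B, ρ 1 = 1 := by
  let pb := AdjoinRoot.powerBasis' (pol_monic B b)
  have hd : 0 < pb.dim := by
    show 0 < (pol B b).natDegree
    rw [pol_natDegree]; norm_num
  refine ⟨pb.basis.coord ⟨0, hd⟩, ?_⟩
  have h1 : pb.basis ⟨0, hd⟩ = 1 := by rw [PowerBasis.basis_eq_pow, pow_zero]
  rw [← h1, Module.Basis.coord_apply, Module.Basis.repr_self, Finsupp.single_eq_same]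

end Pol

theorem smul_comm_of_units (F G : MVF A)
    (φ : ∀ B : Alg A, F.obj (pt B) → G.obj (pt B))
    (hnat : ∀ ⦃B B' : Alg A⦄ (f : B ⟶ B') (x : F.obj (pt B)),
      φ B' (F.map (ptHom f) x) = G.map (ptHom f) (φ B x))
    (hadd : ∀ (B : Alg A) (x y : F.obj (pt B)), φ B (x + y) = φ B x + φ B y)
    (hunit : ∀ (B : Alg A) (v : (B : Type u)ˣ) (x : F.obj (pt B)),
      φ B ((v : B) • x) = (v : B) • φ B x)
    (hG : ∀ ⦃B B' : Alg A⦄ (f : B ⟶ B'), f.hom.toRingHom.Flat → IsIso (G.bc f))
    (B : Alg A) (b : B) (x : F.obj (pt B)) : φ B (b • x) = b • φ B x := by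
  classical
  rcases subsingleton_or_nontrivial (B : Type u) with hB | hB
  · haveI : Subsingleton (G.obj (pt B)) := Module.subsingleton (B : Type u) _
    exact Subsingleton.elim _ _
  have h0 : ∀ C : Alg A, φ C 0 = 0 := fun C => by
    have h := hadd C 0 0
    rw [add_zero] at h
    exact left_eq_add.mp h
  have hneg : ∀ (C : Alg A) (y : F.obj (pt C)), φ C (-y) = -φ C y := fun C y => by
    have h := hadd C y (-y)
    rw [add_neg_cancel, h0] at h
    exact (neg_eq_of_add_eq_zero_right h.symm).symm
  have hsub : ∀ (C : Alg A) (y z : F.obj (pt C)), φ C (y - z) = φ C y - φ C z := by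
    intro C y z
    rw [sub_eq_add_neg, hadd, hneg, ← sub_eq_add_neg]
  let B' := AdjoinRoot (pol (B : Type u) b)
  let Bc : Alg A := algOf A B'
  let f : B ⟶ Bc := CommAlgCat.ofHom (IsScalarTower.toAlgHom A (B : Type u) B')
  have hflat : f.hom.toRingHom.Flat := by
    haveI : Module.Free (B : Type u) B' :=
      Module.Free.of_basis (AdjoinRoot.powerBasis' (pol_monic (B : Type u) b)).basis
    show (algebraMap (B : Type u) B').Flat
    exact RingHom.flat_algebraMap_iff.mpr inferInstance
  haveI := hG f hflat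
  have hr := root_mul (B : Type u) b
  let r : B' := AdjoinRoot.root (pol (B : Type u) b)
  let b' : B' := algebraMap (B : Type u) B' b
  let v1 : (Bc : Type u)ˣ := ⟨r, r + b', hr, by rw [mul_comm]; exact hr⟩
  let v2 : (Bc : Type u)ˣ := ⟨r + b', r, by rw [mul_comm]; exact hr, hr⟩
  have hb' : (b' : (Bc : Type u)) = (v2 : (Bc : Type u)) - (v1 : (Bc : Type u)) := by
    show b' = (r + b') - r
    ring
  have key1 : ∀ y : F.obj (pt Bc), φ Bc ((b' : (Bc : Type u)) • y) =
      (b' : (Bc : Type u)) • φ Bc y := by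
    intro y
    rw [hb', sub_smul, hsub, hunit Bc v2, hunit Bc v1, ← sub_smul]
  have hnat' : ∀ ⦃C C' : Alg A⦄ (g : C ⟶ C') (y : F.obj (pt C)),
      φ C' (rmap F (ptHom g) y) = rmap G (ptHom g) (φ C y) := fun C C' g y => hnat g y
  have key2 : rmap F (ptHom f) (b • x) = (b' : (Bc : Type u)) • rmap F (ptHom f) x :=
    rmap_smul F f b x
  have key3 : rmap G (ptHom f) (b • φ B x) = (b' : (Bc : Type u)) • rmap G (ptHom f) (φ B x) :=
    rmap_smul G f b (φ B x)
  have hinj : Function.Injective (rmap G (ptHom f)) := by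
    obtain ⟨ρ, hρ⟩ := exists_retraction (B : Type u) b
    let Sr := (ModuleCat.restrictScalars f.hom.toRingHom).obj (ModuleCat.of B' B')
    let ρ' : Sr →ₗ[(B : Type u)] (B : Type u) :=
      { toFun := fun s => ρ s
        map_add' := fun s t => ρ.map_add s t
        map_smul' := fun c s => by
          have e : algebraMap (B : Type u) B' c * (show B' from s) = c • (show B' from s) :=
            (Algebra.smul_def c (show B' from s)).symm
          exact (congrArg ρ e).trans (ρ.map_smul c (show B' from s)) }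
    have hbij : Function.Injective (G.bc f).hom := by
      have := (ConcreteCategory.isIso_iff_bijective (G.bc f)).mp inferInstance
      exact this.1
    intro y z hyz
    have h1 : (G.bc f).hom ((1 : (Bc : Type u)) ⊗ₜ y) =
        (G.bc f).hom ((1 : (Bc : Type u)) ⊗ₜ z) := by
      rw [bc_one_tmul, bc_one_tmul]; exact hyz
    have h2 := hbij h1
    have h3 := congrArg (fun w => TensorProduct.lid (B : Type u) (G.obj (pt B))
      (ρ'.rTensor (G.obj (pt B)) w)) h2
    simp only [LinearMap.rTensor_tmul, TensorProduct.lid_tmul] at h3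
    have h4 : ρ' (1 : B') = 1 := hρ
    rw [h4, one_smul, one_smul] at h3
    exact h3
  apply hinj
  rw [← hnat' f (b • x), key2, key1, hnat' f x, ← key3]

end Groth.Agent.H2.Adq
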