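import Mathlib
import Groth.Agent.H2.AdqLin

/-! Flat base change for adequate functors. -/

set_option autoImplicit false
universe u
open CategoryTheory Limits Opposite TensorProduct

namespace Groth.Agent.H2.Adq

open Adeq Groth.Agent.H2.TF

variable {A : Type u} [CommRing A]

section BC

variable {B B' : Alg A} (f : B ⟶ B')

/-- `B'` as a `B`-module via `f`. -/
noncomputable abbrev Sr : ModuleCat (B : Type u) :=
  (ModuleCat.restrictScalars f.hom.toRingHom).obj (ModuleCat.of (B' : Type u) (B' : Type u))

/-- the base change map as an additive map on the explicit tensor product -/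
noncomputable def bcAdd (G : MVF A) : (Sr f) ⊗[(B : Type u)] G.obj (pt B) →+ G.obj (pt B') :=
  AddMonoidHom.mk' (fun t => (G.bc f).hom t) (fun a b => map_add (G.bc f).hom a b)

lemma bcAdd_tmul (G : MVF A) (s : (B' : Type u)) (x : G.obj (pt B)) :
    bcAdd f G ((s : Sr f) ⊗ₜ[(B : Type u)] x) = s • rmap G (ptHom f) x := by
  have h := (G.bc f).hom.map_smul s ((1 : (B' : Type u)) ⊗ₜ x)
  rw [bc_one_tmul] at h
  rw [← h]
  show (G.bc f).hom _ = (G.bc f).hom _
  refine congrArg (G.bc f).hom ?_
  exact ((ModuleCat.ExtendScalars.smul_tmul (f := f.hom.toRingHom) s 1 x).trans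
    (by rw [mul_one]; rfl)).symm

lemma bc_nat {F G : MVF A} (i : F ⟶ G) (t : (Sr f) ⊗[(B : Type u)] F.obj (pt B)) :
    capp i (pt B') (bcAdd f F t) =
      bcAdd f G ((i.app (pt B)).hom.lTensor (Sr f) t) := by
  induction t using TensorProduct.induction_on with
  | zero => rw [map_zero, map_zero, map_zero, map_zero]
  | tmul s x =>
    rw [LinearMap.lTensor_tmul, bcAdd_tmul, bcAdd_tmul, capp_smul, capp_nat]
    rfl
  | add a b ha hb => rw [map_add, map_add, map_add, map_add, ha, hb]

end BC

section UnderlineBC

variable {B B' : Alg A} (f : B ⟶ B') (M : ModuleCat.{u+1} A)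

lemma bcAdd_underline_bijective : Function.Bijective (bcAdd f ((underline A).obj M)) := by
  letI mA : Module A (Sr f) := inferInstanceAs (Module A (B' : Type u))
  haveI tower : IsScalarTower A (B : Type u) (Sr f) := by
    apply IsScalarTower.of_algebraMap_smul
    intro a x
    show f.hom (algebraMap A (B : Type u) a) * (show (B' : Type u) from x) =
      a • (show (B' : Type u) from x)
    rw [AlgHom.commutes, Algebra.smul_def]
  let e := TensorProduct.AlgebraTensorModule.cancelBaseChange A (B : Type u) (B : Type u)
    (Sr f) M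
  have he : ∀ t : (Sr f) ⊗[(B : Type u)] ((B : Type u) ⊗[A] M),
      bcAdd f ((underline A).obj M) t = e t := by
    intro t
    induction t using TensorProduct.induction_on with
    | zero => exact (map_zero (bcAdd f ((underline A).obj M))).trans (map_zero e).symm
    | add a b ha hb =>
      exact (map_add (bcAdd f ((underline A).obj M)) a b).trans
        ((congrArg₂ (· + ·) ha hb).trans (map_add e a b).symm)
    | tmul s w =>
      induction w using TensorProduct.induction_on with
      | zero =>
        have h0 : (s ⊗ₜ[(B : Type u)] (0 : (B : Type u) ⊗[A] M)) = 0 := tmul_zero _ s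
        rw [h0]
        exact (map_zero (bcAdd f ((underline A).obj M))).trans (map_zero e).symm
      | add a b ha hb =>
        have h0 : (s ⊗ₜ[(B : Type u)] (a + b)) = s ⊗ₜ[(B : Type u)] a + s ⊗ₜ[(B : Type u)] b :=
          tmul_add s a b
        rw [h0]
        exact (map_add (bcAdd f ((underline A).obj M)) _ _).trans
          ((congrArg₂ (· + ·) ha hb).trans (map_add e _ _).symm)
      | tmul r m =>
        rw [TensorProduct.AlgebraTensorModule.cancelBaseChange_tmul]
        refine (bcAdd_tmul f ((underline A).obj M) s (r ⊗ₜ[A] m)).trans ?_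
        rw [underline_rmap, LinearMap.rTensor_tmul]
        have h1 : (r • s : Sr f) = (show (B' : Type u) from s) * f.hom r := by
          show f.hom r * (show (B' : Type u) from s) = _
          exact mul_comm _ _
        rw [h1]
        exact TensorProduct.smul_tmul' _ _ _
  constructor
  · intro a b hab
    apply e.injective
    exact (he a).symm.trans (hab.trans (he b))
  · intro y
    obtain ⟨t, ht⟩ := e.surjective y
    exact ⟨t, (he t).trans ht⟩

end UnderlineBC

section Main

theorem isIso_bc_of_adequate_flat (F : MVF A) (hF : adequate A F) {B B' : Alg A} (f : B ⟶ B')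
    (hf : f.hom.toRingHom.Flat) : IsIso (F.bc f) := by
  obtain ⟨M, N, φ, i, hi0, hi, hiex⟩ := exists_exact_of_adequate F hF
  haveI hflat : Module.Flat (B : Type u) (Sr f) := hf
  let iB : F.obj (pt B) →ₗ[(B : Type u)] ((underline A).obj M).obj (pt B) := (i.app (pt B)).hom
  let φB : ((underline A).obj M).obj (pt B) →ₗ[(B : Type u)] ((underline A).obj N).obj (pt B) :=
    (((underline A).map φ).app (pt B)).hom
  have hiB : Function.Injective iB := hi (pt B)
  have hex : Function.Exact iB φB := by
    intro y
    constructor
    · intro hy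
      obtain ⟨x, hx⟩ := hiex (pt B) y hy
      exact ⟨x, hx⟩
    · rintro ⟨x, rfl⟩
      exact congrArg (fun k => capp k (pt B) x) hi0
  have hinjT : Function.Injective (iB.lTensor (Sr f)) :=
    Module.Flat.lTensor_preserves_injective_linearMap iB hiB
  have hexT : Function.Exact (iB.lTensor (Sr f)) (φB.lTensor (Sr f)) :=
    Module.Flat.lTensor_exact (Sr f) hex
  have hbM := bcAdd_underline_bijective f M
  have hbN := bcAdd_underline_bijective f N
  have hbij : Function.Bijective (bcAdd f F) := by
    constructor
    · rw [injective_iff_map_eq_zero]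
      intro t ht
      have h1 := bc_nat f i t
      rw [ht, map_zero] at h1
      have h2 : iB.lTensor (Sr f) t = 0 := hbM.1 (by rw [← h1, map_zero])
      exact hinjT (by rw [h2, map_zero])
    · intro y
      obtain ⟨w, hw⟩ := hbM.2 (capp i (pt B') y)
      have h1 : bcAdd f ((underline A).obj N) (φB.lTensor (Sr f) w) = 0 := by
        rw [← bc_nat f ((underline A).map φ) w, hw]
        exact congrArg (fun k => capp k (pt B') y) hi0
      have h2 : φB.lTensor (Sr f) w = 0 := hbN.1 (by rw [h1, map_zero])
      obtain ⟨t, ht⟩ := (hexT w).mp h2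
      refine ⟨t, hi (pt B') ?_⟩
      rw [bc_nat, ht, hw]
  apply (ConcreteCategory.isIso_iff_bijective (F.bc f)).mpr
  exact hbij

end Main

end Groth.Agent.H2.Adq
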