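import Mathlib
import Groth.Agent.H2.AdqCoker

/-! Lifting maps from linearly adequate functors along extensions by `underline M`. -/

set_option autoImplicit false
universe u
open CategoryTheory Limits Opposite TensorProduct

namespace Groth.Agent.H2.Adq

open Adeq Groth.Agent.H2.TF

section DualAlg

variable {A : Type u} [CommRing A]

/-- dual numbers over `C` -/
noncomputable abbrev De (C : Alg A) : Alg A := algOf A (DualNumber (C : Type u))

/-- two-variable square-zero extension -/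
noncomputable abbrev D2 (C : Alg A) : Alg A :=
  algOf A (TrivSqZeroExt (C : Type u) (Prod (C : Type u) (C : Type u)))

noncomputable def epsC (C : Alg A) : (De C : Type u) :=
  (DualNumber.eps : DualNumber (C : Type u))

noncomputable def iC (C : Alg A) : C ⟶ De C :=
  CommAlgCat.ofHom (IsScalarTower.toAlgHom A (C : Type u) (DualNumber (C : Type u)))

noncomputable def pC (C : Alg A) : De C ⟶ C :=
  CommAlgCat.ofHom (TrivSqZeroExt.fstHom A (C : Type u) (C : Type u))

noncomputable def p2 (C : Alg A) : D2 C ⟶ C :=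
  CommAlgCat.ofHom (TrivSqZeroExt.fstHom A (C : Type u) (Prod (C : Type u) (C : Type u)))

noncomputable def pr1 (C : Alg A) : D2 C ⟶ De C :=
  CommAlgCat.ofHom ((TrivSqZeroExt.map
    (LinearMap.fst (C : Type u) (C : Type u) (C : Type u))).restrictScalars A)

noncomputable def pr2 (C : Alg A) : D2 C ⟶ De C :=
  CommAlgCat.ofHom ((TrivSqZeroExt.map
    (LinearMap.snd (C : Type u) (C : Type u) (C : Type u))).restrictScalars A)

noncomputable def sg (C : Alg A) : D2 C ⟶ De C :=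
  CommAlgCat.ofHom ((TrivSqZeroExt.map
    (LinearMap.fst (C : Type u) (C : Type u) (C : Type u) +
      LinearMap.snd (C : Type u) (C : Type u) (C : Type u))).restrictScalars A)

noncomputable def j1 (C : Alg A) : De C ⟶ D2 C :=
  CommAlgCat.ofHom ((TrivSqZeroExt.map
    (LinearMap.inl (C : Type u) (C : Type u) (C : Type u))).restrictScalars A)

noncomputable def j2 (C : Alg A) : De C ⟶ D2 C :=
  CommAlgCat.ofHom ((TrivSqZeroExt.map
    (LinearMap.inr (C : Type u) (C : Type u) (C : Type u))).restrictScalars A)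

noncomputable def mb (C : Alg A) (b : (C : Type u)) : De C ⟶ De C :=
  CommAlgCat.ofHom ((TrivSqZeroExt.map
    (b • (LinearMap.id : (C : Type u) →ₗ[(C : Type u)] (C : Type u)))).restrictScalars A)

noncomputable def DehAlg {C C' : Alg A} (h : C ⟶ C') :
    DualNumber (C : Type u) →ₐ[A] DualNumber (C' : Type u) :=
  TrivSqZeroExt.lift
    ((IsScalarTower.toAlgHom A (C' : Type u) (DualNumber (C' : Type u))).comp h.hom)
    (((TrivSqZeroExt.inrHom (C' : Type u) (C' : Type u)).restrictScalars A) ∘ₗ h.hom.toLinearMap)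
    (fun x y => TrivSqZeroExt.inr_mul_inr _ _ _)
    (fun r x => by
      show TrivSqZeroExt.inr (h.hom (r • x)) =
        algebraMap (C' : Type u) (DualNumber (C' : Type u)) (h.hom r) * TrivSqZeroExt.inr (h.hom x)
      rw [TrivSqZeroExt.algebraMap_eq_inl, TrivSqZeroExt.inl_mul_inr, smul_eq_mul, map_mul,
        smul_eq_mul])
    (fun r x => by
      show TrivSqZeroExt.inr (h.hom (MulOpposite.op r • x)) =
        TrivSqZeroExt.inr (h.hom x) * algebraMap (C' : Type u) (DualNumber (C' : Type u)) (h.hom r)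
      rw [TrivSqZeroExt.algebraMap_eq_inl, TrivSqZeroExt.inr_mul_inl, op_smul_eq_smul, smul_eq_mul,
        map_mul, op_smul_eq_smul, smul_eq_mul, mul_comm])

lemma DehAlg_inl {C C' : Alg A} (h : C ⟶ C') (c : (C : Type u)) :
    DehAlg h (TrivSqZeroExt.inl c) = TrivSqZeroExt.inl (h.hom c) := by
  rw [DehAlg, TrivSqZeroExt.lift_apply_inl]
  show algebraMap (C' : Type u) (DualNumber (C' : Type u)) (h.hom c) = _
  rw [TrivSqZeroExt.algebraMap_eq_inl]

lemma DehAlg_inr {C C' : Alg A} (h : C ⟶ C') (c : (C : Type u)) :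
    DehAlg h (TrivSqZeroExt.inr c) = TrivSqZeroExt.inr (h.hom c) := by
  rw [DehAlg, TrivSqZeroExt.lift_apply_inr]
  rfl

noncomputable def Deh {C C' : Alg A} (h : C ⟶ C') : De C ⟶ De C' :=
  CommAlgCat.ofHom (DehAlg h)

/-- the structure map `A → C` -/
noncomputable def sC (C : Alg A) : algOf A A ⟶ C :=
  CommAlgCat.ofHom (Algebra.ofId A (C : Type u))

lemma iC_pC (C : Alg A) : iC C ≫ pC C = 𝟙 C := by
  apply CommAlgCat.hom_ext
  refine AlgHom.ext fun x => ?_
  show TrivSqZeroExt.fst (algebraMap (C : Type u) (DualNumber (C : Type u)) x) = x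
  rw [TrivSqZeroExt.algebraMap_eq_inl, TrivSqZeroExt.fst_inl]

lemma pr1_pC (C : Alg A) : pr1 C ≫ pC C = p2 C := by
  apply CommAlgCat.hom_ext
  refine AlgHom.ext fun x => ?_
  show TrivSqZeroExt.fst (TrivSqZeroExt.map _ x) = TrivSqZeroExt.fst x
  rw [TrivSqZeroExt.fst_map]

lemma pr2_pC (C : Alg A) : pr2 C ≫ pC C = p2 C := by
  apply CommAlgCat.hom_ext
  refine AlgHom.ext fun x => ?_
  show TrivSqZeroExt.fst (TrivSqZeroExt.map _ x) = TrivSqZeroExt.fst x
  rw [TrivSqZeroExt.fst_map]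

lemma j1_p2 (C : Alg A) : j1 C ≫ p2 C = pC C := by
  apply CommAlgCat.hom_ext
  refine AlgHom.ext fun x => ?_
  show TrivSqZeroExt.fst (TrivSqZeroExt.map _ x) = TrivSqZeroExt.fst x
  rw [TrivSqZeroExt.fst_map]

lemma j2_p2 (C : Alg A) : j2 C ≫ p2 C = pC C := by
  apply CommAlgCat.hom_ext
  refine AlgHom.ext fun x => ?_
  show TrivSqZeroExt.fst (TrivSqZeroExt.map _ x) = TrivSqZeroExt.fst x
  rw [TrivSqZeroExt.fst_map]

lemma j1_pr1 (C : Alg A) : j1 C ≫ pr1 C = 𝟙 (De C) := by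
  apply CommAlgCat.hom_ext
  refine AlgHom.ext fun x => ?_
  show TrivSqZeroExt.map (LinearMap.fst _ _ _) (TrivSqZeroExt.map (LinearMap.inl _ _ _) x) = x
  apply TrivSqZeroExt.ext <;> simp

lemma j2_pr2 (C : Alg A) : j2 C ≫ pr2 C = 𝟙 (De C) := by
  apply CommAlgCat.hom_ext
  refine AlgHom.ext fun x => ?_
  show TrivSqZeroExt.map (LinearMap.snd _ _ _) (TrivSqZeroExt.map (LinearMap.inr _ _ _) x) = x
  apply TrivSqZeroExt.ext <;> simp

lemma j1_pr2 (C : Alg A) : j1 C ≫ pr2 C = pC C ≫ iC C := by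
  apply CommAlgCat.hom_ext
  refine AlgHom.ext fun x => ?_
  show TrivSqZeroExt.map (LinearMap.snd _ _ _) (TrivSqZeroExt.map (LinearMap.inl _ _ _) x) =
    algebraMap (C : Type u) (DualNumber (C : Type u)) (TrivSqZeroExt.fst x)
  rw [TrivSqZeroExt.algebraMap_eq_inl]
  apply TrivSqZeroExt.ext <;> simp

lemma j2_pr1 (C : Alg A) : j2 C ≫ pr1 C = pC C ≫ iC C := by
  apply CommAlgCat.hom_ext
  refine AlgHom.ext fun x => ?_
  show TrivSqZeroExt.map (LinearMap.fst _ _ _) (TrivSqZeroExt.map (LinearMap.inr _ _ _) x) =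
    algebraMap (C : Type u) (DualNumber (C : Type u)) (TrivSqZeroExt.fst x)
  rw [TrivSqZeroExt.algebraMap_eq_inl]
  apply TrivSqZeroExt.ext <;> simp

lemma j1_sg (C : Alg A) : j1 C ≫ sg C = 𝟙 (De C) := by
  apply CommAlgCat.hom_ext
  refine AlgHom.ext fun x => ?_
  show TrivSqZeroExt.map (LinearMap.fst _ _ _ + LinearMap.snd _ _ _)
    (TrivSqZeroExt.map (LinearMap.inl _ _ _) x) = x
  apply TrivSqZeroExt.ext <;> simp

lemma j2_sg (C : Alg A) : j2 C ≫ sg C = 𝟙 (De C) := by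
  apply CommAlgCat.hom_ext
  refine AlgHom.ext fun x => ?_
  show TrivSqZeroExt.map (LinearMap.fst _ _ _ + LinearMap.snd _ _ _)
    (TrivSqZeroExt.map (LinearMap.inr _ _ _) x) = x
  apply TrivSqZeroExt.ext <;> simp

lemma iC_mb (C : Alg A) (b : (C : Type u)) : iC C ≫ mb C b = iC C := by
  apply CommAlgCat.hom_ext
  refine AlgHom.ext fun x => ?_
  show TrivSqZeroExt.map _ (algebraMap (C : Type u) (DualNumber (C : Type u)) x) =
    algebraMap (C : Type u) (DualNumber (C : Type u)) x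
  rw [TrivSqZeroExt.algebraMap_eq_inl, TrivSqZeroExt.map_inl]

lemma mb_eps (C : Alg A) (b : (C : Type u)) :
    (mb C b).hom (epsC C) = epsC C * (iC C).hom b := by
  show TrivSqZeroExt.map _ (TrivSqZeroExt.inr (1 : (C : Type u))) =
    (TrivSqZeroExt.inr (1 : (C : Type u)) : DualNumber (C : Type u)) *
      algebraMap (C : Type u) (DualNumber (C : Type u)) b
  rw [TrivSqZeroExt.algebraMap_eq_inl, TrivSqZeroExt.map_inr, TrivSqZeroExt.inr_mul_inl]
  congr 1
  simp

lemma iC_Deh {C C' : Alg A} (h : C ⟶ C') : iC C ≫ Deh h = h ≫ iC C' := by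
  apply CommAlgCat.hom_ext
  refine AlgHom.ext fun x => ?_
  show DehAlg h (algebraMap (C : Type u) (DualNumber (C : Type u)) x) =
    algebraMap (C' : Type u) (DualNumber (C' : Type u)) (h.hom x)
  rw [TrivSqZeroExt.algebraMap_eq_inl, TrivSqZeroExt.algebraMap_eq_inl, DehAlg_inl]

lemma Deh_eps {C C' : Alg A} (h : C ⟶ C') : (Deh h).hom (epsC C) = epsC C' := by
  show DehAlg h (TrivSqZeroExt.inr (1 : (C : Type u))) =
    (TrivSqZeroExt.inr (1 : (C' : Type u)) : DualNumber (C' : Type u))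
  rw [DehAlg_inr, map_one]

lemma pC_eps (C : Alg A) : (pC C).hom (epsC C) = 0 := by
  show TrivSqZeroExt.fst (TrivSqZeroExt.inr (1 : (C : Type u)) : DualNumber (C : Type u)) = 0
  rw [TrivSqZeroExt.fst_inr]

lemma sqzero_pC (C : Alg A) (x y : (De C : Type u)) (hx : (pC C).hom x = 0)
    (hy : (pC C).hom y = 0) : x * y = 0 := by
  have hx' : TrivSqZeroExt.fst (x : DualNumber (C : Type u)) = 0 := hx
  have hy' : TrivSqZeroExt.fst (y : DualNumber (C : Type u)) = 0 := hy
  apply TrivSqZeroExt.ext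
  · rw [TrivSqZeroExt.fst_mul, hx', zero_mul]; rfl
  · rw [TrivSqZeroExt.snd_mul, hx', hy', zero_smul, MulOpposite.op_zero, zero_smul, zero_add]; rfl

lemma sqzero_p2 (C : Alg A) (x y : (D2 C : Type u)) (hx : (p2 C).hom x = 0)
    (hy : (p2 C).hom y = 0) : x * y = 0 := by
  have hx' : TrivSqZeroExt.fst (x : TrivSqZeroExt (C : Type u) (Prod (C : Type u) (C : Type u))) = 0 := hx
  have hy' : TrivSqZeroExt.fst (y : TrivSqZeroExt (C : Type u) (Prod (C : Type u) (C : Type u))) = 0 := hy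
  apply TrivSqZeroExt.ext
  · rw [TrivSqZeroExt.fst_mul, hx', zero_mul]; rfl
  · rw [TrivSqZeroExt.snd_mul, hx', hy', zero_smul, MulOpposite.op_zero, zero_smul, zero_add]; rfl

end DualAlg

section Tau

variable {A : Type u} [CommRing A]

/-- `y ↦ ε • X(inl) y` -/
noncomputable def tau (X : MVF A) (C : Alg A) (y : X.obj (pt C)) : X.obj (pt (De C)) :=
  epsC C • rmap X (ptHom (iC C)) y

lemma tau_add (X : MVF A) (C : Alg A) (y y' : X.obj (pt C)) :
    tau X C (y + y') = tau X C y + tau X C y' := by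
  unfold tau; rw [map_add, smul_add]

lemma tau_zero (X : MVF A) (C : Alg A) : tau X C 0 = 0 := by
  unfold tau; rw [map_zero, smul_zero]

lemma tau_sub (X : MVF A) (C : Alg A) (y y' : X.obj (pt C)) :
    tau X C (y - y') = tau X C y - tau X C y' := by
  unfold tau; rw [map_sub, smul_sub]

lemma pC_tau (X : MVF A) (C : Alg A) (y : X.obj (pt C)) :
    rmap X (ptHom (pC C)) (tau X C y) = 0 := by
  unfold tau
  rw [rmap_smul, pC_eps, zero_smul]

lemma capp_tau {X X' : MVF A} (φ : X ⟶ X') (C : Alg A) (y : X.obj (pt C)) :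
    capp φ (pt (De C)) (tau X C y) = tau X' C (capp φ (pt C) y) := by
  unfold tau
  rw [capp_smul, capp_nat]

lemma Deh_tau (X : MVF A) {C C' : Alg A} (h : C ⟶ C') (y : X.obj (pt C)) :
    rmap X (ptHom (Deh h)) (tau X C y) = tau X C' (rmap X (ptHom h) y) := by
  unfold tau
  rw [rmap_smul, Deh_eps, ← rmap_comp, ← rmap_comp]
  congr 1
  exact rmap_congr X (congrArg ptHom (iC_Deh h)) y

lemma mb_tau (X : MVF A) (C : Alg A) (b : (C : Type u)) (y : X.obj (pt C)) :
    rmap X (ptHom (mb C b)) (tau X C y) = tau X C (b • y) := by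
  unfold tau
  rw [rmap_smul X (mb C b), mb_eps, ← rmap_comp, rmap_smul X (iC C), mul_smul]
  congr 2
  exact rmap_congr X (congrArg ptHom (iC_mb C b)) y

/-- injectivity of `tau` -/
def TauInj (X : MVF A) (C : Alg A) : Prop := ∀ y : X.obj (pt C), tau X C y = 0 → y = 0

/-- joint injectivity of two restriction maps -/
def JointInj (X : MVF A) {D D1 D2' : Alg A} (q1 : D ⟶ D1) (q2 : D ⟶ D2') : Prop :=
  ∀ w : X.obj (pt D), rmap X (ptHom q1) w = 0 → rmap X (ptHom q2) w = 0 → w = 0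

lemma TauInj.of_mono {X X' : MVF A} (i : X ⟶ X') (hi : ∀ Y, Function.Injective (capp i Y))
    {C : Alg A} (h : TauInj X' C) : TauInj X C := by
  intro y hy
  apply hi
  rw [map_zero]
  apply h
  rw [← capp_tau, hy, map_zero]

lemma TauInj.of_exact {X₁ X₂ X₃ : MVF A} (f : X₁ ⟶ X₂) (g : X₂ ⟶ X₃)
    (hf : ∀ Y, Function.Injective (capp f Y))
    (hex : ∀ Y (y : X₂.obj Y), capp g Y y = 0 → ∃ x, capp f Y x = y)
    {C : Alg A} (h1 : TauInj X₁ C) (h3 : TauInj X₃ C) : TauInj X₂ C := by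
  intro y hy
  have hg0 : capp g _ y = 0 := h3 _ (by rw [← capp_tau, hy, map_zero])
  obtain ⟨x, rfl⟩ := hex _ y hg0
  have hx : x = 0 := h1 x (hf _ (by rw [capp_tau, hy, map_zero]))
  rw [hx, map_zero]

lemma JointInj.of_mono {X X' : MVF A} (i : X ⟶ X') (hi : ∀ Y, Function.Injective (capp i Y))
    {D D1 D2' : Alg A} {q1 : D ⟶ D1} {q2 : D ⟶ D2'} (h : JointInj X' q1 q2) :
    JointInj X q1 q2 := by
  intro w h1 h2
  apply hi
  rw [map_zero]
  apply h
  · rw [← capp_nat, h1, map_zero]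
  · rw [← capp_nat, h2, map_zero]

lemma JointInj.of_exact {X₁ X₂ X₃ : MVF A} (f : X₁ ⟶ X₂) (g : X₂ ⟶ X₃)
    (hf : ∀ Y, Function.Injective (capp f Y))
    (hex : ∀ Y (y : X₂.obj Y), capp g Y y = 0 → ∃ x, capp f Y x = y)
    {D D1 D2' : Alg A} {q1 : D ⟶ D1} {q2 : D ⟶ D2'}
    (h1 : JointInj X₁ q1 q2) (h3 : JointInj X₃ q1 q2) : JointInj X₂ q1 q2 := by
  intro w hw1 hw2
  have hg0 : capp g _ w = 0 :=
    h3 _ (by rw [← capp_nat, hw1, map_zero]) (by rw [← capp_nat, hw2, map_zero])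
  obtain ⟨v, rfl⟩ := hex _ w hg0
  have hv : v = 0 :=
    h1 v (hf _ (by rw [capp_nat, hw1, map_zero])) (hf _ (by rw [capp_nat, hw2, map_zero]))
  rw [hv, map_zero]

section UnderlineFacts

variable (N' : ModuleCat.{u+1} A) (C : Alg A)

noncomputable def sndL : (De C : Type u) →ₗ[A] (C : Type u) :=
  (TrivSqZeroExt.sndHom (C : Type u) (C : Type u)).restrictScalars A

noncomputable def inrL : (C : Type u) →ₗ[A] (De C : Type u) :=
  (TrivSqZeroExt.inrHom (C : Type u) (C : Type u)).restrictScalars A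

noncomputable def rho2 : (De C : Type u) →ₗ[A] (D2 C : Type u) :=
  ((TrivSqZeroExt.inrHom (C : Type u) (Prod (C : Type u) (C : Type u))).restrictScalars A) ∘ₗ
    ((LinearMap.inr (C : Type u) (C : Type u) (C : Type u)).restrictScalars A) ∘ₗ sndL C

lemma tau_underline (y : (C : Type u) ⊗[A] N') :
    tau ((underline A).obj N') C y = (inrL C).rTensor N' y := by
  induction y using TensorProduct.induction_on with
  | zero => exact (tau_zero _ _).trans (map_zero _).symm
  | tmul c n =>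
    show (epsC C • ((iC C).hom.toLinearMap.rTensor N' (c ⊗ₜ[A] n)) : (De C : Type u) ⊗[A] N') = _
    rw [LinearMap.rTensor_tmul, TensorProduct.smul_tmul', LinearMap.rTensor_tmul]
    congr 1
    show (TrivSqZeroExt.inr (1 : (C : Type u)) : DualNumber (C : Type u)) *
      algebraMap (C : Type u) (DualNumber (C : Type u)) c = TrivSqZeroExt.inr c
    rw [TrivSqZeroExt.algebraMap_eq_inl, TrivSqZeroExt.inr_mul_inl]
    congr 1
    simp
  | add x y hx hy =>
    exact (tau_add _ _ _ _).trans ((congrArg₂ (· + ·) hx hy).trans (map_add _ _ _).symm)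

lemma tau_underline_inj (y : (C : Type u) ⊗[A] N')
    (h : tau ((underline A).obj N') C y = 0) : y = 0 := by
  have h1 : (sndL C).rTensor N' ((inrL C).rTensor N' y) = y := by
    rw [← LinearMap.comp_apply, ← LinearMap.rTensor_comp]
    have : sndL C ∘ₗ inrL C = LinearMap.id := LinearMap.ext fun c => rfl
    rw [this, LinearMap.rTensor_id, LinearMap.id_apply]
  have h2 := congrArg ((sndL C).rTensor N') ((tau_underline N' C y).symm.trans h)
  rw [h1] at h2
  exact h2.trans (map_zero _)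

lemma tau_underline_surj (z : (De C : Type u) ⊗[A] N')
    (hz : rmap ((underline A).obj N') (ptHom (pC C)) z = 0) :
    ∃ y : (C : Type u) ⊗[A] N', tau ((underline A).obj N') C y = z := by
  have hz' : (pC C).hom.toLinearMap.rTensor N' z = 0 := hz
  have hid : (LinearMap.id : (De C : Type u) →ₗ[A] (De C : Type u)) =
      (iC C).hom.toLinearMap ∘ₗ (pC C).hom.toLinearMap + inrL C ∘ₗ sndL C := by
    apply LinearMap.ext; intro x
    show x = algebraMap (C : Type u) (DualNumber (C : Type u)) (TrivSqZeroExt.fst x) +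
      TrivSqZeroExt.inr (TrivSqZeroExt.snd x)
    rw [TrivSqZeroExt.algebraMap_eq_inl, TrivSqZeroExt.inl_fst_add_inr_snd_eq]
  have h3 := congrArg (fun f => LinearMap.rTensor N' f z) hid
  simp only [LinearMap.rTensor_id, LinearMap.id_apply, LinearMap.rTensor_add,
    LinearMap.add_apply, LinearMap.rTensor_comp, LinearMap.comp_apply] at h3
  rw [hz', map_zero, zero_add] at h3
  exact ⟨(sndL C).rTensor N' z, (tau_underline N' C _).trans h3.symm⟩

lemma underline_joint_inj {D D1 D2' : Alg A} (q1 : D ⟶ D1) (q2 : D ⟶ D2')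
    (ρ1 : (D1 : Type u) →ₗ[A] (D : Type u)) (ρ2 : (D2' : Type u) →ₗ[A] (D : Type u))
    (hid : ρ1 ∘ₗ q1.hom.toLinearMap + ρ2 ∘ₗ q2.hom.toLinearMap = LinearMap.id) :
    JointInj ((underline A).obj N') q1 q2 := by
  intro w h1 h2
  have h1' : q1.hom.toLinearMap.rTensor N' w = 0 := h1
  have h2' : q2.hom.toLinearMap.rTensor N' w = 0 := h2
  have h3 := congrArg (fun f => LinearMap.rTensor N' f w) hid
  simp only [LinearMap.rTensor_id, LinearMap.id_apply, LinearMap.rTensor_add,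
    LinearMap.add_apply, LinearMap.rTensor_comp, LinearMap.comp_apply] at h3
  rw [h1', h2', map_zero, map_zero, add_zero] at h3
  exact h3.symm

lemma tauInj_underline : TauInj ((underline A).obj N') C :=
  fun y hy => tau_underline_inj N' C y hy

lemma jointInj_underline : JointInj ((underline A).obj N') (pr1 C) (pr2 C) := by
  apply underline_joint_inj N' (pr1 C) (pr2 C) (j1 C).hom.toLinearMap (rho2 C)
  apply LinearMap.ext; intro x
  show TrivSqZeroExt.map (LinearMap.inl _ _ _) (TrivSqZeroExt.map (LinearMap.fst _ _ _) x) +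
    TrivSqZeroExt.inr (LinearMap.inr (C : Type u) (C : Type u) (C : Type u)
      (TrivSqZeroExt.snd (TrivSqZeroExt.map (LinearMap.snd _ _ _) x))) = x
  apply TrivSqZeroExt.ext
  · simp
  · simp

end UnderlineFacts

lemma tau_surj_of_iso {X : MVF A} {M : ModuleCat.{u+1} A} (e : X ≅ (underline A).obj M)
    (C : Alg A) (v : X.obj (pt (De C))) (hv : rmap X (ptHom (pC C)) v = 0) :
    ∃ m, tau X C m = v := by
  obtain ⟨y, hy⟩ := tau_underline_surj M C (capp e.hom _ v) (by rw [← capp_nat, hv, map_zero])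
  refine ⟨capp e.inv _ y, ?_⟩
  rw [← capp_tau, hy, iso_inv_hom]

end Tau

section Universal

variable {A : Type u} [CommRing A]

lemma repr_sum_tmul {P : Type (u+1)} [AddCommGroup P] [Module A P] {n : ℕ}
    (b : Module.Basis (Fin n) A P) (D : Type u) [CommRing D] [Algebra A D]
    (d : Fin n → D) (i : Fin n) :
    (b.baseChange D).repr (∑ k, d k ⊗ₜ[A] b k) i = d i := by
  rw [map_sum, Finsupp.coe_finsetSum, Finset.sum_apply]
  simp only [Module.Basis.baseChange_repr_tmul, Module.Basis.repr_self, Finsupp.single_apply]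
  simp

lemma exists_algHom_sqzero {n m : ℕ} (T : Fin m → Fin n → A) (D : Type u) [CommRing D]
    [Algebra A D] (d : Fin n → D) (hrel : ∀ j, ∑ i, T j i • d i = 0)
    (hsq : ∀ i i', d i * d i' = 0) :
    ∃ θ : TrivSqZeroExt A (QM T) →ₐ[A] D, ∀ i, θ (TrivSqZeroExt.inr (qg T i)) = d i := by
  have hct : ∀ x : QM T, ∃ v : Fin n → A, ctil T D d hrel x = ∑ i, v i • d i := by
    intro x
    obtain ⟨v, rfl⟩ := Submodule.Quotient.mk_surjective _ x
    refine ⟨v, ?_⟩
    rw [mk_eq_sum, map_sum]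
    refine Finset.sum_congr rfl fun i _ => ?_
    rw [map_smul, ctil_qg]
  have hg : ∀ x y : QM T, ctil T D d hrel x * ctil T D d hrel y = 0 := by
    intro x y
    obtain ⟨v, hv⟩ := hct x
    obtain ⟨w, hw⟩ := hct y
    rw [hv, hw, Finset.sum_mul_sum]
    refine Finset.sum_eq_zero fun i _ => Finset.sum_eq_zero fun k _ => ?_
    rw [smul_mul_smul_comm, hsq, smul_zero]
  refine ⟨TrivSqZeroExt.lift (Algebra.ofId A D) (ctil T D d hrel) hg
    (fun r x => by rw [map_smul, Algebra.smul_def]; rfl)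
    (fun r x => by rw [op_smul_eq_smul, map_smul, Algebra.smul_def, mul_comm]; rfl), fun i => ?_⟩
  rw [TrivSqZeroExt.lift_apply_inr, ctil_qg]

theorem linAdequate_universal (L : MVF A) (hL : linAdequate A L) :
    ∃ (U : Alg A) (iU : algOf A A ⟶ U) (pU : U ⟶ algOf A A) (u : L.obj (pt U)),
      iU ≫ pU = 𝟙 _ ∧ rmap L (ptHom pU) u = 0 ∧
      (∀ (D : Alg A) (θ₁ θ₂ : U ⟶ D),
        rmap L (ptHom θ₁) u = rmap L (ptHom θ₂) u → θ₁ = θ₂) ∧
      (∀ (D C : Alg A) (p : D ⟶ C),
        (∀ x y : (D : Type u), p.hom x = 0 → p.hom y = 0 → x * y = 0) →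
        ∀ t : L.obj (pt D), rmap L (ptHom p) t = 0 → ∃ θ : U ⟶ D, rmap L (ptHom θ) u = t) := by
  classical
  obtain ⟨P, Q, φ₀, hPf, hPfree, hQf, hQfree, ⟨e⟩⟩ := hL
  haveI := hPf; haveI := hPfree; haveI := hQf; haveI := hQfree
  let ι : L ⟶ (underline A).obj P := e.hom ≫ kernel.ι ((underline A).map φ₀)
  have hιinj : ∀ X, Function.Injective (capp ι X) := by
    intro X
    have : Mono ι := mono_comp _ _
    exact PresheafOfModules.injective_of_mono ι X
  have hιz : ∀ X (l : L.obj X), capp ((underline A).map φ₀) X (capp ι X l) = 0 := by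
    intro X l
    show capp ((underline A).map φ₀) X (capp (kernel.ι _) X (capp e.hom X l)) = 0
    exact kerι_cond _ X _
  have hιex : ∀ X (y : ((underline A).obj P).obj X),
      capp ((underline A).map φ₀) X y = 0 → ∃ l, capp ι X l = y := by
    intro X y hy
    obtain ⟨k, hk⟩ := ker_exists _ X y hy
    refine ⟨capp e.inv X k, ?_⟩
    show capp (kernel.ι _) X (capp e.hom X (capp e.inv X k)) = y
    rw [iso_hom_inv, hk]
  let b : Module.Basis (Fin _) A P :=
    (Module.Free.chooseBasis A P).reindex (Fintype.equivFin (Module.Free.ChooseBasisIndex A P))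
  let b' : Module.Basis (Fin _) A Q :=
    (Module.Free.chooseBasis A Q).reindex (Fintype.equivFin (Module.Free.ChooseBasisIndex A Q))
  set T := matT b b' φ₀.hom with hT
  let Ut := TrivSqZeroExt A (QM T)
  let U : Alg A := algOf A Ut
  let uc : Fin _ → Ut := fun i => TrivSqZeroExt.inr (qg T i)
  let uel : Ut ⊗[A] P := ∑ i, uc i ⊗ₜ[A] b i
  have hu : φ₀.hom.baseChange Ut uel = 0 := by
    apply ker_of_rel b b'
    intro j
    have h1 : ∀ i, matT b b' φ₀.hom j i • uc i =
        TrivSqZeroExt.inrHom A (QM T) (T j i • qg T i) := fun i => by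
      rw [map_smul]; rfl
    rw [Finset.sum_congr rfl fun i _ => h1 i, ← map_sum, sum_T_qg, map_zero]
  obtain ⟨u, hu'⟩ := hιex (pt U) uel hu
  have key : ∀ (D : Alg A) (θ : U ⟶ D),
      capp ι (pt D) (rmap L (ptHom θ) u) = ∑ i, (θ.hom (uc i)) ⊗ₜ[A] b i := by
    intro D θ
    rw [capp_nat, hu']
    show θ.hom.toLinearMap.rTensor P (∑ i, uc i ⊗ₜ[A] b i) = _
    rw [map_sum]
    refine Finset.sum_congr rfl fun i _ => ?_
    rw [LinearMap.rTensor_tmul]; rfl
  refine ⟨U, CommAlgCat.ofHom (Algebra.ofId A Ut),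
    CommAlgCat.ofHom (TrivSqZeroExt.fstHom A A (QM T)), u, ?_, ?_, ?_, ?_⟩
  · apply CommAlgCat.hom_ext
    refine AlgHom.ext fun a => ?_
    show TrivSqZeroExt.fst (algebraMap A Ut a) = a
    rw [TrivSqZeroExt.algebraMap_eq_inl, TrivSqZeroExt.fst_inl]
  · apply hιinj
    rw [key, map_zero]
    refine Finset.sum_eq_zero fun i _ => ?_
    show (TrivSqZeroExt.fst (TrivSqZeroExt.inr (qg T i) : Ut)) ⊗ₜ[A] b i = 0
    rw [TrivSqZeroExt.fst_inr, TensorProduct.zero_tmul]
  · intro D θ₁ θ₂ h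
    have h2 := congrArg (capp ι (pt D)) h
    rw [key, key] at h2
    have h3 : ∀ i, θ₁.hom (uc i) = θ₂.hom (uc i) := by
      intro i
      have h4 := congrArg (fun z => (b.baseChange (D : Type u)).repr z i) h2
      simp only [repr_sum_tmul] at h4
      exact h4
    apply CommAlgCat.hom_ext
    refine TrivSqZeroExt.algHom_ext (fun m => ?_)
    obtain ⟨v, rfl⟩ := Submodule.Quotient.mk_surjective _ m
    rw [mk_eq_sum]
    show θ₁.hom (TrivSqZeroExt.inrHom A (QM T) (∑ i, v i • qg T i)) =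
      θ₂.hom (TrivSqZeroExt.inrHom A (QM T) (∑ i, v i • qg T i))
    rw [map_sum, map_sum, map_sum]
    refine Finset.sum_congr rfl fun i _ => ?_
    rw [map_smul, map_smul, map_smul]
    exact congrArg (v i • ·) (h3 i)
  · intro D C p hker t ht
    set z := capp ι (pt D) t with hzdef
    let d : Fin _ → (D : Type u) := fun i => (b.baseChange (D : Type u)).repr z i
    have hz : z = ∑ i, d i ⊗ₜ[A] b i := eq_sum_repr_tmul b (D : Type u) z
    have hrel : ∀ j, ∑ i, T j i • d i = 0 := fun j =>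
      rel_of_ker b b' φ₀.hom (D : Type u) d (by rw [← hz]; exact hιz (pt D) t) j
    have hp : ∀ i, p.hom (d i) = 0 := by
      intro i
      have h5 : capp ι (pt C) (rmap L (ptHom p) t) = 0 := by rw [ht, map_zero]
      rw [capp_nat] at h5
      have h6 : p.hom.toLinearMap.rTensor P z = 0 := h5
      rw [hz, map_sum] at h6
      simp only [LinearMap.rTensor_tmul, AlgHom.toLinearMap_apply] at h6
      have h7 := congrArg (fun w => (b.baseChange (C : Type u)).repr w i) h6
      simp only [repr_sum_tmul, map_zero, Finsupp.coe_zero, Pi.zero_apply] at h7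
      exact h7
    obtain ⟨θ0, hθ0⟩ := exists_algHom_sqzero T (D : Type u) d hrel
      (fun i i' => hker _ _ (hp i) (hp i'))
    refine ⟨CommAlgCat.ofHom θ0, ?_⟩
    apply hιinj
    rw [key]
    show ∑ i, θ0 (uc i) ⊗ₜ[A] b i = z
    rw [hz]
    exact Finset.sum_congr rfl (fun i _ => by rw [hθ0])

end Universal

section Lift

variable {A : Type u} [CommRing A]

lemma rmap_comp_eq (X : MVF A) {B B' B'' : Alg A} {f : B ⟶ B'} {g : B' ⟶ B''} {k : B ⟶ B''}
    (h : f ≫ g = k) (x : X.obj (pt B)) :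
    rmap X (ptHom g) (rmap X (ptHom f) x) = rmap X (ptHom k) x := by
  rw [← rmap_comp]
  exact rmap_congr X (congrArg ptHom h) x

lemma rmap_comp2 (X : MVF A) {B B' B'' : Alg A} (f : B ⟶ B') (g : B' ⟶ B'') (x : X.obj (pt B)) :
    rmap X (ptHom (f ≫ g)) x = rmap X (ptHom g) (rmap X (ptHom f) x) :=
  (rmap_comp_eq X rfl x).symm

lemma rmap_id' (X : MVF A) (B : Alg A) (x : X.obj (pt B)) : rmap X (ptHom (𝟙 B)) x = x :=
  rmap_id X (pt B) x

/-- build a morphism from pointwise data -/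
noncomputable def mkHom (F G : MVF A) (σ : ∀ C : Alg A, F.obj (pt C) → G.obj (pt C))
    (hadd : ∀ (C : Alg A) (x y : F.obj (pt C)), σ C (x + y) = σ C x + σ C y)
    (hsmul : ∀ (C : Alg A) (b : (C : Type u)) (x : F.obj (pt C)), σ C (b • x) = b • σ C x)
    (hnat : ∀ (C C' : Alg A) (h : C ⟶ C') (x : F.obj (pt C)),
      σ C' (rmap F (ptHom h) x) = rmap G (ptHom h) (σ C x)) : F ⟶ G :=
  PresheafOfModules.homMk
    { app X := AddCommGrpCat.ofHom (AddMonoidHom.mk' (σ X.unop.unop) (hadd X.unop.unop))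
      naturality {X Y} f := by
        ext x
        exact hnat X.unop.unop Y.unop.unop f.unop.unop x }
    (by
      intro X r m
      exact hsmul X.unop.unop r m)

lemma mkHom_apply (F G : MVF A) (σ : ∀ C : Alg A, F.obj (pt C) → G.obj (pt C))
    (hadd : ∀ (C : Alg A) (x y : F.obj (pt C)), σ C (x + y) = σ C x + σ C y)
    (hsmul : ∀ (C : Alg A) (b : (C : Type u)) (x : F.obj (pt C)), σ C (b • x) = b • σ C x)
    (hnat : ∀ (C C' : Alg A) (h : C ⟶ C') (x : F.obj (pt C)),
      σ C' (rmap F (ptHom h) x) = rmap G (ptHom h) (σ C x)) (C : Alg A) (x : F.obj (pt C)) :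
    capp (mkHom F G σ hadd hsmul hnat) (pt C) x = σ C x := rfl

theorem exists_lift {X₁ X₂ X₃ : MVF A} (f : X₁ ⟶ X₂) (g : X₂ ⟶ X₃)
    (hf : ∀ Y, Function.Injective (capp f Y)) (hg : ∀ Y, Function.Surjective (capp g Y))
    (hex : ∀ Y (y : X₂.obj Y), capp g Y y = 0 → ∃ x, capp f Y x = y)
    (M : ModuleCat.{u+1} A) (e : X₁ ≅ (underline A).obj M) (h3 : adequate A X₃)
    (L : MVF A) (hL : linAdequate A L) (lam : L ⟶ X₃) :
    ∃ s : L ⟶ X₂, s ≫ g = lam := by
  classical
  obtain ⟨U, iU, pU, u, hip, hpu, hR2, hR1⟩ := linAdequate_universal L hL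
  obtain ⟨N3, N3', φ3, i3, hi30, hi3inj, hi3ex⟩ := exists_exact_of_adequate X₃ h3
  have einj : ∀ Y, Function.Injective (capp e.hom Y) := by
    intro Y a b hab
    have := congrArg (capp e.inv Y) hab
    rwa [iso_inv_hom, iso_inv_hom] at this
  have hT1 : ∀ C, TauInj X₁ C := fun C => TauInj.of_mono e.hom einj (tauInj_underline M C)
  have hT3 : ∀ C, TauInj X₃ C := fun C => TauInj.of_mono i3 hi3inj (tauInj_underline N3 C)
  have hT2 : ∀ C, TauInj X₂ C := fun C => TauInj.of_exact f g hf hex (hT1 C) (hT3 C)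
  have hJ1 : ∀ C, JointInj X₁ (pr1 C) (pr2 C) :=
    fun C => JointInj.of_mono e.hom einj (jointInj_underline M C)
  have hJ3 : ∀ C, JointInj X₃ (pr1 C) (pr2 C) :=
    fun C => JointInj.of_mono i3 hi3inj (jointInj_underline N3 C)
  have hJ2 : ∀ C, JointInj X₂ (pr1 C) (pr2 C) :=
    fun C => JointInj.of_exact f g hf hex (hJ1 C) (hJ3 C)
  -- normalized lift of the universal element
  obtain ⟨ut0, hut0⟩ := hg (pt U) (capp lam (pt U) u)
  set ut := ut0 - rmap X₂ (ptHom (pU ≫ iU)) ut0 with hutdef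
  have hutg : capp g (pt U) ut = capp lam (pt U) u := by
    rw [hutdef, map_sub, capp_nat, hut0, ← capp_nat, rmap_comp2, hpu, map_zero, map_zero,
      sub_zero]
  have hutp : rmap X₂ (ptHom pU) ut = 0 := by
    rw [hutdef, map_sub, rmap_comp_eq X₂ (show (pU ≫ iU) ≫ pU = pU by
      rw [Category.assoc, hip, Category.comp_id]), sub_self]
  have K0 : ∀ (D C : Alg A) (p : D ⟶ C) (θ : U ⟶ D),
      rmap L (ptHom p) (rmap L (ptHom θ) u) = 0 →
        rmap X₂ (ptHom p) (rmap X₂ (ptHom θ) ut) = 0 := by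
    intro D C p θ h
    have heq : θ ≫ p = pU ≫ sC C := by
      apply hR2
      rw [rmap_comp2, rmap_comp2, h, hpu, map_zero]
    rw [rmap_comp_eq X₂ heq, rmap_comp2, hutp, map_zero]
  let Rs : ∀ C : Alg A, L.obj (pt C) → X₂.obj (pt C) → Prop := fun C c y =>
    ∃ θ : U ⟶ De C, rmap L (ptHom θ) u = tau L C c ∧ tau X₂ C y = rmap X₂ (ptHom θ) ut
  have hE : ∀ (C : Alg A) (c : L.obj (pt C)), ∃ y, Rs C c y := by
    intro C c
    obtain ⟨θ, hθ⟩ := hR1 (De C) C (pC C) (sqzero_pC C) (tau L C c) (pC_tau L C c)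
    have hgw : capp g _ (rmap X₂ (ptHom θ) ut) = tau X₃ C (capp lam _ c) := by
      rw [capp_nat, hutg, ← capp_nat, hθ, capp_tau]
    obtain ⟨y0, hy0⟩ := hg (pt C) (capp lam (pt C) c)
    have hd : capp g _ (rmap X₂ (ptHom θ) ut - tau X₂ C y0) = 0 := by
      rw [map_sub, hgw, capp_tau, hy0, sub_self]
    obtain ⟨v, hv⟩ := hex _ _ hd
    have hpw : rmap X₂ (ptHom (pC C)) (rmap X₂ (ptHom θ) ut) = 0 :=
      K0 (De C) C (pC C) θ (by rw [hθ, pC_tau])
    have hpv : rmap X₁ (ptHom (pC C)) v = 0 := by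
      apply hf
      rw [map_zero, capp_nat, hv, map_sub, hpw, pC_tau, sub_self]
    obtain ⟨m, hm⟩ := tau_surj_of_iso e C v hpv
    refine ⟨y0 + capp f _ m, θ, hθ, ?_⟩
    rw [tau_add, ← capp_tau f C m, hm, hv]
    exact add_sub_cancel _ _
  have hUq : ∀ (C : Alg A) (c : L.obj (pt C)) (y y' : X₂.obj (pt C)),
      Rs C c y → Rs C c y' → y = y' := by
    rintro C c y y' ⟨θ, hθ, h1⟩ ⟨θ', hθ', h1'⟩
    have hθθ : θ = θ' := hR2 _ θ θ' (hθ.trans hθ'.symm)
    subst hθθ
    have h0 : tau X₂ C (y - y') = 0 := by rw [tau_sub, h1, h1', sub_self]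
    exact sub_eq_zero.mp (hT2 C _ h0)
  choose σ hσ using hE
  have hadd : ∀ (C : Alg A) (c c' : L.obj (pt C)), σ C (c + c') = σ C c + σ C c' := by
    intro C c c'
    apply hUq C (c + c') _ _ (hσ C (c + c'))
    obtain ⟨θ, hθ, h1⟩ := hσ C c
    obtain ⟨θ', hθ', h1'⟩ := hσ C c'
    have hp2 : rmap L (ptHom (p2 C))
        (rmap L (ptHom (j1 C)) (tau L C c) + rmap L (ptHom (j2 C)) (tau L C c')) = 0 := by
      rw [map_add, rmap_comp_eq L (j1_p2 C), rmap_comp_eq L (j2_p2 C), pC_tau, pC_tau, add_zero]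
    obtain ⟨Θ, hΘ⟩ := hR1 (D2 C) C (p2 C) (sqzero_p2 C) _ hp2
    have e1 : Θ ≫ pr1 C = θ := by
      apply hR2
      rw [rmap_comp2, hΘ, map_add, rmap_comp_eq L (j1_pr1 C), rmap_id',
        rmap_comp_eq L (j2_pr1 C), rmap_comp2, pC_tau, map_zero, add_zero, hθ]
    have e2 : Θ ≫ pr2 C = θ' := by
      apply hR2
      rw [rmap_comp2, hΘ, map_add, rmap_comp_eq L (j1_pr2 C), rmap_comp2, pC_tau, map_zero,
        rmap_comp_eq L (j2_pr2 C), rmap_id', zero_add, hθ']
    have hW1 : rmap X₂ (ptHom (pr1 C)) (rmap X₂ (ptHom Θ) ut) = tau X₂ C (σ C c) := by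
      rw [rmap_comp_eq X₂ e1, h1]
    have hW2 : rmap X₂ (ptHom (pr2 C)) (rmap X₂ (ptHom Θ) ut) = tau X₂ C (σ C c') := by
      rw [rmap_comp_eq X₂ e2, h1']
    have hWp : rmap X₂ (ptHom (p2 C)) (rmap X₂ (ptHom Θ) ut) = 0 :=
      K0 (D2 C) C (p2 C) Θ (by rw [hΘ, hp2])
    have hpW1 : rmap X₂ (ptHom (pC C)) (tau X₂ C (σ C c)) = 0 := pC_tau _ _ _
    have hpW2 : rmap X₂ (ptHom (pC C)) (tau X₂ C (σ C c')) = 0 := pC_tau _ _ _
    have hWW : rmap X₂ (ptHom (j1 C)) (tau X₂ C (σ C c)) +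
        rmap X₂ (ptHom (j2 C)) (tau X₂ C (σ C c')) = rmap X₂ (ptHom Θ) ut := by
      apply sub_eq_zero.mp
      apply hJ2 C
      · rw [map_sub, map_add, rmap_comp_eq X₂ (j1_pr1 C), rmap_id', rmap_comp_eq X₂ (j2_pr1 C),
          rmap_comp2, hpW2, map_zero, add_zero, hW1, sub_self]
      · rw [map_sub, map_add, rmap_comp_eq X₂ (j1_pr2 C), rmap_comp2, hpW1, map_zero,
          rmap_comp_eq X₂ (j2_pr2 C), rmap_id', zero_add, hW2, sub_self]
    refine ⟨Θ ≫ sg C, ?_, ?_⟩
    · rw [rmap_comp2, hΘ, map_add, rmap_comp_eq L (j1_sg C), rmap_id', rmap_comp_eq L (j2_sg C),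
        rmap_id', tau_add]
    · rw [rmap_comp2, ← hWW, map_add, rmap_comp_eq X₂ (j1_sg C), rmap_id',
        rmap_comp_eq X₂ (j2_sg C), rmap_id', tau_add]
  have hsmul : ∀ (C : Alg A) (b : (C : Type u)) (c : L.obj (pt C)),
      σ C (b • c) = b • σ C c := by
    intro C b c
    apply hUq C (b • c) _ _ (hσ C (b • c))
    obtain ⟨θ, hθ, h1⟩ := hσ C c
    refine ⟨θ ≫ mb C b, ?_, ?_⟩
    · rw [rmap_comp2, hθ, mb_tau]
    · rw [rmap_comp2, ← h1, mb_tau]
  have hnat : ∀ (C C' : Alg A) (h : C ⟶ C') (c : L.obj (pt C)),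
      σ C' (rmap L (ptHom h) c) = rmap X₂ (ptHom h) (σ C c) := by
    intro C C' h c
    apply hUq C' _ _ _ (hσ C' _)
    obtain ⟨θ, hθ, h1⟩ := hσ C c
    refine ⟨θ ≫ Deh h, ?_, ?_⟩
    · rw [rmap_comp2, hθ, Deh_tau]
    · rw [rmap_comp2, ← h1, Deh_tau]
  refine ⟨mkHom L X₂ σ hadd hsmul hnat, ?_⟩
  apply hom_ext'
  rintro ⟨⟨C⟩⟩ c
  rw [capp_comp]
  show capp g (pt C) (σ C c) = capp lam (pt C) c
  obtain ⟨θ, hθ, h1⟩ := hσ C c
  apply sub_eq_zero.mp
  apply hT3 C
  rw [tau_sub, ← capp_tau g C (σ C c), h1, capp_nat, hutg, ← capp_nat, hθ, capp_tau, sub_self]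

end Lift

section Split

variable {A : Type u} [CommRing A]

lemma adequate_underline (M : ModuleCat.{u+1} A) : adequate A ((underline A).obj M) := by
  refine adequate_of_exact _ M M (0 : M ⟶ M) (𝟙 _) ?_ (fun X a b h => h) ?_
  · rw [Functor.map_zero, comp_zero]
  · intro X y _
    exact ⟨y, rfl⟩

lemma adequate_of_linAdequate (L : MVF A) (hL : linAdequate A L) : adequate A L := by
  obtain ⟨P, Q, φ₀, -, -, -, -, he⟩ := hL
  exact ⟨P, Q, φ₀, he⟩

theorem adequate_of_split {F1 G L : MVF A} (h1 : adequate A F1) (h3 : adequate A L)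
    (f : F1 ⟶ G) (g : G ⟶ L) (r : G ⟶ F1) (s : L ⟶ G)
    (hfg : f ≫ g = 0) (hsr : s ≫ r = 0) (hfr : f ≫ r = 𝟙 F1) (hsg : s ≫ g = 𝟙 L)
    (hid : r ≫ f + g ≫ s = 𝟙 G) : adequate A G := by
  obtain ⟨M1, N1, φ1, i1, hi10, hi1, hi1ex⟩ := exists_exact_of_adequate F1 h1
  obtain ⟨M3, N3, φ3, i3, hi30, hi3, hi3ex⟩ := exists_exact_of_adequate L h3
  let MM : ModuleCat.{u+1} A := ModuleCat.of A (M1 × M3)
  let NN : ModuleCat.{u+1} A := ModuleCat.of A (N1 × N3)
  let φ : (M1 × M3) →ₗ[A] (N1 × N3) := LinearMap.prodMap φ1.hom φ3.hom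
  let ψ : G ⟶ (underline A).obj MM :=
    (r ≫ i1) ≫ (underline A).map (ModuleCat.ofHom (LinearMap.inl A M1 M3)) +
      (g ≫ i3) ≫ (underline A).map (ModuleCat.ofHom (LinearMap.inr A M1 M3))
  have hψ : ∀ (B : Alg A) (x : G.obj (pt B)), capp ψ (pt B) x =
      (LinearMap.inl A M1 M3).baseChange B (capp i1 (pt B) (capp r (pt B) x)) +
        (LinearMap.inr A M1 M3).baseChange B (capp i3 (pt B) (capp g (pt B) x)) := fun B x => rfl
  have f2 : ∀ (B : Alg A) (x : G.obj (pt B)),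
      (LinearMap.snd A M1 M3).baseChange B (capp ψ (pt B) x) =
        capp i3 (pt B) (capp g (pt B) x) := by
    intro B x
    rw [hψ, map_add, bc_comp_apply, bc_comp_apply]
    have e1 : LinearMap.snd A M1 M3 ∘ₗ LinearMap.inl A M1 M3 = 0 := LinearMap.ext fun _ => rfl
    have e2 : LinearMap.snd A M1 M3 ∘ₗ LinearMap.inr A M1 M3 = LinearMap.id :=
      LinearMap.ext fun _ => rfl
    rw [e1, e2, bc_zero_apply, bc_id_apply, zero_add]
  have f3 : ∀ (B : Alg A) (x : G.obj (pt B)),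
      (LinearMap.fst A M1 M3).baseChange B (capp ψ (pt B) x) =
        capp i1 (pt B) (capp r (pt B) x) := by
    intro B x
    rw [hψ, map_add, bc_comp_apply, bc_comp_apply]
    have e1 : LinearMap.fst A M1 M3 ∘ₗ LinearMap.inl A M1 M3 = LinearMap.id :=
      LinearMap.ext fun _ => rfl
    have e2 : LinearMap.fst A M1 M3 ∘ₗ LinearMap.inr A M1 M3 = 0 := LinearMap.ext fun _ => rfl
    rw [e1, e2, bc_zero_apply, bc_id_apply, add_zero]
  have z1 : ∀ (B : Alg A) (x : F1.obj (pt B)), φ1.hom.baseChange B (capp i1 (pt B) x) = 0 :=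
    fun B x => congrArg (fun k => capp k (pt B) x) hi10
  have z3 : ∀ (B : Alg A) (x : L.obj (pt B)), φ3.hom.baseChange B (capp i3 (pt B) x) = 0 :=
    fun B x => congrArg (fun k => capp k (pt B) x) hi30
  have hφ : φ = (LinearMap.inl A N1 N3 ∘ₗ φ1.hom) ∘ₗ LinearMap.fst A M1 M3 +
      (LinearMap.inr A N1 N3 ∘ₗ φ3.hom) ∘ₗ LinearMap.snd A M1 M3 := by
    apply LinearMap.ext; intro x
    simp [φ]
  have hφbc : ∀ (B : Alg A) (y : (B : Type u) ⊗[A] (M1 × M3)), φ.baseChange B y =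
      (LinearMap.inl A N1 N3).baseChange B
        (φ1.hom.baseChange B ((LinearMap.fst A M1 M3).baseChange B y)) +
      (LinearMap.inr A N1 N3).baseChange B
        (φ3.hom.baseChange B ((LinearMap.snd A M1 M3).baseChange B y)) := by
    intro B y
    rw [bc_comp_apply, bc_comp_apply, bc_comp_apply, bc_comp_apply, ← bc_add_apply, ← hφ]
  have hdec : ∀ (B : Alg A) (x : G.obj (pt B)),
      x = capp f (pt B) (capp r (pt B) x) + capp s (pt B) (capp g (pt B) x) :=
    fun B x => (congrArg (fun k => capp k (pt B) x) hid).symm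
  refine adequate_of_exact G MM NN (ModuleCat.ofHom φ) ψ ?_ ?_ ?_
  · apply hom_ext'
    rintro ⟨⟨B⟩⟩ x
    rw [capp_comp, capp_zero]
    show φ.baseChange B (capp ψ (pt B) x) = 0
    rw [hφbc, f3, f2, z1, z3, map_zero, map_zero, add_zero]
  · rintro ⟨⟨B⟩⟩ a b hab
    have e1 : capp r (pt B) a = capp r (pt B) b := by
      apply hi1
      have h5 := congrArg ((LinearMap.fst A M1 M3).baseChange B) hab
      rw [f3, f3] at h5
      exact h5
    have e3 : capp g (pt B) a = capp g (pt B) b := by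
      apply hi3
      have h5 := congrArg ((LinearMap.snd A M1 M3).baseChange B) hab
      rw [f2, f2] at h5
      exact h5
    rw [hdec B a, hdec B b, e1, e3]
  · rintro ⟨⟨B⟩⟩ y hy
    have hy' : φ.baseChange B y = 0 := hy
    have g1 : φ1.hom.baseChange B ((LinearMap.fst A M1 M3).baseChange B y) = 0 := by
      have h5 := congrArg ((LinearMap.fst A N1 N3).baseChange B) hy'
      rw [bc_comp_apply, map_zero] at h5
      have e1 : LinearMap.fst A N1 N3 ∘ₗ φ = φ1.hom ∘ₗ LinearMap.fst A M1 M3 :=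
        LinearMap.ext fun _ => rfl
      rw [e1, ← bc_comp_apply] at h5
      exact h5
    have g3 : φ3.hom.baseChange B ((LinearMap.snd A M1 M3).baseChange B y) = 0 := by
      have h5 := congrArg ((LinearMap.snd A N1 N3).baseChange B) hy'
      rw [bc_comp_apply, map_zero] at h5
      have e1 : LinearMap.snd A N1 N3 ∘ₗ φ = φ3.hom ∘ₗ LinearMap.snd A M1 M3 :=
        LinearMap.ext fun _ => rfl
      rw [e1, ← bc_comp_apply] at h5
      exact h5
    obtain ⟨x1, hx1⟩ := hi1ex (pt B) _ g1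
    obtain ⟨x3, hx3⟩ := hi3ex (pt B) _ g3
    refine ⟨capp f (pt B) x1 + capp s (pt B) x3, ?_⟩
    have r1 : capp r (pt B) (capp f (pt B) x1 + capp s (pt B) x3) = x1 := by
      rw [map_add]
      have a1 : capp r (pt B) (capp f (pt B) x1) = x1 :=
        congrArg (fun k => capp k (pt B) x1) hfr
      have a2 : capp r (pt B) (capp s (pt B) x3) = 0 :=
        congrArg (fun k => capp k (pt B) x3) hsr
      rw [a1, a2, add_zero]
    have r3 : capp g (pt B) (capp f (pt B) x1 + capp s (pt B) x3) = x3 := by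
      rw [map_add]
      have a1 : capp g (pt B) (capp f (pt B) x1) = 0 :=
        congrArg (fun k => capp k (pt B) x1) hfg
      have a2 : capp g (pt B) (capp s (pt B) x3) = x3 :=
        congrArg (fun k => capp k (pt B) x3) hsg
      rw [a1, a2, zero_add]
    rw [hψ, r1, r3, hx1, hx3, bc_comp_apply, bc_comp_apply, ← bc_add_apply, inl_fst_add_inr_snd,
      bc_id_apply]

theorem split_of_linAdequate (S : ShortComplex (MVF A)) (hS : S.ShortExact)
    (M : ModuleCat.{u + 1} A) (e : S.X₁ ≅ (underline A).obj M) (hL : linAdequate A S.X₃) :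
    Nonempty S.Splitting ∧ adequate A S.X₂ := by
  obtain ⟨s, hs⟩ := exists_lift S.f S.g (f_inj hS) (g_surj hS) (exact_mid hS) M e
    (adequate_of_linAdequate _ hL) S.X₃ hL (𝟙 _)
  haveI := hS.mono_f
  let σ : S.Splitting := ShortComplex.Splitting.ofExactOfSection S hS.exact s hs hS.mono_f
  refine ⟨⟨σ⟩, ?_⟩
  exact adequate_of_split ((adequate A).prop_of_iso e.symm (adequate_underline M))
    (adequate_of_linAdequate _ hL) S.f S.g σ.r σ.s S.zero σ.s_r σ.f_r σ.s_g σ.id

end Split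

end Groth.Agent.H2.Adq
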