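import Mathlib
import Groth.Agent.H2.AdqSplit
import Groth.Agent.H2.AdqGen
import Groth.Agent.H2.AdqColim

/-! Extensions of adequate functors are adequate. -/

set_option autoImplicit false
universe u
open CategoryTheory Limits Opposite TensorProduct

namespace Groth.Agent.H2.Adq

open Adeq Groth.Agent.H2.TF

section Biprod

variable {A : Type u} [CommRing A]

lemma capp_neg {F G : MVF A} (φ : F ⟶ G) (X : (Alg A)ᵒᵖᵒᵖ) (x : F.obj X) :
    capp (-φ) X x = -(capp φ X x) := rfl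

lemma bp_decomp {P Q : MVF A} (X : (Alg A)ᵒᵖᵒᵖ) (z : (P ⊞ Q).obj X) :
    z = capp biprod.inl X (capp biprod.fst X z) + capp biprod.inr X (capp biprod.snd X z) :=
  (congrArg (fun k => capp k X z) (biprod.total (X := P) (Y := Q))).symm

lemma bp_exists {P Q : MVF A} (X : (Alg A)ᵒᵖᵒᵖ) (z : (P ⊞ Q).obj X) :
    ∃ (z1 : P.obj X) (z2 : Q.obj X), z = capp biprod.inl X z1 + capp biprod.inr X z2 :=
  ⟨_, _, bp_decomp X z⟩

lemma bp_inl_fst {P Q : MVF A} (X : (Alg A)ᵒᵖᵒᵖ) (p : P.obj X) :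
    capp (biprod.fst : P ⊞ Q ⟶ P) X (capp biprod.inl X p) = p :=
  congrArg (fun k => capp k X p) (biprod.inl_fst (X := P) (Y := Q))

lemma bp_inl_snd {P Q : MVF A} (X : (Alg A)ᵒᵖᵒᵖ) (p : P.obj X) :
    capp (biprod.snd : P ⊞ Q ⟶ Q) X (capp biprod.inl X p) = 0 :=
  congrArg (fun k => capp k X p) (biprod.inl_snd (X := P) (Y := Q))

lemma bp_inr_fst {P Q : MVF A} (X : (Alg A)ᵒᵖᵒᵖ) (q : Q.obj X) :
    capp (biprod.fst : P ⊞ Q ⟶ P) X (capp biprod.inr X q) = 0 :=
  congrArg (fun k => capp k X q) (biprod.inr_fst (X := P) (Y := Q))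

lemma bp_inr_snd {P Q : MVF A} (X : (Alg A)ᵒᵖᵒᵖ) (q : Q.obj X) :
    capp (biprod.snd : P ⊞ Q ⟶ Q) X (capp biprod.inr X q) = q :=
  congrArg (fun k => capp k X q) (biprod.inr_snd (X := P) (Y := Q))

lemma bp_fst_mk {P Q : MVF A} (X : (Alg A)ᵒᵖᵒᵖ) (p : P.obj X) (q : Q.obj X) :
    capp (biprod.fst : P ⊞ Q ⟶ P) X (capp biprod.inl X p + capp biprod.inr X q) = p := by
  rw [map_add, bp_inl_fst, bp_inr_fst, add_zero]

lemma bp_snd_mk {P Q : MVF A} (X : (Alg A)ᵒᵖᵒᵖ) (p : P.obj X) (q : Q.obj X) :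
    capp (biprod.snd : P ⊞ Q ⟶ Q) X (capp biprod.inl X p + capp biprod.inr X q) = q := by
  rw [map_add, bp_inl_snd, bp_inr_snd, zero_add]

lemma bp_desc {P Q R : MVF A} (u : P ⟶ R) (v : Q ⟶ R) (X : (Alg A)ᵒᵖᵒᵖ) (z : (P ⊞ Q).obj X) :
    capp (biprod.desc u v) X z =
      capp u X (capp biprod.fst X z) + capp v X (capp biprod.snd X z) :=
  congrArg (fun k => capp k X z) (biprod.desc_eq : biprod.desc u v = _)

lemma bp_desc_mk {P Q R : MVF A} (u : P ⟶ R) (v : Q ⟶ R) (X : (Alg A)ᵒᵖᵒᵖ)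
    (p : P.obj X) (q : Q.obj X) :
    capp (biprod.desc u v) X (capp biprod.inl X p + capp biprod.inr X q) =
      capp u X p + capp v X q := by
  rw [bp_desc, bp_fst_mk, bp_snd_mk]

lemma bp_lift_mk {P Q R : MVF A} (u : R ⟶ P) (v : R ⟶ Q) (X : (Alg A)ᵒᵖᵒᵖ) (x : R.obj X) :
    capp (biprod.lift u v) X x =
      capp biprod.inl X (capp u X x) + capp biprod.inr X (capp v X x) :=
  congrArg (fun k => capp k X x) (biprod.lift_eq : biprod.lift u v = _)

end Biprod

section Pushout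

variable {A : Type u} [CommRing A]

theorem pushout_step {F G H : MVF A} (f : F ⟶ G) (g : G ⟶ H) (hfg : f ≫ g = 0)
    (hf : ∀ Y, Function.Injective (capp f Y))
    (hg : ∀ Y, Function.Surjective (capp g Y))
    (hex : ∀ Y (y : G.obj Y), capp g Y y = 0 → ∃ x, capp f Y x = y)
    (M N1 : ModuleCat.{u+1} A) (φ1 : M ⟶ N1) (i1 : F ⟶ (underline A).obj M)
    (hi10 : i1 ≫ (underline A).map φ1 = 0) (hi1 : ∀ X, Function.Injective (capp i1 X))
    (hi1ex : ∀ X (y : ((underline A).obj M).obj X),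
      capp ((underline A).map φ1) X y = 0 → ∃ x, capp i1 X x = y) :
    ∃ (G' : MVF A) (f' : (underline A).obj M ⟶ G') (g' : G' ⟶ H) (a : G ⟶ G')
      (η : G' ⟶ (underline A).obj N1),
      (∀ Y, Function.Injective (capp f' Y)) ∧ (∀ Y, Function.Surjective (capp g' Y)) ∧
      (∀ Y (y : G'.obj Y), capp g' Y y = 0 → ∃ x, capp f' Y x = y) ∧ f' ≫ g' = 0 ∧
      a ≫ η = 0 ∧ (∀ Y, Function.Injective (capp a Y)) ∧
      (∀ Y (c : G'.obj Y), capp η Y c = 0 → ∃ h, capp a Y h = c) := by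
  classical
  let Mu : MVF A := (underline A).obj M
  let κ : F ⟶ G ⊞ Mu := biprod.lift f (-i1)
  have w1 : κ ≫ biprod.desc g (0 : Mu ⟶ H) = 0 := by
    rw [biprod.lift_desc, hfg, comp_zero, add_zero]
  have w2 : κ ≫ biprod.desc (0 : G ⟶ (underline A).obj N1) ((underline A).map φ1) = 0 := by
    rw [biprod.lift_desc, comp_zero, zero_add, Preadditive.neg_comp, hi10, neg_zero]
  have hκ : ∀ Y (x : F.obj Y), capp κ Y x =
      capp biprod.inl Y (capp f Y x) + capp biprod.inr Y (-(capp i1 Y x)) :=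
    fun Y x => bp_lift_mk f (-i1) Y x
  have hg'q : ∀ Y (z1 : G.obj Y) (z2 : Mu.obj Y),
      capp (cokernel.desc κ _ w1) Y
        (capp (cokernel.π κ) Y (capp biprod.inl Y z1 + capp biprod.inr Y z2)) = capp g Y z1 := by
    intro Y z1 z2
    rw [coker_desc_apply, bp_desc_mk, capp_zero, add_zero]
  have hηq : ∀ Y (z1 : G.obj Y) (z2 : Mu.obj Y),
      capp (cokernel.desc κ _ w2) Y
        (capp (cokernel.π κ) Y (capp biprod.inl Y z1 + capp biprod.inr Y z2)) =
        capp ((underline A).map φ1) Y z2 := by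
    intro Y z1 z2
    rw [coker_desc_apply, bp_desc_mk, capp_zero, zero_add]
  refine ⟨cokernel κ, biprod.inr ≫ cokernel.π κ, cokernel.desc κ _ w1,
    biprod.inl ≫ cokernel.π κ, cokernel.desc κ _ w2, ?_, ?_, ?_, ?_, ?_, ?_, ?_⟩
  · intro Y
    rw [injective_iff_map_eq_zero]
    intro m hm
    rw [capp_comp] at hm
    obtain ⟨x, hx⟩ := coker_exact κ Y _ hm
    rw [hκ] at hx
    have h1 : capp f Y x = 0 := by
      have := congrArg (capp biprod.fst Y) hx
      rwa [bp_fst_mk, bp_inr_fst] at this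
    have hx0 : x = 0 := hf Y (by rw [h1, map_zero])
    have h2 := congrArg (capp biprod.snd Y) hx
    rw [bp_snd_mk, bp_inr_snd, hx0, map_zero, neg_zero] at h2
    exact h2.symm
  · intro Y h
    obtain ⟨y, hy⟩ := hg Y h
    refine ⟨capp (cokernel.π κ) Y (capp biprod.inl Y y + capp biprod.inr Y 0), ?_⟩
    rw [hg'q, hy]
  · intro Y y' hy'
    obtain ⟨z, rfl⟩ := cokerπ_surj κ Y y'
    obtain ⟨z1, z2, rfl⟩ := bp_exists Y z
    rw [hg'q] at hy'
    obtain ⟨x, hx⟩ := hex Y _ hy'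
    refine ⟨z2 + capp i1 Y x, ?_⟩
    rw [capp_comp]
    have e3 : capp biprod.inl Y (capp f Y x) + capp biprod.inr Y z2 =
        capp biprod.inr Y (z2 + capp i1 Y x) + capp κ Y x := by
      rw [hκ, map_add, map_neg]; abel
    rw [← hx, e3, map_add (capp (cokernel.π κ) Y), cokerπ_cond, add_zero]
  · rw [Category.assoc, cokernel.π_desc, biprod.inr_desc]
  · rw [Category.assoc, cokernel.π_desc, biprod.inl_desc]
  · intro Y
    rw [injective_iff_map_eq_zero]
    intro y hy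
    rw [capp_comp] at hy
    obtain ⟨x, hx⟩ := coker_exact κ Y _ hy
    rw [hκ] at hx
    have h2 := congrArg (capp biprod.snd Y) hx
    rw [bp_snd_mk, bp_inl_snd, neg_eq_zero] at h2
    have hx0 : x = 0 := hi1 Y (by rw [h2, map_zero])
    have h1 := congrArg (capp biprod.fst Y) hx
    rw [bp_fst_mk, bp_inl_fst, hx0, map_zero] at h1
    exact h1.symm
  · intro Y c hc
    obtain ⟨z, rfl⟩ := cokerπ_surj κ Y c
    obtain ⟨z1, z2, rfl⟩ := bp_exists Y z
    rw [hηq] at hc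
    obtain ⟨x, hx⟩ := hi1ex Y _ hc
    refine ⟨z1 + capp f Y x, ?_⟩
    rw [capp_comp]
    have e3 : capp biprod.inl Y (z1 + capp f Y x) =
        (capp biprod.inl Y z1 + capp biprod.inr Y (capp i1 Y x)) + capp κ Y x := by
      rw [hκ, map_add, map_neg]; abel
    rw [e3, map_add (capp (cokernel.π κ) Y), cokerπ_cond, add_zero, hx]

end Pushout

section ExtUnderline

variable {A : Type u} [CommRing A]

theorem adequate_of_ext_underline {G' H : MVF A} (M : ModuleCat.{u+1} A)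
    (f' : (underline A).obj M ⟶ G') (g' : G' ⟶ H)
    (hf : ∀ Y, Function.Injective (capp f' Y)) (hg : ∀ Y, Function.Surjective (capp g' Y))
    (hex : ∀ Y (y : G'.obj Y), capp g' Y y = 0 → ∃ x, capp f' Y x = y)
    (hfg : f' ≫ g' = 0) (h₃ : adequate A H) : adequate A G' := by
  classical
  obtain ⟨ι, Lf, hLf, c, hc, π, hπ⟩ := exists_epi_cofan H h₃
  have hs : ∀ i, ∃ s : Lf i ⟶ G', s ≫ g' = c.inj i ≫ π := fun i =>
    exists_lift f' g' hf hg hex M (Iso.refl _) h₃ (Lf i) (hLf i) (c.inj i ≫ π)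
  choose s hs using hs
  let σ : c.pt ⟶ G' := Cofan.IsColimit.desc hc s
  have hσ : σ ≫ g' = π := by
    apply Cofan.IsColimit.hom_ext hc
    intro i
    rw [← Category.assoc, Cofan.IsColimit.fac, hs]
  have hcpt : adequate A c.pt := by
    have e : c.pt ≅ ∐ Lf := hc.coconePointUniqueUpToIso (coproductIsCoproduct Lf)
    exact (adequate A).prop_of_iso e.symm
      (adequate_sigma Lf (fun i => adequate_of_linAdequate _ (hLf i)))
  let Mu : MVF A := (underline A).obj M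
  have hBP : adequate A (Mu ⊞ c.pt) :=
    adequate_of_split (adequate_underline M) hcpt biprod.inl biprod.snd biprod.fst biprod.inr
      biprod.inl_snd biprod.inr_fst biprod.inl_fst biprod.inr_snd biprod.total
  let Ψ : Mu ⊞ c.pt ⟶ G' := biprod.desc f' σ
  have hΨ : ∀ Y (m : Mu.obj Y) (p : c.pt.obj Y),
      capp Ψ Y (capp biprod.inl Y m + capp biprod.inr Y p) = capp f' Y m + capp σ Y p :=
    fun Y m p => bp_desc_mk f' σ Y m p
  have hσg : ∀ Y (p : c.pt.obj Y), capp g' Y (capp σ Y p) = capp π Y p :=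
    fun Y p => congrArg (fun k => capp k Y p) hσ
  have hfg' : ∀ Y (m : Mu.obj Y), capp g' Y (capp f' Y m) = 0 :=
    fun Y m => congrArg (fun k => capp k Y m) hfg
  have hπs : ∀ Y, Function.Surjective (capp π Y) :=
    fun Y => PresheafOfModules.surjective_of_epi π Y
  have hΨs : ∀ Y, Function.Surjective (capp Ψ Y) := by
    intro Y y
    obtain ⟨p, hp⟩ := hπs Y (capp g' Y y)
    have h0 : capp g' Y (y - capp σ Y p) = 0 := by rw [map_sub, hσg, hp, sub_self]
    obtain ⟨m, hm⟩ := hex Y _ h0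
    refine ⟨capp biprod.inl Y m + capp biprod.inr Y p, ?_⟩
    rw [hΨ, hm, sub_add_cancel]
  obtain ⟨M3, N3, φ3, i3, hi30, hi3, hi3ex⟩ := exists_exact_of_adequate H h₃
  have hK : adequate A (kernel Ψ) := by
    refine adequate_of_exact_adequate (kernel Ψ) c.pt hcpt M3 (kernel.ι Ψ ≫ biprod.snd)
      (π ≫ i3) ?_ ?_ ?_
    · apply hom_ext'
      intro Y k
      rw [capp_comp, capp_comp, capp_comp, capp_zero]
      obtain ⟨m, p, hmp⟩ := bp_exists Y (capp (kernel.ι Ψ) Y k)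
      have h0 := kerι_cond Ψ Y k
      rw [hmp, hΨ] at h0
      rw [hmp, bp_snd_mk]
      have h1 := congrArg (capp g' Y) h0
      rw [map_add, hfg', hσg, zero_add, map_zero] at h1
      rw [h1, map_zero]
    · intro Y
      rw [injective_iff_map_eq_zero]
      intro k hk
      rw [capp_comp] at hk
      obtain ⟨m, p, hmp⟩ := bp_exists Y (capp (kernel.ι Ψ) Y k)
      have h0 := kerι_cond Ψ Y k
      rw [hmp, hΨ] at h0
      rw [hmp, bp_snd_mk] at hk
      rw [hk, map_zero, add_zero] at h0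
      have hm0 : m = 0 := hf Y (by rw [h0, map_zero])
      apply kerι_inj Ψ Y
      rw [hmp, hm0, hk, map_zero, map_zero, add_zero, map_zero]
    · intro Y p hp
      rw [capp_comp] at hp
      have hp0 : capp π Y p = 0 := hi3 Y (by rw [hp, map_zero])
      have h1 : capp g' Y (capp σ Y p) = 0 := by rw [hσg, hp0]
      obtain ⟨m, hm⟩ := hex Y _ h1
      have h2 : capp Ψ Y (capp biprod.inl Y (-m) + capp biprod.inr Y p) = 0 := by
        rw [hΨ, map_neg, hm, neg_add_cancel]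
      obtain ⟨k, hk⟩ := ker_exists Ψ Y _ h2
      refine ⟨k, ?_⟩
      rw [capp_comp, hk, bp_snd_mk]
  have hCk : adequate A (cokernel (kernel.ι Ψ)) := adequate_cokernel (kernel.ι Ψ) hK hBP
  have hiso : IsIso (cokernel.desc (kernel.ι Ψ) Ψ (kernel.condition Ψ)) := by
    apply isIso_of_bijective
    intro Y
    constructor
    · rw [injective_iff_map_eq_zero]
      intro w hw
      obtain ⟨z, rfl⟩ := cokerπ_surj (kernel.ι Ψ) Y w
      rw [coker_desc_apply] at hw
      obtain ⟨k, rfl⟩ := ker_exists Ψ Y z hw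
      exact cokerπ_cond _ Y k
    · intro y
      obtain ⟨z, hz⟩ := hΨs Y y
      exact ⟨capp (cokernel.π (kernel.ι Ψ)) Y z, by rw [coker_desc_apply, hz]⟩
  exact (adequate A).prop_of_iso (asIso (cokernel.desc (kernel.ι Ψ) Ψ (kernel.condition Ψ))) hCk

theorem adequate_of_shortExact (S : ShortComplex (MVF A)) (hS : S.ShortExact)
    (h₁ : adequate A S.X₁) (h₃ : adequate A S.X₃) : adequate A S.X₂ := by
  obtain ⟨M, N1, φ1, i1, hi10, hi1, hi1ex⟩ := exists_exact_of_adequate S.X₁ h₁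
  obtain ⟨G', f', g', a, η, hf', hg', hex', hfg', haη, ha, haex⟩ :=
    pushout_step S.f S.g S.zero (f_inj hS) (g_surj hS) (exact_mid hS) M N1 φ1 i1 hi10 hi1 hi1ex
  have hG' : adequate A G' := adequate_of_ext_underline M f' g' hf' hg' hex' hfg' h₃
  exact adequate_of_exact_adequate S.X₂ G' hG' N1 a η haη ha haex

end ExtUnderline

end Groth.Agent.H2.Adq
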