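import Mathlib
import Groth.Prelude.Def_EGA4Misc

set_option autoImplicit false
set_option linter.style.haveILetI false
set_option linter.unusedSimpArgs false
set_option linter.unusedVariables false
set_option linter.unnecessarySeqFocus false
set_option linter.unusedSectionVars false

universe u

namespace Groth.Agent.H2.RadPtBC

open CategoryTheory AlgebraicGeometry Limits IsLocalRing

variable {X Y : Scheme.{u}} (f : X ⟶ Y)

set_option backward.isDefEq.respectTransparency.types false in
set_option backward.defeqAttrib.useBackward true in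
theorem crit_mp (y : Y) (hf : RadPt.IsRadicialAt f y) (K : Type u) [Field K]
    (g₁ g₂ : Spec (.of K) ⟶ X) (hg : g₁ ≫ f = g₂ ≫ f)
    (hy : (g₁ ≫ f) (closedPoint K) = y) : g₁ = g₂ := by
  obtain ⟨h_inj, hpi⟩ := hf
  obtain ⟨e, h⟩ := Scheme.SpecToEquivOfField_eq_iff.mp congr((Y.SpecToEquivOfField K) $(hg))
  apply (X.SpecToEquivOfField K).injective
  dsimp at e h
  simp only [Scheme.descResidueField_stalkClosedPointTo_comp] at e h
  have hx1 : f (g₁ (closedPoint K)) = y := by rw [← Scheme.Hom.comp_apply]; exact hy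
  have hx2 : f (g₂ (closedPoint K)) = y := by
    rw [← Scheme.Hom.comp_apply, ← hg]; exact hy
  have e' : g₁ (closedPoint K) = g₂ (closedPoint K) := h_inj _ _ hx1 hx2
  rw [← f.residueFieldMap_congr'_assoc e', CommRingCat.hom_ext_iff] at h
  rw [Scheme.SpecToEquivOfField_eq_iff]
  let x := g₁ (closedPoint K)
  have hfx := hpi x hx1
  algebraize [(f.residueFieldMap (g₁ (closedPoint K))).hom]
  refine ⟨e', CommRingCat.hom_ext ?_⟩
  exact IsPurelyInseparable.injective_comp_algebraMap
    (Y.residueField (f x)) (X.residueField x) _ h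


set_option backward.isDefEq.respectTransparency.types false in
set_option backward.defeqAttrib.useBackward true in
theorem crit_mpr (y : Y)
    (H : ∀ (K : Type u) [Field K] (g₁ g₂ : Spec (.of K) ⟶ X), g₁ ≫ f = g₂ ≫ f →
      (g₁ ≫ f) (closedPoint K) = y → g₁ = g₂) : RadPt.IsRadicialAt f y := by
  refine ⟨?_, ?_⟩
  · intro x1 x2 h1 h2
    obtain ⟨z, hz1, hz2⟩ :=
      Scheme.Pullback.exists_preimage_pullback (f := f) (g := f) x1 x2 (h1.trans h2.symm)
    let φ := (pullback f f).fromSpecResidueField z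
    have hφ : (φ ≫ pullback.fst f f) ≫ f = (φ ≫ pullback.snd f f) ≫ f := by
      simp [pullback.condition]
    have hpt : ((φ ≫ pullback.fst f f) ≫ f) (closedPoint _) = y := by
      rw [Scheme.Hom.comp_apply, Scheme.Hom.comp_apply, Scheme.fromSpecResidueField_apply,
        hz1, h1]
    have h0 := H _ _ _ hφ hpt
    have h3 := congr($(h0) (closedPoint _))
    rw [Scheme.Hom.comp_apply, Scheme.Hom.comp_apply, Scheme.fromSpecResidueField_apply,
      hz1, hz2] at h3
    exact h3
  · intro x hx
    algebraize [(f.residueFieldMap x).hom]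
    rw [RingHom.IsPurelyInseparable, isPurelyInseparable_iff_subsingleton_emb, subsingleton_iff]
    intro σ₁ σ₂
    apply AlgHom.coe_ringHom_injective
    let g₁ := (X.SpecToEquivOfField _).symm ⟨_, CommRingCat.ofHom σ₁.toRingHom⟩
    let g₂ := (X.SpecToEquivOfField _).symm ⟨_, CommRingCat.ofHom σ₂.toRingHom⟩
    suffices X.SpecToEquivOfField _ g₁ = X.SpecToEquivOfField _ g₂ by
      rw [Equiv.apply_symm_apply, Equiv.apply_symm_apply] at this
      exact congr($(this).2.hom)
    have hgg : g₁ ≫ f = g₂ ≫ f := by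
      simp only [g₁, g₂, Scheme.SpecToEquivOfField_symm_apply, AlgHom.toRingHom_eq_coe,
        Category.assoc, ← f.SpecMap_residueFieldMap_fromSpecResidueField x, ← Spec.map_comp_assoc]
      congr 2
      ext a
      simp only [CommRingCat.hom_comp, RingHom.comp_apply]
      exact (AlgHom.commutes σ₁ a).trans (AlgHom.commutes σ₂ a).symm
    have hpt : (g₁ ≫ f) (closedPoint _) = y := by
      rw [Scheme.Hom.comp_apply]
      have : g₁ (closedPoint _) = x := by
        simp [g₁, Scheme.SpecToEquivOfField_symm_apply]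
      rw [this, hx]
    rw [H _ g₁ g₂ hgg hpt]

theorem spec_field_epi {K L : Type u} [Field K] [Field L] (i : K →+* L)
    (g₁ g₂ : Spec (.of K) ⟶ X)
    (h : Spec.map (CommRingCat.ofHom i) ≫ g₁ = Spec.map (CommRingCat.ofHom i) ≫ g₂) :
    g₁ = g₂ := by
  haveI : Flat (Spec.map (CommRingCat.ofHom i)) := by
    rw [HasRingHomProperty.Spec_iff (P := @Flat)]
    show i.Flat
    algebraize [i]
    show Module.Flat K L
    infer_instance
  haveI : Surjective (Spec.map (CommRingCat.ofHom i)) := by
    rw [surjective_iff]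
    intro y
    exact ⟨closedPoint L, Subsingleton.elim (α := PrimeSpectrum K) _ _⟩
  haveI := Flat.epi_of_flat_of_surjective (Spec.map (CommRingCat.ofHom i))
  exact (cancel_epi _).mp h

theorem exists_lift_point {Y' : Scheme.{u}} (h : Y' ⟶ Y) (y' : Y') (K : Type u) [Field K]
    (t : Spec (.of K) ⟶ Y) (ht : t (closedPoint K) = h y') :
    ∃ (L : Type u) (_ : Field L) (i : K →+* L) (τ : Spec (.of L) ⟶ Y'),
      τ ≫ h = Spec.map (CommRingCat.ofHom i) ≫ t ∧ τ (closedPoint L) = y' := by
  obtain ⟨z, hz1, hz2⟩ :=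
    Scheme.Pullback.exists_preimage_pullback (f := t) (g := h) (closedPoint K) y' ht
  let P := pullback t h
  let φ : Spec (.of (P.residueField z)) ⟶ P := P.fromSpecResidueField z
  let i : K →+* P.residueField z := (Spec.preimage (φ ≫ pullback.fst t h)).hom
  have hi : Spec.map (CommRingCat.ofHom i) = φ ≫ pullback.fst t h := by
    show Spec.map (Spec.preimage (φ ≫ pullback.fst t h)) = _
    rw [Spec.map_preimage]
  refine ⟨P.residueField z, inferInstance, i, φ ≫ pullback.snd t h, ?_, ?_⟩
  · rw [hi, Category.assoc, Category.assoc, pullback.condition]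
  · rw [Scheme.Hom.comp_apply]
    have : φ (closedPoint _) = z := Scheme.fromSpecResidueField_apply _ _
    rw [this, hz2]

theorem main {X Y X' Y' : Scheme.{u}} {f : X ⟶ Y} {h : Y' ⟶ Y} {f' : X' ⟶ Y'} {h' : X' ⟶ X}
    (sq : IsPullback h' f' f h) (y' : Y') :
    RadPt.IsRadicialAt f (h y') ↔ RadPt.IsRadicialAt f' y' := by
  constructor
  · intro hf
    apply crit_mpr
    intro K _ g₁ g₂ hg hy
    apply sq.hom_ext
    · apply crit_mp f (h y') hf K
      · rw [Category.assoc, Category.assoc, sq.w, ← Category.assoc, ← Category.assoc, hg]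
      · rw [Category.assoc, sq.w, ← Category.assoc, Scheme.Hom.comp_apply, hy]
    · exact hg
  · intro hf'
    apply crit_mpr
    intro K _ g₁ g₂ hg hy
    obtain ⟨L, _, i, τ, hτ, hτpt⟩ := exists_lift_point h y' K (g₁ ≫ f) hy
    let g₁' : Spec (.of L) ⟶ X' :=
      sq.lift (Spec.map (CommRingCat.ofHom i) ≫ g₁) τ (by rw [Category.assoc, hτ])
    let g₂' : Spec (.of L) ⟶ X' :=
      sq.lift (Spec.map (CommRingCat.ofHom i) ≫ g₂) τ (by rw [Category.assoc, ← hg, hτ])
    have h12 : g₁' = g₂' := by
      apply crit_mp f' y' hf' L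
      · rw [sq.lift_snd, sq.lift_snd]
      · rw [sq.lift_snd]; exact hτpt
    apply spec_field_epi i
    have h5 := congr($(h12) ≫ h')
    rwa [sq.lift_fst, sq.lift_fst] at h5

end Groth.Agent.H2.RadPtBC
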