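import Mathlib
import Groth.Prelude.Def_EGA4Misc
import Groth.Agent.H2.RadPtBC

set_option autoImplicit false
set_option linter.style.haveILetI false
set_option linter.unusedSimpArgs false
set_option linter.unusedVariables false
set_option linter.unnecessarySeqFocus false
set_option linter.unusedSectionVars false
set_option backward.isDefEq.respectTransparency.types false

universe u

namespace Groth.Agent.H2.BiratBC

open CategoryTheory AlgebraicGeometry Limits IsLocalRing

section Top

variable {α : Type*} [TopologicalSpace α]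

lemma exists_generic_specializes [QuasiSober α] (x : α) : ∃ z ∈ genericPoints α, z ⤳ x := by
  let c : irreducibleComponents α :=
    ⟨irreducibleComponent x, irreducibleComponent_mem_irreducibleComponents x⟩
  refine ⟨(genericPoints.ofComponent c).1, (genericPoints.ofComponent c).2, ?_⟩
  rw [specializes_iff_mem_closure]
  have h := genericPoints.isGenericPoint_ofComponent c
  rw [h.def]
  exact mem_irreducibleComponent

lemma eq_of_specializes_generic [T0Space α] {x x' : α} (hx : x ∈ genericPoints α)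
    (h : x' ⤳ x) : x' = x := by
  have h1 : closure {x} ⊆ closure {x'} := specializes_iff_closure_subset.mp h
  have hx' : Maximal IsIrreducible (closure {x}) := hx
  have h2 : closure {x'} ⊆ closure {x} := hx'.2 (isIrreducible_singleton.closure) h1
  have h3 : x ⤳ x' := specializes_iff_mem_closure.mpr (h2 (subset_closure rfl))
  exact (h.antisymm h3).eq

lemma mem_genericPoints_of_forall [T0Space α] [QuasiSober α] {x : α}
    (h : ∀ z, z ⤳ x → z = x) : x ∈ genericPoints α := by
  obtain ⟨z, hz, hzx⟩ := exists_generic_specializes x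
  rw [← h z hzx]; exact hz

end Top

variable {X Y : Scheme.{u}}

lemma flat_map_generic (p : X ⟶ Y) [Flat p] {a : X} (ha : a ∈ genericPoints X) :
    p a ∈ genericPoints Y := by
  apply mem_genericPoints_of_forall
  intro b hb
  obtain ⟨a', ha', rfl⟩ := Flat.generalizingMap p hb
  rw [eq_of_specializes_generic ha ha']

def IsoAt (f : X ⟶ Y) (y : Y) : Prop :=
  (∀ x x' : X, f x = y → f x' = y → x = x') ∧
    ∀ x : X, f x = y → Function.Bijective (f.residueFieldMap x).hom

lemma pi_of_bijective {F E : Type u} [Field F] [Field E] (φ : F →+* E)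
    (h : Function.Bijective φ) : φ.IsPurelyInseparable := by
  algebraize [φ]
  rw [RingHom.IsPurelyInseparable, isPurelyInseparable_iff]
  intro x
  obtain ⟨a, rfl⟩ := h.2 x
  exact ⟨isIntegral_algebraMap, fun _ => ⟨a, rfl⟩⟩

lemma exists_section_of_bijective (f : X ⟶ Y) (x : X)
    (hb : Function.Bijective (f.residueFieldMap x).hom) :
    ∃ s : Spec (Y.residueField (f x)) ⟶ X, s ≫ f = Y.fromSpecResidueField (f x) := by
  let e : Y.residueField (f x) ≃+* X.residueField x := RingEquiv.ofBijective _ hb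
  let ψ : X.residueField x ⟶ Y.residueField (f x) := CommRingCat.ofHom e.symm.toRingHom
  refine ⟨Spec.map ψ ≫ X.fromSpecResidueField x, ?_⟩
  rw [Category.assoc, ← f.SpecMap_residueFieldMap_fromSpecResidueField x, ← Spec.map_comp_assoc]
  have h1 : f.residueFieldMap x ≫ ψ = 𝟙 _ := by
    ext a
    show e.symm ((f.residueFieldMap x).hom a) = a
    exact e.symm_apply_apply a
  rw [h1, Spec.map_id, Category.id_comp]

set_option backward.defeqAttrib.useBackward true in
lemma bijective_of_section (f : X ⟶ Y) (y : Y) (s : Spec (Y.residueField y) ⟶ X)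
    (hs : s ≫ f = Y.fromSpecResidueField y) :
    Function.Bijective (f.residueFieldMap (s (closedPoint (Y.residueField y)))).hom := by
  have h1 : Y.fromSpecResidueField y =
      (Y.SpecToEquivOfField (Y.residueField y)).symm ⟨y, 𝟙 _⟩ := by
    rw [Scheme.SpecToEquivOfField_symm_apply]
    dsimp only
    rw [Spec.map_id]
    exact (Category.id_comp _).symm
  have h2 : (Y.SpecToEquivOfField (Y.residueField y)) (s ≫ f) = ⟨y, 𝟙 _⟩ := by
    rw [hs, h1, Equiv.apply_symm_apply]
  obtain ⟨e, h⟩ := Scheme.SpecToEquivOfField_eq_iff.mp h2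
  dsimp at e h
  simp only [Scheme.descResidueField_stalkClosedPointTo_comp, Category.comp_id] at e h
  obtain ⟨ψ, hψ⟩ : ∃ ψ, f.residueFieldMap (s (closedPoint (Y.residueField y))) ≫ ψ =
      (Y.residueFieldCongr e).hom := ⟨_, h⟩
  have hb := ConcreteCategory.bijective_of_isIso (Y.residueFieldCongr e).hom
  rw [← hψ] at hb
  refine ⟨RingHom.injective _, fun b => ?_⟩
  obtain ⟨a, ha⟩ := hb.2 (ψ.hom b)
  refine ⟨a, (RingHom.injective ψ.hom) ?_⟩
  exact ha

lemma lift_point (f : X ⟶ Y) (y : Y) (s : Spec (Y.residueField y) ⟶ X)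
    (hs : s ≫ f = Y.fromSpecResidueField y) (K : Type u) [Field K] (t : Spec (.of K) ⟶ Y)
    (ht : t (closedPoint K) = y) : ∃ a : Spec (.of K) ⟶ X, a ≫ f = t := by
  obtain ⟨⟨y0, ψ⟩, rfl⟩ := (Y.SpecToEquivOfField K).symm.surjective t
  simp only [Scheme.SpecToEquivOfField_symm_apply] at ht ⊢
  have hy0 : y0 = y := by
    rw [← ht, Scheme.Hom.comp_apply, Scheme.fromSpecResidueField_apply]
  subst hy0
  exact ⟨Spec.map ψ ≫ s, by rw [Category.assoc, hs]⟩

lemma isoAt_bc {X Y X' Y' : Scheme.{u}} {f : X ⟶ Y} {g : Y' ⟶ Y} {f' : X' ⟶ Y'} {g' : X' ⟶ X}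
    (sq : IsPullback g' f' f g) (y' : Y') (h : IsoAt f (g y')) : IsoAt f' y' := by
  have hrad : RadPt.IsRadicialAt f (g y') :=
    ⟨h.1, fun x hx => pi_of_bijective _ (h.2 x hx)⟩
  have hrad' : RadPt.IsRadicialAt f' y' := (RadPtBC.main sq y').mp hrad
  refine ⟨hrad'.1, ?_⟩
  intro x' hx'
  subst hx'
  have hgx : f (g' x') = g (f' x') := by
    rw [← Scheme.Hom.comp_apply, sq.w, Scheme.Hom.comp_apply]
  obtain ⟨s, hs⟩ := exists_section_of_bijective f (g' x') (h.2 (g' x') hgx)
  obtain ⟨a, ha⟩ := lift_point f (f (g' x')) s hs (Y'.residueField (f' x'))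
    (Y'.fromSpecResidueField (f' x') ≫ g)
    (by rw [Scheme.Hom.comp_apply, Scheme.fromSpecResidueField_apply, hgx])
  let s' : Spec (Y'.residueField (f' x')) ⟶ X' :=
    sq.lift a (Y'.fromSpecResidueField (f' x')) ha
  have hs' : s' ≫ f' = Y'.fromSpecResidueField (f' x') := sq.lift_snd _ _ _
  have hpt : s' (closedPoint (Y'.residueField (f' x'))) = x' := by
    apply hrad'.1 _ _ _ rfl
    rw [← Scheme.Hom.comp_apply, hs', Scheme.fromSpecResidueField_apply]
  have hb := bijective_of_section f' (f' x') s' hs'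
  exact hpt ▸ hb

theorem main {X Y X' Y' : Scheme.{u}} {f : X ⟶ Y} {g : Y' ⟶ Y} [Flat g] {f' : X' ⟶ Y'}
    {g' : X' ⟶ X} (sq : IsPullback g' f' f g) (hf : RadPt.IsBirational f) :
    RadPt.IsBirational f' := by
  haveI : Flat g' := MorphismProperty.of_isPullback (P := @Flat) sq.flip inferInstance
  obtain ⟨hbij, hiso⟩ := hf
  have key : ∀ y' : Y', g y' ∈ genericPoints Y → IsoAt f' y' := fun y' hy' =>
    isoAt_bc sq y' (hiso (g y') hy')
  have hw : ∀ x' : X', f (g' x') = g (f' x') := fun x' => by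
    rw [← Scheme.Hom.comp_apply, sq.w, Scheme.Hom.comp_apply]
  have hgY : ∀ y' ∈ genericPoints Y', g y' ∈ genericPoints Y :=
    fun y' hy' => flat_map_generic g hy'
  have hgX : ∀ x' ∈ genericPoints X', g' x' ∈ genericPoints X :=
    fun x' hx' => flat_map_generic g' hx'
  have hgen : ∀ x' ∈ genericPoints X', g (f' x') ∈ genericPoints Y := fun x' hx' => by
    rw [← hw x']; exact hbij.mapsTo (hgX x' hx')
  refine ⟨⟨?_, ?_, ?_⟩, fun y' hy' => key y' (hgY y' hy')⟩
  · -- MapsTo
    intro x' hx'
    apply mem_genericPoints_of_forall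
    intro y'' hy''
    have hxg : g' x' ∈ genericPoints X := hgX x' hx'
    have hyg : f (g' x') ∈ genericPoints Y := hbij.mapsTo hxg
    have h1 : g y'' ⤳ g (f' x') := hy''.map g.continuous
    have h2 : g y'' = f (g' x') := by
      rw [hw x']; exact eq_of_specializes_generic (hw x' ▸ hyg) h1
    obtain ⟨s, hs⟩ := exists_section_of_bijective f (g' x') ((hiso _ hyg).2 (g' x') rfl)
    let σ : g.fiber (f (g' x')) ⟶ X' :=
      sq.lift (g.fiberToSpecResidueField (f (g' x')) ≫ s) (g.fiberι (f (g' x')))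
        (by rw [Category.assoc, hs]; exact (g.fiber_fac (f (g' x'))).symm)
    have hσ : σ ≫ f' = g.fiberι (f (g' x')) := sq.lift_snd _ _ _
    have hr := g.range_fiberι (f (g' x'))
    obtain ⟨η', hη'⟩ : f' x' ∈ Set.range (g.fiberι (f (g' x'))) := by
      rw [hr]; exact (hw x').symm
    obtain ⟨η'', hη''⟩ : y'' ∈ Set.range (g.fiberι (f (g' x'))) := by
      rw [hr]; exact h2
    have hsp : η'' ⤳ η' :=
      ((g.fiberι (f (g' x'))).isEmbedding.toIsInducing.specializes_iff).mp
        (by rw [hη', hη'']; exact hy'')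
    have hsp2 : σ η'' ⤳ σ η' := hsp.map σ.continuous
    have e1 : f' (σ η') = f' x' := by rw [← Scheme.Hom.comp_apply, hσ, hη']
    have e2 : f' (σ η'') = y'' := by rw [← Scheme.Hom.comp_apply, hσ, hη'']
    have hk := key (f' x') (hgen x' hx')
    have e3 : σ η' = x' := hk.1 _ _ e1 rfl
    rw [e3] at hsp2
    have e4 : σ η'' = x' := eq_of_specializes_generic hx' hsp2
    rw [← e2, e4]
  · -- InjOn
    intro x1 hx1 x2 hx2 h12
    exact (key (f' x1) (hgen x1 hx1)).1 x1 x2 rfl h12.symm
  · -- SurjOn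
    intro y' hy'
    obtain ⟨x, hx, hxy⟩ := hbij.surjOn (hgY y' hy')
    obtain ⟨z, hz1, hz2⟩ :=
      Scheme.Pullback.exists_preimage_pullback (f := f) (g := g) x y' hxy
    have h1 : f' (sq.isoPullback.inv z) = y' := by
      rw [← Scheme.Hom.comp_apply, sq.isoPullback_inv_snd]; exact hz2
    refine ⟨sq.isoPullback.inv z, ?_, h1⟩
    apply mem_genericPoints_of_forall
    intro x'' hx''
    have h2 : f' x'' ⤳ f' (sq.isoPullback.inv z) := hx''.map f'.continuous
    have h3 : f' x'' = f' (sq.isoPullback.inv z) :=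
      eq_of_specializes_generic (h1.symm ▸ hy') h2
    exact (key y' (hgY y' hy')).1 x'' _ (h3.trans h1) h1

end Groth.Agent.H2.BiratBC
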