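import Mathlib

/-!
Helper library for S4432: the `A`-subalgebra of `K` generated by the coefficients of the
characteristic polynomials of `v ⊗ 1` (`v` an endomorphism of a finite `A`-module `E` with
`K ⊗ E` free over `K`) is a finite `A`-module.  Idea: it stabilises the finitely generated
`A`-submodule `L ⊆ K` spanned by the determinants of tuples of vectors of `E`, which is a faithful
"lattice".
-/

set_option autoImplicit false
set_option linter.style.haveILetI false

open Polynomial TensorProduct

namespace Groth.Agent.H2.CharCoeff

universe u

/-- A multilinear map whose values on tuples from a spanning set lie in a submodule has all its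
values in that submodule. -/
lemma mem_of_span {R M N ι : Type*} [CommRing R] [AddCommGroup M] [Module R M]
    [AddCommGroup N] [Module R N] [Fintype ι] [DecidableEq ι]
    (g : MultilinearMap R (fun _ : ι => M) N) (S : Set M) (hS : Submodule.span R S = ⊤)
    (W : Submodule R N) (h : ∀ y : ι → M, (∀ i, y i ∈ S) → g y ∈ W) :
    ∀ y : ι → M, g y ∈ W := by
  have key : ∀ t : Finset ι, ∀ y : ι → M, (∀ i, i ∉ t → y i ∈ S) → g y ∈ W := by
    intro t
    induction t using Finset.induction_on with
    | empty => intro y hy; exact h y (fun i => hy i (Finset.notMem_empty i))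
    | insert a t hat ih =>
      intro y hy
      have hlin : ∀ z ∈ Submodule.span R S, g (Function.update y a z) ∈ W := by
        intro z hz
        induction hz using Submodule.span_induction with
        | mem w hw =>
          apply ih
          intro i hi
          by_cases hia : i = a
          · subst hia
            rw [Function.update_self]
            exact hw
          · rw [Function.update_of_ne hia]
            apply hy i
            rw [Finset.mem_insert]
            push Not
            exact ⟨hia, hi⟩
        | zero => rw [g.map_update_zero]; exact W.zero_mem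
        | add z w _ _ hz hw => rw [g.map_update_add]; exact W.add_mem hz hw
        | smul c z _ hz => rw [g.map_update_smul]; exact W.smul_mem c hz
      have := hlin (y a) (by rw [hS]; trivial)
      rwa [Function.update_eq_self] at this
  intro y
  exact key Finset.univ y (fun i hi => absurd (Finset.mem_univ i) hi)

section poly
variable {A K : Type*} [CommRing A] [CommRing K] [Algebra A K] (L : Submodule A K)

/-- polynomials with all coefficients in `L` -/
def Q (P : K[X]) : Prop := ∀ k, P.coeff k ∈ L

lemma Q_C {d : K} (hd : d ∈ L) : Q L (C d) := by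
  intro k
  rw [Polynomial.coeff_C]
  split_ifs
  · exact hd
  · exact L.zero_mem

lemma Q_X_mul {P : K[X]} (h : Q L P) : Q L (X * P) := by
  intro k
  cases k with
  | zero => rw [Polynomial.coeff_X_mul_zero]; exact L.zero_mem
  | succ k => rw [Polynomial.coeff_X_mul]; exact h k

lemma Q_neg_one_mul {P : K[X]} (h : Q L P) : Q L (-1 * P) := by
  intro k
  rw [neg_one_mul, Polynomial.coeff_neg]
  exact L.neg_mem (h k)

lemma Q_prod_mul {ι : Type*} [DecidableEq ι] (t s : Finset ι) {P : K[X]} (h : Q L P) :
    Q L ((∏ j ∈ t, (if j ∈ s then (X : K[X]) else -1)) * P) := by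
  induction t using Finset.induction_on with
  | empty => simpa using h
  | insert a t hat ih =>
    rw [Finset.prod_insert hat, mul_assoc]
    split_ifs
    · exact Q_X_mul L ih
    · exact Q_neg_one_mul L ih

lemma Q_sum {σ : Type*} (T : Finset σ) (F : σ → K[X]) (h : ∀ s ∈ T, Q L (F s)) :
    Q L (∑ s ∈ T, F s) := by
  intro k
  rw [Polynomial.finsetSum_coeff]
  exact L.sum_mem (fun s hs => h s hs k)

end poly

section expansion
variable {K T ι : Type*} [CommRing K] [AddCommGroup T] [Module K T] [Fintype ι] [DecidableEq ι]

lemma det_rows_C (b : Module.Basis ι K T) (y : ι → T) :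
    Matrix.det (fun j i => (C (b.repr (y j) i) : K[X])) = C (b.det y) := by
  rw [Module.Basis.det_apply, RingHom.map_det, ← Matrix.det_transpose]
  rfl

lemma charpoly_mul_det (b : Module.Basis ι K T) (f : T →ₗ[K] T) (x : ι → T) :
    (LinearMap.toMatrix b b f).charpoly * C (b.det x) =
      ∑ s : Finset ι, (∏ j, (if j ∈ s then (X : K[X]) else -1)) *
        C (b.det (fun j => if j ∈ s then x j else f (x j))) := by
  set V := LinearMap.toMatrix b b f with hV
  have h1 : V.charpoly * C (b.det x) = (V.charmatrix * (b.toMatrix x).map C).det := by
    rw [Matrix.det_mul, Matrix.charpoly, Module.Basis.det_apply, RingHom.map_det]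
    rfl
  have hVX : ∀ i j, (V * b.toMatrix x) i j = b.repr (f (x j)) i := by
    intro i j
    have := congrFun (LinearMap.toMatrix_mulVec_repr b b f (x j)) i
    rw [← this]
    rfl
  have hN : ∀ i j, (V.charmatrix * (b.toMatrix x).map C) i j =
      X * C (b.repr (x j) i) - C (b.repr (f (x j)) i) := by
    intro i j
    rw [Matrix.charmatrix, Matrix.sub_mul, Matrix.sub_apply, ← hVX]
    congr 1
    · rw [Matrix.scalar_apply, Matrix.diagonal_mul]
      rfl
    · rw [RingHom.mapMatrix_apply, ← Matrix.map_mul]
      rfl
  set m₁ : ι → (ι → K[X]) := fun j i => C (b.repr (x j) i) with hm₁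
  set m₂ : ι → (ι → K[X]) := fun j i => - C (b.repr (f (x j)) i) with hm₂
  have hrows : Matrix.transpose (V.charmatrix * (b.toMatrix x).map C) = (fun j => (X : K[X]) • m₁ j) + m₂ := by
    funext j i
    rw [Matrix.transpose_apply, hN]
    simp only [hm₁, hm₂, Pi.add_apply, Pi.smul_apply, smul_eq_mul]
    ring
  rw [h1, ← Matrix.det_transpose, hrows]
  have hadd := (Matrix.detRowAlternating (R := K[X]) (n := ι)).toMultilinearMap.map_add_univ
    (fun j => (X : K[X]) • m₁ j) m₂
  have hdet : Matrix.det ((fun j => (X : K[X]) • m₁ j) + m₂) =
      (Matrix.detRowAlternating (R := K[X]) (n := ι)).toMultilinearMap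
        ((fun j => (X : K[X]) • m₁ j) + m₂) := rfl
  rw [hdet, hadd]
  apply Finset.sum_congr rfl
  intro s _
  have hpw : s.piecewise (fun j => (X : K[X]) • m₁ j) m₂ =
      fun j => (if j ∈ s then (X : K[X]) else -1) •
        (fun i => (C (b.repr ((fun j => if j ∈ s then x j else f (x j)) j) i) : K[X])) := by
    funext j
    by_cases hj : j ∈ s
    · simp only [Finset.piecewise, hj, if_true, hm₁]
    · simp only [Finset.piecewise, hj, if_false, hm₂]
      funext i
      simp
  rw [hpw, MultilinearMap.map_smul_univ, smul_eq_mul]
  congr 1
  exact det_rows_C b _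

end expansion

section main

variable (A : Type u) [CommRing A] [IsNoetherianRing A]
  (K : Type u) [CommRing K] [Algebra A K]
  (E : Type u) [AddCommGroup E] [Module A E] [Module.Finite A E]
  [Module.Free K (K ⊗[A] E)]

theorem main :
    (Algebra.adjoin A {c : K | ∃ (v : E →ₗ[A] E) (j : ℕ),
        c = ((v.baseChange K).charpoly).coeff j}).toSubmodule.FG := by
  classical
  set T := K ⊗[A] E with hT
  set ι := Module.Free.ChooseBasisIndex K T with hι
  set b : Module.Basis ι K T := Module.Free.chooseBasis K T with hb
  obtain ⟨G, hG⟩ := (Module.Finite.fg_top : (⊤ : Submodule A E).FG)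
  -- the A-multilinear determinant of tuples of vectors of E
  set gA : MultilinearMap A (fun _ : ι => E) K :=
    (b.det.toMultilinearMap.restrictScalars A).compLinearMap
      (fun _ => TensorProduct.mk A K E 1) with hgA
  have gA_apply : ∀ e : ι → E, gA e = b.det (fun i => (1 : K) ⊗ₜ[A] e i) := fun e => rfl
  set Lset : Set K := gA '' {e | ∀ i, e i ∈ (G : Set E)} with hLset
  have hfin : Lset.Finite := (Set.Finite.pi' (fun _ => G.finite_toSet)).image _
  set L : Submodule A K := Submodule.span A Lset with hL
  have hLfg : L.FG := Submodule.fg_span hfin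
  have hL_all : ∀ e : ι → E, gA e ∈ L :=
    mem_of_span gA (G : Set E) hG L (fun y hy => Submodule.subset_span ⟨y, hy, rfl⟩)
  -- Claim 1: the coefficients stabilise L
  have claim1 : ∀ (v : E →ₗ[A] E) (k : ℕ), ∀ l ∈ L,
      ((v.baseChange K).charpoly).coeff k * l ∈ L := by
    intro v k
    set c := ((v.baseChange K).charpoly).coeff k with hc
    have hle : L ≤ L.comap (LinearMap.mulLeft A c) := by
      rw [hL, Submodule.span_le]
      rintro _ ⟨e, _, rfl⟩
      show c * gA e ∈ L
      have hexp := charpoly_mul_det b (v.baseChange K) (fun i => (1 : K) ⊗ₜ[A] e i)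
      rw [LinearMap.charpoly_toMatrix] at hexp
      have hcoef := congrArg (fun P => P.coeff k) hexp
      simp only [Polynomial.coeff_mul_C] at hcoef
      rw [gA_apply, hc, hcoef]
      apply Q_sum L
      intro s _
      apply Q_prod_mul L
      apply Q_C L
      have : (fun j => if j ∈ s then (1 : K) ⊗ₜ[A] e j else (v.baseChange K) ((1 : K) ⊗ₜ[A] e j)) =
          fun j => (1 : K) ⊗ₜ[A] (if j ∈ s then e j else v (e j)) := by
        funext j
        split_ifs
        · rfl
        · rw [LinearMap.baseChange_tmul]
      rw [this, ← gA_apply]
      exact hL_all _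
    intro l hl
    exact hle hl
  -- Claim 2: L is faithful
  have claim2 : ∀ z : K, (∀ l ∈ L, z * l = 0) → z = 0 := by
    intro z hz
    set W : Submodule K K := Submodule.span K (L : Set K) with hW
    have hS : Submodule.span K (Set.range (TensorProduct.mk A K E 1)) = ⊤ := by
      rw [eq_top_iff]
      rintro t -
      induction t using TensorProduct.induction_on with
      | zero => exact Submodule.zero_mem _
      | tmul a e =>
        have : a ⊗ₜ[A] e = a • ((1 : K) ⊗ₜ[A] e) := by
          rw [TensorProduct.smul_tmul', smul_eq_mul, mul_one]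
        rw [this]
        exact Submodule.smul_mem _ _ (Submodule.subset_span ⟨e, rfl⟩)
      | add x y hx hy => exact Submodule.add_mem _ hx hy
    have h1W : (1 : K) ∈ W := by
      have := mem_of_span b.det.toMultilinearMap (Set.range (TensorProduct.mk A K E 1)) hS W
        (fun y hy => by
          choose e he using hy
          have : y = fun i => (1 : K) ⊗ₜ[A] e i := by
            funext i
            exact (he i).symm
          rw [this]
          apply Submodule.subset_span
          show b.det (fun i => (1 : K) ⊗ₜ[A] e i) ∈ L
          rw [← gA_apply]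
          exact hL_all e) b
      rwa [AlternatingMap.coe_multilinearMap, Module.Basis.det_self] at this
    have hzW : ∀ w ∈ W, z * w = 0 := by
      intro w hw
      induction hw using Submodule.span_induction with
      | mem w hw => exact hz w hw
      | zero => exact mul_zero z
      | add x y _ _ hx hy => rw [mul_add, hx, hy, add_zero]
      | smul a x _ hx => rw [smul_eq_mul, mul_left_comm, hx, mul_zero]
    simpa using hzW 1 h1W
  -- the stabiliser subalgebra
  let B : Subalgebra A K :=
    { carrier := {z | ∀ l ∈ L, z * l ∈ L}
      mul_mem' := by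
        intro z w hz hw l hl
        rw [mul_assoc]
        exact hz _ (hw l hl)
      one_mem' := by
        intro l hl
        rwa [one_mul]
      add_mem' := by
        intro z w hz hw l hl
        rw [add_mul]
        exact L.add_mem (hz l hl) (hw l hl)
      zero_mem' := by
        intro l _
        rw [zero_mul]
        exact L.zero_mem
      algebraMap_mem' := by
        intro a l hl
        rw [← Algebra.smul_def]
        exact L.smul_mem a hl }
  have hadj : Algebra.adjoin A {c : K | ∃ (v : E →ₗ[A] E) (j : ℕ),
      c = ((v.baseChange K).charpoly).coeff j} ≤ B := by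
    apply Algebra.adjoin_le
    rintro c ⟨v, j, rfl⟩
    exact claim1 v j
  -- B is a finite A-module
  obtain ⟨F, hF⟩ := hLfg
  have hFL : ∀ d ∈ F, d ∈ L := fun d hd => hF ▸ Submodule.subset_span hd
  haveI : IsNoetherian A L := isNoetherian_of_fg_of_noetherian L ⟨F, hF⟩
  let Φ : Subalgebra.toSubmodule B →ₗ[A] ({d : K // d ∈ F} → L) :=
    { toFun := fun z d => ⟨z.1 * d.1, z.2 d.1 (hFL d.1 d.2)⟩
      map_add' := by
        intro z w
        funext d
        apply Subtype.ext
        show (z.1 + w.1) * d.1 = z.1 * d.1 + w.1 * d.1
        rw [add_mul]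
      map_smul' := by
        intro a z
        funext d
        apply Subtype.ext
        show (a • z.1) * d.1 = a • (z.1 * d.1)
        rw [smul_mul_assoc] }
  have hΦ : Function.Injective Φ := by
    rw [← LinearMap.ker_eq_bot, LinearMap.ker_eq_bot']
    intro z hz
    apply Subtype.ext
    show z.1 = 0
    apply claim2
    intro l hl
    rw [← hF] at hl
    induction hl using Submodule.span_induction with
    | mem d hd =>
      have := congrArg Subtype.val (congrFun hz ⟨d, hd⟩)
      exact this
    | zero => exact mul_zero _
    | add x y _ _ hx hy => rw [mul_add, hx, hy, add_zero]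
    | smul a x _ hx => rw [mul_smul_comm, hx, smul_zero]
  haveI : Module.Finite A (Subalgebra.toSubmodule B) := Module.Finite.of_injective Φ hΦ
  haveI : IsNoetherian A (Subalgebra.toSubmodule B) := isNoetherian_of_isNoetherianRing_of_finite A _
  have hle : Subalgebra.toSubmodule (Algebra.adjoin A {c : K | ∃ (v : E →ₗ[A] E) (j : ℕ),
      c = ((v.baseChange K).charpoly).coeff j}) ≤ Subalgebra.toSubmodule B := fun x hx => hadj hx
  haveI := isNoetherian_of_le hle
  exact Module.Finite.iff_fg.mp inferInstance

end main

end Groth.Agent.H2.CharCoeff
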