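import Mathlib
import Groth.Agent.H2.CliffBasis

set_option autoImplicit false

/-!
Centre of a Clifford algebra of a nondegenerate quadratic form (helper for S12487, S12488).
-/

universe u v

namespace Groth.Agent.H2.CliffCenter

open CliffordAlgebra

theorem filter_length {n : ℕ} (S : Finset (Fin n)) (i : Fin n) :
    ((S.sort (fun a b => a ≤ b)).filter (fun j => decide (j ≠ i))).length = (S.erase i).card := by
  have h1 : ((S.sort (fun a b => a ≤ b)).filter (fun j => decide (j ≠ i))).toFinset =
      S.erase i := by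
    ext j
    simp only [List.mem_toFinset, List.mem_filter, Finset.mem_sort, Finset.mem_erase,
      decide_eq_true_eq]
    tauto
  have h2 : ((S.sort (fun a b => a ≤ b)).filter (fun j => decide (j ≠ i))).Nodup :=
    (Finset.sort_nodup S _).filter _
  rw [← h1, List.toFinset_card_of_nodup h2]

section signs

variable {k : Type u} [Field k] {V : Type v} [AddCommGroup V] [Module k V]
  (Q : QuadraticForm k V) {n : ℕ} (e : Fin n → V)

/-- ordered product along a list of indices -/
noncomputable def P (l : List (Fin n)) : CliffordAlgebra Q :=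
  (l.map (fun i => ι Q (e i))).prod

theorem P_nil : P Q e [] = 1 := by simp [P]

theorem P_cons (j : Fin n) (l : List (Fin n)) : P Q e (j :: l) = ι Q (e j) * P Q e l := by
  simp [P]

theorem mul_ι_cancel (w : V) (hw : Q w ≠ 0) {x y : CliffordAlgebra Q}
    (h : x * ι Q w = y * ι Q w) : x = y := by
  have hx : ∀ z : CliffordAlgebra Q, z * ι Q w * ι Q w = Q w • z := fun z => by
    rw [mul_assoc, ι_sq_scalar, ← Algebra.commutes, ← Algebra.smul_def]
  have h1 : Q w • x = Q w • y := by rw [← hx, ← hx, h]
  exact smul_right_injective _ hw h1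

variable (horth : ∀ i j, i ≠ j → QuadraticMap.polar Q (e i) (e j) = 0)

include horth

theorem anti (i j : Fin n) (hij : i ≠ j) :
    ι Q (e i) * ι Q (e j) = -(ι Q (e j) * ι Q (e i)) := by
  have h := ι_mul_ι_add_swap (Q := Q) (e i) (e j)
  rw [horth i j hij, map_zero] at h
  exact eq_neg_of_add_eq_zero_left h

theorem comm_P (i : Fin n) (l : List (Fin n)) :
    ι Q (e i) * P Q e l =
      ((-1 : k) ^ (l.filter (fun j => decide (j ≠ i))).length) • (P Q e l * ι Q (e i)) := by
  induction l with
  | nil => simp [P_nil]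
  | cons j l ih =>
    by_cases hji : j = i
    · subst hji
      rw [List.filter_cons_of_neg (by simp), P_cons]
      conv_lhs => rw [ih]
      rw [mul_smul_comm, mul_assoc]
    · have e1 : ι Q (e i) * (ι Q (e j) * P Q e l) = -(ι Q (e j) * (ι Q (e i) * P Q e l)) := by
        rw [← mul_assoc, anti Q e horth i j (Ne.symm hji), neg_mul, mul_assoc]
      rw [List.filter_cons_of_pos (by simpa using hji), List.length_cons, P_cons, e1, ih,
        mul_smul_comm, pow_succ, mul_neg_one, neg_smul, mul_assoc]

theorem sq_P (l : List (Fin n)) (hl : l.Nodup) :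
    P Q e l * P Q e l = algebraMap k (CliffordAlgebra Q)
      ((-1 : k) ^ (∑ i ∈ Finset.range l.length, i) * (l.map (fun i => Q (e i))).prod) := by
  induction l with
  | nil => simp [P_nil]
  | cons j l ih =>
    rw [List.nodup_cons] at hl
    have hfilt : l.filter (fun a => decide (a ≠ j)) = l := by
      rw [List.filter_eq_self]
      intro a ha
      have : a ≠ j := fun h => hl.1 (h ▸ ha)
      simpa using this
    have h1 := comm_P Q e horth j l
    rw [hfilt] at h1
    have hss : ((-1 : k) ^ l.length) * ((-1 : k) ^ l.length) = 1 := by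
      rw [← mul_pow, neg_one_mul, neg_neg, one_pow]
    have h2 : P Q e l * ι Q (e j) = ((-1 : k) ^ l.length) • (ι Q (e j) * P Q e l) := by
      rw [h1, smul_smul, hss, one_smul]
    have h3 : P Q e (j :: l) * P Q e (j :: l) =
        ((-1 : k) ^ l.length) • (ι Q (e j) * ι Q (e j) * (P Q e l * P Q e l)) := by
      rw [P_cons]
      calc ι Q (e j) * P Q e l * (ι Q (e j) * P Q e l)
          = ι Q (e j) * (P Q e l * ι Q (e j)) * P Q e l := by simp only [mul_assoc]
        _ = ι Q (e j) * (((-1 : k) ^ l.length) • (ι Q (e j) * P Q e l)) * P Q e l := by rw [h2]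
        _ = ((-1 : k) ^ l.length) • (ι Q (e j) * ι Q (e j) * (P Q e l * P Q e l)) := by
            rw [mul_smul_comm, smul_mul_assoc]; simp only [mul_assoc]
    rw [h3, ih hl.2, ι_sq_scalar, ← map_mul, Algebra.smul_def, ← map_mul, List.length_cons,
      Finset.sum_range_succ, pow_add, List.map_cons, List.prod_cons]
    congr 1
    ring

variable (h2 : (2 : k) ≠ 0) (b : Module.Basis (Finset (Fin n)) k (CliffordAlgebra Q))
  (hb : ∀ S, b S = P Q e (S.sort (fun a b => a ≤ b))) (hQ : ∀ i, Q (e i) ≠ 0)

include hb hQ

theorem coeff_sign (x : CliffordAlgebra Q) (hx : x ∈ Subalgebra.center k (CliffordAlgebra Q))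
    (S : Finset (Fin n)) (i : Fin n) :
    b.repr x S * (-1 : k) ^ (S.erase i).card = b.repr x S := by
  have hc : ∀ g, g * x = x * g := Subalgebra.mem_center_iff.mp hx
  have hK : ∀ T : Finset (Fin n),
      ι Q (e i) * b T = ((-1 : k) ^ (T.erase i).card) • (b T * ι Q (e i)) := by
    intro T; rw [hb, comm_P Q e horth, filter_length]
  have e1 : (∑ T, (b.repr x T * (-1 : k) ^ (T.erase i).card) • b T) * ι Q (e i) =
      x * ι Q (e i) := by
    rw [← hc (ι Q (e i))]
    conv_rhs => rw [← b.sum_repr x]
    rw [Finset.sum_mul, Finset.mul_sum]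
    refine Finset.sum_congr rfl fun T _ => ?_
    rw [mul_smul_comm, hK, smul_smul, smul_mul_assoc]
  have e2 := mul_ι_cancel Q (e i) (hQ i) e1
  have e3 := congrArg (fun y => b.repr y S) e2
  simp only [Module.Basis.repr_sum_self] at e3
  exact e3

include h2

theorem support_center (x : CliffordAlgebra Q)
    (hx : x ∈ Subalgebra.center k (CliffordAlgebra Q))
    (S : Finset (Fin n)) (hS : b.repr x S ≠ 0) : S = ∅ ∨ (S = Finset.univ ∧ Odd n) := by
  have hsign : ∀ i, (-1 : k) ^ (S.erase i).card = 1 := by
    intro i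
    have h := coeff_sign Q e horth b hb hQ x hx S i
    have h0 : b.repr x S * ((-1 : k) ^ (S.erase i).card - 1) = 0 := by
      rw [mul_sub, h, mul_one, sub_self]
    rcases mul_eq_zero.mp h0 with h0 | h0
    · exact absurd h0 hS
    · exact sub_eq_zero.mp h0
  have hne : (-1 : k) ≠ 1 := by
    intro h
    apply h2
    have e2 : (2 : k) = 1 - (-1) := by norm_num
    rw [e2, h, sub_self]
  by_cases hS0 : S = ∅
  · left; exact hS0
  · right
    obtain ⟨i, hi⟩ := Finset.nonempty_iff_ne_empty.mpr hS0
    have h1 := hsign i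
    rw [Finset.card_erase_of_mem hi] at h1
    have hcard : 1 ≤ S.card := Finset.card_pos.mpr ⟨i, hi⟩
    have hSu : S = Finset.univ := by
      by_contra hne'
      obtain ⟨j, hj⟩ : ∃ j, j ∉ S := by
        by_contra hall
        push Not at hall
        exact hne' (Finset.eq_univ_iff_forall.mpr hall)
      have h3 := hsign j
      rw [Finset.erase_eq_of_notMem hj] at h3
      have e3 : (-1 : k) ^ S.card = (-1) ^ (S.card - 1) * (-1) := by
        rw [← pow_succ, Nat.sub_add_cancel hcard]
      rw [e3, h1, one_mul] at h3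
      exact hne h3
    refine ⟨hSu, ?_⟩
    rw [hSu, Finset.card_univ, Fintype.card_fin] at h1 hcard
    rcases Nat.even_or_odd n with he | ho
    · exfalso
      have hodd : Odd (n - 1) := Nat.Even.sub_odd hcard he odd_one
      rw [hodd.neg_one_pow] at h1
      exact hne h1
    · exact ho

end signs

section main

variable {k : Type u} [Field k] (h2 : (2 : k) ≠ 0) {V : Type v} [AddCommGroup V] [Module k V]

theorem setup {n : ℕ} (Q : QuadraticForm k V)
    (hreg : (QuadraticMap.polarBilin Q).Nondegenerate)
    (e : Module.Basis (Fin n) k V) (he : (QuadraticMap.polarBilin Q).IsOrthoᵢ e) :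
    (∀ i j, i ≠ j → QuadraticMap.polar Q (e i) (e j) = 0) ∧ (∀ i, Q (e i) ≠ 0) := by
  constructor
  · intro i j hij
    have := LinearMap.isOrthoᵢ_def.1 he i j hij
    rwa [QuadraticMap.polarBilin_apply_apply] at this
  · intro i hq
    have h1 := LinearMap.BilinForm.iIsOrtho.not_isOrtho_basis_self_of_nondegenerate
      (v := e) he hreg i
    apply h1
    rw [QuadraticMap.polarBilin_apply_apply, QuadraticMap.polar_self, hq, smul_zero]

include h2

theorem center_even [FiniteDimensional k V] (Q : QuadraticForm k V)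
    (hreg : (QuadraticMap.polarBilin Q).Nondegenerate) (heven : Even (Module.finrank k V)) :
    Subalgebra.center k (CliffordAlgebra Q) = ⊥ := by
  letI : Invertible (2 : k) := invertibleOfNonzero h2
  have hsymm : (QuadraticMap.polarBilin Q).IsSymm :=
    ⟨fun x y => by
      rw [RingHom.id_apply, QuadraticMap.polarBilin_apply_apply,
        QuadraticMap.polarBilin_apply_apply, QuadraticMap.polar_comm]⟩
  obtain ⟨e, he⟩ := LinearMap.BilinForm.exists_orthogonal_basis hsymm
  obtain ⟨horth, hQ⟩ := setup Q hreg e he
  obtain ⟨b, hb⟩ := CliffBasis.main k h2 V _ e Q he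
  have hb' : ∀ S, b S = P Q e (S.sort (fun a b => a ≤ b)) := fun S => hb S
  rw [eq_bot_iff]
  intro x hx
  rw [Algebra.mem_bot]
  have hzero : ∀ S, S ≠ ∅ → b.repr x S = 0 := by
    intro S hS
    by_contra hne
    rcases support_center Q e horth h2 b hb' hQ x hx S hne with h | ⟨_, hodd⟩
    · exact hS h
    · exact (Nat.not_even_iff_odd.mpr hodd) heven
  refine ⟨b.repr x ∅, ?_⟩
  conv_rhs => rw [← b.sum_repr x]
  rw [Finset.sum_eq_single ∅ (fun S _ hS => by rw [hzero S hS, zero_smul])
    (fun h => absurd (Finset.mem_univ _) h), hb', Finset.sort_empty, P_nil,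
    Algebra.algebraMap_eq_smul_one]

theorem center_odd {n : ℕ} (Q : QuadraticForm k V)
    (hreg : (QuadraticMap.polarBilin Q).Nondegenerate)
    (hodd : Odd n) (e : Module.Basis (Fin n) k V)
    (horth' : (QuadraticMap.polarBilin Q).IsOrthoᵢ e) :
    (List.ofFn fun i => CliffordAlgebra.ι Q (e i)).prod ^ 2 =
        algebraMap k (CliffordAlgebra Q) ((-1) ^ (n * (n - 1) / 2) * ∏ i, Q (e i)) ∧
      Subalgebra.center k (CliffordAlgebra Q) =
        Algebra.adjoin k {(List.ofFn fun i => CliffordAlgebra.ι Q (e i)).prod} ∧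
      Module.finrank k (Subalgebra.center k (CliffordAlgebra Q)) = 2 := by
  obtain ⟨horth, hQ⟩ := setup Q hreg e horth'
  obtain ⟨b, hb⟩ := CliffBasis.main k h2 V n e Q horth'
  have hb' : ∀ S, b S = P Q e (S.sort (fun a b => a ≤ b)) := fun S => hb S
  have hz : (List.ofFn fun i => CliffordAlgebra.ι Q (e i)).prod = P Q e (List.finRange n) := by
    unfold P; rw [List.ofFn_eq_map]
  have hbu : b Finset.univ = P Q e (List.finRange n) := by rw [hb', Fin.sort_univ]
  have hb0 : b ∅ = 1 := by rw [hb', Finset.sort_empty, P_nil]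
  have hn : 0 < n := hodd.pos
  haveI : Nonempty (Fin n) := ⟨⟨0, hn⟩⟩
  have hne_eu : (∅ : Finset (Fin n)) ≠ Finset.univ := (Finset.univ_nonempty).ne_empty.symm
  rw [hz]
  obtain ⟨z, hzdef⟩ : ∃ z, z = P Q e (List.finRange n) := ⟨_, rfl⟩
  rw [← hzdef]
  rw [← hzdef] at hbu
  have hzc : z ∈ Subalgebra.center k (CliffordAlgebra Q) := by
    rw [Subalgebra.mem_center_iff]
    have hι : ∀ i, ι Q (e i) * z = z * ι Q (e i) := by
      intro i
      rw [hzdef, comm_P Q e horth, ← Fin.sort_univ, filter_length,
        Finset.card_erase_of_mem (Finset.mem_univ i), Finset.card_univ, Fintype.card_fin]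
      have hev : Even (n - 1) := Nat.Odd.sub_odd hodd odd_one
      rw [hev.neg_one_pow, one_smul]
    intro g
    induction g using CliffordAlgebra.induction with
    | algebraMap r => exact Algebra.commutes r z
    | ι w =>
      rw [← e.sum_repr w, map_sum, Finset.sum_mul, Finset.mul_sum]
      refine Finset.sum_congr rfl fun i _ => ?_
      rw [map_smul, smul_mul_assoc, mul_smul_comm, hι]
    | mul a b ha hb => rw [mul_assoc, hb, ← mul_assoc a z b, ha, mul_assoc]
    | add a b ha hb => rw [add_mul, mul_add, ha, hb]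
  have hdec : ∀ x ∈ Subalgebra.center k (CliffordAlgebra Q),
      x = b.repr x ∅ • (1 : CliffordAlgebra Q) + b.repr x Finset.univ • z := by
    intro x hx
    have hzero : ∀ S, S ≠ ∅ ∧ S ≠ Finset.univ → b.repr x S = 0 := by
      intro S hS
      by_contra hne
      rcases support_center Q e horth h2 b hb' hQ x hx S hne with h | ⟨h, _⟩
      · exact hS.1 h
      · exact hS.2 h
    conv_lhs => rw [← b.sum_repr x]
    rw [Finset.sum_eq_add ∅ Finset.univ hne_eu (fun S _ hS => by rw [hzero S hS, zero_smul])
      (fun h => absurd (Finset.mem_univ _) h) (fun h => absurd (Finset.mem_univ _) h), hb0, hbu]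
  refine ⟨?_, ?_, ?_⟩
  · rw [pow_two, hzdef, sq_P Q e horth _ (List.nodup_finRange n), List.length_finRange,
      Finset.sum_range_id, ← List.ofFn_eq_map, List.prod_ofFn]
  · apply le_antisymm
    · intro x hx
      rw [hdec x hx]
      exact Subalgebra.add_mem _ (Subalgebra.smul_mem _ (Subalgebra.one_mem _) _)
        (Subalgebra.smul_mem _ (Algebra.subset_adjoin (Set.mem_singleton z)) _)
    · exact Algebra.adjoin_le (by rintro _ rfl; exact hzc)
  · have hspan : Subalgebra.toSubmodule (Subalgebra.center k (CliffordAlgebra Q)) =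
        Submodule.span k (Set.range (b ∘ ![∅, Finset.univ])) := by
      apply le_antisymm
      · intro x hx
        rw [hdec x hx]
        refine Submodule.add_mem _
          (Submodule.smul_mem _ _ (Submodule.subset_span ⟨0, ?_⟩))
          (Submodule.smul_mem _ _ (Submodule.subset_span ⟨1, ?_⟩))
        · show b ∅ = 1
          exact hb0
        · show b Finset.univ = z
          exact hbu
      · rw [Submodule.span_le]
        rintro _ ⟨i, rfl⟩
        fin_cases i
        · show b ∅ ∈ Subalgebra.center k (CliffordAlgebra Q)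
          rw [hb0]; exact Subalgebra.one_mem _
        · show b Finset.univ ∈ Subalgebra.center k (CliffordAlgebra Q)
          rw [hbu]; exact hzc
    have hli : LinearIndependent k (b ∘ ![∅, Finset.univ]) := by
      apply b.linearIndependent.comp
      intro i j hij
      fin_cases i <;> fin_cases j
      · rfl
      · exact absurd hij hne_eu
      · exact absurd hij.symm hne_eu
      · rfl
    rw [← Subalgebra.finrank_toSubmodule, hspan, finrank_span_eq_card hli, Fintype.card_fin]

end main

end Groth.Agent.H2.CliffCenter
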