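import Mathlib

/-! Surjectivity of the codimension-two component map: solving
`C i j + C j i - a j i * C j j = d i j` over the simple roots of a finite root system. -/

set_option autoImplicit false
set_option linter.style.haveILetI false
set_option linter.unusedSimpArgs false
set_option linter.unusedVariables false
set_option linter.unnecessarySeqFocus false
set_option linter.unusedSectionVars false

namespace Groth.Agent.H2.CodimTwo

open RootPairing Set

universe u v w x

/-- Bilinearity for a double sum. -/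
lemma bilin_sum_sum {ι : Type*} {X : Type*} [AddCommGroup X] [Module ℤ X]
    (F : LinearMap.BilinForm ℤ X) (S : Finset ι) (r : ι → X) :
    F (∑ v ∈ S, r v) (∑ w ∈ S, r w) = ∑ w ∈ S, ∑ v ∈ S, F (r v) (r w) := by
  rw [map_sum]
  refine Finset.sum_congr rfl fun w _ => ?_
  rw [map_sum, LinearMap.sum_apply]

/-- Abstract combinatorial step: solve the "diagonal" equations by peeling off removable
vertices. -/
theorem diag_abs {ι : Type*} [DecidableEq ι] (a : ι → ι → ℤ) (T : Finset ι)
    (h1 : ∀ S : Finset ι, (∀ i ∈ S, i ∈ T) → S.Nonempty →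
      ∃ w ∈ S, -1 ≤ ∑ v ∈ S.erase w, a w v)
    (h2 : ∀ i ∈ T, ∀ j ∈ T, i ≠ j → a i j ≤ 0)
    (h3 : ∀ i j, a i j = 0 → a j i = 0)
    (e : ι → ι → ℤ) (he : ∀ i j, e i j = - e j i)
    (he0 : ∀ i ∈ T, ∀ j ∈ T, i ≠ j → a i j = 0 → e i j = 0)
    (S : Finset ι) (hS : ∀ i ∈ S, i ∈ T) :
    ∃ c : ι → ℤ, ∀ i ∈ S, ∀ j ∈ S, i ≠ j → a i j * c i - a j i * c j = e i j := by
  induction S using Finset.strongInduction with
  | H S ih =>
    rcases S.eq_empty_or_nonempty with rfl | hne
    · exact ⟨fun _ => 0, fun i hi => absurd hi (Finset.notMem_empty i)⟩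
    obtain ⟨w, hwS, hw⟩ := h1 S hS hne
    obtain ⟨c, hc⟩ := ih (S.erase w) (Finset.erase_ssubset hwS)
      (fun i hi => hS i (Finset.mem_of_mem_erase hi))
    have hZ : ∀ j ∈ S.erase w, a w j = 0 → ∀ t : ℤ, a w j * t - a j w * c j = e w j := by
      intro j hj h0 t
      have hjw : j ≠ w := Finset.ne_of_mem_erase hj
      have hjS : j ∈ S := Finset.mem_of_mem_erase hj
      rw [h0, h3 w j h0, he0 w (hS w hwS) j (hS j hjS) (Ne.symm hjw) h0]
      ring
    have hle : ∀ v ∈ S.erase w, a w v ≤ 0 := fun v hv =>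
      h2 w (hS w hwS) v (hS v (Finset.mem_of_mem_erase hv))
        (Ne.symm (Finset.ne_of_mem_erase hv))
    obtain ⟨cw, hcw⟩ : ∃ cw : ℤ, ∀ j ∈ S.erase w, a w j * cw - a j w * c j = e w j := by
      by_cases hnb : ∃ u ∈ S.erase w, a w u ≠ 0
      · obtain ⟨u, hu, hwu⟩ := hnb
        have hsum : a w u + ∑ v ∈ (S.erase w).erase u, a w v = ∑ v ∈ S.erase w, a w v :=
          Finset.add_sum_erase (S.erase w) (fun v => a w v) hu
        have hrest_le : ∑ v ∈ (S.erase w).erase u, a w v ≤ 0 :=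
          Finset.sum_nonpos (fun v hv => hle v (Finset.mem_of_mem_erase hv))
        have hule := hle u hu
        have hwu1 : a w u = -1 := by omega
        have hrest0 : ∑ v ∈ (S.erase w).erase u, a w v = 0 := by omega
        have hz : ∀ v ∈ (S.erase w).erase u, a w v = 0 :=
          (Finset.sum_eq_zero_iff_of_nonpos
            (fun v hv => hle v (Finset.mem_of_mem_erase hv))).1 hrest0
        refine ⟨- e w u - a u w * c u, fun j hj => ?_⟩
        by_cases hju : j = u
        · subst hju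
          rw [hwu1]
          ring
        · exact hZ j hj (hz j (Finset.mem_erase.2 ⟨hju, hj⟩)) _
      · push Not at hnb
        exact ⟨0, fun j hj => hZ j hj (hnb j hj) _⟩
    refine ⟨Function.update c w cw, ?_⟩
    intro i hi j hj hij
    by_cases hiw : i = w
    · subst hiw
      have hji : j ≠ i := fun h => hij h.symm
      rw [Function.update_self, Function.update_of_ne hji]
      exact hcw j (Finset.mem_erase.2 ⟨hji, hj⟩)
    · by_cases hjw : j = w
      · subst hjw
        rw [Function.update_self, Function.update_of_ne hiw]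
        have := hcw i (Finset.mem_erase.2 ⟨hiw, hi⟩)
        rw [he i j]
        linarith
      · rw [Function.update_of_ne hiw, Function.update_of_ne hjw]
        exact hc i (Finset.mem_erase.2 ⟨hiw, hi⟩) j (Finset.mem_erase.2 ⟨hjw, hj⟩) hij

/-- Abstract assembly of the matrix `C` from the diagonal values. -/
theorem assemble {ι : Type*} [Finite ι] (a : ι → ι → ℤ) (T : Finset ι) (d : ι → ι → ℤ)
    (c : ι → ℤ)
    (hc : ∀ i ∈ T, ∀ j ∈ T, i ≠ j → a i j * c i - a j i * c j = d i j - d j i) :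
    ∃ C : ι → ι → ℤ, ∀ i ∈ T, ∀ j ∈ T, i ≠ j → C i j + C j i - a j i * C j j = d i j := by
  classical
  obtain ⟨n, ⟨f⟩⟩ := Finite.exists_equiv_fin ι
  refine ⟨fun i j => if i = j then c i else
    if (f i : ℕ) < (f j : ℕ) then d i j + a j i * c j else 0, ?_⟩
  intro i hi j hj hij
  have hji : j ≠ i := fun h => hij h.symm
  have hne : (f i : ℕ) ≠ (f j : ℕ) := fun h => hij (f.injective (Fin.ext h))
  have h := hc i hi j hj hij
  dsimp only
  rw [if_neg hij, if_neg hji, if_pos (rfl : j = j)]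
  rcases lt_or_gt_of_ne hne with hlt | hgt
  · rw [if_pos hlt, if_neg (not_lt.2 hlt.le)]
    linarith
  · rw [if_neg (not_lt.2 hgt.le), if_pos hgt]
    linarith

section root

variable {ι : Type u} {R : Type v} {M : Type w} {N : Type x} [CommRing R] [IsDomain R] [CharZero R]
    [AddCommGroup M] [Module R M] [AddCommGroup N] [Module R N]

lemma pairingIn_zero_symm (P : RootPairing ι R M N) [P.IsCrystallographic] (i j : ι)
    (h : P.pairingIn ℤ i j = 0) : P.pairingIn ℤ j i = 0 := by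
  have h1 : P.pairing i j = 0 := by rw [← P.algebraMap_pairingIn ℤ, h, map_zero]
  have h2 : P.pairing j i = 0 := (P.pairing_eq_zero_iff' (i := i) (j := j)).1 h1
  apply FaithfulSMul.algebraMap_injective ℤ R
  rw [P.algebraMap_pairingIn ℤ, h2, map_zero]

/-- Positivity: in any nonempty set of simple roots some column sum of the Cartan matrix is
positive. -/
theorem pos_general (Q : RootPairing ι R M N) [Finite ι] [Q.IsCrystallographic] (b : Q.Base)
    (S : Finset ι) (hS : ∀ i ∈ S, i ∈ b.support) (hne : S.Nonempty) :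
    ∃ w ∈ S, 0 < ∑ v ∈ S, Q.pairingIn ℤ v w := by
  classical
  letI : Fintype ι := Fintype.ofFinite ι
  have key : ∀ v w : ι, 2 * (Q.posRootForm ℤ).posForm (Q.rootSpanMem ℤ v) (Q.rootSpanMem ℤ w)
      = Q.pairingIn ℤ v w *
        (Q.posRootForm ℤ).posForm (Q.rootSpanMem ℤ w) (Q.rootSpanMem ℤ w) := by
    intro v w
    apply FaithfulSMul.algebraMap_injective ℤ R
    have h := (Q.posRootForm ℤ).toInvariantForm.two_mul_apply_root_root v w
    rw [map_mul, map_mul, map_ofNat, Q.algebraMap_pairingIn ℤ,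
      (Q.posRootForm ℤ).algebraMap_posForm, (Q.posRootForm ℤ).algebraMap_posForm]
    exact h
  have hL : ∀ w : ι, 0 < (Q.posRootForm ℤ).posForm (Q.rootSpanMem ℤ w) (Q.rootSpanMem ℤ w) :=
    fun w => (Q.posRootForm ℤ).zero_lt_posForm_apply_root w
  have hy : (∑ v ∈ S, Q.rootSpanMem ℤ v) ≠ 0 := by
    intro h0
    have h1 : ∑ v ∈ S, Q.root v = 0 := by
      have := congrArg (Q.rootSpan ℤ).subtype h0
      simpa using this
    have h2 := (linearIndepOn_iff'.1 b.linearIndepOn_root) S (fun _ => (1 : R))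
      (fun i hi => Finset.mem_coe.2 (hS i (Finset.mem_coe.1 hi))) (by simpa using h1)
    obtain ⟨i, hi⟩ := hne
    exact one_ne_zero (h2 i hi)
  have hpos : 0 < ∑ w ∈ S, ∑ v ∈ S,
      (Q.posRootForm ℤ).posForm (Q.rootSpanMem ℤ v) (Q.rootSpanMem ℤ w) := by
    have := Q.posRootForm_posForm_pos_of_ne_zero ℤ hy
    rwa [bilin_sum_sum] at this
  have h2 : 2 * ∑ w ∈ S, ∑ v ∈ S,
      (Q.posRootForm ℤ).posForm (Q.rootSpanMem ℤ v) (Q.rootSpanMem ℤ w)
      = ∑ w ∈ S, (∑ v ∈ S, Q.pairingIn ℤ v w) *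
          (Q.posRootForm ℤ).posForm (Q.rootSpanMem ℤ w) (Q.rootSpanMem ℤ w) := by
    rw [Finset.mul_sum]
    refine Finset.sum_congr rfl fun w _ => ?_
    rw [Finset.mul_sum, Finset.sum_mul]
    exact Finset.sum_congr rfl fun v _ => key v w
  by_contra hcon
  push Not at hcon
  have h3 : ∑ w ∈ S, (∑ v ∈ S, Q.pairingIn ℤ v w) *
      (Q.posRootForm ℤ).posForm (Q.rootSpanMem ℤ w) (Q.rootSpanMem ℤ w) ≤ 0 :=
    Finset.sum_nonpos fun w hw => mul_nonpos_iff.2 (Or.inr ⟨hcon w hw, (hL w).le⟩)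
  linarith

theorem exists_pos_sum (P : RootPairing ι R M N) [Finite ι] [P.IsCrystallographic] (b : P.Base)
    (S : Finset ι) (hS : ∀ i ∈ S, i ∈ b.support) (hne : S.Nonempty) :
    ∃ w ∈ S, 0 < ∑ v ∈ S, P.pairingIn ℤ w v := by
  obtain ⟨w, hw, h⟩ := pos_general P.flip b.flip S hS hne
  refine ⟨w, hw, ?_⟩
  have hflip : ∀ v, P.flip.pairingIn ℤ v w = P.pairingIn ℤ w v := by
    intro v
    apply FaithfulSMul.algebraMap_injective ℤ R
    rw [P.flip.algebraMap_pairingIn ℤ, P.algebraMap_pairingIn ℤ]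
    rfl
  rw [Finset.sum_congr rfl (fun v _ => hflip v)] at h
  exact h

theorem main (P : RootPairing ι R M N)
    [Finite ι] [P.IsCrystallographic] [P.IsReduced] (b : P.Base) (d : ι → ι → ℤ)
    (hd : ∀ i ∈ b.support, ∀ j ∈ b.support, i ≠ j → P.pairingIn ℤ i j = 0 → d i j = d j i) :
    ∃ C : ι → ι → ℤ, ∀ i ∈ b.support, ∀ j ∈ b.support, i ≠ j →
      C i j + C j i - P.pairingIn ℤ j i * C j j = d i j := by
  classical
  have h1 : ∀ S : Finset ι, (∀ i ∈ S, i ∈ b.support) → S.Nonempty →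
      ∃ w ∈ S, -1 ≤ ∑ v ∈ S.erase w, P.pairingIn ℤ w v := by
    intro S hS hne
    obtain ⟨w, hw, h⟩ := exists_pos_sum P b S hS hne
    refine ⟨w, hw, ?_⟩
    have h4 : P.pairingIn ℤ w w + ∑ v ∈ S.erase w, P.pairingIn ℤ w v
        = ∑ v ∈ S, P.pairingIn ℤ w v :=
      Finset.add_sum_erase S (fun v => P.pairingIn ℤ w v) hw
    rw [P.pairingIn_same ℤ w] at h4
    linarith
  have h2 : ∀ i ∈ b.support, ∀ j ∈ b.support, i ≠ j → P.pairingIn ℤ i j ≤ 0 :=
    fun i hi j hj hij => b.pairingIn_le_zero_of_ne hij hi hj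
  have h3 : ∀ i j, P.pairingIn ℤ i j = 0 → P.pairingIn ℤ j i = 0 := pairingIn_zero_symm P
  obtain ⟨c, hc⟩ := diag_abs (P.pairingIn ℤ) b.support h1 h2 h3
    (fun i j => d i j - d j i) (fun i j => by show d i j - d j i = -(d j i - d i j); ring)
    (fun i hi j hj hij h0 => by
      have := hd i hi j hj hij h0
      show d i j - d j i = 0
      omega) b.support (fun i hi => hi)
  exact assemble (P.pairingIn ℤ) b.support d c hc

end root

end Groth.Agent.H2.CodimTwo
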