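import Mathlib

open CategoryTheory CategoryTheory.Limits

namespace Groth.Agent.H2.ConnLim

universe v u

section ext
variable {J : Type} {β : J → Type*}

open scoped Classical in
noncomputable def extend (S : Set J) (j₁ : J) (q : ∀ j, j ∈ S → β j) (b : β j₁) :
    ∀ j, j ∈ insert j₁ S → β j :=
  fun j hj => if h : j = j₁ then h ▸ b else q j ((Set.mem_insert_iff.mp hj).resolve_left h)

lemma extend_self (S : Set J) (j₁ : J) (q : ∀ j, j ∈ S → β j) (b : β j₁)
    (h : j₁ ∈ insert j₁ S) : extend S j₁ q b j₁ h = b := by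
  simp [extend]

lemma extend_of_ne (S : Set J) (j₁ : J) (q : ∀ j, j ∈ S → β j) (b : β j₁) (j : J)
    (h : j ∈ insert j₁ S) (hne : j ≠ j₁) (hj : j ∈ S) : extend S j₁ q b j h = q j hj := by
  simp [extend, hne]

end ext

abbrev Mor (J : Type) [SmallCategory J] := Σ i j : J, (i ⟶ j)

variable {J : Type} [SmallCategory J] {C : Type u} [Category.{v} C] (D : J ⥤ C)

def Compat (S : Set J) (E : Set (Mor J)) {Q : C} (q : ∀ j, j ∈ S → (Q ⟶ D.obj j)) : Prop :=
  ∀ (e : Mor J) (hi : e.1 ∈ S) (hj : e.2.1 ∈ S), e ∈ E → q e.1 hi ≫ D.map e.2.2 = q e.2.1 hj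

lemma Compat.apply {S : Set J} {E : Set (Mor J)} {Q : C} {q : ∀ j, j ∈ S → (Q ⟶ D.obj j)}
    (hq : Compat D S E q) {a b : J} (f : a ⟶ b) (ha : a ∈ S) (hb : b ∈ S)
    (h : (⟨a, b, f⟩ : Mor J) ∈ E) : q a ha ≫ D.map f = q b hb :=
  hq ⟨a, b, f⟩ ha hb h

def Good (S : Set J) (E : Set (Mor J)) : Prop :=
  ∃ (P : C) (π : ∀ j, j ∈ S → (P ⟶ D.obj j)), Compat D S E π ∧
    ∀ (Q : C) (q : ∀ j, j ∈ S → (Q ⟶ D.obj j)), Compat D S E q →
      ∃! t : Q ⟶ P, ∀ j hj, t ≫ π j hj = q j hj

lemma good_singleton (j₀ : J) : Good D {j₀} ∅ := by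
  refine ⟨D.obj j₀, fun j hj => eqToHom (by rw [Set.mem_singleton_iff.mp hj]), ?_, ?_⟩
  · intro e hi hj hE
    exact absurd hE (Set.notMem_empty _)
  · intro Q q _
    refine ⟨q j₀ (Set.mem_singleton j₀), ?_, ?_⟩
    · intro j hj
      have hjj := Set.mem_singleton_iff.mp hj
      subst hjj
      simp
    · intro t ht
      have h1 := ht j₀ (Set.mem_singleton j₀)
      simpa using h1

lemma good_add_target {S : Set J} {E : Set (Mor J)} (hinv : ∀ e ∈ E, e.1 ∈ S ∧ e.2.1 ∈ S)
    (hG : Good D S E) {i j₁ : J} (f : i ⟶ j₁) (hi : i ∈ S) (hj₁ : j₁ ∉ S) :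
    Good D (insert j₁ S) (insert ⟨i, j₁, f⟩ E) := by
  obtain ⟨P, π, hπ, huniv⟩ := hG
  have hne : ∀ x, x ∈ S → x ≠ j₁ := fun x hx h => hj₁ (h ▸ hx)
  refine ⟨P, extend S j₁ π (π i hi ≫ D.map f), ?_, ?_⟩
  · intro e ha hb hE
    rcases Set.mem_insert_iff.mp hE with rfl | hE'
    · change extend S j₁ π (π i hi ≫ D.map f) i ha ≫ D.map f =
        extend S j₁ π (π i hi ≫ D.map f) j₁ hb
      rw [extend_of_ne S j₁ π _ i ha (hne i hi) hi, extend_self]
    · obtain ⟨haS, hbS⟩ := hinv e hE'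
      rw [extend_of_ne S j₁ π _ e.1 ha (hne _ haS) haS,
        extend_of_ne S j₁ π _ e.2.1 hb (hne _ hbS) hbS]
      exact hπ e haS hbS hE'
  · intro Q q hq
    have hq' : Compat D S E (fun x hx => q x (Set.mem_insert_of_mem _ hx)) := by
      intro e ha hb hE
      exact hq e _ _ (Set.mem_insert_of_mem _ hE)
    obtain ⟨t, ht, htu⟩ := huniv Q _ hq'
    have ht' : ∀ x hx, t ≫ π x hx = q x (Set.mem_insert_of_mem _ hx) := ht
    refine ⟨t, ?_, ?_⟩
    · intro x hx
      by_cases hxj : x = j₁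
      · subst hxj
        rw [extend_self, ← Category.assoc, ht' i hi]
        exact hq.apply D f _ _ (Set.mem_insert _ _)
      · have hxS : x ∈ S := (Set.mem_insert_iff.mp hx).resolve_left hxj
        rw [extend_of_ne S j₁ π _ x hx hxj hxS]
        exact ht' x hxS
    · intro t' ht''
      apply htu
      intro x hx
      have h1 := ht'' x (Set.mem_insert_of_mem _ hx)
      rw [extend_of_ne S j₁ π _ x _ (hne x hx) hx] at h1
      exact h1

lemma good_add_source [HasPullbacks C] {S : Set J} {E : Set (Mor J)}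
    (hinv : ∀ e ∈ E, e.1 ∈ S ∧ e.2.1 ∈ S)
    (hG : Good D S E) {i j₁ : J} (f : j₁ ⟶ i) (hi : i ∈ S) (hj₁ : j₁ ∉ S) :
    Good D (insert j₁ S) (insert ⟨j₁, i, f⟩ E) := by
  obtain ⟨P, π, hπ, huniv⟩ := hG
  have hne : ∀ x, x ∈ S → x ≠ j₁ := fun x hx h => hj₁ (h ▸ hx)
  refine ⟨pullback (π i hi) (D.map f),
    extend S j₁ (fun x hx => pullback.fst (π i hi) (D.map f) ≫ π x hx)
      (pullback.snd (π i hi) (D.map f)), ?_, ?_⟩
  · intro e ha hb hE
    rcases Set.mem_insert_iff.mp hE with rfl | hE'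
    · change extend S j₁ (fun x hx => pullback.fst (π i hi) (D.map f) ≫ π x hx)
          (pullback.snd (π i hi) (D.map f)) j₁ ha ≫ D.map f =
        extend S j₁ (fun x hx => pullback.fst (π i hi) (D.map f) ≫ π x hx)
          (pullback.snd (π i hi) (D.map f)) i hb
      rw [extend_self, extend_of_ne S j₁ _ _ i hb (hne i hi) hi]
      exact pullback.condition.symm
    · obtain ⟨haS, hbS⟩ := hinv e hE'
      rw [extend_of_ne S j₁ _ _ e.1 ha (hne _ haS) haS,
        extend_of_ne S j₁ _ _ e.2.1 hb (hne _ hbS) hbS, Category.assoc, hπ e haS hbS hE']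
  · intro Q q hq
    have hq' : Compat D S E (fun x hx => q x (Set.mem_insert_of_mem _ hx)) := by
      intro e ha hb hE
      exact hq e _ _ (Set.mem_insert_of_mem _ hE)
    obtain ⟨t₀, ht₀, htu⟩ := huniv Q _ hq'
    have ht₀' : ∀ x hx, t₀ ≫ π x hx = q x (Set.mem_insert_of_mem _ hx) := ht₀
    have hcond : t₀ ≫ π i hi = q j₁ (Set.mem_insert _ _) ≫ D.map f := by
      rw [ht₀' i hi]
      exact (hq.apply D f _ _ (Set.mem_insert _ _)).symm
    refine ⟨pullback.lift t₀ (q j₁ (Set.mem_insert _ _)) hcond, ?_, ?_⟩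
    · intro x hx
      by_cases hxj : x = j₁
      · subst hxj
        rw [extend_self, pullback.lift_snd]
      · have hxS : x ∈ S := (Set.mem_insert_iff.mp hx).resolve_left hxj
        rw [extend_of_ne S j₁ _ _ x hx hxj hxS, ← Category.assoc, pullback.lift_fst]
        exact ht₀' x hxS
    · intro t' ht'
      apply pullback.hom_ext
      · rw [pullback.lift_fst]
        apply htu
        intro x hx
        have h1 := ht' x (Set.mem_insert_of_mem _ hx)
        rw [extend_of_ne S j₁ _ _ x _ (hne x hx) hx, ← Category.assoc] at h1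
        exact h1
      · rw [pullback.lift_snd]
        have h1 := ht' j₁ (Set.mem_insert _ _)
        rw [extend_self] at h1
        exact h1

lemma good_add_eq [HasEqualizers C] {S : Set J} {E : Set (Mor J)}
    (hG : Good D S E) {a b : J} (f : a ⟶ b) (ha : a ∈ S) (hb : b ∈ S) :
    Good D S (insert ⟨a, b, f⟩ E) := by
  obtain ⟨P, π, hπ, huniv⟩ := hG
  refine ⟨equalizer (π a ha ≫ D.map f) (π b hb),
    fun x hx => equalizer.ι (π a ha ≫ D.map f) (π b hb) ≫ π x hx, ?_, ?_⟩
  · intro e ha' hb' hE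
    rcases Set.mem_insert_iff.mp hE with rfl | hE'
    · change (equalizer.ι (π a ha ≫ D.map f) (π b hb) ≫ π a ha) ≫ D.map f =
        equalizer.ι (π a ha ≫ D.map f) (π b hb) ≫ π b hb
      rw [Category.assoc]
      exact equalizer.condition _ _
    · change (equalizer.ι (π a ha ≫ D.map f) (π b hb) ≫ π e.1 ha') ≫ D.map e.2.2 =
        equalizer.ι (π a ha ≫ D.map f) (π b hb) ≫ π e.2.1 hb'
      rw [Category.assoc, hπ e ha' hb' hE']
  · intro Q q hq
    have hq' : Compat D S E q := fun e ha' hb' hE => hq e ha' hb' (Set.mem_insert_of_mem _ hE)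
    obtain ⟨t₀, ht₀, htu⟩ := huniv Q q hq'
    have hcond : t₀ ≫ (π a ha ≫ D.map f) = t₀ ≫ π b hb := by
      rw [← Category.assoc, ht₀ a ha, ht₀ b hb]
      exact hq.apply D f ha hb (Set.mem_insert _ _)
    refine ⟨equalizer.lift t₀ hcond, ?_, ?_⟩
    · intro x hx
      rw [← Category.assoc, equalizer.lift_ι]
      exact ht₀ x hx
    · intro t' ht'
      apply equalizer.hom_ext
      rw [equalizer.lift_ι]
      apply htu
      intro x hx
      rw [Category.assoc]
      exact ht' x hx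

theorem good_univ [HasPullbacks C] [HasEqualizers C] [FinCategory J] [IsConnected J] :
    Good D Set.univ Set.univ := by
  obtain ⟨j₀⟩ : Nonempty J := inferInstance
  have wf : WellFounded (fun (a b : Set J × Set (Mor J)) => a > b) := wellFounded_gt
  have key : ∀ (x : Set J × Set (Mor J)), j₀ ∈ x.1 → (∀ e ∈ x.2, e.1 ∈ x.1 ∧ e.2.1 ∈ x.1) →
      Good D x.1 x.2 → Good D Set.univ Set.univ := by
    intro x
    refine wf.induction (C := fun x => j₀ ∈ x.1 → (∀ e ∈ x.2, e.1 ∈ x.1 ∧ e.2.1 ∈ x.1) →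
      Good D x.1 x.2 → Good D Set.univ Set.univ) x ?_
    rintro ⟨S, E⟩ ih h0 hinv hG
    have h0' : j₀ ∈ S := h0
    have hinv' : ∀ e ∈ E, e.1 ∈ S ∧ e.2.1 ∈ S := hinv
    have hG' : Good D S E := hG
    by_cases hS : S = Set.univ
    · by_cases hE : E = Set.univ
      · rw [hS, hE] at hG'
        exact hG'
      · obtain ⟨e, he⟩ : ∃ e, e ∉ E := by
          by_contra hcon
          push Not at hcon
          exact hE (Set.eq_univ_of_forall hcon)
        obtain ⟨a, b, f⟩ := e
        have ha : a ∈ S := hS ▸ Set.mem_univ a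
        have hb : b ∈ S := hS ▸ Set.mem_univ b
        refine ih (S, insert ⟨a, b, f⟩ E) ?_ h0' ?_ (good_add_eq D hG' f ha hb)
        · exact Prod.mk_lt_mk.mpr (Or.inr ⟨le_rfl, Set.ssubset_insert he⟩)
        · intro e' _
          exact ⟨hS ▸ Set.mem_univ _, hS ▸ Set.mem_univ _⟩
    · have hcross : ∃ (j₁ j₂ : J) (_ : j₁ ⟶ j₂), ¬ (j₁ ∈ S ↔ j₂ ∈ S) := by
        by_contra hcon
        push Not at hcon
        apply hS
        apply Set.eq_univ_of_forall
        exact induct_on_objects S h0' (fun {j₁ j₂} f => hcon j₁ j₂ f)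
      obtain ⟨j₁, j₂, f, hf⟩ := hcross
      by_cases h1 : j₁ ∈ S
      · have h2 : j₂ ∉ S := fun h2 => hf ⟨fun _ => h2, fun _ => h1⟩
        refine ih (insert j₂ S, insert ⟨j₁, j₂, f⟩ E) ?_ (Set.mem_insert_of_mem _ h0') ?_
          (good_add_target D hinv' hG' f h1 h2)
        · exact Prod.mk_lt_mk.mpr (Or.inl ⟨Set.ssubset_insert h2, Set.subset_insert _ _⟩)
        · intro e' he'
          rcases Set.mem_insert_iff.mp he' with rfl | he''
          · exact ⟨Set.mem_insert_of_mem _ h1, Set.mem_insert _ _⟩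
          · exact ⟨Set.mem_insert_of_mem _ (hinv' e' he'').1,
              Set.mem_insert_of_mem _ (hinv' e' he'').2⟩
      · have h2 : j₂ ∈ S := by
          by_contra h2
          exact hf ⟨fun h => absurd h h1, fun h => absurd h h2⟩
        refine ih (insert j₁ S, insert ⟨j₁, j₂, f⟩ E) ?_ (Set.mem_insert_of_mem _ h0') ?_
          (good_add_source D hinv' hG' f h2 h1)
        · exact Prod.mk_lt_mk.mpr (Or.inl ⟨Set.ssubset_insert h1, Set.subset_insert _ _⟩)
        · intro e' he'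
          rcases Set.mem_insert_iff.mp he' with rfl | he''
          · exact ⟨Set.mem_insert _ _, Set.mem_insert_of_mem _ h2⟩
          · exact ⟨Set.mem_insert_of_mem _ (hinv' e' he'').1,
              Set.mem_insert_of_mem _ (hinv' e' he'').2⟩
  exact key ({j₀}, ∅) (Set.mem_singleton j₀) (fun e he => absurd he (Set.notMem_empty _))
    (good_singleton D j₀)

theorem main {C : Type u} [Category.{v} C] [HasEqualizers C] [HasPullbacks C]
    (J : Type) [SmallCategory J] [FinCategory J] [IsConnected J] : HasLimitsOfShape J C := by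
  refine ⟨fun D => ?_⟩
  obtain ⟨P, π, hπ, huniv⟩ := good_univ D
  let c : Cone D :=
    { pt := P
      π :=
        { app := fun j => π j (Set.mem_univ j)
          naturality := fun i j f => by
            simp only [Functor.const_obj_obj, Functor.const_obj_map, Category.id_comp]
            exact (hπ.apply D f _ _ (Set.mem_univ _)).symm } }
  refine ⟨⟨⟨c, IsLimit.ofExistsUnique (fun s => ?_)⟩⟩⟩
  have hs : Compat D Set.univ Set.univ (fun j _ => s.π.app j) := by
    intro e _ _ _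
    exact s.w e.2.2
  obtain ⟨t, ht, htu⟩ := huniv s.pt _ hs
  exact ⟨t, fun j => ht j (Set.mem_univ j), fun t' ht' => htu t' (fun j _ => ht' j)⟩

end Groth.Agent.H2.ConnLim
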