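import Mathlib
import Groth.Prelude.Def_W4c3ghconstell

set_option autoImplicit false
universe u v w x

namespace Groth.Agent.H2.Constell

open TensorProduct W4c3ghconstell HopfRep

section Coalg

variable {k : Type u} {A : Type v} [Field k] [AddCommGroup A] [Module k A] [Coalgebra k A]
variable {M : Type x} [AddCommGroup M] [Module k M] [HopfRep.Comod k A M]

lemma range_rTensor_mono {W W' : Submodule k M} (h : W ≤ W') :
    LinearMap.range (W.subtype.rTensor A) ≤ LinearMap.range (W'.subtype.rTensor A) := by
  have e : W.subtype = W'.subtype ∘ₗ Submodule.inclusion h := by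
    ext x; rfl
  rw [e, LinearMap.rTensor_comp]
  exact LinearMap.range_comp_le_range _ _

/-- the map whose kernel is the isotypic component -/
noncomputable def isoMap (D : Submodule k A) : M →ₗ[k] M ⊗[k] (A ⧸ D) :=
  (D.mkQ.lTensor M) ∘ₗ (Comod.coact (k := k) (A := A) (V := M))

lemma mem_isoComp_iff (D : Submodule k A) (v : M) :
    v ∈ isoComp M D ↔ isoMap (M := M) D v = 0 := by
  have hex : Function.Exact (D.subtype.lTensor M) (D.mkQ.lTensor M) :=
    lTensor_exact M (LinearMap.exact_subtype_mkQ D) (Submodule.mkQ_surjective D)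
  unfold isoComp isoMap
  rw [Submodule.mem_comap, LinearMap.mem_range, LinearMap.comp_apply]
  exact (hex _).symm

lemma isoMap_rTensor_coact (D : Submodule k A) (hD : IsSubcoalg k A D) (v : M)
    (hv : v ∈ isoComp M D) :
    ((isoMap (M := M) D).rTensor A) (Comod.coact (k := k) (A := A) v) = 0 := by
  obtain ⟨y, hy⟩ : ∃ y, (D.subtype.lTensor M) y = Comod.coact (k := k) (A := A) v := hv
  have hco := LinearMap.congr_fun (Comod.coassoc (k := k) (A := A) (V := M)) v
  simp only [LinearMap.comp_apply, LinearEquiv.coe_coe] at hco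
  have h1 : ((Comod.coact (k := k) (A := A) (V := M)).rTensor A) (Comod.coact (k := k) (A := A) v) =
      (TensorProduct.assoc k M A A).symm
        (((CoalgebraStruct.comul (R := k) (A := A)).lTensor M) (Comod.coact (k := k) (A := A) v)) := by
    rw [← hco, LinearEquiv.symm_apply_apply]
  have key : ∀ (m : M) (z : D ⊗[k] D),
      (((D.mkQ.lTensor M)).rTensor A) ((TensorProduct.assoc k M A A).symm
        (m ⊗ₜ[k] (TensorProduct.map D.subtype D.subtype z))) = 0 := by
    intro m z
    induction z using TensorProduct.induction_on with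
    | zero => simp
    | tmul d' d'' =>
      rw [TensorProduct.map_tmul, TensorProduct.assoc_symm_tmul, LinearMap.rTensor_tmul,
        LinearMap.lTensor_tmul]
      have : D.mkQ (D.subtype d') = 0 := by
        rw [Submodule.mkQ_apply, Submodule.Quotient.mk_eq_zero]; exact d'.2
      rw [this, TensorProduct.tmul_zero, TensorProduct.zero_tmul]
    | add z w hz hw => simp only [map_add, TensorProduct.tmul_add, hz, hw, add_zero]
  have key2 : ∀ y : M ⊗[k] D, (((D.mkQ.lTensor M)).rTensor A) ((TensorProduct.assoc k M A A).symm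
      (((CoalgebraStruct.comul (R := k) (A := A)).lTensor M) ((D.subtype.lTensor M) y))) = 0 := by
    intro y
    induction y using TensorProduct.induction_on with
    | zero => simp
    | tmul m d =>
      rw [LinearMap.lTensor_tmul, LinearMap.lTensor_tmul]
      obtain ⟨z, hz⟩ := hD d d.2
      rw [Submodule.subtype_apply, ← hz]
      exact key m z
    | add y w hy hw => simp only [map_add, hy, hw, add_zero]
  unfold isoMap
  rw [LinearMap.rTensor_comp, LinearMap.comp_apply, h1, ← hy]
  exact key2 y

theorem isSubcomod_inf_isoComp (D : Submodule k A) (hD : IsSubcoalg k A D) (N : Submodule k M)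
    (hN : IsSubcomod (k := k) (A := A) N) :
    IsSubcomod (k := k) (A := A) (N ⊓ isoComp M D) := by
  intro v hv
  obtain ⟨y, hy⟩ := hN v hv.1
  set gN : N →ₗ[k] M ⊗[k] (A ⧸ D) := isoMap (M := M) D ∘ₗ N.subtype with hgN
  have hex : Function.Exact ((LinearMap.ker gN).subtype.rTensor A) (gN.rTensor A) :=
    Module.Flat.rTensor_exact A (LinearMap.exact_subtype_ker_map gN)
  have h0 : (gN.rTensor A) y = 0 := by
    rw [hgN, LinearMap.rTensor_comp, LinearMap.comp_apply, hy]
    exact isoMap_rTensor_coact D hD v hv.2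
  obtain ⟨z, hz⟩ := (hex y).mp h0
  let j : LinearMap.ker gN →ₗ[k] ↥(N ⊓ isoComp M D) :=
    LinearMap.codRestrict (N ⊓ isoComp M D) (N.subtype ∘ₗ (LinearMap.ker gN).subtype) (by
      intro x
      exact ⟨x.1.2, (mem_isoComp_iff D _).mpr x.2⟩)
  have e : (N ⊓ isoComp M D).subtype ∘ₗ j = N.subtype ∘ₗ (LinearMap.ker gN).subtype := by
    ext x; rfl
  refine ⟨(j.rTensor A) z, ?_⟩
  calc ((N ⊓ isoComp M D).subtype.rTensor A) ((j.rTensor A) z)
      = (((N ⊓ isoComp M D).subtype ∘ₗ j).rTensor A) z := by
        rw [LinearMap.rTensor_comp, LinearMap.comp_apply]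
    _ = (N.subtype.rTensor A) (((LinearMap.ker gN).subtype.rTensor A) z) := by
        rw [e, LinearMap.rTensor_comp, LinearMap.comp_apply]
    _ = Comod.coact (k := k) (A := A) v := by rw [hz, hy]

lemma hilbAt_mono (hfin : ∀ D : SimpSub k A, Module.Finite k ↥(isoComp M D.1))
    {N N' : Submodule k M} (h : N ≤ N') (D : SimpSub k A) : hilbAt M N D ≤ hilbAt M N' D := by
  unfold hilbAt
  haveI := hfin D
  haveI : Module.Finite k ↥(N' ⊓ isoComp M D.1) := Submodule.finiteDimensional_inf_right _ _
  exact Submodule.finrank_mono (inf_le_inf_right _ h)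

lemma hilbAt_top (D : SimpSub k A) : hilbAt M (⊤ : Submodule k M) D =
    Module.finrank k ↥(isoComp M D.1) := by
  unfold hilbAt
  rw [top_inf_eq]

lemma summable_theta {θ : SimpSub k A → ℚ} {h : SimpSub k A → ℕ}
    (hsum : Summable (fun D => (θ D : ℝ) * (h D : ℝ))) {N : Submodule k M}
    (hb : ∀ D, hilbAt M N D ≤ h D) :
    Summable (fun D => (θ D : ℝ) * (hilbAt M N D : ℝ)) := by
  apply Summable.of_norm_bounded hsum.abs
  intro D
  rw [Real.norm_eq_abs, abs_mul, abs_mul]
  apply mul_le_mul_of_nonneg_left _ (abs_nonneg _)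
  rw [abs_of_nonneg (Nat.cast_nonneg _), abs_of_nonneg (Nat.cast_nonneg _)]
  exact_mod_cast hb D

lemma theta_le_of {θ : SimpSub k A → ℚ} {h : SimpSub k A → ℕ}
    (hsum : Summable (fun D => (θ D : ℝ) * (h D : ℝ))) {N N' : Submodule k M}
    (hb : ∀ D, hilbAt M N D ≤ h D) (hb' : ∀ D, hilbAt M N' D ≤ h D)
    (hle : ∀ D, (θ D : ℝ) * (hilbAt M N' D : ℝ) ≤ (θ D : ℝ) * (hilbAt M N D : ℝ)) :
    theta M θ N' ≤ theta M θ N := by
  unfold theta
  exact Summable.tsum_le_tsum hle (summable_theta hsum hb') (summable_theta hsum hb)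

end Coalg

section Stab

variable {k : Type u} {A : Type v} [Field k] [AddCommGroup A] [Module k A] [Coalgebra k A]
variable {R : Type w} [CommRing R] [Algebra k R]
variable {M : Type x} [AddCommGroup M] [Module k M] [Module R M] [IsScalarTower k R M]
  [HopfRep.Comod k A M]

lemma genIn_le (S : Set (SimpSub k A)) (N : Submodule R M) : genIn k A R M S N ≤ N := by
  unfold genIn
  rw [Submodule.span_le]
  intro v hv
  simp only [Set.mem_iUnion, SetLike.mem_coe] at hv
  obtain ⟨D, _, hvD⟩ := hv
  exact hvD.1

lemma inf_isoComp_le_genIn (S : Set (SimpSub k A)) (N : Submodule R M) (D : SimpSub k A)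
    (hD : D ∈ S) :
    N.restrictScalars k ⊓ isoComp M D.1 ≤ (genIn k A R M S N).restrictScalars k := by
  intro y hy
  rw [Submodule.restrictScalars_mem]
  apply Submodule.subset_span
  simp only [Set.mem_iUnion, SetLike.mem_coe]
  exact ⟨D, hD, hy⟩

lemma genIn_inf_eq (S : Set (SimpSub k A)) (N : Submodule R M) (D : SimpSub k A) (hD : D ∈ S) :
    (genIn k A R M S N).restrictScalars k ⊓ isoComp M D.1 =
      N.restrictScalars k ⊓ isoComp M D.1 := by
  apply le_antisymm
  · exact inf_le_inf_right _ (fun y hy => genIn_le S N hy)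
  · exact le_inf (inf_isoComp_le_genIn S N D hD) inf_le_right

lemma genIn_genIn (S : Set (SimpSub k A)) (N : Submodule R M) :
    genIn k A R M S (genIn k A R M S N) = genIn k A R M S N := by
  have h : ∀ D ∈ S, (((genIn k A R M S N).restrictScalars k ⊓ isoComp M D.1 : Submodule k M) : Set M) =
      ((N.restrictScalars k ⊓ isoComp M D.1 : Submodule k M) : Set M) :=
    fun D hD => by rw [genIn_inf_eq S N D hD]
  show Submodule.span R (⋃ D ∈ S,
      (((genIn k A R M S N).restrictScalars k ⊓ isoComp M D.1 : Submodule k M) : Set M)) =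
    Submodule.span R (⋃ D ∈ S, ((N.restrictScalars k ⊓ isoComp M D.1 : Submodule k M) : Set M))
  congr 1
  exact Set.iUnion₂_congr h

/-- the weight of `genIn {θ < 0} N` is at most that of `N`. -/
lemma theta_genIn_le {θ : SimpSub k A → ℚ} {h : SimpSub k A → ℕ}
    (hsum : Summable (fun D => (θ D : ℝ) * (h D : ℝ)))
    (hfin : ∀ D : SimpSub k A, Module.Finite k ↥(isoComp M D.1))
    (hh : ∀ D : SimpSub k A, Module.finrank k ↥(isoComp M D.1) = h D)
    (N : Submodule R M) :
    theta M θ ((genIn k A R M {D | θ D < 0} N).restrictScalars k) ≤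
      theta M θ (N.restrictScalars k) := by
  have hb : ∀ (P : Submodule k M) D, hilbAt M P D ≤ h D := by
    intro P D
    have := hilbAt_mono hfin (le_top : P ≤ ⊤) D
    rwa [hilbAt_top, hh] at this
  apply theta_le_of hsum (hb _) (hb _)
  intro D
  by_cases hD : θ D < 0
  · have : hilbAt M ((genIn k A R M {D | θ D < 0} N).restrictScalars k) D =
        hilbAt M (N.restrictScalars k) D := by
      unfold hilbAt
      rw [genIn_inf_eq _ N D hD]
    rw [this]
  · have h0 : (0 : ℝ) ≤ (θ D : ℝ) := by
      have : (0 : ℚ) ≤ θ D := not_lt.mp hD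
      exact_mod_cast this
    apply mul_le_mul_of_nonneg_left _ h0
    have := hilbAt_mono hfin
      (show (genIn k A R M {D | θ D < 0} N).restrictScalars k ≤ N.restrictScalars k from
        fun y hy => genIn_le _ N hy) D
    exact_mod_cast this

end Stab

section HopfMod

variable {k : Type u} [Field k] {A : Type v} [CommRing A] [Bialgebra k A]
variable {R : Type w} [CommRing R] [Algebra k R] [HopfRep.Comod k A R]
variable {M : Type x} [AddCommGroup M] [Module k M] [Module R M] [IsScalarTower k R M]
  [HopfRep.Comod k A M] [TameAct.IsHopfMod k A R M]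

lemma hmSMul_mem (P : Submodule R M) (t : R ⊗[k] A) (y : ↥(P.restrictScalars k) ⊗[k] A) :
    TameAct.hmSMul k A R M t (((P.restrictScalars k).subtype.rTensor A) y) ∈
      LinearMap.range ((P.restrictScalars k).subtype.rTensor A) := by
  induction t using TensorProduct.induction_on with
  | zero => rw [map_zero, LinearMap.zero_apply]; exact Submodule.zero_mem _
  | tmul r a =>
    induction y using TensorProduct.induction_on with
    | zero => rw [map_zero, map_zero]; exact Submodule.zero_mem _
    | tmul p a' =>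
      rw [LinearMap.rTensor_tmul, Submodule.subtype_apply, TameAct.hmSMul_tmul]
      exact ⟨(⟨r • (p : M), P.smul_mem r p.2⟩ : ↥(P.restrictScalars k)) ⊗ₜ[k] (a * a'), by
        rw [LinearMap.rTensor_tmul]; rfl⟩
    | add y y' hy hy' => rw [map_add, map_add]; exact Submodule.add_mem _ hy hy'
  | add t t' ht ht' => rw [map_add, LinearMap.add_apply]; exact Submodule.add_mem _ ht ht'

theorem isSubcomod_span (s : Set M)
    (hs : ∀ v ∈ s, Comod.coact (k := k) (A := A) v ∈
      LinearMap.range (((Submodule.span R s).restrictScalars k).subtype.rTensor A)) :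
    IsSubcomod (k := k) (A := A) ((Submodule.span R s).restrictScalars k) := by
  intro w hw
  rw [Submodule.restrictScalars_mem] at hw
  induction hw using Submodule.span_induction with
  | mem v hv => exact hs v hv
  | zero => rw [map_zero]; exact Submodule.zero_mem _
  | add a b _ _ ha hb => rw [map_add]; exact Submodule.add_mem _ ha hb
  | smul r a _ ha =>
    rw [TameAct.IsHopfMod.coact_smul]
    obtain ⟨y, hy⟩ := ha
    rw [← hy]
    exact hmSMul_mem _ _ _

theorem isSubcomod_genIn (S : Set (SimpSub k A)) (N : Submodule R M)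
    (hN : IsSubcomod (k := k) (A := A) (N.restrictScalars k)) :
    IsSubcomod (k := k) (A := A) ((genIn k A R M S N).restrictScalars k) := by
  unfold genIn
  apply isSubcomod_span
  intro v hv
  simp only [Set.mem_iUnion, SetLike.mem_coe] at hv
  obtain ⟨D, hDS, hvD⟩ := hv
  have h1 := isSubcomod_inf_isoComp D.1 D.2.2.1 (N.restrictScalars k) hN v hvD
  refine range_rTensor_mono ?_ h1
  intro y hy
  rw [Submodule.restrictScalars_mem]
  apply Submodule.subset_span
  simp only [Set.mem_iUnion, SetLike.mem_coe]
  exact ⟨D, hDS, hy⟩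

theorem isSubcomod_top : IsSubcomod (k := k) (A := A) ((⊤ : Submodule R M).restrictScalars k) := by
  intro v _
  have hsurj : Function.Surjective (((⊤ : Submodule R M).restrictScalars k).subtype.rTensor A) := by
    apply LinearMap.rTensor_surjective
    intro m
    exact ⟨⟨m, trivial⟩, rfl⟩
  exact hsurj _

end HopfMod

end Groth.Agent.H2.Constell
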