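import Mathlib
import Groth.Prelude.Def_W4c3ghconstell
import Groth.Agent.H2.Constell

/-!
Helper library for S16012 / S16013: distinct simple subcoalgebras are independent, a non-zero
subcomodule of a comodule which is the sum of its isotypic components meets one of them, and the
resulting strict positivity of the weight.
-/

set_option autoImplicit false
set_option linter.style.haveILetI false
set_option linter.unusedSectionVars false
universe u v w x

namespace Groth.Agent.H2.Constell2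

open TensorProduct W4c3ghconstell HopfRep

section LinAlg
variable {k : Type u} [Field k]
variable {V : Type v} [AddCommGroup V] [Module k V]
variable {W : Type w} [AddCommGroup W] [Module k W]
variable {X : Type x} [AddCommGroup X] [Module k X]

/-- a linear endomorphism which is the identity on `U` and zero on `C`, when `U ⊓ C = ⊥`. -/
lemma exists_proj (U C : Submodule k V) (h : U ⊓ C = ⊥) :
    ∃ p : V →ₗ[k] V, (∀ u ∈ U, p u = u) ∧ (∀ c ∈ C, p c = 0) := by
  let s : (U × C) →ₗ[k] V := U.subtype.coprod C.subtype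
  have hs : LinearMap.ker s = ⊥ := by
    rw [LinearMap.ker_eq_bot']
    rintro ⟨u, c⟩ huc
    have h1 : (u : V) + (c : V) = 0 := by simpa [s] using huc
    have hu : (u : V) ∈ U ⊓ C := ⟨u.2, by
      have : (u : V) = -(c : V) := eq_neg_of_add_eq_zero_left h1
      rw [this]; exact C.neg_mem c.2⟩
    rw [h, Submodule.mem_bot] at hu
    have hc : (c : V) = 0 := by rw [hu, zero_add] at h1; exact h1
    ext
    · simpa using hu
    · simpa using hc
  obtain ⟨r, hr⟩ := LinearMap.exists_leftInverse_of_injective s hs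
  refine ⟨U.subtype ∘ₗ (LinearMap.fst k U C) ∘ₗ r, ?_, ?_⟩
  · intro u hu
    have h1 : r (s (⟨u, hu⟩, 0)) = (⟨u, hu⟩, 0) := LinearMap.congr_fun hr _
    have hs' : s (⟨u, hu⟩, 0) = u := by simp [s]
    rw [hs'] at h1
    simp [h1]
  · intro c hc
    have h1 : r (s (0, ⟨c, hc⟩)) = (0, ⟨c, hc⟩) := LinearMap.congr_fun hr _
    have hs' : s (0, ⟨c, hc⟩) = c := by simp [s]
    rw [hs'] at h1
    simp [h1]

lemma lTensor_eq_of_eq_on {Y : Type*} [AddCommGroup Y] [Module k Y] (U : Submodule k V)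
    (g g' : V →ₗ[k] Y) (h : ∀ u ∈ U, g u = g' u) (y : W ⊗[k] V)
    (hy : y ∈ LinearMap.range (U.subtype.lTensor W)) :
    g.lTensor W y = g'.lTensor W y := by
  obtain ⟨z, rfl⟩ := hy
  have e : g ∘ₗ U.subtype = g' ∘ₗ U.subtype := by
    ext u; exact h u u.2
  rw [← LinearMap.comp_apply, ← LinearMap.lTensor_comp, e, LinearMap.lTensor_comp,
    LinearMap.comp_apply]

lemma lTensor_mem_range_rTensor {Y : Type*} [AddCommGroup Y] [Module k Y] (W' : Submodule k W)
    (g : V →ₗ[k] Y) (y : W ⊗[k] V) (hy : y ∈ LinearMap.range (W'.subtype.rTensor V)) :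
    g.lTensor W y ∈ LinearMap.range (W'.subtype.rTensor Y) := by
  obtain ⟨z, rfl⟩ := hy
  refine ⟨g.lTensor W' z, ?_⟩
  rw [← LinearMap.comp_apply, ← LinearMap.comp_apply, LinearMap.rTensor_comp_lTensor,
    LinearMap.lTensor_comp_rTensor]

lemma rid_mem (W' : Submodule k W) (y : W ⊗[k] k)
    (hy : y ∈ LinearMap.range (W'.subtype.rTensor k)) :
    TensorProduct.rid k W y ∈ W' := by
  obtain ⟨z, rfl⟩ := hy
  induction z using TensorProduct.induction_on with
  | zero => simp
  | tmul w c =>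
    rw [LinearMap.rTensor_tmul, TensorProduct.rid_tmul]
    exact W'.smul_mem c w.2
  | add a b ha hb =>
    rw [map_add, map_add]
    exact W'.add_mem ha hb

lemma mem_range_rTensor_iff (U : Submodule k V) (y : V ⊗[k] X) :
    y ∈ LinearMap.range (U.subtype.rTensor X) ↔ U.mkQ.rTensor X y = 0 := by
  have hex : Function.Exact (U.subtype.rTensor X) (U.mkQ.rTensor X) :=
    rTensor_exact X (LinearMap.exact_subtype_mkQ U) (Submodule.mkQ_surjective U)
  rw [LinearMap.mem_range]
  exact (hex y).symm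

lemma mem_range_lTensor_iff (U : Submodule k V) (y : X ⊗[k] V) :
    y ∈ LinearMap.range (U.subtype.lTensor X) ↔ U.mkQ.lTensor X y = 0 := by
  have hex : Function.Exact (U.subtype.lTensor X) (U.mkQ.lTensor X) :=
    lTensor_exact X (LinearMap.exact_subtype_mkQ U) (Submodule.mkQ_surjective U)
  rw [LinearMap.mem_range]
  exact (hex y).symm

lemma prod_mkQ_facts (B C : Submodule k V) :
    ∃ j : (V ⧸ (B ⊓ C)) →ₗ[k] (V ⧸ B) × (V ⧸ C), Function.Injective j ∧
      j ∘ₗ (B ⊓ C).mkQ = (LinearMap.inl k _ _) ∘ₗ B.mkQ + (LinearMap.inr k _ _) ∘ₗ C.mkQ := by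
  let f : V →ₗ[k] (V ⧸ B) × (V ⧸ C) := B.mkQ.prod C.mkQ
  have hker : LinearMap.ker f = B ⊓ C := by
    ext v
    simp [f]
  refine ⟨(B ⊓ C).liftQ f (le_of_eq hker.symm), ?_, ?_⟩
  · rw [← LinearMap.ker_eq_bot]
    exact Submodule.ker_liftQ_eq_bot _ _ _ (le_of_eq hker)
  · rw [Submodule.liftQ_mkQ]
    ext v <;> simp [f]

lemma range_rTensor_inf (B C : Submodule k V) (y : V ⊗[k] X)
    (hB : y ∈ LinearMap.range (B.subtype.rTensor X))
    (hC : y ∈ LinearMap.range (C.subtype.rTensor X)) :
    y ∈ LinearMap.range ((B ⊓ C).subtype.rTensor X) := by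
  rw [mem_range_rTensor_iff] at hB hC ⊢
  obtain ⟨j, hj, hcomp⟩ := prod_mkQ_facts B C
  have hjX : Function.Injective (j.rTensor X) :=
    Module.Flat.rTensor_preserves_injective_linearMap j hj
  apply hjX
  rw [map_zero, ← LinearMap.comp_apply, ← LinearMap.rTensor_comp, hcomp, LinearMap.rTensor_add,
    LinearMap.add_apply, LinearMap.rTensor_comp, LinearMap.rTensor_comp, LinearMap.comp_apply,
    LinearMap.comp_apply, hB, hC, map_zero, map_zero, add_zero]

lemma range_lTensor_inf (B C : Submodule k V) (y : X ⊗[k] V)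
    (hB : y ∈ LinearMap.range (B.subtype.lTensor X))
    (hC : y ∈ LinearMap.range (C.subtype.lTensor X)) :
    y ∈ LinearMap.range ((B ⊓ C).subtype.lTensor X) := by
  rw [mem_range_lTensor_iff] at hB hC ⊢
  obtain ⟨j, hj, hcomp⟩ := prod_mkQ_facts B C
  have hjX : Function.Injective (j.lTensor X) :=
    Module.Flat.lTensor_preserves_injective_linearMap j hj
  apply hjX
  rw [map_zero, ← LinearMap.comp_apply, ← LinearMap.lTensor_comp, hcomp, LinearMap.lTensor_add,
    LinearMap.add_apply, LinearMap.lTensor_comp, LinearMap.lTensor_comp, LinearMap.comp_apply,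
    LinearMap.comp_apply, hB, hC, map_zero, map_zero, add_zero]

end LinAlg

section Coalg

variable {k : Type u} {A : Type v} [Field k] [AddCommGroup A] [Module k A] [Coalgebra k A]

lemma range_map_le_rTensor (D : Submodule k A) :
    LinearMap.range (TensorProduct.map D.subtype D.subtype) ≤
      LinearMap.range (D.subtype.rTensor A) := by
  have := LinearMap.rTensor_comp_lTensor (R := k) (f := D.subtype) (g := D.subtype)
  rw [← this]
  exact LinearMap.range_comp_le_range _ _

lemma range_map_le_lTensor (D : Submodule k A) :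
    LinearMap.range (TensorProduct.map D.subtype D.subtype) ≤
      LinearMap.range (D.subtype.lTensor A) := by
  have := LinearMap.lTensor_comp_rTensor (R := k) (f := D.subtype) (g := D.subtype)
  rw [← this]
  exact LinearMap.range_comp_le_range _ _

lemma range_map_mono {B C : Submodule k A} (h : B ≤ C) :
    LinearMap.range (TensorProduct.map B.subtype B.subtype) ≤
      LinearMap.range (TensorProduct.map C.subtype C.subtype) := by
  have e : B.subtype = C.subtype ∘ₗ Submodule.inclusion h := by ext x; rfl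
  have e2 : TensorProduct.map B.subtype B.subtype =
      TensorProduct.map C.subtype C.subtype ∘ₗ
        TensorProduct.map (Submodule.inclusion h) (Submodule.inclusion h) := by
    rw [← TensorProduct.map_comp, ← e]
  rw [e2]
  exact LinearMap.range_comp_le_range _ _

lemma isSubcoalg_inf {B C : Submodule k A} (hB : IsSubcoalg k A B) (hC : IsSubcoalg k A C) :
    IsSubcoalg k A (B ⊓ C) := by
  intro x hx
  set y := CoalgebraStruct.comul (R := k) x with hy
  have h1 : y ∈ LinearMap.range ((B ⊓ C).subtype.rTensor A) :=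
    range_rTensor_inf B C y (range_map_le_rTensor B (hB x hx.1))
      (range_map_le_rTensor C (hC x hx.2))
  have h2 : y ∈ LinearMap.range ((B ⊓ C).subtype.lTensor A) :=
    range_lTensor_inf B C y (range_map_le_lTensor B (hB x hx.1))
      (range_map_le_lTensor C (hC x hx.2))
  obtain ⟨π₀, hπ₀⟩ := LinearMap.exists_leftInverse_of_injective (B ⊓ C).subtype
    (Submodule.ker_subtype _)
  have e1 : ((B ⊓ C).subtype ∘ₗ π₀) ∘ₗ (B ⊓ C).subtype = (B ⊓ C).subtype := by
    rw [LinearMap.comp_assoc, hπ₀, LinearMap.comp_id]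
  have hr : ((B ⊓ C).subtype ∘ₗ π₀).rTensor A y = y := by
    obtain ⟨z, hz⟩ := h1
    rw [← hz, ← LinearMap.comp_apply, ← LinearMap.rTensor_comp, e1]
  have hl : ((B ⊓ C).subtype ∘ₗ π₀).lTensor A y = y := by
    obtain ⟨z, hz⟩ := h2
    rw [← hz, ← LinearMap.comp_apply, ← LinearMap.lTensor_comp, e1]
  refine ⟨TensorProduct.map π₀ π₀ y, ?_⟩
  rw [← LinearMap.comp_apply, ← TensorProduct.map_comp, ← LinearMap.rTensor_comp_lTensor,
    LinearMap.comp_apply, hl, hr]

lemma isSubcoalg_sup {B C : Submodule k A} (hB : IsSubcoalg k A B) (hC : IsSubcoalg k A C) :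
    IsSubcoalg k A (B ⊔ C) := by
  intro x hx
  obtain ⟨b, hb, c, hc, rfl⟩ := Submodule.mem_sup.mp hx
  rw [map_add]
  exact Submodule.add_mem _ (range_map_mono le_sup_left (hB b hb))
    (range_map_mono le_sup_right (hC c hc))

lemma isSubcoalg_bot : IsSubcoalg k A (⊥ : Submodule k A) := by
  intro x hx
  rw [Submodule.mem_bot] at hx
  rw [hx, map_zero]
  exact Submodule.zero_mem _

lemma isSubcoalg_finset_sup (s : Finset (SimpSub k A)) :
    IsSubcoalg k A (s.sup (fun D => D.1)) := by
  classical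
  induction s using Finset.induction_on with
  | empty => rw [Finset.sup_empty]; exact isSubcoalg_bot
  | insert a s ha ih => rw [Finset.sup_insert]; exact isSubcoalg_sup a.2.2.1 ih

lemma le_of_le_sup (D₀ : SimpSub k A) {C₁ C₂ : Submodule k A} (h₁ : IsSubcoalg k A C₁)
    (h₂ : IsSubcoalg k A C₂) (h : D₀.1 ≤ C₁ ⊔ C₂) : D₀.1 ≤ C₁ ∨ D₀.1 ≤ C₂ := by
  obtain ⟨hne, hsub, hsimple⟩ := D₀.2
  rcases hsimple (D₀.1 ⊓ C₁) inf_le_left (isSubcoalg_inf hsub h₁) with h0 | h0
  · right
    obtain ⟨p, hpU, hpC⟩ := exists_proj D₀.1 C₁ h0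
    set f : A →ₗ[k] k := (CoalgebraStruct.counit (R := k) (A := A)) ∘ₗ p with hf
    set T : A →ₗ[k] A := (TensorProduct.rid k A).toLinearMap ∘ₗ (f.lTensor A) ∘ₗ
      (CoalgebraStruct.comul (R := k) (A := A)) with hT
    have hT_D : ∀ d ∈ D₀.1, T d = d := by
      intro d hd
      have h1 : f.lTensor A (CoalgebraStruct.comul (R := k) d) =
          (CoalgebraStruct.counit (R := k) (A := A)).lTensor A (CoalgebraStruct.comul (R := k) d) :=
        lTensor_eq_of_eq_on D₀.1 f _ (fun u hu => by rw [hf, LinearMap.comp_apply, hpU u hu]) _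
          (range_map_le_lTensor D₀.1 (hsub d hd))
      rw [hT, LinearMap.comp_apply, LinearMap.comp_apply, h1, Coalgebra.lTensor_counit_comul]
      simp
    have hT_C₁ : ∀ c ∈ C₁, T c = 0 := by
      intro c hc
      have h1 : f.lTensor A (CoalgebraStruct.comul (R := k) c) =
          (0 : A →ₗ[k] k).lTensor A (CoalgebraStruct.comul (R := k) c) :=
        lTensor_eq_of_eq_on C₁ f 0
          (fun u hu => by rw [hf, LinearMap.comp_apply, hpC u hu, map_zero]; rfl) _
          (range_map_le_lTensor C₁ (h₁ c hc))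
      rw [hT, LinearMap.comp_apply, LinearMap.comp_apply, h1, LinearMap.lTensor_zero,
        LinearMap.zero_apply, map_zero]
    have hT_C₂ : ∀ c ∈ C₂, T c ∈ C₂ := by
      intro c hc
      rw [hT, LinearMap.comp_apply, LinearMap.comp_apply]
      exact rid_mem C₂ _ (lTensor_mem_range_rTensor C₂ f _ (range_map_le_rTensor C₂ (h₂ c hc)))
    intro d hd
    obtain ⟨c₁, hc₁, c₂, hc₂, hsum⟩ := Submodule.mem_sup.mp (h hd)
    rw [← hT_D d hd, ← hsum, map_add, hT_C₁ c₁ hc₁, zero_add]
    exact hT_C₂ c₂ hc₂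
  · left
    rw [← h0]
    exact inf_le_right

lemma exists_le_of_le_finset_sup (D₀ : SimpSub k A) (s : Finset (SimpSub k A))
    (h : D₀.1 ≤ s.sup (fun D => D.1)) : ∃ D ∈ s, D₀.1 ≤ D.1 := by
  classical
  induction s using Finset.induction_on with
  | empty =>
    rw [Finset.sup_empty, le_bot_iff] at h
    exact absurd h D₀.2.1
  | insert a s ha ih =>
    rw [Finset.sup_insert] at h
    rcases le_of_le_sup D₀ a.2.2.1 (isSubcoalg_finset_sup s) h with h1 | h1
    · exact ⟨a, Finset.mem_insert_self a s, h1⟩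
    · obtain ⟨D, hD, hle⟩ := ih h1
      exact ⟨D, Finset.mem_insert_of_mem hD, hle⟩

lemma inf_finset_sup_eq_bot (D₀ : SimpSub k A) (s : Finset (SimpSub k A)) (hs : D₀ ∉ s) :
    D₀.1 ⊓ s.sup (fun D => D.1) = ⊥ := by
  obtain ⟨hne, hsub, hsimple⟩ := D₀.2
  rcases hsimple (D₀.1 ⊓ s.sup (fun D => D.1)) inf_le_left
    (isSubcoalg_inf hsub (isSubcoalg_finset_sup s)) with h0 | h0
  · exact h0
  · exfalso
    have hle : D₀.1 ≤ s.sup (fun D => D.1) := by rw [← h0]; exact inf_le_right
    obtain ⟨D, hD, hle'⟩ := exists_le_of_le_finset_sup D₀ s hle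
    rcases D.2.2.2 D₀.1 hle' hsub with h1 | h1
    · exact hne h1
    · have : D₀ = D := Subtype.ext h1
      exact hs (this ▸ hD)

variable {M : Type x} [AddCommGroup M] [Module k M] [HopfRep.Comod k A M]

/-- A vector whose coaction lies in `N ⊗ A` lies in `N`. -/
lemma mem_of_coact_mem (N : Submodule k M) (x : M)
    (hx : Comod.coact (k := k) (A := A) x ∈ LinearMap.range (N.subtype.rTensor A)) : x ∈ N := by
  have h1 := lTensor_mem_range_rTensor N (CoalgebraStruct.counit (R := k) (A := A)) _ hx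
  have h2 := rid_mem N _ h1
  have h3 := LinearMap.congr_fun (Comod.counit_comp (k := k) (A := A) (V := M)) x
  rw [LinearMap.comp_apply] at h3
  rw [h3] at h2
  simpa using h2

theorem exists_inf_isoComp_ne_bot (hsup : (⨆ D : SimpSub k A, isoComp M D.1) = ⊤)
    (N : Submodule k M) (hN : IsSubcomod (k := k) (A := A) N) (hne : N ≠ ⊥) :
    ∃ D : SimpSub k A, N ⊓ isoComp M D.1 ≠ ⊥ := by
  classical
  obtain ⟨v, hvN, hv0⟩ := Submodule.exists_mem_ne_zero_of_ne_bot hne
  have hv : v ∈ ⨆ D : SimpSub k A, isoComp M D.1 := by rw [hsup]; trivial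
  rw [Submodule.mem_iSup_iff_exists_finsupp] at hv
  obtain ⟨f, hf, hsum⟩ := hv
  have hsupp : f.support.Nonempty := by
    rw [Finset.nonempty_iff_ne_empty]
    intro h
    rw [Finsupp.support_eq_empty] at h
    rw [h] at hsum
    simp at hsum
    exact hv0 hsum.symm
  obtain ⟨D₀, hD₀⟩ := hsupp
  have hfD₀ : f D₀ ≠ 0 := Finsupp.mem_support_iff.mp hD₀
  set s := f.support.erase D₀ with hs
  have hind := inf_finset_sup_eq_bot D₀ s (Finset.notMem_erase D₀ f.support)
  obtain ⟨p, hpU, hpC⟩ := exists_proj D₀.1 (s.sup (fun D => D.1)) hind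
  set ρ := Comod.coact (k := k) (A := A) (V := M) with hρ
  have hterm : ∀ D ∈ f.support, (p.lTensor M) (ρ (f D)) = if D = D₀ then ρ (f D₀) else 0 := by
    intro D hD
    have hmem : ρ (f D) ∈ LinearMap.range (D.1.subtype.lTensor M) := hf D
    by_cases hDD : D = D₀
    · subst hDD
      rw [if_pos rfl]
      have := lTensor_eq_of_eq_on (W := M) D.1 p LinearMap.id (fun u hu => by
        rw [hpU u hu]; rfl) _ hmem
      rw [this, LinearMap.lTensor_id, LinearMap.id_apply]
    · rw [if_neg hDD]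
      have hle : D.1 ≤ s.sup (fun D => D.1) :=
        Finset.le_sup (f := fun D : SimpSub k A => D.1) (Finset.mem_erase.mpr ⟨hDD, hD⟩)
      have := lTensor_eq_of_eq_on (W := M) D.1 p 0 (fun u hu => by
        rw [hpC u (hle hu)]; rfl) _ hmem
      rw [this, LinearMap.lTensor_zero, LinearMap.zero_apply]
  have hpv : (p.lTensor M) (ρ v) = ρ (f D₀) := by
    rw [← hsum, Finsupp.sum, map_sum, map_sum, Finset.sum_congr rfl hterm,
      Finset.sum_ite_eq' f.support D₀, if_pos hD₀]
  have hmemN : ρ (f D₀) ∈ LinearMap.range (N.subtype.rTensor A) := by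
    rw [← hpv]
    exact lTensor_mem_range_rTensor N p _ (hN v hvN)
  have hfN : f D₀ ∈ N := mem_of_coact_mem N _ hmemN
  refine ⟨D₀, fun hbot => hfD₀ ?_⟩
  have : f D₀ ∈ N ⊓ isoComp M D₀.1 := ⟨hfN, hf D₀⟩
  rw [hbot, Submodule.mem_bot] at this
  exact this

/-- strict positivity of the weight of a non-zero subcomodule with no negative part -/
theorem theta_pos {θ : SimpSub k A → ℚ} {h : SimpSub k A → ℕ}
    (hsum : Summable (fun D => (θ D : ℝ) * (h D : ℝ)))
    (hsup : (⨆ D : SimpSub k A, isoComp M D.1) = ⊤)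
    (hfin : ∀ D : SimpSub k A, Module.Finite k ↥(isoComp M D.1))
    (hh : ∀ D : SimpSub k A, Module.finrank k ↥(isoComp M D.1) = h D)
    (hθ : ∀ D, h D ≠ 0 → θ D ≠ 0)
    (N : Submodule k M) (hN : IsSubcomod (k := k) (A := A) N) (hne : N ≠ ⊥)
    (hneg : ∀ D, θ D < 0 → N ⊓ isoComp M D.1 = ⊥) :
    0 < theta M θ N := by
  have hb : ∀ D, hilbAt M N D ≤ h D := by
    intro D
    have := Groth.Agent.H2.Constell.hilbAt_mono hfin (le_top : N ≤ ⊤) D
    rwa [Groth.Agent.H2.Constell.hilbAt_top, hh] at this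
  have hsummable := Groth.Agent.H2.Constell.summable_theta hsum hb
  have hnonneg : ∀ D, (0 : ℝ) ≤ (θ D : ℝ) * (hilbAt M N D : ℝ) := by
    intro D
    by_cases hD : θ D < 0
    · have : hilbAt M N D = 0 := by
        unfold hilbAt
        rw [hneg D hD]
        exact finrank_bot k M
      rw [this]; simp
    · have h1 : (0 : ℚ) ≤ θ D := not_lt.mp hD
      have h2 : (0 : ℝ) ≤ (θ D : ℝ) := by exact_mod_cast h1
      exact mul_nonneg h2 (Nat.cast_nonneg _)
  obtain ⟨D₁, hD₁⟩ := exists_inf_isoComp_ne_bot hsup N hN hne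
  have hpos1 : 0 < hilbAt M N D₁ := by
    unfold hilbAt
    haveI := hfin D₁
    haveI : Module.Finite k ↥(N ⊓ isoComp M D₁.1) := Submodule.finiteDimensional_inf_right _ _
    haveI : Nontrivial ↥(N ⊓ isoComp M D₁.1) := Submodule.nontrivial_iff_ne_bot.mpr hD₁
    exact Module.finrank_pos
  have hθ1 : 0 < θ D₁ := by
    have h1 : ¬ θ D₁ < 0 := by
      intro hlt
      exact hD₁ (hneg D₁ hlt)
    have h2 : h D₁ ≠ 0 := by
      have := hb D₁
      omega
    have h3 := hθ D₁ h2
    exact lt_of_le_of_ne (not_lt.mp h1) (Ne.symm h3)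
  unfold theta
  apply Summable.tsum_pos hsummable hnonneg D₁
  have h2 : (0 : ℝ) < (θ D₁ : ℝ) := by exact_mod_cast hθ1
  have h3 : (0 : ℝ) < (hilbAt M N D₁ : ℝ) := by exact_mod_cast hpos1
  exact mul_pos h2 h3

end Coalg

end Groth.Agent.H2.Constell2
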