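import Mathlib

set_option autoImplicit false
set_option linter.style.haveILetI false
set_option linter.unusedSimpArgs false
set_option linter.unusedVariables false
set_option linter.unnecessarySeqFocus false
set_option linter.unusedSectionVars false

namespace Groth.Agent.H2.CorootPres

universe u v w x

variable {ι : Type u} {R : Type v} {M : Type w} {N : Type x} [CommRing R] [IsDomain R] [CharZero R]
    [AddCommGroup M] [Module R M] [AddCommGroup N] [Module R N] (P : RootPairing ι R M N)

/-- the relation element -/
noncomputable def rel [P.IsCrystallographic] (p : ι × ι) : ι →₀ ℤ :=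
  Finsupp.single (P.reflectionPerm p.1 p.2) (1 : ℤ) - Finsupp.single p.2 1 +
          P.pairingIn ℤ p.1 p.2 • Finsupp.single p.1 1

noncomputable def g (s : Multiset ι) : ι →₀ ℤ := (s.map (fun i => Finsupp.single i (1:ℤ))).sum

lemma g_zero : g (0 : Multiset ι) = 0 := by simp [g]
lemma g_cons (a : ι) (s : Multiset ι) : g (a ::ₘ s) = Finsupp.single a 1 + g s := by simp [g]
lemma g_add (s t : Multiset ι) : g (s + t) = g s + g t := by simp [g]
lemma g_replicate (n : ℕ) (a : ι) : g (Multiset.replicate n a) = n • Finsupp.single a (1:ℤ) := by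
  simp [g, Multiset.map_replicate, Multiset.sum_replicate]

lemma phi_g (s : Multiset ι) :
    Finsupp.linearCombination ℤ (fun i : ι => (P.coroot i : N)) (g s)
      = (s.map (fun i => P.coroot i)).sum := by
  induction s using Multiset.induction_on with
  | empty => simp [g]
  | cons a s ih =>
    rw [g_cons, map_add, ih, Finsupp.linearCombination_single, one_smul, Multiset.map_cons,
      Multiset.sum_cons]

lemma coroot_refl [P.IsCrystallographic] (i j : ι) :
    P.coroot (P.reflectionPerm i j) = P.coroot j - P.pairingIn ℤ i j • P.coroot i := by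
  rw [P.coroot_reflectionPerm, P.coreflection_apply_coroot, ← P.algebraMap_pairingIn ℤ,
    algebraMap_smul]

lemma phi_rel [P.IsCrystallographic] (p : ι × ι) :
    Finsupp.linearCombination ℤ (fun i : ι => (P.coroot i : N)) (rel P p) = 0 := by
  unfold rel
  rw [map_add, map_sub, map_smul, Finsupp.linearCombination_single,
    Finsupp.linearCombination_single, Finsupp.linearCombination_single, one_smul, one_smul,
    one_smul, coroot_refl]
  abel

lemma Rel_le_ker [P.IsCrystallographic] :
    Submodule.span ℤ (Set.range (rel P)) ≤
      LinearMap.ker (Finsupp.linearCombination ℤ (fun i : ι => (P.coroot i : N))) := by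
  rw [Submodule.span_le]
  rintro _ ⟨p, rfl⟩
  exact phi_rel P p

lemma rel_self [P.IsCrystallographic] (i : ι) :
    rel P (i, i) = Finsupp.single (P.reflectionPerm i i) 1 + Finsupp.single i 1 := by
  show Finsupp.single (P.reflectionPerm i i) (1 : ℤ) - Finsupp.single i 1 +
          P.pairingIn ℤ i i • Finsupp.single i 1 = _
  rw [P.pairingIn_same ℤ, two_smul]
  abel

lemma rel_mem [P.IsCrystallographic] (p : ι × ι) :
    rel P p ∈ Submodule.span ℤ (Set.range (rel P)) :=
  Submodule.subset_span ⟨p, rfl⟩

lemma exists_multiset [P.IsCrystallographic] (x : ι →₀ ℤ) :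
    ∃ s : Multiset ι, x - g s ∈ Submodule.span ℤ (Set.range (rel P)) := by
  induction x using Finsupp.induction_linear with
  | zero => exact ⟨0, by simp [g_zero]⟩
  | add x y hx hy =>
    obtain ⟨s, hs⟩ := hx
    obtain ⟨t, ht⟩ := hy
    refine ⟨s + t, ?_⟩
    have := add_mem hs ht
    rw [g_add]
    convert this using 1
    abel
  | single i c =>
    obtain ⟨n, rfl | rfl⟩ := Int.eq_nat_or_neg c
    · refine ⟨Multiset.replicate n i, ?_⟩
      have : Finsupp.single i (n:ℤ) = n • Finsupp.single i (1:ℤ) := by
        rw [Finsupp.smul_single, nsmul_one]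
      rw [g_replicate, this, sub_self]
      exact zero_mem _
    · refine ⟨Multiset.replicate n (P.reflectionPerm i i), ?_⟩
      have h1 : Finsupp.single i (-(n:ℤ)) = -(n • Finsupp.single i (1:ℤ)) := by
        rw [Finsupp.smul_single, nsmul_one, Finsupp.single_neg]
      have h2 : Finsupp.single i (-(n:ℤ)) - g (Multiset.replicate n (P.reflectionPerm i i))
          = -(n • rel P (i, i)) := by
        rw [g_replicate, h1, rel_self, smul_add]
        abel
      rw [h2]
      exact neg_mem (nsmul_mem (rel_mem P _) n)

lemma mainB [Finite ι] [P.IsCrystallographic] [P.IsReduced] :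
    ∀ (n : ℕ) (s : Multiset ι), Multiset.card s = n → (s.map (fun i => P.coroot i)).sum = 0 →
      g s ∈ Submodule.span ℤ (Set.range (rel P)) := by
  intro n
  induction n using Nat.strong_induction_on with
  | _ n ih =>
  intro s hcard hs
  rcases Multiset.empty_or_exists_mem s with rfl | ⟨a, ha⟩
  · rw [g_zero]; exact zero_mem _
  obtain ⟨y, rfl⟩ := Multiset.exists_cons_of_mem ha
  have h1 : ((a ::ₘ y).map (fun b => P.pairingIn ℤ a b)).sum = 0 := by
    have h2 := congrArg (P.root' a) hs
    rw [map_zero, map_multiset_sum, Multiset.map_map] at h2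
    apply Int.cast_injective (α := R)
    rw [Int.cast_zero, ← h2, Int.cast_multiset_sum, Multiset.map_map]
    congr 1
    apply Multiset.map_congr rfl
    intro b _
    simp only [Function.comp_apply, RootPairing.root'_coroot_eq_pairing]
    rw [← P.algebraMap_pairingIn ℤ]
    rfl
  rw [Multiset.map_cons, Multiset.sum_cons, P.pairingIn_same ℤ] at h1
  obtain ⟨b, hb, hneg⟩ : ∃ b ∈ y, P.pairingIn ℤ a b < 0 := by
    by_contra hcon
    push Not at hcon
    have : 0 ≤ (y.map (fun b => P.pairingIn ℤ a b)).sum := by
      apply Multiset.sum_nonneg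
      intro x hx
      obtain ⟨b, hb, rfl⟩ := Multiset.mem_map.mp hx
      exact hcon b hb
    omega
  obtain ⟨z, rfl⟩ := Multiset.exists_cons_of_mem hb
  simp only [Multiset.card_cons] at hcard
  by_cases hab : P.root b = - P.root a
  · have hb' : b = P.reflectionPerm a a :=
      P.root.injective (by rw [hab, P.root_reflectionPerm, P.reflection_apply_self])
    subst hb'
    have hz : (z.map (fun i => P.coroot i)).sum = 0 := by
      simp only [Multiset.map_cons, Multiset.sum_cons] at hs
      rw [P.coroot_reflectionPerm, P.coreflection_apply_self] at hs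
      rw [← hs]
      abel
    have h3 := ih (Multiset.card z) (by omega) z rfl hz
    rw [g_cons, g_cons, ← add_assoc]
    refine add_mem ?_ h3
    have h4 := rel_mem P (a, a)
    rw [rel_self] at h4
    rw [add_comm]
    exact h4
  · have hne : P.root a ≠ P.root b := by
      intro h
      have : a = b := P.root.injective h
      subst this
      rw [P.pairingIn_same ℤ] at hneg
      omega
    have hne' : P.root a ≠ - P.root b := by
      intro h
      apply hab
      rw [h, neg_neg]
    have hset := P.pairingIn_pairingIn_mem_set_of_isCrystal_of_isRed' a b hne hne'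
    have hcases : P.pairingIn ℤ a b = -1 ∨ P.pairingIn ℤ b a = -1 := by
      simp only [Set.mem_insert_iff, Set.mem_singleton_iff, Prod.mk.injEq] at hset
      omega
    rcases hcases with h | h
    · have hz : (((P.reflectionPerm a b) ::ₘ z).map (fun i => P.coroot i)).sum = 0 := by
        simp only [Multiset.map_cons, Multiset.sum_cons] at hs ⊢
        rw [coroot_refl, h, ← hs, neg_smul, one_smul]
        abel
      have h3 := ih (Multiset.card z + 1) (by omega) _ (by simp) hz
      have h4 : g (a ::ₘ b ::ₘ z) = g (P.reflectionPerm a b ::ₘ z) - rel P (a, b) := by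
        simp only [g_cons]
        show _ = _ - (Finsupp.single (P.reflectionPerm a b) (1 : ℤ) - Finsupp.single b 1 +
          P.pairingIn ℤ a b • Finsupp.single a 1)
        rw [h, neg_smul, one_smul]
        abel
      rw [h4]
      exact sub_mem h3 (rel_mem P _)
    · have hz : (((P.reflectionPerm b a) ::ₘ z).map (fun i => P.coroot i)).sum = 0 := by
        simp only [Multiset.map_cons, Multiset.sum_cons] at hs ⊢
        rw [coroot_refl, h, ← hs, neg_smul, one_smul]
        abel
      have h3 := ih (Multiset.card z + 1) (by omega) _ (by simp) hz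
      have h4 : g (a ::ₘ b ::ₘ z) = g (P.reflectionPerm b a ::ₘ z) - rel P (b, a) := by
        simp only [g_cons]
        show _ = _ - (Finsupp.single (P.reflectionPerm b a) (1 : ℤ) - Finsupp.single a 1 +
          P.pairingIn ℤ b a • Finsupp.single b 1)
        rw [h, neg_smul, one_smul]
        abel
      rw [h4]
      exact sub_mem h3 (rel_mem P _)

theorem main_thm [Finite ι] [P.IsCrystallographic] [P.IsReduced] :
    LinearMap.ker (Finsupp.linearCombination ℤ (fun i : ι => (P.coroot i : N))) =
      Submodule.span ℤ (Set.range fun p : ι × ι =>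
        Finsupp.single (P.reflectionPerm p.1 p.2) (1 : ℤ) - Finsupp.single p.2 1 +
          P.pairingIn ℤ p.1 p.2 • Finsupp.single p.1 1) := by
  apply le_antisymm
  · intro x hx
    show x ∈ Submodule.span ℤ (Set.range (rel P))
    obtain ⟨s, hs⟩ := exists_multiset P x
    have h1 : Finsupp.linearCombination ℤ (fun i : ι => (P.coroot i : N)) (g s) = 0 := by
      have h0 := Rel_le_ker P hs
      rw [LinearMap.mem_ker, map_sub, LinearMap.mem_ker.mp hx, zero_sub, neg_eq_zero] at h0
      exact h0
    rw [phi_g] at h1
    have h2 := mainB P (Multiset.card s) s rfl h1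
    have h3 : x = (x - g s) + g s := by abel
    rw [h3]
    exact add_mem hs h2
  · exact Rel_le_ker P

end Groth.Agent.H2.CorootPres
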