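import Mathlib.RingTheory.PowerSeries.Substitution
import Mathlib.Tactic.LinearCombination

/-!
# Cube roots of `1 + w` in power series rings, when `3` is invertible
-/

set_option autoImplicit false

namespace Groth.Agent.H2.CubeRoot

open PowerSeries

theorem exists_cube_root {R : Type*} [CommRing R] (h3 : IsUnit (3 : R)) {τ : Type*}
    (w : MvPowerSeries τ R) (hw : MvPowerSeries.constantCoeff w = 0) :
    ∃ ρ : MvPowerSeries τ R, ρ ^ 3 = 1 + w ∧ MvPowerSeries.constantCoeff ρ = 1 := by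
  obtain ⟨P, hPdef⟩ : ∃ P : PowerSeries R, P = 3 * X + 3 * X ^ 2 + X ^ 3 := ⟨_, rfl⟩
  have hP0 : PowerSeries.constantCoeff P = 0 := by simp [hPdef]
  have hP1 : PowerSeries.coeff 1 P = 3 := by
    have h3C : (3 : PowerSeries R) = PowerSeries.C (3:R) := (map_ofNat (PowerSeries.C) 3).symm
    rw [hPdef, h3C]
    simp only [map_add, PowerSeries.coeff_C_mul, PowerSeries.coeff_one_X, PowerSeries.coeff_X_pow]
    norm_num
  have hP' : IsUnit (PowerSeries.coeff 1 P) := hP1 ▸ h3
  obtain ⟨Q, hQdef⟩ : ∃ Q : PowerSeries R, Q = P.substInvOfIsUnit hP' := ⟨_, rfl⟩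
  have hQ0 : PowerSeries.constantCoeff Q = 0 := by
    rw [hQdef]; exact PowerSeries.constantCoeff_substInvOfIsUnit P hP'
  have hQ : P.subst Q = PowerSeries.X := by
    rw [hQdef]; exact PowerSeries.subst_substInvOfIsUnit_right P hP0 hP'
  have hsQ : PowerSeries.HasSubst Q := PowerSeries.HasSubst.of_constantCoeff_zero' hQ0
  have hsw : PowerSeries.HasSubst w := PowerSeries.HasSubst.of_constantCoeff_zero hw
  have e1 : P.subst Q = 3 * Q + 3 * Q ^ 2 + Q ^ 3 := by
    rw [← PowerSeries.coe_substAlgHom hsQ, hPdef]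
    simp only [map_add, map_mul, map_pow, map_ofNat, PowerSeries.substAlgHom_X]
  have e2 : 3 * Q + 3 * Q ^ 2 + Q ^ 3 = PowerSeries.X := by rw [← e1]; exact hQ
  refine ⟨1 + PowerSeries.subst w Q, ?_, ?_⟩
  · have e3 := congrArg (PowerSeries.subst w) e2
    rw [← PowerSeries.coe_substAlgHom hsw] at e3 ⊢
    simp only [map_add, map_mul, map_pow, map_ofNat, PowerSeries.substAlgHom_X] at e3
    linear_combination e3
  · rw [map_add, map_one, PowerSeries.constantCoeff_subst_eq_zero hw Q hQ0, add_zero]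

end Groth.Agent.H2.CubeRoot
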