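import Mathlib

set_option autoImplicit false

namespace Groth.Agent.H2.DPow

open WittVector

variable {p : ℕ} [hpp : Fact p.Prime]

section lift

variable {B : Type*} [CommRing B] (I : Ideal B) (n : ℕ)

/-- a lift of a truncated Witt vector over `B ⧸ I` to a Witt vector over `B`. -/
noncomputable def liftW (a : TruncatedWittVector p n (B ⧸ I)) : WittVector p B :=
  WittVector.mk p (fun i => if h : i < n then
    Function.surjInv Ideal.Quotient.mk_surjective (TruncatedWittVector.coeff ⟨i, h⟩ a) else 0)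

theorem mk_coeff_liftW (a : TruncatedWittVector p n (B ⧸ I)) (i : ℕ) (h : i < n) :
    Ideal.Quotient.mk I ((liftW I n a).coeff i) = TruncatedWittVector.coeff ⟨i, h⟩ a := by
  unfold liftW
  rw [WittVector.coeff_mk]
  simp only [h, dif_pos]
  exact Function.surjInv_eq Ideal.Quotient.mk_surjective _

theorem trunc_liftW (a : TruncatedWittVector p n (B ⧸ I)) :
    WittVector.truncate n (WittVector.map (Ideal.Quotient.mk I) (liftW I n a)) = a := by
  apply TruncatedWittVector.ext
  intro i
  rw [WittVector.coeff_truncate, WittVector.map_coeff, mk_coeff_liftW I n a i i.2]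

end lift

section modp

variable {B : Type*} [CommRing B]

theorem natCast_quot_eq_zero : ((p : ℕ) : B ⧸ Ideal.span {(p : B)}) = 0 := by
  rw [← map_natCast (Ideal.Quotient.mk (Ideal.span {(p : B)}))]
  exact Ideal.Quotient.eq_zero_iff_mem.mpr (Ideal.mem_span_singleton_self _)

/-- modulo `p`, the truncated ghost sum is the `p^n`-th power of the zeroth coefficient. -/
theorem mk_sum (n : ℕ) (hn : 0 < n) (x : ℕ → B) :
    Ideal.Quotient.mk (Ideal.span {(p : B)})
      (∑ i : Fin n, (p : B) ^ (i : ℕ) * (x i) ^ (p ^ (n - i))) =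
      (Ideal.Quotient.mk (Ideal.span {(p : B)}) (x 0)) ^ (p ^ n) := by
  obtain ⟨m, rfl⟩ : ∃ m, n = m + 1 := ⟨n - 1, (Nat.sub_add_cancel hn).symm⟩
  rw [Fin.sum_univ_succ, map_add, map_sum]
  have h0 : ∀ i : Fin m, Ideal.Quotient.mk (Ideal.span {(p : B)})
      ((p : B) ^ ((i.succ : Fin (m+1)) : ℕ) * (x (i.succ : Fin (m+1))) ^ (p ^ (m + 1 - (i.succ : Fin (m+1))))) = 0 := by
    intro i
    rw [Fin.val_succ, pow_succ, map_mul, map_mul, map_natCast, natCast_quot_eq_zero, mul_zero,
      zero_mul]
  rw [Finset.sum_eq_zero (fun i _ => h0 i), add_zero]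
  simp

theorem key_mk (n : ℕ) (hn : 0 < n)
    (θ : TruncatedWittVector p n (B ⧸ (Ideal.span {(p : B)})) →+* B)
    (hθ : ∀ x : WittVector p B, θ (WittVector.truncate n (WittVector.map (Ideal.Quotient.mk (Ideal.span {(p : B)})) x)) =
        ∑ i : Fin n, (p : B) ^ (i : ℕ) * (x.coeff i) ^ (p ^ (n - i)))
    (a : TruncatedWittVector p n (B ⧸ (Ideal.span {(p : B)}))) :
    Ideal.Quotient.mk (Ideal.span {(p : B)}) (θ a) = (TruncatedWittVector.coeff ⟨0, hn⟩ a) ^ (p ^ n) := by
  have h := hθ (liftW (Ideal.span {(p : B)}) n a)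
  rw [trunc_liftW] at h
  rw [h, mk_sum n hn, mk_coeff_liftW _ n a 0 hn]

theorem pow_surj (hF : Function.Surjective (fun y : B ⧸ (Ideal.span {(p : B)}) => y ^ p)) (m : ℕ) :
    Function.Surjective (fun y : B ⧸ (Ideal.span {(p : B)}) => y ^ (p ^ m)) := by
  induction m with
  | zero => intro y; exact ⟨y, by simp⟩
  | succ m ih =>
    intro y
    obtain ⟨z, hz⟩ := ih y
    obtain ⟨w, hw⟩ := hF z
    refine ⟨w, ?_⟩
    simp only at hz hw ⊢
    rw [pow_succ', pow_mul, hw, hz]

/-- successive approximation: a partial expansion can be completed. -/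
theorem approx (n : ℕ) (hF : Function.Surjective (fun y : B ⧸ (Ideal.span {(p : B)}) => y ^ p))
    (b : B) (j₀ : ℕ) (hj₀ : j₀ ≤ n) (x : ℕ → B) (c : B)
    (h : b = ∑ i ∈ Finset.range j₀, (p : B) ^ i * (x i) ^ (p ^ (n - i)) + (p : B) ^ j₀ * c) :
    ∃ (x' : ℕ → B) (c' : B), (∀ i < j₀, x' i = x i) ∧
      b = ∑ i ∈ Finset.range n, (p : B) ^ i * (x' i) ^ (p ^ (n - i)) + (p : B) ^ n * c' := by
  suffices H : ∀ j, j₀ ≤ j → j ≤ n → ∃ (x' : ℕ → B) (c' : B), (∀ i < j₀, x' i = x i) ∧
      b = ∑ i ∈ Finset.range j, (p : B) ^ i * (x' i) ^ (p ^ (n - i)) + (p : B) ^ j * c' from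
    H n hj₀ le_rfl
  intro j hj
  induction j, hj using Nat.le_induction with
  | base => intro _; exact ⟨x, c, fun _ _ => rfl, h⟩
  | succ j hj ih =>
    intro hjn
    obtain ⟨x', c', hx', hb⟩ := ih (by omega)
    obtain ⟨z, hz⟩ := pow_surj hF (n - j) (Ideal.Quotient.mk _ c')
    obtain ⟨z, rfl⟩ := Ideal.Quotient.mk_surjective z
    simp only at hz
    rw [← map_pow, ← sub_eq_zero, ← map_sub, Ideal.Quotient.eq_zero_iff_mem,
      Ideal.mem_span_singleton'] at hz
    obtain ⟨c'', hc''⟩ := hz
    refine ⟨Function.update x' j z, -c'', ?_, ?_⟩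
    · intro i hi
      rw [Function.update_of_ne (by omega), hx' i hi]
    · rw [Finset.sum_range_succ, Function.update_self]
      have hs : ∑ i ∈ Finset.range j, (p : B) ^ i * (Function.update x' j z i) ^ (p ^ (n - i)) =
          ∑ i ∈ Finset.range j, (p : B) ^ i * (x' i) ^ (p ^ (n - i)) := by
        apply Finset.sum_congr rfl
        intro i hi
        rw [Function.update_of_ne (ne_of_lt (Finset.mem_range.mp hi))]
      rw [hs, hb, pow_succ]
      linear_combination ((p : B) ^ j) * hc''

end modp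

section charp

variable {k : Type*} [CommRing k] [CharP k p]

theorem p_pow_trunc_eq_zero (n : ℕ) : (p : TruncatedWittVector p n k) ^ n = 0 := by
  rw [← map_natCast (WittVector.truncate n (p := p) (R := k)), ← map_pow]
  apply TruncatedWittVector.ext
  intro i
  rw [WittVector.coeff_truncate, TruncatedWittVector.coeff_zero]
  exact WittVector.coeff_p_pow_eq_zero p k (ne_of_lt i.2)

/-- in characteristic `p` with surjective Frobenius, a Witt vector with zero constant
coefficient is a multiple of `p`. -/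
theorem exists_mul_p_of_coeff_zero (hF : Function.Surjective (fun y : k => y ^ p))
    (δ : WittVector p k) (h0 : δ.coeff 0 = 0) : ∃ β : WittVector p k, δ = β * p := by
  have h1 : δ = verschiebung (δ.shift 1) := by
    have := WittVector.eq_iterate_verschiebung (x := δ) (n := 1) (by
      intro i hi
      have : i = 0 := by omega
      rw [this, h0])
    simpa using this
  refine ⟨WittVector.mk p (fun i => Function.surjInv hF ((δ.shift 1).coeff i)), ?_⟩
  rw [← WittVector.verschiebung_frobenius]
  have h2 : frobenius (WittVector.mk p (fun i => Function.surjInv hF ((δ.shift 1).coeff i))) =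
      δ.shift 1 := by
    ext i
    rw [WittVector.coeff_frobenius_charP, WittVector.coeff_mk]
    exact Function.surjInv_eq hF _
  rw [h2]
  exact h1

end charp

end Groth.Agent.H2.DPow
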