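import Mathlib
import Groth.Agent.S0079
import Groth.Agent.S0080

set_option autoImplicit false
universe u
open CategoryTheory CategoryTheory.Limits AlgebraicGeometry MorphismProperty

namespace Groth.Agent.H2

theorem isAffine_of_pullback {R S : CommRingCat.{u}} {Y : Scheme.{u}} (φ : R ⟶ S) (g : Y ⟶ Spec R)
    (hφ : (@Surjective ⊓ @Flat : MorphismProperty Scheme.{u}) (Spec.map φ))
    (hfst : IsAffineHom (pullback.fst (Spec.map φ) g)) : IsAffine Y := by
  have hsurj : Surjective (Spec.map φ) := hφ.1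
  have hflat : Flat (Spec.map φ) := hφ.2
  have hQ : (@Surjective ⊓ @Flat ⊓ @QuasiCompact : MorphismProperty Scheme.{u}) (Spec.map φ) :=
    ⟨hφ, inferInstance⟩
  -- the pullback is affine
  have hP : IsAffine (pullback (Spec.map φ) g) := isAffine_of_isAffineHom (pullback.fst (Spec.map φ) g)
  -- g is qcqs
  have hqc : QuasiCompact g := by
    have := Groth.Agent.S0079.result.{u}
    exact MorphismProperty.of_pullback_fst_of_descendsAlong (P := @QuasiCompact)
      (Q := @Surjective ⊓ @Flat ⊓ @QuasiCompact) (f := Spec.map φ) hQ inferInstance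
  have hqs : QuasiSeparated g := by
    have := Groth.Agent.S0080.result.{u}
    exact MorphismProperty.of_pullback_fst_of_descendsAlong (P := @QuasiSeparated)
      (Q := @Surjective ⊓ @Flat ⊓ @QuasiCompact) (f := Spec.map φ) hQ inferInstance
  have hcY : CompactSpace Y := (quasiCompact_iff_compactSpace g).mp hqc
  have hsY : QuasiSeparatedSpace Y := (quasiSeparated_iff_quasiSeparatedSpace g).mp hqs
  -- notation
  set P := pullback (Spec.map φ) g with hPdef
  let fst' : P ⟶ Spec S := pullback.fst (Spec.map φ) g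
  let snd' : P ⟶ Y := pullback.snd (Spec.map φ) g
  have H : IsPullback snd' fst' g (Spec.map φ) := (IsPullback.of_hasPullback (Spec.map φ) g).flip
  -- flat base change for global sections
  have hiso : IsIso (pushoutSection H (US := ⊤) (UT := ⊤) (UX := ⊤) (UY := ⊤)
      (by simp) (by simp) (by simp)) :=
    isIso_pushoutSection_of_isQuasiSeparated_of_flat_right H _ _ _ (isAffineOpen_top _)
      (isAffineOpen_top _) isCompact_univ isQuasiSeparated_univ
  have hpo := (isIso_pushoutSection_iff H (US := ⊤) (UT := ⊤) (UX := ⊤) (UY := ⊤)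
      (by simp) (by simp) (by simp)).mp hiso
  have happ : ∀ {A B : Scheme.{u}} (f : A ⟶ B) (e : (⊤ : A.Opens) ≤ f ⁻¹ᵁ ⊤),
      f.appLE ⊤ ⊤ e = f.appTop := by
    intro A B f e
    rw [Scheme.Hom.appLE]
    have : (homOfLE e).op = 𝟙 _ := Subsingleton.elim _ _
    rw [this]
    simp
  rw [happ, happ, happ, happ] at hpo
  -- apply Spec
  have hpb := hpo.op.map Scheme.Spec
  simp only [Scheme.Spec_map, Quiver.Hom.unop_op] at hpb
  clear hpo hiso
  let t : Y ⟶ Spec Γ(Y, ⊤) := Y.toSpecΓ
  let σS : Spec S ⟶ Spec Γ(Spec S, ⊤) := (Spec S).toSpecΓ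
  let σR : Spec R ⟶ Spec Γ(Spec R, ⊤) := (Spec R).toSpecΓ
  let φ' : Spec Γ(Spec S, ⊤) ⟶ Spec Γ(Spec R, ⊤) := Spec.map (Spec.map φ).appTop
  have n1 : fst' ≫ σS = P.toSpecΓ ≫ Spec.map fst'.appTop := Scheme.toSpecΓ_naturality fst'
  have n2 : snd' ≫ t = P.toSpecΓ ≫ Spec.map snd'.appTop := Scheme.toSpecΓ_naturality snd'
  have n3 : g ≫ σR = t ≫ Spec.map g.appTop := Scheme.toSpecΓ_naturality g
  have n4 : Spec.map φ ≫ σR = σS ≫ φ' := Scheme.toSpecΓ_naturality (Spec.map φ)
  have hR : IsPullback (fst' ≫ σS) (snd' ≫ t) φ' (Spec.map g.appTop) := by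
    refine IsPullback.of_iso hpb (asIso P.toSpecΓ).symm (Iso.refl _) (Iso.refl _) (Iso.refl _)
      ?_ ?_ ?_ ?_
    · simp [n1]
    · simp [n2]
    · simp [φ']
    · simp
  have hO : IsPullback (𝟙 P ≫ (fst' ≫ σS)) snd' φ' (t ≫ Spec.map g.appTop) := by
    refine IsPullback.of_iso H.flip (Iso.refl _) (asIso σS) (Iso.refl _) (asIso σR) ?_ ?_ ?_ ?_
    · simp
    · simp
    · simpa using n4
    · simpa using n3
  have hL : IsPullback (𝟙 P) snd' (snd' ≫ t) t := IsPullback.of_right hO (by simp) hR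
  have hQφ' : (@Surjective ⊓ @Flat ⊓ @QuasiCompact : MorphismProperty Scheme.{u}) φ' := by
    have h1 : (@Surjective ⊓ @Flat ⊓ @QuasiCompact : MorphismProperty Scheme.{u}) (Spec.map φ ≫ σR) :=
      (MorphismProperty.cancel_right_of_respectsIso _ (Spec.map φ) σR).mpr hQ
    rw [n4] at h1
    exact (MorphismProperty.cancel_left_of_respectsIso _ σS φ').mp h1
  have hQ' : (@Surjective ⊓ @Flat ⊓ @QuasiCompact : MorphismProperty Scheme.{u}) (snd' ≫ t) :=
    MorphismProperty.of_isPullback hR hQφ'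
  have hiso : IsIso t :=
    MorphismProperty.of_isPullback_of_descendsAlong (P := isomorphisms Scheme.{u})
      (Q := @Surjective ⊓ @Flat ⊓ @QuasiCompact) hL hQ' (isomorphisms.infer_property (𝟙 P))
  exact ⟨hiso⟩

/-- affine morphisms descend along fpqc morphisms -/
theorem isAffineHom_descends :
    MorphismProperty.DescendsAlong @IsAffineHom
      (@Surjective ⊓ @Flat ⊓ @QuasiCompact : MorphismProperty Scheme.{u}) := by
  apply IsZariskiLocalAtTarget.descendsAlong_inf_quasiCompact
  · rw [inf_comm]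
    exact inf_le_inf le_rfl (IsLocalIso.le_of_isZariskiLocalAtSource _)
  intro R S Y φ g h hfst
  have : IsAffine Y := isAffine_of_pullback φ g h hfst
  exact isAffineHom_of_isAffine g

/-- descent of properties of the form `affineAnd Q` along fpqc morphisms -/
theorem descendsAlong_of_affineAnd (P : MorphismProperty Scheme.{u}) [P.IsStableUnderBaseChange]
    {Q : ∀ {R S : Type u} [CommRing R] [CommRing S], (R →+* S) → Prop}
    (hP : HasAffineProperty P (affineAnd Q))
    (hQ : RingHom.RespectsIso Q) (hQQ' : RingHom.CodescendsAlong Q RingHom.FaithfullyFlat) :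
    P.DescendsAlong (@Surjective ⊓ @Flat ⊓ @QuasiCompact : MorphismProperty Scheme.{u}) := by
  have H₂ : ∀ {R S : CommRingCat.{u}} {f : R ⟶ S},
      (@Surjective ⊓ @Flat : MorphismProperty Scheme.{u}) (Spec.map f) → RingHom.FaithfullyFlat f.hom := by
    intro R S f ⟨hf₁, hf₂⟩
    rw [RingHom.FaithfullyFlat.iff_flat_and_comap_surjective]
    refine ⟨?_, (Spec.map f).surjective⟩
    rwa [HasRingHomProperty.Spec_iff (P := @Flat)] at hf₂
  apply IsZariskiLocalAtTarget.descendsAlong_inf_quasiCompact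
  · rw [inf_comm]
    exact inf_le_inf le_rfl (IsLocalIso.le_of_isZariskiLocalAtSource _)
  introv h hf
  have : IsAffine Y := isAffine_of_pullback φ g h
    (AlgebraicGeometry.HasAffineProperty.affineAnd_le_isAffineHom P inferInstance _ hf)
  wlog hY : ∃ S, Y = Spec S generalizing Y
  · rw [← P.cancel_left_of_respectsIso Y.isoSpec.inv]
    have heq : pullback.fst (Spec.map φ) (Y.isoSpec.inv ≫ g) =
        pullback.map _ _ _ _ (𝟙 _) (Y.isoSpec.inv) (𝟙 _) (by simp) (by simp) ≫
          pullback.fst (Spec.map φ) g := (pullback.lift_fst _ _ _).symm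
    refine this _ ?_ inferInstance ⟨_, rfl⟩
    rwa [heq, P.cancel_left_of_respectsIso]
  obtain ⟨Y, rfl⟩ := hY
  apply of_pullback_fst_Spec_of_codescendsAlong _ _ hQQ' H₂ _ h hf
  simp [HasAffineProperty.SpecMap_iff_of_affineAnd hP hQ]

end Groth.Agent.H2
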