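import Mathlib

set_option autoImplicit false
set_option linter.style.haveILetI false
set_option linter.unusedSimpArgs false
set_option linter.unusedVariables false
set_option linter.unnecessarySeqFocus false
set_option linter.unusedSectionVars false

universe u

namespace Groth.Agent.H2.DomDim1

open IsLocalRing

theorem main (R : Type u) [CommRing R] [IsDomain R]
    [IsNoetherianRing R] [IsLocalRing R] (hR : ¬ IsField R) :
    ∃ R' : Subalgebra R (FractionRing R), ∃ _ : IsLocalRing R',
      IsNoetherianRing R' ∧ ringKrullDim R' = 1 ∧ IsLocalHom (algebraMap R R') ∧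
        Algebra.EssFiniteType R R' := by
  classical
  let K := FractionRing R
  -- Step A
  obtain ⟨V, hV, hloc⟩ := IsLocalRing.exists_factor_valuationRing (algebraMap R K)
  -- Step B
  have hm : maximalIdeal R ≠ ⊥ := IsLocalRing.isField_iff_maximalIdeal_eq.not.mp hR
  obtain ⟨s, hs⟩ : (maximalIdeal R).FG := IsNoetherian.noetherian _
  have hs0 : ∃ y ∈ s, y ≠ 0 := by
    by_contra hcon
    push Not at hcon
    apply hm
    rw [← hs, Ideal.span_eq_bot]
    intro y hy
    exact hcon y hy
  obtain ⟨y0, hy0s, hy0⟩ := hs0
  have hsne : s.Nonempty := ⟨y0, hy0s⟩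
  obtain ⟨x, hxs, hxmax⟩ :=
    Finset.exists_max_image s (fun y => V.valuation (algebraMap R K y)) hsne
  have hinj : Function.Injective (algebraMap R K) := IsFractionRing.injective R K
  have hvx : 0 < V.valuation (algebraMap R K x) := by
    have h1 : V.valuation (algebraMap R K y0) ≠ 0 := by
      rw [Ne, Valuation.zero_iff]
      intro h
      exact hy0 (hinj (by rw [h, map_zero]))
    exact lt_of_lt_of_le (zero_lt_iff.mpr h1) (hxmax y0 hy0s)
  have hx0 : algebraMap R K x ≠ 0 := by
    intro h
    rw [h, map_zero] at hvx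
    exact lt_irrefl _ hvx
  have hxm : x ∈ maximalIdeal R := by
    rw [← hs]; exact Ideal.subset_span hxs
  have hdivV : ∀ y ∈ s, algebraMap R K y / algebraMap R K x ∈ V := by
    intro y hy
    rw [← V.valuation_le_one_iff, map_div₀]
    exact (div_le_one₀ hvx).mpr (hxmax y hy)
  -- Step C
  let T : Set K := (fun y => algebraMap R K y / algebraMap R K x) '' (s : Set R)
  let S : Subalgebra R K := Algebra.adjoin R T
  let V' : Subalgebra R K :=
    { toSubsemiring := V.toSubring.toSubsemiring
      algebraMap_mem' := fun r => hV r }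
  have hSV : S ≤ V' := by
    apply Algebra.adjoin_le
    rintro _ ⟨y, hy, rfl⟩
    exact hdivV y hy
  have hSft : Algebra.FiniteType R S := by
    rw [← Subalgebra.fg_iff_finiteType]
    exact Subalgebra.fg_def.mpr ⟨T, s.finite_toSet.image _, rfl⟩
  haveI : IsNoetherianRing S := Algebra.FiniteType.isNoetherianRing R S
  -- Step D
  let xS : S := algebraMap R S x
  have hxS0 : xS ≠ 0 := by
    intro h
    apply hx0
    have h3 : (xS : K) = ((0 : S) : K) := congrArg (Subtype.val) h
    exact h3
  let J : Ideal S := Ideal.span {xS}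
  have hJtop : J ≠ ⊤ := by
    intro h
    have h1 : (1 : S) ∈ J := by rw [h]; trivial
    obtain ⟨t, ht⟩ := Ideal.mem_span_singleton'.mp h1
    have hxunit : IsUnit ((algebraMap R K).codRestrict V.toSubring hV x) := by
      refine isUnit_iff_exists_inv.mpr ⟨⟨t.1, hSV t.2⟩, Subtype.ext ?_⟩
      have h3 : (t : K) * algebraMap R K x = 1 := congrArg Subtype.val ht
      show algebraMap R K x * (t : K) = 1
      rw [mul_comm]; exact h3
    have := hloc.map_nonunit x hxunit
    exact (IsLocalRing.mem_maximalIdeal x).mp hxm this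
  obtain ⟨⟨q, hq⟩⟩ := Ideal.nonempty_minimalPrimes hJtop
  haveI hqp : q.IsPrime := hq.1.1
  have hJq : J ≤ q := hq.1.2
  have hxq : xS ∈ q := hJq (Ideal.subset_span rfl)
  have hmq : ∀ r ∈ maximalIdeal R, algebraMap R S r ∈ q := by
    have : maximalIdeal R ≤ q.comap (algebraMap R S) := by
      rw [← hs, Ideal.span_le]
      intro y hy
      have hyS : algebraMap R K y / algebraMap R K x ∈ S := Algebra.subset_adjoin ⟨y, hy, rfl⟩
      have h2 : algebraMap R S y = ⟨_, hyS⟩ * xS := by
        apply Subtype.ext
        show algebraMap R K y = algebraMap R K y / algebraMap R K x * algebraMap R K x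
        rw [div_mul_cancel₀ _ hx0]
      show algebraMap R S y ∈ q
      rw [h2]
      exact q.mul_mem_left _ hxq
    exact fun r hr => this hr
  have hqh : q.height = 1 := by
    apply le_antisymm
    · haveI : J.IsPrincipal := ⟨⟨xS, rfl⟩⟩
      exact Ideal.height_le_one_of_isPrincipal_of_mem_minimalPrimes J q hq
    · rw [Order.one_le_iff_pos, pos_iff_ne_zero, Ne, Ideal.height_eq_zero_iff_eq_bot]
      intro h
      rw [h] at hxq
      exact hxS0 ((Ideal.mem_bot).mp hxq)
  -- Step E
  let Sq := Localization.AtPrime q
  have hunits : ∀ y : q.primeCompl, IsUnit (S.val (y : S)) := by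
    intro y
    apply IsUnit.mk0
    intro h
    have hy0 : (y : S) = 0 := Subtype.ext (by simpa using h)
    exact y.2 (by rw [hy0]; exact q.zero_mem)
  let φ : Sq →ₐ[R] K :=
    IsLocalization.liftAlgHom (M := q.primeCompl) (S := Sq) (f := S.val) hunits
  have hφalg : ∀ c : S, φ (algebraMap S Sq c) = (c : K) := by
    intro c
    simp [φ]
  have hφinj : Function.Injective φ := by
    rw [injective_iff_map_eq_zero]
    intro z hz
    obtain ⟨a, b, rfl⟩ := IsLocalization.exists_mk'_eq q.primeCompl z
    have h1 : φ (IsLocalization.mk' Sq a b) * φ (algebraMap S Sq (b : S)) =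
        φ (algebraMap S Sq a) := by
      rw [← map_mul, IsLocalization.mk'_spec]
    rw [hz, zero_mul, hφalg] at h1
    have ha : a = 0 := Subtype.ext h1.symm
    rw [ha, IsLocalization.mk'_zero]
  let R' : Subalgebra R K := φ.range
  let e : Sq ≃ₐ[R] R' := AlgEquiv.ofInjective φ hφinj
  haveI hR'loc : IsLocalRing R' := e.toRingEquiv.isLocalRing
  refine ⟨R', hR'loc, ?_, ?_, ?_, ?_⟩
  · haveI : IsNoetherianRing Sq := IsLocalization.isNoetherianRing q.primeCompl Sq inferInstance
    exact isNoetherianRing_of_ringEquiv Sq e.toRingEquiv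
  · rw [← ringKrullDim_eq_of_ringEquiv e.toRingEquiv,
      IsLocalization.AtPrime.ringKrullDim_eq_height q Sq, hqh]
    rfl
  · constructor
    intro r hr
    by_contra hnu
    have hrm : r ∈ maximalIdeal R := (IsLocalRing.mem_maximalIdeal r).mpr hnu
    have h1 : IsUnit (algebraMap R Sq r) := by
      have : e.symm (algebraMap R R' r) = algebraMap R Sq r := e.symm.commutes r
      rw [← this]
      exact hr.map e.symm
    rw [IsScalarTower.algebraMap_apply R S Sq,
      IsLocalization.AtPrime.isUnit_to_map_iff Sq q] at h1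
    exact h1 (hmq r hrm)
  · haveI : Algebra.EssFiniteType R S := inferInstance
    haveI : Algebra.EssFiniteType R Sq := inferInstance
    exact (Algebra.EssFiniteType.iff_of_algEquiv (S := Sq) (T := R') e).mp inferInstance

end Groth.Agent.H2.DomDim1
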