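import Mathlib

/-! Connectivity of the Dynkin diagram of an irreducible root system, and a consequence. -/

set_option autoImplicit false
set_option linter.style.haveILetI false
set_option linter.unusedSimpArgs false
set_option linter.unusedVariables false
set_option linter.unnecessarySeqFocus false
set_option linter.unusedSectionVars false

namespace Groth.Agent.H2.DynkinConn

open RootPairing Set

universe u v w

variable {ι : Type u} [Finite ι] [DecidableEq ι] {k : Type v} [Field k] [CharZero k]
    {M : Type w} [AddCommGroup M] [Module k M] {N : Type w} [AddCommGroup N] [Module k N]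
    (P : RootPairing ι k M N) [P.IsCrystallographic] [P.IsReduced]

lemma root_notMem_span (b : P.Base) (T : Set ι) (hT : T ⊆ (b.support : Set ι)) {d : ι}
    (hd : d ∈ b.support) (hdT : d ∉ T) : P.root d ∉ Submodule.span k (P.root '' T) :=
  (b.linearIndepOn_root.mono (Set.insert_subset hd hT)).notMem_span_of_insert hdT

lemma exists_edge [P.IsIrreducible] (b : P.Base) (S : Finset ι) (hS : S ⊆ b.support)
    (hne : S.Nonempty) (d0 : ι) (hd0 : d0 ∈ b.support) (hd0S : d0 ∉ S) :
    ∃ c ∈ S, ∃ d ∈ b.support, d ∉ S ∧ P.pairingIn ℤ c d ≠ 0 := by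
  by_contra hcon
  push Not at hcon
  set q := Submodule.span k (P.root '' (S : Set ι)) with hqdef
  have hq : ∀ i ∈ b.support, q ∈ Module.End.invtSubmodule (P.reflection i) := by
    intro i hi
    by_cases hiS : i ∈ S
    · exact Submodule.mem_invtSubmodule_reflection_of_mem _ _
        (Submodule.subset_span ⟨i, hiS, rfl⟩)
    · rw [Module.End.mem_invtSubmodule]
      apply Submodule.span_le.mpr
      rintro _ ⟨c, hc, rfl⟩
      simp only [SetLike.mem_coe, Submodule.mem_comap, LinearEquiv.coe_coe]
      rw [P.reflection_apply_root, ← P.algebraMap_pairingIn ℤ, hcon c hc i hi hiS, map_zero,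
        zero_smul, sub_zero]
      exact Submodule.subset_span ⟨c, hc, rfl⟩
  have hall := (b.forall_mem_support_invtSubmodule_iff q).mp hq
  have hbot : q ≠ ⊥ := by
    obtain ⟨c, hc⟩ := hne
    intro h
    have h1 : P.root c ∈ q := Submodule.subset_span ⟨c, hc, rfl⟩
    rw [h, Submodule.mem_bot] at h1
    exact P.ne_zero c h1
  have htop := IsIrreducible.eq_top_of_invtSubmodule_reflection q hall hbot
  have h2 : P.root d0 ∈ q := by rw [htop]; trivial
  exact root_notMem_span P b (S : Set ι) (by exact_mod_cast hS) hd0 (by exact_mod_cast hd0S) h2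

lemma pairingIn_sum {S : Finset ι} {j : ι} (hj : P.root j = ∑ γ ∈ S, P.root γ) (d : ι) :
    P.pairingIn ℤ j d = ∑ γ ∈ S, P.pairingIn ℤ γ d := by
  have hcast : ∀ x y, ((P.pairingIn ℤ x y : ℤ) : k) = P.pairing x y := fun x y => by
    rw [← P.algebraMap_pairingIn ℤ]; rfl
  have h1 : P.pairing j d = ∑ γ ∈ S, P.pairing γ d := by
    rw [← P.root_coroot'_eq_pairing, hj, map_sum]
    simp only [P.root_coroot'_eq_pairing]
  apply Int.cast_injective (α := k)
  rw [hcast, Int.cast_sum, h1]
  exact Finset.sum_congr rfl (fun γ _ => (hcast γ d).symm)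

theorem main [P.IsIrreducible] (b : P.Base)
    (I A B : Finset ι) (hcover : I ∪ A ∪ B = b.support) (hIA : Disjoint I A) (hIB : Disjoint I B)
    (hAB : Disjoint A B) (hA : A.Nonempty) (hB : B.Nonempty) :
    ∃ l ∈ A, ∃ j : ι, P.root j ∈ AddSubmonoid.closure (P.root '' ↑(I ∪ B)) ∧
      P.root j ∉ Submodule.span k (P.root '' ↑I) ∧ P.pairingIn ℤ j l < 0 := by
  obtain ⟨b0, hb0⟩ := hB
  obtain ⟨l0, hl0⟩ := hA
  have hIBsub : I ∪ B ⊆ b.support := by
    rw [← hcover]
    intro x hx
    rcases Finset.mem_union.mp hx with h | h
    · exact Finset.mem_union_left _ (Finset.mem_union_left _ h)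
    · exact Finset.mem_union_right _ h
  have hAsub : A ⊆ b.support := by
    rw [← hcover]
    intro x hx
    exact Finset.mem_union_left _ (Finset.mem_union_right _ hx)
  have hAdisj : ∀ x ∈ A, x ∉ I ∪ B := by
    intro x hxA hx
    rcases Finset.mem_union.mp hx with h | h
    · exact (Finset.disjoint_left.mp hIA h) hxA
    · exact (Finset.disjoint_left.mp hAB hxA) h
  have hb0I : b0 ∉ I := fun h => (Finset.disjoint_left.mp hIB h) hb0
  -- the growing argument
  have key : ∀ n : ℕ, ∀ S : Finset ι, S ⊆ I ∪ B → b0 ∈ S →
      (∃ j, P.root j = ∑ γ ∈ S, P.root γ) → ((I ∪ B) \ S).card = n →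
      ∃ l ∈ A, ∃ j : ι, P.root j ∈ AddSubmonoid.closure (P.root '' ↑(I ∪ B)) ∧
        P.root j ∉ Submodule.span k (P.root '' ↑I) ∧ P.pairingIn ℤ j l < 0 := by
    intro n
    induction n using Nat.strong_induction_on with
    | _ n ih =>
      intro S hS hb0S ⟨j, hj⟩ hcard
      have hSsup : S ⊆ b.support := hS.trans hIBsub
      have hl0S : l0 ∉ S := fun h => hAdisj l0 hl0 (hS h)
      obtain ⟨c, hc, d, hd, hdS, hcd⟩ := exists_edge P b S hSsup ⟨b0, hb0S⟩ l0 (hAsub hl0) hl0S
      have hcd_ne : c ≠ d := fun h => hdS (h ▸ hc)
      have hcd' : P.pairingIn ℤ c d < 0 :=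
        lt_of_le_of_ne (b.pairingIn_le_zero_of_ne hcd_ne (hSsup hc) hd) hcd
      have hjd : P.pairingIn ℤ j d < 0 := by
        rw [pairingIn_sum P hj d, ← Finset.add_sum_erase S _ hc]
        have h3 : ∑ γ ∈ S.erase c, P.pairingIn ℤ γ d ≤ 0 := by
          apply Finset.sum_nonpos
          intro γ hγ
          have hγS : γ ∈ S := Finset.mem_of_mem_erase hγ
          exact b.pairingIn_le_zero_of_ne (fun h => hdS (h ▸ hγS)) (hSsup hγS) hd
        omega
      by_cases hdA : d ∈ A
      · refine ⟨d, hdA, j, ?_, ?_, hjd⟩
        · rw [hj]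
          apply AddSubmonoid.sum_mem
          intro γ hγ
          exact AddSubmonoid.subset_closure ⟨γ, by exact_mod_cast hS hγ, rfl⟩
        · intro hmem
          -- root b0 = root j - sum over S.erase b0
          have h4 : P.root b0 ∈ Submodule.span k (P.root '' ((I ∪ S.erase b0 : Finset ι) : Set ι)) := by
            have h5 : P.root b0 = P.root j - ∑ γ ∈ S.erase b0, P.root γ := by
              rw [hj, ← Finset.add_sum_erase S _ hb0S]; abel
            rw [h5]
            apply Submodule.sub_mem
            · refine Submodule.span_mono ?_ hmem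
              apply Set.image_mono
              intro x hx
              exact_mod_cast Finset.mem_union_left _ (by exact_mod_cast hx)
            · apply Submodule.sum_mem
              intro γ hγ
              apply Submodule.subset_span
              exact ⟨γ, by exact_mod_cast Finset.mem_union_right _ hγ, rfl⟩
          refine root_notMem_span P b _ ?_ (hIBsub (Finset.mem_union_right _ hb0)) ?_ h4
          · intro x hx
            have hx' : x ∈ I ∪ S.erase b0 := by exact_mod_cast hx
            rcases Finset.mem_union.mp hx' with h | h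
            · exact_mod_cast hIBsub (Finset.mem_union_left _ h)
            · exact_mod_cast hSsup (Finset.mem_of_mem_erase h)
          · intro hx
            have hx' : b0 ∈ I ∪ S.erase b0 := by exact_mod_cast hx
            rcases Finset.mem_union.mp hx' with h | h
            · exact hb0I h
            · exact (Finset.notMem_erase b0 S) h
      · have hdIB : d ∈ I ∪ B := by
          rw [← hcover] at hd
          rcases Finset.mem_union.mp hd with h | h
          · rcases Finset.mem_union.mp h with h' | h'
            · exact Finset.mem_union_left _ h'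
            · exact absurd h' hdA
          · exact Finset.mem_union_right _ h
        have hneg : P.root j ≠ - P.root d := by
          intro h
          have h6 : P.root d ∈ Submodule.span k (P.root '' (S : Set ι)) := by
            have h7 : P.root d = - ∑ γ ∈ S, P.root γ := by rw [← hj, h, neg_neg]
            rw [h7]
            apply Submodule.neg_mem
            apply Submodule.sum_mem
            intro γ hγ
            exact Submodule.subset_span ⟨γ, by exact_mod_cast hγ, rfl⟩
          exact root_notMem_span P b (S : Set ι) (by exact_mod_cast hSsup) hd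
            (by exact_mod_cast hdS) h6
        obtain ⟨j', hj'⟩ := P.root_add_root_mem_of_pairingIn_neg hjd hneg
        have hss : (I ∪ B) \ insert d S ⊂ (I ∪ B) \ S := by
          rw [Finset.ssubset_iff_of_subset
            (Finset.sdiff_subset_sdiff le_rfl (Finset.subset_insert d S))]
          exact ⟨d, Finset.mem_sdiff.mpr ⟨hdIB, hdS⟩,
            fun h => (Finset.mem_sdiff.mp h).2 (Finset.mem_insert_self d S)⟩
        have hlt := Finset.card_lt_card hss
        refine ih _ (by omega) (insert d S) ?_ (Finset.mem_insert_of_mem hb0S) ⟨j', ?_⟩ rfl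
        · intro x hx
          rcases Finset.mem_insert.mp hx with rfl | h
          · exact hdIB
          · exact hS h
        · rw [hj', Finset.sum_insert hdS, hj, add_comm]
  refine key _ {b0} ?_ (Finset.mem_singleton_self b0) ⟨b0, by simp⟩ rfl
  intro x hx
  rw [Finset.mem_singleton] at hx
  rw [hx]
  exact Finset.mem_union_right _ hb0

end Groth.Agent.H2.DynkinConn
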