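import Mathlib
import Groth.Prelude.Def_EssDim

set_option autoImplicit false
set_option linter.style.haveILetI false
set_option linter.unusedSimpArgs false
set_option linter.unusedVariables false
set_option linter.unnecessarySeqFocus false
set_option linter.unusedSectionVars false

universe u w

namespace Groth.Agent.H2.EssDimBC

open CategoryTheory AlgebraicGeometry Opposite Cardinal

theorem trdeg_adjoin_le {k K L : Type u} [Field k] [Field K] [Field L] [Algebra k K] [Algebra K L]
    [Algebra k L] [IsScalarTower k K L] (F : IntermediateField k L) :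
    Algebra.trdeg K ↥(IntermediateField.adjoin K (F : Set L)) ≤ Algebra.trdeg k ↥F := by
  classical
  let g : ↥F →+* ↥(IntermediateField.adjoin K (F : Set L)) :=
    { toFun := fun x => ⟨x.1, IntermediateField.subset_adjoin K _ x.2⟩
      map_one' := rfl
      map_mul' := fun _ _ => rfl
      map_zero' := rfl
      map_add' := fun _ _ => rfl }
  let s : Set ↥(IntermediateField.adjoin K (F : Set L)) := Set.range g
  haveI halg : Algebra.IsAlgebraic (Algebra.adjoin K s) ↥(IntermediateField.adjoin K (F : Set L)) := by
    constructor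
    rintro ⟨x, hx⟩
    induction hx using IntermediateField.adjoin_induction with
    | mem x hx =>
      exact isAlgebraic_algebraMap
        (⟨⟨x, _⟩, Algebra.subset_adjoin ⟨⟨x, hx⟩, rfl⟩⟩ : Algebra.adjoin K s)
    | algebraMap c =>
      exact isAlgebraic_algebraMap (algebraMap K (Algebra.adjoin K s) c)
    | add x y hx hy h1 h2 => exact h1.add h2
    | inv x hx h1 => exact h1.inv
    | mul x y hx hy h1 h2 => exact h1.mul h2
  obtain ⟨t, hts, htb⟩ := exists_isTranscendenceBasis_subset (R := K) s
  rw [← htb.cardinalMk_eq_trdeg]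
  have hch : ∀ e : t, ∃ y : ↥F, g y = e.1 := fun e => hts e.2
  choose x hx using hch
  have hai : AlgebraicIndependent K (g ∘ x) := by
    have h1 : (g ∘ x) = ((↑) : t → ↥(IntermediateField.adjoin K (F : Set L))) := funext hx
    rw [h1]; exact htb.1
  have hk : AlgebraicIndependent k x :=
    AlgebraicIndependent.of_ringHom_of_comp_eq (algebraMap k K) g hai (algebraMap k K).injective
      (by
        ext c
        show algebraMap K L (algebraMap k K c) = algebraMap k L c
        exact (IsScalarTower.algebraMap_apply k K L c).symm)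
  exact hk.cardinalMk_le_trdeg


theorem main (k : Type u) [Field k] (K : Type u) [Field K] [Algebra k K]
    (P : (Over (Spec (CommRingCat.of k)))ᵒᵖ ⥤ Type w) :
    EssDim.ed (k := K) ((Over.map (Spec.map (CommRingCat.ofHom (algebraMap k K)))).op ⋙ P) ≤
      EssDim.ed P := by
  have key : ∀ (L : Type u) [Field L] [Algebra K L]
      (ξ : EssDim.FPt (k := K)
        ((Over.map (Spec.map (CommRingCat.ofHom (algebraMap k K)))).op ⋙ P) L),
      ((EssDim.edAt ((Over.map (Spec.map (CommRingCat.ofHom (algebraMap k K)))).op ⋙ P) ξ : ℕ∞) :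
        WithBot ℕ∞) ≤ EssDim.ed P := by
    intro L _ _ ξ
    letI algkL : Algebra k L := ((algebraMap K L).comp (algebraMap k K)).toAlgebra
    haveI : IsScalarTower k K L := IsScalarTower.of_algebraMap_eq (fun x => rfl)
    let eL : (Over.map (Spec.map (CommRingCat.ofHom (algebraMap k K)))).obj (SGA7.pt (K := K) L) ≅
        SGA7.pt (K := k) L :=
      Over.isoMk (Iso.refl _) (by
        simp only [Iso.refl_hom, Category.id_comp]
        show Spec.map (CommRingCat.ofHom (algebraMap k L)) =
          Spec.map (CommRingCat.ofHom (algebraMap K L)) ≫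
            Spec.map (CommRingCat.ofHom (algebraMap k K))
        rw [← Spec.map_comp, ← CommRingCat.ofHom_comp])
    let ξ' : EssDim.FPt P L := P.map eL.inv.op ξ
    refine le_trans ?_ (EssDim.edAt_le_ed ξ')
    refine WithBot.coe_le_coe.mpr ?_
    rw [show EssDim.edAt P ξ' = ⨅ F : {F : IntermediateField k L // EssDim.Descends P ξ' F},
      Cardinal.toENat (Algebra.trdeg k F.1) from rfl]
    refine le_iInf fun ⟨F, hF⟩ => ?_
    obtain ⟨ξ₀, hξ₀⟩ := hF
    let jr : ↥F →+* ↥(IntermediateField.adjoin K (F : Set L)) :=
      { toFun := fun x => ⟨x.1, IntermediateField.subset_adjoin K _ x.2⟩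
        map_one' := rfl
        map_mul' := fun _ _ => rfl
        map_zero' := rfl
        map_add' := fun _ _ => rfl }
    let m : (Over.map (Spec.map (CommRingCat.ofHom (algebraMap k K)))).obj
        (SGA7.pt (K := K) ↥(IntermediateField.adjoin K (F : Set L))) ⟶ SGA7.pt (K := k) ↥F :=
      Over.homMk (Spec.map (CommRingCat.ofHom jr)) (by
        show Spec.map (CommRingCat.ofHom jr) ≫ Spec.map (CommRingCat.ofHom (algebraMap k ↥F)) =
          Spec.map (CommRingCat.ofHom (algebraMap K ↥(IntermediateField.adjoin K (F : Set L)))) ≫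
            Spec.map (CommRingCat.ofHom (algebraMap k K))
        rw [← Spec.map_comp, ← Spec.map_comp, ← CommRingCat.ofHom_comp, ← CommRingCat.ofHom_comp])
    have hcomm : (Over.map (Spec.map (CommRingCat.ofHom (algebraMap k K)))).map
          (EssDim.resPt (k := K) (IntermediateField.adjoin K (F : Set L)).val) ≫ m =
        eL.hom ≫ EssDim.resPt (k := k) F.val := by
      apply Over.OverMorphism.ext
      show Spec.map (CommRingCat.ofHom
            ((IntermediateField.adjoin K (F : Set L)).val : _ →+* L)) ≫
          Spec.map (CommRingCat.ofHom jr) =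
        𝟙 _ ≫ Spec.map (CommRingCat.ofHom (F.val : _ →+* L))
      rw [Category.id_comp, ← Spec.map_comp, ← CommRingCat.ofHom_comp]
      rfl
    have hE : EssDim.Descends ((Over.map (Spec.map (CommRingCat.ofHom (algebraMap k K)))).op ⋙ P) ξ
        (IntermediateField.adjoin K (F : Set L)) := by
      refine ⟨P.map m.op ξ₀, ?_⟩
      show P.map ((Over.map (Spec.map (CommRingCat.ofHom (algebraMap k K)))).map
          (EssDim.resPt (k := K) (IntermediateField.adjoin K (F : Set L)).val)).op
          (P.map m.op ξ₀) = ξ
      rw [← Functor.map_comp_apply, ← op_comp, hcomm, op_comp,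
        Functor.map_comp_apply]
      have h2 : P.map (EssDim.resPt (k := k) F.val).op ξ₀ = P.map eL.inv.op ξ := hξ₀
      rw [h2, ← Functor.map_comp_apply, ← op_comp, eL.hom_inv_id, op_id,
        Functor.map_id_apply]
    exact (EssDim.edAt_le_of_descends hE).trans
      (OrderHomClass.mono Cardinal.toENat (trdeg_adjoin_le F))
  exact iSup_le fun L => iSup_le fun _ => iSup_le fun _ => iSup_le fun ξ => key L ξ

end Groth.Agent.H2.EssDimBC
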