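import Mathlib

/-!
# Localisation of a fibre product of rings and an open immersion criterion

For a cartesian square of rings `B' = B ×_R R'` and `h = (G, F) ∈ B'` with `B_G → R_{s G}` bijective,
`R'_F` is the localisation of `B'` away from `h`.  Hence a finite union of such basic opens of
`Spec R'` maps by an open immersion to `Spec B'`.
-/

set_option autoImplicit false
set_option linter.style.haveILetI false
set_option linter.unusedSimpArgs false
set_option linter.unusedVariables false
set_option linter.unnecessarySeqFocus false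
set_option linter.unusedSectionVars false

open AlgebraicGeometry CategoryTheory

universe u

namespace Groth.Agent.H2.FibProdLoc

variable {B B' R R' : Type u} [CommRing B] [CommRing B'] [CommRing R] [CommRing R']

/-- Element-level consequences of a pullback square in `CommRingCat`. -/
theorem pullback_elems (s : B →+* R) (t : R' →+* R) (p : B' →+* B) (q : B' →+* R')
    (hsq : IsPullback (CommRingCat.ofHom p) (CommRingCat.ofHom q) (CommRingCat.ofHom s)
      (CommRingCat.ofHom t)) :
    (∀ x, s (p x) = t (q x)) ∧ (∀ x y, p x = p y → q x = q y → x = y) ∧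
      (∀ b r', s b = t r' → ∃ x, p x = b ∧ q x = r') := by
  have hT := hsq.map (forget CommRingCat)
  rw [CategoryTheory.Limits.Types.isPullback_iff] at hT
  obtain ⟨-, hinj, hex⟩ := hT
  refine ⟨fun x => ?_, fun x y h1 h2 => hinj x y ⟨h1, h2⟩, fun b r' h => hex b r' h⟩
  have := congrArg (fun φ => φ.hom x) hsq.w
  exact this

theorem isOpenImmersion_away_fibprod (s : B →+* R) (t : R' →+* R) (p : B' →+* B) (q : B' →+* R')
    (hw : ∀ x, s (p x) = t (q x))
    (hinj : ∀ x y, p x = p y → q x = q y → x = y)
    (hex : ∀ b r', s b = t r' → ∃ x, p x = b ∧ q x = r')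
    (F : R') (G : B) (h : B') (hp : p h = G) (hq : q h = F)
    (hiso : Function.Bijective (Localization.awayMap s G)) :
    IsOpenImmersion (Spec.map (CommRingCat.ofHom
      ((algebraMap R' (Localization.Away F)).comp q))) := by
  letI alg : Algebra B' (Localization.Away F) :=
    ((algebraMap R' (Localization.Away F)).comp q).toAlgebra
  have halg : ∀ x : B', algebraMap B' (Localization.Away F) x =
      algebraMap R' (Localization.Away F) (q x) := fun x => rfl
  have hsG : s G = t F := by rw [← hp, ← hq]; exact hw h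
  have hI : ∀ c : B, s c = 0 → ∃ j : ℕ, G ^ j * c = 0 :=
    Localization.awayMap_injective_iff.mp hiso.1
  have hII : ∀ y : R, ∃ b m, s b = s G ^ m * y :=
    Localization.awayMap_surjective_iff.mp hiso.2
  have hS : ∀ x : R', ∃ (N : ℕ) (b' : B'), q b' = F ^ N * x := by
    intro x
    obtain ⟨b, m, hb⟩ := hII (t x)
    have hb2 : s b = t (F ^ m * x) := by rw [hb, hsG, map_mul, map_pow]
    obtain ⟨b', -, hb'⟩ := hex _ _ hb2
    exact ⟨m, b', hb'⟩
  have hK : ∀ b' : B', (∃ k : ℕ, F ^ k * q b' = 0) → ∃ N : ℕ, h ^ N * b' = 0 := by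
    rintro b' ⟨k, hk⟩
    have hq0 : q (h ^ k * b') = 0 := by rw [map_mul, map_pow, hq, hk]
    have hs0 : s (p (h ^ k * b')) = 0 := by rw [hw, hq0, map_zero]
    obtain ⟨j, hj⟩ := hI _ hs0
    refine ⟨j + k, hinj _ _ ?_ ?_⟩
    · rw [map_zero, pow_add, mul_assoc, map_mul, map_pow, hp]
      exact hj
    · rw [map_zero, pow_add, mul_assoc, map_mul, hq0, mul_zero]
  have hloc : IsLocalization.Away h (Localization.Away F) := by
    refine (isLocalization_iff (Submonoid.powers h) (Localization.Away F)).mpr ⟨?_, ?_, ?_⟩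
    · rintro ⟨_, n, rfl⟩
      show IsUnit (algebraMap B' (Localization.Away F) (h ^ n))
      rw [halg, map_pow, hq, map_pow]
      exact (IsLocalization.Away.algebraMap_isUnit F).pow n
    · intro z
      obtain ⟨n, x, hx⟩ := IsLocalization.Away.surj F z
      obtain ⟨N, b', hb'⟩ := hS x
      refine ⟨(b', ⟨h ^ (n + N), n + N, rfl⟩), ?_⟩
      show z * algebraMap B' (Localization.Away F) (h ^ (n + N)) =
        algebraMap B' (Localization.Away F) b'
      have e1 : algebraMap B' (Localization.Away F) (h ^ (n + N)) =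
          (algebraMap R' (Localization.Away F) F) ^ (n + N) := by
        rw [halg, map_pow, hq, map_pow]
      have e2 : algebraMap B' (Localization.Away F) b' =
          (algebraMap R' (Localization.Away F) F) ^ N * algebraMap R' (Localization.Away F) x := by
        rw [halg, hb', map_mul, map_pow]
      rw [e1, e2, pow_add, ← mul_assoc, hx, mul_comm]
    · intro x y hxy
      have h0 : algebraMap R' (Localization.Away F) (q (x - y)) = 0 := by
        rw [map_sub, map_sub, sub_eq_zero]
        exact hxy
      rw [IsLocalization.map_eq_zero_iff (Submonoid.powers F)] at h0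
      obtain ⟨⟨_, k, rfl⟩, hk⟩ := h0
      obtain ⟨N, hN⟩ := hK (x - y) ⟨k, hk⟩
      refine ⟨⟨h ^ N, N, rfl⟩, ?_⟩
      show h ^ N * x = h ^ N * y
      rw [← sub_eq_zero, ← mul_sub]
      exact hN
  exact IsOpenImmersion.of_isLocalization h

theorem mem_iSup_basic {n : ℕ} (f : Fin n → R') (z : PrimeSpectrum R') :
    z ∈ (⨆ i, PrimeSpectrum.basicOpen (f i) : TopologicalSpace.Opens (PrimeSpectrum R')) ↔
      ∃ i, z ∈ PrimeSpectrum.basicOpen (f i) :=
  TopologicalSpace.Opens.mem_iSup

theorem main (s : B →+* R) (t : R' →+* R) (p : B' →+* B) (q : B' →+* R')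
    (hsq : IsPullback (CommRingCat.ofHom p) (CommRingCat.ofHom q) (CommRingCat.ofHom s)
      (CommRingCat.ofHom t))
    {n : ℕ} (f : Fin n → R') (g : Fin n → B) (hfg : ∀ i, t (f i) = s (g i))
    (hiso : ∀ i, Function.Bijective (Localization.awayMap s (g i))) :
    IsOpenImmersion (Scheme.Opens.ι (X := Spec (CommRingCat.of R'))
      (⨆ i, PrimeSpectrum.basicOpen (f i)) ≫ Spec.map (CommRingCat.ofHom q)) := by
  obtain ⟨hw, hinj, hex⟩ := pullback_elems s t p q hsq
  have hh : ∀ i, ∃ h : B', p h = g i ∧ q h = f i := fun i => hex _ _ (hfg i).symm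
  choose h hph hqh using hh
  set W : (Spec (CommRingCat.of R')).Opens := ⨆ i, PrimeSpectrum.basicOpen (f i) with hW
  let j : ∀ i, Spec (CommRingCat.of (Localization.Away (f i))) ⟶ Spec (CommRingCat.of R') :=
    fun i => Spec.map (CommRingCat.ofHom (algebraMap R' (Localization.Away (f i))))
  have hjrange : ∀ i, (j i).opensRange = PrimeSpectrum.basicOpen (f i) := fun i =>
    Scheme.Hom.opensRange_localizationAway (R := CommRingCat.of R') (f i)
  have hjq : ∀ i, IsOpenImmersion (j i ≫ Spec.map (CommRingCat.ofHom q)) := by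
    intro i
    have := isOpenImmersion_away_fibprod s t p q hw hinj hex (f i) (g i) (h i) (hph i) (hqh i)
      (hiso i)
    rw [CommRingCat.ofHom_comp, Spec.map_comp] at this
    exact this
  have hmemW : ∀ x : W.toScheme, ∃ i, W.ι x ∈ (j i).opensRange := by
    intro x
    obtain ⟨i, hi⟩ := (mem_iSup_basic f (W.ι x)).mp x.2
    refine ⟨i, ?_⟩
    rw [hjrange i]
    exact hi
  apply IsOpenImmersion.of_forall_source_exists
  · intro x y hxy
    have hxy' : (Spec.map (CommRingCat.ofHom q)) (W.ι x) =
        (Spec.map (CommRingCat.ofHom q)) (W.ι y) := by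
      rw [← Scheme.Hom.comp_apply, ← Scheme.Hom.comp_apply]
      exact hxy
    obtain ⟨i, hi⟩ := hmemW x
    have hi1 : W.ι x ∈ PrimeSpectrum.basicOpen (f i) := by
      rw [← hjrange i]
      exact hi
    have hi' : W.ι y ∈ PrimeSpectrum.basicOpen (f i) := by
      intro hmem
      apply hi1
      have h1 : h i ∈ ((Spec.map (CommRingCat.ofHom q)) (W.ι y)).asIdeal := by
        show q (h i) ∈ (W.ι y).asIdeal
        rw [hqh i]
        exact hmem
      rw [← hxy'] at h1
      have h2 : q (h i) ∈ (W.ι x).asIdeal := h1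
      rwa [hqh i] at h2
    have hi2 : W.ι y ∈ (j i).opensRange := by
      rw [hjrange i]
      exact hi'
    obtain ⟨a', ha'⟩ : ∃ a', (j i) a' = W.ι x := hi
    obtain ⟨b', hb'⟩ : ∃ b', (j i) b' = W.ι y := hi2
    have hab0 : (j i ≫ Spec.map (CommRingCat.ofHom q)) a' =
        (j i ≫ Spec.map (CommRingCat.ofHom q)) b' := by
      rw [Scheme.Hom.comp_apply, Scheme.Hom.comp_apply, ha', hb']
      exact hxy'
    haveI := hjq i
    have hab : a' = b' :=
      (j i ≫ Spec.map (CommRingCat.ofHom q)).isOpenEmbedding.injective hab0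
    have hxy2 : W.ι x = W.ι y := by rw [← ha', ← hb', hab]
    exact W.ι.isOpenEmbedding.injective hxy2
  · intro x
    obtain ⟨i, hi⟩ := hmemW x
    have hsub : Set.range (j i) ⊆ Set.range W.ι := by
      intro z hz
      rw [Scheme.Opens.range_ι]
      have hz' : z ∈ (j i).opensRange := hz
      rw [hjrange i] at hz'
      exact (mem_iSup_basic f z).mpr ⟨i, hz'⟩
    let l := IsOpenImmersion.lift W.ι (j i) hsub
    have hl : l ≫ W.ι = j i := IsOpenImmersion.lift_fac _ _ _
    haveI : IsOpenImmersion (l ≫ W.ι) := by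
      rw [hl]
      infer_instance
    haveI : IsOpenImmersion l := IsOpenImmersion.of_comp l W.ι
    refine ⟨_, l, inferInstance, ?_, ?_⟩
    · obtain ⟨a', ha'⟩ : ∃ a', (j i) a' = W.ι x := hi
      refine ⟨a', ?_⟩
      apply W.ι.isOpenEmbedding.injective
      rw [← Scheme.Hom.comp_apply, hl]
      exact ha'
    · rw [← Category.assoc, hl]
      exact hjq i

end Groth.Agent.H2.FibProdLoc
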