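import Mathlib

set_option autoImplicit false
universe u
open CategoryTheory CategoryTheory.Limits AlgebraicGeometry TopologicalSpace

namespace Groth.Agent.H2

lemma finite_isClopen_of_finite_irreducibleComponents {α : Type*} [TopologicalSpace α]
    (h : (irreducibleComponents α).Finite) : {Z : Set α | IsClopen Z}.Finite := by
  have key : ∀ W : Set α, IsClopen W → W = ⋃₀ {C ∈ irreducibleComponents α | C ⊆ W} := by
    intro W hW
    apply Set.Subset.antisymm
    · intro w hw
      refine ⟨irreducibleComponent w, ⟨irreducibleComponent_mem_irreducibleComponents w, ?_⟩,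
        mem_irreducibleComponent⟩
      exact (isIrreducible_irreducibleComponent.isConnected.isPreconnected).subset_isClopen hW
        ⟨w, mem_irreducibleComponent, hw⟩
    · exact Set.sUnion_subset fun C hC => hC.2
  refine Set.Finite.of_injOn (f := fun Z : Set α => {C ∈ irreducibleComponents α | C ⊆ Z})
    (t := {T | T ⊆ irreducibleComponents α}) ?_ ?_ h.finite_subsets
  · intro Z _ C hC
    exact hC.1
  · intro Z hZ Z' hZ' e
    rw [key Z hZ, key Z' hZ']
    exact congrArg _ e

instance : MorphismProperty.HasOfPostcompProperty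
    @IsOpenImmersion (@LocallyOfFiniteType ⊓ @FormallyUnramified) := by
  rw [MorphismProperty.hasOfPostcompProperty_iff_le_diagonal]
  intro X Y f ⟨hft, hfu⟩
  exact inferInstanceAs <| IsOpenImmersion (pullback.diagonal f)

theorem finite_homs_to_unramified {X S Y : Scheme.{u}} [IsNoetherian Y]
    (π : X ⟶ S) [FormallyUnramified π] [LocallyOfFiniteType π] [QuasiCompact π] [IsSeparated π]
    (h : Y ⟶ S) : Set.Finite {f : Y ⟶ X | f ≫ π = h} := by
  let P := pullback π h
  let p : P ⟶ Y := pullback.snd π h
  let q : P ⟶ X := pullback.fst π h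
  have hp1 : FormallyUnramified p :=
    MorphismProperty.pullback_snd (P := @FormallyUnramified) _ _ inferInstance
  have hp2 : LocallyOfFiniteType p := inferInstance
  have hp3 : QuasiCompact p := inferInstance
  have hp4 : IsSeparated p := inferInstance
  have : IsLocallyNoetherian P := LocallyOfFiniteType.isLocallyNoetherian p
  have : CompactSpace P := QuasiCompact.compactSpace_of_compactSpace p
  have : IsNoetherian P := {}
  have hfin : {Z : Set P | IsClopen Z}.Finite :=
    finite_isClopen_of_finite_irreducibleComponents NoetherianSpace.finite_irreducibleComponents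
  let σ : {f : Y ⟶ X | f ≫ π = h} → (Y ⟶ P) := fun f =>
    pullback.lift f.1 (𝟙 Y) (by rw [f.2]; simp)
  have hσp : ∀ f, σ f ≫ p = 𝟙 Y := fun f => pullback.lift_snd _ _ _
  have hσq : ∀ f, σ f ≫ q = f.1 := fun f => pullback.lift_fst _ _ _
  have hopen : ∀ f, IsOpenImmersion (σ f) := fun f =>
    MorphismProperty.of_postcomp (W := @IsOpenImmersion)
      (W' := @LocallyOfFiniteType ⊓ @FormallyUnramified) (σ f) p ⟨hp2, hp1⟩
      (by rw [hσp]; infer_instance)
  have hclosed : ∀ f, IsClosedImmersion (σ f) := fun f => by
    have : IsClosedImmersion (σ f ≫ p) := by rw [hσp]; infer_instance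
    exact IsClosedImmersion.of_comp (σ f) p
  rw [← Set.finite_coe_iff]
  have := hfin.to_subtype
  refine Finite.of_injective (fun f => (⟨Set.range (σ f),
    ⟨(σ f).isClosedEmbedding.isClosed_range, (σ f).isOpenEmbedding.isOpen_range⟩⟩ :
      {Z : Set P | IsClopen Z})) ?_
  intro f f' e
  have e' : Set.range (σ f) = Set.range (σ f') := congrArg Subtype.val e
  have := hopen f'
  let τ := IsOpenImmersion.lift (σ f') (σ f) (by rw [e'])
  have hτ : τ ≫ σ f' = σ f := IsOpenImmersion.lift_fac _ _ _
  have hτ1 : τ = 𝟙 Y := by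
    calc τ = τ ≫ σ f' ≫ p := by rw [hσp, Category.comp_id]
      _ = σ f ≫ p := by rw [← Category.assoc, hτ]
      _ = 𝟙 Y := hσp f
  have : σ f = σ f' := by rw [← hτ, hτ1, Category.id_comp]
  apply Subtype.ext
  rw [← hσq f, ← hσq f', this]

end Groth.Agent.H2
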