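import Mathlib

set_option autoImplicit false
universe u
open CategoryTheory CategoryTheory.Limits AlgebraicGeometry

namespace Groth.Agent.H2

/-- If `h : W ⟶ Spec R` is a closed map with `R` local, then every point of `W` specializes to a
point over the closed point. -/
theorem exists_specializes_closedPoint (R : Type u) [CommRing R] [IsLocalRing R]
    {W : Scheme.{u}} (h : W ⟶ Spec (CommRingCat.of R)) (hcl : IsClosedMap h.base) (w : W) :
    ∃ w0 : W, w ⤳ w0 ∧ h.base w0 = IsLocalRing.closedPoint R := by
  have h1 : IsClosed (h.base '' closure {w}) := hcl _ isClosed_closure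
  have h2 : h.base w ∈ h.base '' closure {w} := ⟨w, subset_closure rfl, rfl⟩
  have h3 : h.base w ⤳ IsLocalRing.closedPoint R := IsLocalRing.specializes_closedPoint _
  obtain ⟨w0, hw0, hw0'⟩ := h3.mem_closed h1 h2
  exact ⟨w0, specializes_iff_mem_closure.mpr hw0, hw0'⟩

/-- A scheme `W` whose structure map to the local scheme `Spec R` is closed maps, under any
`R`-morphism `j : W ⟶ Y`, into every open subset of `Y` containing the closed fibre. -/
theorem mem_of_closedMap (R : Type u) [CommRing R] [IsLocalRing R]
    {W Y : Scheme.{u}} (h : W ⟶ Spec (CommRingCat.of R)) (hcl : IsClosedMap h.base)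
    (f' : Y ⟶ Spec (CommRingCat.of R)) (WY : Y.Opens)
    (hYc : ∀ y : ↥Y, f'.base y = IsLocalRing.closedPoint R → y ∈ WY)
    (j : W ⟶ Y) (hj : j ≫ f' = h) (w : W) : j.base w ∈ WY := by
  obtain ⟨w0, hw0, hw0'⟩ := exists_specializes_closedPoint R h hcl w
  have h2 : j.base w ⤳ j.base w0 := hw0.map j.base.hom.continuous
  have h3 : j.base w0 ∈ WY := by
    apply hYc
    rw [← hw0', ← hj]
    simp
  exact h2.mem_open WY.2 h3

end Groth.Agent.H2
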