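import Mathlib
import Groth.Agent.H2.TF

set_option autoImplicit false
universe u
open CategoryTheory Limits Opposite

namespace Groth.Agent.H2.TF

open Adeq

variable {A : Type u} [CommRing A]

/-- the free module on the algebra maps `C ⟶ D`. -/
abbrev FR (C D : Alg A) : Type (u+1) := ULift.{u+1} (C ⟶ D) →₀ (D : Type u)

/-- transition maps of the free functor on a representable -/
noncomputable def frMap (C : Alg A) {D D' : Alg A} (f : D ⟶ D') : FR C D →+ FR C D' :=
  Finsupp.liftAddHom (fun φ : ULift.{u+1} (C ⟶ D) =>
    (Finsupp.singleAddHom (ULift.up (φ.down ≫ f) : ULift.{u+1} (C ⟶ D'))).comp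
      (f.hom : (D : Type u) →ₐ[A] (D' : Type u)).toRingHom.toAddMonoidHom)

lemma frMap_single (C : Alg A) {D D' : Alg A} (f : D ⟶ D') (φ : ULift.{u+1} (C ⟶ D))
    (d : (D : Type u)) :
    frMap C f (Finsupp.single φ d) = Finsupp.single (ULift.up (φ.down ≫ f)) (f.hom d) := by
  simp [frMap]

lemma frMap_id (C D : Alg A) (x : FR C D) : frMap C (𝟙 D) x = x := by
  induction x using Finsupp.induction_linear with
  | zero => simp
  | add x y hx hy => rw [map_add, hx, hy]
  | single φ d =>
    rw [frMap_single, Category.comp_id]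
    rfl

lemma frMap_comp (C : Alg A) {D D' D'' : Alg A} (f : D ⟶ D') (g : D' ⟶ D'') (x : FR C D) :
    frMap C (f ≫ g) x = frMap C g (frMap C f x) := by
  induction x using Finsupp.induction_linear with
  | zero => simp
  | add x y hx hy => rw [map_add, map_add, map_add, hx, hy]
  | single φ d =>
    rw [frMap_single, frMap_single, frMap_single, Category.assoc]
    rfl

/-- the underlying abelian presheaf -/
noncomputable abbrev frAb (C : Alg A) : (Alg A)ᵒᵖᵒᵖ ⥤ Ab.{u+1} where
  obj X := AddCommGrpCat.of (FR C X.unop.unop)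
  map {X Y} f := AddCommGrpCat.ofHom (frMap C f.unop.unop)
  map_id X := by
    refine AddCommGrpCat.hom_ext (AddMonoidHom.ext fun x => ?_)
    exact frMap_id C X.unop.unop x
  map_comp {X Y Z} f g := by
    refine AddCommGrpCat.hom_ext (AddMonoidHom.ext fun x => ?_)
    exact frMap_comp C f.unop.unop g.unop.unop x

/-- the free module-valued functor on the representable functor `Hom(C, -)`. -/
noncomputable def freeRep (C : Alg A) : MVF A :=
  PresheafOfModules.ofPresheaf (frAb C) (by
    intro X Y f r m
    change frMap C f.unop.unop (r • m) = (f.unop.unop.hom r) • frMap C f.unop.unop m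
    induction m using Finsupp.induction_linear with
    | zero => simp
    | add x y hx hy => rw [smul_add, map_add, map_add, smul_add, hx, hy]
    | single φ d =>
      rw [Finsupp.smul_single, frMap_single, frMap_single, Finsupp.smul_single, smul_eq_mul,
        smul_eq_mul, map_mul])


/-- the universal element -/
noncomputable def gen (C : Alg A) : (freeRep C).obj (pt C) :=
  (Finsupp.single (ULift.up (𝟙 C)) (1 : (C : Type u)) : FR C C)

/-- evaluation at an element, on the level of values. -/
noncomputable def eltMap (C : Alg A) (F : MVF A) (z : F.obj (pt C)) (D : Alg A) :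
    FR C D →+ F.obj (pt D) :=
  Finsupp.liftAddHom (fun φ : ULift.{u+1} (C ⟶ D) =>
    (LinearMap.toSpanSingleton (D : Type u) (F.obj (pt D))
      (rmap F (ptHom φ.down) z)).toAddMonoidHom)

lemma eltMap_single (C : Alg A) (F : MVF A) (z : F.obj (pt C)) (D : Alg A)
    (φ : ULift.{u+1} (C ⟶ D)) (d : (D : Type u)) :
    eltMap C F z D (Finsupp.single φ d) = d • rmap F (ptHom φ.down) z := by
  simp [eltMap]

lemma eltMap_smul (C : Alg A) (F : MVF A) (z : F.obj (pt C)) (D : Alg A) (r : (D : Type u))
    (m : FR C D) : eltMap C F z D (r • m) = r • eltMap C F z D m := by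
  induction m using Finsupp.induction_linear with
  | zero => simp
  | add x y hx hy => rw [smul_add, map_add, map_add, smul_add, hx, hy]
  | single φ d =>
    rw [Finsupp.smul_single, eltMap_single, eltMap_single, smul_eq_mul, mul_smul]

lemma eltMap_nat (C : Alg A) (F : MVF A) (z : F.obj (pt C)) {D D' : Alg A} (f : D ⟶ D')
    (m : FR C D) :
    eltMap C F z D' (frMap C f m) = rmap F (ptHom f) (eltMap C F z D m) := by
  induction m using Finsupp.induction_linear with
  | zero => simp
  | add x y hx hy => rw [map_add, map_add, map_add, map_add, hx, hy]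
  | single φ d =>
    rw [frMap_single, eltMap_single, eltMap_single]
    have h1 : rmap F (ptHom f) (d • rmap F (ptHom φ.down) z) =
        (f.hom d) • rmap F (ptHom f) (rmap F (ptHom φ.down) z) :=
      F.map_smul (ptHom f) d _
    rw [h1, ← rmap_comp]
    rfl

/-- the morphism `freeRep C ⟶ F` attached to an element of `F(C)`. -/
noncomputable def fromElt (C : Alg A) (F : MVF A) (z : F.obj (pt C)) : freeRep C ⟶ F :=
  PresheafOfModules.homMk (M₁ := freeRep C) (M₂ := F)
    { app := fun X => AddCommGrpCat.ofHom (eltMap C F z X.unop.unop)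
      naturality := by
        intro X Y f
        refine AddCommGrpCat.hom_ext (AddMonoidHom.ext fun x => ?_)
        exact eltMap_nat C F z f.unop.unop x }
    (by
      intro X r m
      exact eltMap_smul C F z X.unop.unop r m)

lemma fromElt_app (C : Alg A) (F : MVF A) (z : F.obj (pt C)) (D : Alg A) (m : FR C D) :
    capp (fromElt C F z) (pt D) m = eltMap C F z D m := rfl

lemma fromElt_gen (C : Alg A) (F : MVF A) (z : F.obj (pt C)) :
    capp (fromElt C F z) (pt C) (gen C) = z := by
  rw [fromElt_app]
  show eltMap C F z C (Finsupp.single (ULift.up (𝟙 C)) 1) = z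
  rw [eltMap_single, one_smul]
  exact rmap_id F (pt C) z

lemma rmap_freeRep (C : Alg A) {D D' : Alg A} (f : D ⟶ D') (m : FR C D) :
    rmap (freeRep C) (ptHom f) m = frMap C f m := rfl

/-- precomposition with an algebra map, as a morphism of free functors. -/
noncomputable def pre {C C' : Alg A} (c : C ⟶ C') : freeRep C' ⟶ freeRep C :=
  fromElt C' (freeRep C) (Finsupp.single (ULift.up c) (1 : (C' : Type u)) : FR C C')

lemma pre_app {C C' : Alg A} (c : C ⟶ C') (D : Alg A) (m : FR C' D) :
    capp (pre c) (pt D) m =
      Finsupp.mapDomain (fun φ : ULift.{u+1} (C' ⟶ D) => (ULift.up (c ≫ φ.down) : ULift.{u+1} (C ⟶ D)))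
        m := by
  show eltMap C' (freeRep C) (Finsupp.single (ULift.up c) (1 : (C' : Type u)) : FR C C') D m = _
  induction m using Finsupp.induction_linear with
  | zero => rw [map_zero, Finsupp.mapDomain_zero]; rfl
  | add x y hx hy => rw [map_add, Finsupp.mapDomain_add, hx, hy]; rfl
  | single φ d =>
    rw [Finsupp.mapDomain_single, eltMap_single]
    show (d • (frMap C φ.down (Finsupp.single (ULift.up c) (1 : (C' : Type u))) : FR C D) : FR C D) = _
    rw [frMap_single, Finsupp.smul_single, map_one, smul_eq_mul, mul_one]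

lemma pre_mono {C C' : Alg A} (c : C ⟶ C') (hc : Function.Surjective c.hom) : Mono (pre c) := by
  apply PresheafOfModules.mono_of_injective
  intro X
  have hinj : Function.Injective (fun φ : ULift.{u+1} (C' ⟶ X.unop.unop) =>
      (ULift.up (c ≫ φ.down) : ULift.{u+1} (C ⟶ X.unop.unop))) := by
    intro φ ψ h
    have h1 : c ≫ φ.down = c ≫ ψ.down := congrArg ULift.down h
    apply ULift.ext
    apply CommAlgCat.hom_ext
    refine AlgHom.ext fun x => ?_
    obtain ⟨y, rfl⟩ := hc x
    have h2 := congrArg (fun g => g.hom y) h1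
    exact h2
  intro x y hxy
  have hx := pre_app c X.unop.unop x
  have hy := pre_app c X.unop.unop y
  have h3 : capp (pre c) (pt X.unop.unop) x = capp (pre c) (pt X.unop.unop) y := hxy
  rw [hx, hy] at h3
  exact Finsupp.mapDomain_injective hinj h3

/-- an injective module-valued functor sends surjections of algebras to surjections. -/
theorem surj_of_injective (I : MVF A) [Injective I] {C C' : Alg A} (c : C ⟶ C')
    (hc : Function.Surjective c.hom) (z : I.obj (pt C')) :
    ∃ y : I.obj (pt C), rmap I (ptHom c) y = z := by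
  haveI : Mono (pre c) := pre_mono c hc
  have hξ : pre c ≫ Injective.factorThru (fromElt C' I z) (pre c) = fromElt C' I z :=
    Injective.comp_factorThru _ _
  refine ⟨capp (Injective.factorThru (fromElt C' I z) (pre c)) (pt C) (gen C), ?_⟩
  rw [← capp_nat]
  have h1 : rmap (freeRep C) (ptHom c) (gen C) = capp (pre c) (pt C') (gen C') := by
    rw [rmap_freeRep, pre_app]
    show frMap C c (Finsupp.single (ULift.up (𝟙 C)) 1) =
      Finsupp.mapDomain _ (Finsupp.single (ULift.up (𝟙 C')) 1)
    rw [frMap_single, Finsupp.mapDomain_single, map_one, Category.id_comp, Category.comp_id]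
  rw [h1]
  have h2 := congrArg (fun φ => capp φ (pt C') (gen C')) hξ
  simp only at h2
  rw [fromElt_gen] at h2
  exact h2

variable (B : Adeq.Alg A) {N N' : ModuleCat.{u} B}

open AdeqTF

lemma inl_map (g : N ⟶ N') : inl B N ≫ map B g = inl B N' := by
  apply CommAlgCat.hom_ext
  refine AlgHom.ext fun x => ?_
  exact TrivSqZeroExt.map_inl g.hom x

/-- projection of `F(B[N])` onto the tangent module -/
noncomputable def proj (F : MVF A) (N : ModuleCat.{u} B) (y : F.obj (pt (ext B N))) :
    tangent B N F :=
  ⟨y - rmap F (ptHom (inl B N)) (rmap F (ptHom (fst B N)) y), by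
    have hif : ptHom (inl B N) ≫ ptHom (fst B N) = 𝟙 (pt B) := by
      show ptHom (inl B N ≫ fst B N) = _
      rw [inl_fst]; rfl
    rw [mem_tangent, map_sub, ← rmap_comp F (ptHom (inl B N)) (ptHom (fst B N)),
      rmap_congr F hif, rmap_id, sub_self]⟩

lemma proj_of_mem (F : MVF A) (x : tangent B N F) : proj B F N x.1 = x := by
  apply Subtype.ext
  show x.1 - rmap F (ptHom (inl B N)) (rmap F (ptHom (fst B N)) x.1) = x.1
  rw [(mem_tangent B F x.1).mp x.2, map_zero, sub_zero]

lemma tangentMap_proj (F : MVF A) (g : N ⟶ N') (y : F.obj (pt (ext B N))) :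
    tangentMap B F g (proj B F N y) = proj B F N' (rmap F (ptHom (map B g)) y) := by
  apply Subtype.ext
  rw [tangentMap_coe]
  show rmap F (ptHom (map B g)) (y - rmap F (ptHom (inl B N)) (rmap F (ptHom (fst B N)) y)) =
    rmap F (ptHom (map B g)) y -
      rmap F (ptHom (inl B N')) (rmap F (ptHom (fst B N')) (rmap F (ptHom (map B g)) y))
  have h1 : ptHom (inl B N) ≫ ptHom (map B g) = ptHom (inl B N') := by
    show ptHom (inl B N ≫ map B g) = _
    rw [inl_map]
  have h2 : ptHom (map B g) ≫ ptHom (fst B N') = ptHom (fst B N) := by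
    show ptHom (map B g ≫ fst B N') = _
    rw [AdeqTF.map_fst]
  rw [map_sub, ← rmap_comp F (ptHom (inl B N)) (ptHom (map B g)), rmap_congr F h1,
    ← rmap_comp F (ptHom (map B g)) (ptHom (fst B N')), rmap_congr F h2]

end Groth.Agent.H2.TF
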