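import Mathlib

/-!
Frobenius-semilinear maps on finite-dimensional vector spaces over an algebraically closed field:
existence of fixed vectors, surjectivity of `F - id`, bases of fixed vectors.
-/

namespace Groth.Agent.H2.FrobSemi

open Polynomial Module

section poly

variable {k : Type*} [Field k]

/-- coefficient recursion -/
def xs (a : ℕ → k) (q : ℕ) (y : k) : ℕ → k
  | 0 => a 0 * y ^ q
  | (i+1) => (xs a q y i) ^ q + a (i+1) * y ^ q

/-- polynomial recursion -/
noncomputable def Ps (a : ℕ → k) (q : ℕ) : ℕ → k[X]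
  | 0 => C (a 0) * X ^ q
  | (i+1) => (Ps a q i) ^ q + C (a (i+1)) * X ^ q

lemma eval_Ps (a : ℕ → k) (q : ℕ) (y : k) (i : ℕ) : (Ps a q i).eval y = xs a q y i := by
  induction i with
  | zero => simp [Ps, xs]
  | succ i ih => simp [Ps, xs, ih]

lemma natDegree_Ps (a : ℕ → k) (q : ℕ) (hq : 2 ≤ q) (ha : a 0 ≠ 0) (i : ℕ) :
    (Ps a q i).natDegree = q ^ (i+1) := by
  induction i with
  | zero => simp [Ps, natDegree_C_mul_X_pow q (a 0) ha]
  | succ i ih =>
    have h1 : ((Ps a q i) ^ q).natDegree = q ^ (i + 2) := by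
      rw [natDegree_pow, ih]; ring
    have h2 : (C (a (i+1)) * X ^ q : k[X]).natDegree < ((Ps a q i) ^ q).natDegree := by
      rw [h1]
      refine lt_of_le_of_lt (natDegree_C_mul_X_pow_le _ _) ?_
      calc q = q ^ 1 := (pow_one q).symm
        _ < q ^ (i+2) := Nat.pow_lt_pow_right (by omega) (by omega)
    show ((Ps a q i) ^ q + C (a (i+1)) * X ^ q).natDegree = _
    rw [natDegree_add_eq_left_of_natDegree_lt h2, h1]

lemma dvd_Ps (a : ℕ → k) (q : ℕ) (hq : q ≠ 0) (i : ℕ) : (X : k[X]) ^ q ∣ Ps a q i := by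
  induction i with
  | zero => exact Dvd.intro_left _ rfl
  | succ i ih =>
    show X ^ q ∣ (Ps a q i) ^ q + C (a (i+1)) * X ^ q
    exact dvd_add (ih.trans (dvd_pow_self _ hq)) (Dvd.intro_left _ rfl)

lemma exists_root_xs [IsAlgClosed k] (a : ℕ → k) (q : ℕ) (hq : 2 ≤ q) (ha : a 0 ≠ 0) (i : ℕ) :
    ∃ y : k, y ≠ 0 ∧ xs a q y i = y := by
  obtain ⟨Q, hQ⟩ := dvd_Ps a q (by omega) i
  have hQ0 : Q ≠ 0 := by
    rintro rfl
    have := natDegree_Ps a q hq ha i
    rw [hQ, mul_zero, natDegree_zero] at this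
    have h2 : 0 < q ^ (i+1) := by positivity
    omega
  obtain ⟨R, hR⟩ : ∃ R : k[X], R = X ^ (q - 1) * Q - 1 := ⟨_, rfl⟩
  have hdeg : R.degree ≠ 0 := by
    have h1 : (X ^ (q-1) * Q : k[X]).natDegree = (q - 1) + Q.natDegree := by
      rw [natDegree_mul (pow_ne_zero _ X_ne_zero) hQ0, natDegree_X_pow]
    have h2 : (1 : k[X]).natDegree < (X ^ (q-1) * Q : k[X]).natDegree := by
      rw [natDegree_one, h1]; omega
    have h3 : R.natDegree = (q - 1) + Q.natDegree := by
      rw [hR, natDegree_sub_eq_left_of_natDegree_lt h2, h1]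
    have : 0 < R.natDegree := by omega
    exact (natDegree_pos_iff_degree_pos.1 this).ne'
  obtain ⟨y, hy⟩ := IsAlgClosed.exists_root R hdeg
  have hy' : y ^ (q - 1) * Q.eval y = 1 := by
    have := hy
    simp only [IsRoot.def, hR, eval_sub, eval_mul, eval_pow, eval_X, eval_one] at this
    exact sub_eq_zero.1 this
  refine ⟨y, ?_, ?_⟩
  · rintro rfl
    rw [zero_pow (by omega), zero_mul] at hy'
    exact zero_ne_one hy'
  · rw [← eval_Ps, hQ, eval_mul, eval_pow, eval_X]
    have : y ^ q = y * y ^ (q - 1) := by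
      rw [← pow_succ']; congr 1; omega
    rw [this, mul_assoc, hy', mul_one]

lemma exists_AS_root [IsAlgClosed k] (q : ℕ) (hq : 2 ≤ q) (c : k) : ∃ d : k, d ^ q - d = c := by
  have h1 : (X ^ q - X : k[X]).natDegree = q :=
    FiniteField.X_pow_card_sub_X_natDegree_eq k (by omega)
  have h2 : (C c : k[X]).natDegree < (X ^ q - X : k[X]).natDegree := by
    rw [h1, natDegree_C]; omega
  have h3 : (X ^ q - X - C c : k[X]).natDegree = q := by
    rw [natDegree_sub_eq_left_of_natDegree_lt h2, h1]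
  have hdeg : (X ^ q - X - C c : k[X]).degree ≠ 0 := by
    have : 0 < (X ^ q - X - C c : k[X]).natDegree := by omega
    exact (natDegree_pos_iff_degree_pos.1 this).ne'
  obtain ⟨d, hd⟩ := IsAlgClosed.exists_root _ hdeg
  refine ⟨d, ?_⟩
  simpa [sub_eq_zero] using hd

end poly

section vec

variable {k : Type*} [Field k] {V : Type*} [AddCommGroup V] [Module k V]

lemma fixed_of_relation (q : ℕ) (F : V →+ V) (hF : ∀ (c : k) (v : V), F (c • v) = c ^ q • F v)
    (v : V) (s : ℕ) (a : ℕ → k)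
    (hrel : (⇑F)^[s+1] v = ∑ i ∈ Finset.range (s+1), a i • (⇑F)^[i] v)
    (y : k) (hy : xs a q y s = y) :
    F (∑ i ∈ Finset.range (s+1), xs a q y i • (⇑F)^[i] v) =
      ∑ i ∈ Finset.range (s+1), xs a q y i • (⇑F)^[i] v := by
  have hstep : ∀ i, F ((⇑F)^[i] v) = (⇑F)^[i+1] v :=
    fun i => (Function.iterate_succ_apply' _ _ _).symm
  have e0 : F (∑ i ∈ Finset.range (s+1), xs a q y i • (⇑F)^[i] v) =
      ∑ i ∈ Finset.range (s+1), (xs a q y i) ^ q • (⇑F)^[i+1] v := by
    rw [map_sum]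
    apply Finset.sum_congr rfl
    intro i _
    rw [hF, hstep]
  have e1 : y ^ q • ∑ i ∈ Finset.range (s+1), a i • (⇑F)^[i] v =
      ∑ i ∈ Finset.range s, (a (i+1) * y ^ q) • (⇑F)^[i+1] v + (a 0 * y ^ q) • (⇑F)^[0] v := by
    rw [Finset.sum_range_succ', smul_add, Finset.smul_sum]
    congr 1
    · apply Finset.sum_congr rfl
      intro i _
      rw [smul_smul, mul_comm]
    · rw [smul_smul, mul_comm]
  have e2 : ∑ i ∈ Finset.range (s+1), xs a q y i • (⇑F)^[i] v =
      ∑ i ∈ Finset.range s, (xs a q y i) ^ q • (⇑F)^[i+1] v +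
        (∑ i ∈ Finset.range s, (a (i+1) * y ^ q) • (⇑F)^[i+1] v + (a 0 * y ^ q) • (⇑F)^[0] v) := by
    rw [Finset.sum_range_succ', ← add_assoc, ← Finset.sum_add_distrib]
    congr 1
    apply Finset.sum_congr rfl
    intro i _
    rw [← add_smul]
    rfl
  rw [e0, Finset.sum_range_succ, hy, hrel, e1, ← e2]

variable (k) in
/-- span of the first `j` iterates -/
def Sp (F : V →+ V) (v : V) (j : ℕ) : Submodule k V :=
  Submodule.span k (Set.range fun i : Fin j => (⇑F)^[(i : ℕ)] v)

lemma mem_Sp_iff (F : V →+ V) (v : V) (j : ℕ) (x : V) :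
    x ∈ Sp k F v j ↔ ∃ a : ℕ → k, x = ∑ i ∈ Finset.range j, a i • (⇑F)^[i] v := by
  constructor
  · intro hx
    obtain ⟨c, hc⟩ := (Submodule.mem_span_range_iff_exists_fun k).1 hx
    refine ⟨fun i => if h : i < j then c ⟨i, h⟩ else 0, ?_⟩
    rw [← hc, Finset.sum_range]
    apply Finset.sum_congr rfl
    intro i _
    simp [i.is_lt]
  · rintro ⟨a, rfl⟩
    exact Submodule.sum_mem _ fun i hi => Submodule.smul_mem _ _
      (Submodule.subset_span ⟨⟨i, Finset.mem_range.1 hi⟩, rfl⟩)

lemma Sp_mono (F : V →+ V) (v : V) : Monotone (Sp k F v) := by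
  intro i j hij
  apply Submodule.span_le.2
  rintro _ ⟨m, rfl⟩
  exact Submodule.subset_span ⟨⟨m, lt_of_lt_of_le m.is_lt hij⟩, rfl⟩

lemma exists_dep [FiniteDimensional k V] (F : V →+ V) (v : V) :
    ∃ r, (⇑F)^[r] v ∈ Sp k F v r := by
  obtain ⟨n, hn⟩ := monotone_stabilizes_iff_noetherian.2 (inferInstance : IsNoetherian k V)
    ⟨Sp k F v, Sp_mono F v⟩
  refine ⟨n, ?_⟩
  have h1 : Sp k F v n = Sp k F v (n+1) := hn (n+1) (Nat.le_succ n)
  rw [h1]
  exact Submodule.subset_span ⟨⟨n, Nat.lt_succ_self n⟩, rfl⟩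

theorem exists_fixed_ne_zero [FiniteDimensional k V] [IsAlgClosed k] (q : ℕ) (hq : 2 ≤ q)
    (F : V →+ V) (hF : ∀ (c : k) (v : V), F (c • v) = c ^ q • F v)
    (hinj : Function.Injective F) (v : V) (hv : v ≠ 0) : ∃ w : V, w ≠ 0 ∧ F w = w := by
  classical
  have hex := exists_dep (k := k) F v
  have hr1 : (⇑F)^[Nat.find hex] v ∈ Sp k F v (Nat.find hex) := Nat.find_spec hex
  have hmin : ∀ j < Nat.find hex, (⇑F)^[j] v ∉ Sp k F v j := fun j hj => Nat.find_min hex hj
  obtain ⟨r, hr⟩ : ∃ r, r = Nat.find hex := ⟨_, rfl⟩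
  rw [← hr] at hr1 hmin
  have hr0 : r ≠ 0 := by
    intro h0
    rw [h0] at hr1
    obtain ⟨a, ha⟩ := (mem_Sp_iff F v 0 _).1 hr1
    simp at ha
    exact hv ha
  obtain ⟨s, hs⟩ := Nat.exists_eq_succ_of_ne_zero hr0
  rw [hs] at hr1
  obtain ⟨a, ha⟩ := (mem_Sp_iff F v (s+1) _).1 hr1
  have hmins : (⇑F)^[s] v ∉ Sp k F v s := hmin s (by omega)
  have hstep : ∀ i, F ((⇑F)^[i] v) = (⇑F)^[i+1] v :=
    fun i => (Function.iterate_succ_apply' _ _ _).symm
  have ha0 : a 0 ≠ 0 := by
    intro h0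
    have hroot : ∀ i, ∃ b : k, b ^ q = a (i+1) :=
      fun i => IsAlgClosed.exists_pow_nat_eq _ (by omega)
    choose b hb using hroot
    have e1 : F (∑ i ∈ Finset.range s, b i • (⇑F)^[i] v) = F ((⇑F)^[s] v) := by
      rw [map_sum, hstep s, ha, Finset.sum_range_succ', h0, zero_smul, add_zero]
      apply Finset.sum_congr rfl
      intro i _
      rw [hF, hb, hstep]
    have := hinj e1
    exact hmins ((mem_Sp_iff F v s _).2 ⟨b, this.symm⟩)
  obtain ⟨y, hy0, hy⟩ := exists_root_xs a q hq ha0 s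
  refine ⟨∑ i ∈ Finset.range (s+1), xs a q y i • (⇑F)^[i] v, ?_,
    fixed_of_relation q F hF v s a ha y hy⟩
  intro hw
  rw [Finset.sum_range_succ, hy] at hw
  apply hmins
  have : (⇑F)^[s] v = y⁻¹ • (-(∑ i ∈ Finset.range s, xs a q y i • (⇑F)^[i] v)) := by
    rw [← eq_neg_of_add_eq_zero_right hw, smul_smul, inv_mul_cancel₀ hy0, one_smul]
  rw [this]
  exact Submodule.smul_mem _ _ (Submodule.neg_mem _ ((mem_Sp_iff F v s _).2 ⟨_, rfl⟩))

end vec


section semilinear

universe v

variable {k : Type*} [Field k] {σ : k →+* k}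

lemma surj_of_stable {V : Type*} [AddCommGroup V] [Module k V] (f : V →ₛₗ[σ] V)
    (L : Submodule k V) (hL : L ≤ L.comap f)
    (h1 : ∀ z ∈ L, ∃ t ∈ L, f t - t = z)
    (h2 : Function.Surjective (fun x : V ⧸ L => L.mapQ L f hL x - x)) :
    Function.Surjective (fun x => f x - x) := by
  intro b
  obtain ⟨xb, hxb⟩ := h2 (Submodule.Quotient.mk b)
  obtain ⟨x, rfl⟩ := Submodule.Quotient.mk_surjective L xb
  have hmem : f x - x - b ∈ L := by
    rw [← Submodule.Quotient.mk_eq_zero L]
    simp only [Submodule.Quotient.mk_sub]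
    have := hxb
    simp only [Submodule.mapQ_apply] at this
    rw [this, sub_self]
  obtain ⟨t, -, ht⟩ := h1 (-(f x - x - b)) (L.neg_mem hmem)
  refine ⟨x + t, ?_⟩
  show f (x + t) - (x + t) = b
  rw [map_add]
  have : f x + f t - (x + t) = (f x - x) + (f t - t) := by abel
  rw [this, ht]; abel

variable [IsAlgClosed k]

/-- the line spanned by a fixed vector is stable, and `f - id` is onto on it -/
lemma line_stable {V : Type*} [AddCommGroup V] [Module k V] (q : ℕ) (hq : 2 ≤ q)
    (hσ : ∀ c, σ c = c ^ q) (f : V →ₛₗ[σ] V) (w : V) (hw : f w = w) :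
    (Submodule.span k {w} ≤ (Submodule.span k {w}).comap f) ∧
      ∀ z ∈ Submodule.span k {w}, ∃ t ∈ Submodule.span k {w}, f t - t = z := by
  constructor
  · intro z hz
    obtain ⟨c, rfl⟩ := Submodule.mem_span_singleton.1 hz
    rw [Submodule.mem_comap, map_smulₛₗ, hw]
    exact Submodule.smul_mem _ _ (Submodule.mem_span_singleton_self w)
  · intro z hz
    obtain ⟨c, rfl⟩ := Submodule.mem_span_singleton.1 hz
    obtain ⟨d, hd⟩ := exists_AS_root q hq c
    refine ⟨d • w, Submodule.smul_mem _ _ (Submodule.mem_span_singleton_self w), ?_⟩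
    rw [map_smulₛₗ, hw, hσ, ← sub_smul, hd]

theorem surj_sub_id (σ : k →+* k) (q : ℕ) (hq : 2 ≤ q) (hσ : ∀ c, σ c = c ^ q) :
    ∀ (n : ℕ) (V : Type v) [AddCommGroup V] [Module k V] [FiniteDimensional k V]
      (f : V →ₛₗ[σ] V), finrank k V = n → Function.Surjective (fun x => f x - x) := by
  intro n
  induction n using Nat.strong_induction_on with
  | _ n ih =>
  intro V _ _ _ f hn
  by_cases hinj : Function.Injective f
  · by_cases hV : ∀ x : V, x = 0
    · intro b
      exact ⟨0, by rw [hV b]; simp⟩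
    · push Not at hV
      obtain ⟨v, hv⟩ := hV
      obtain ⟨w, hw0, hw⟩ := exists_fixed_ne_zero q hq f.toAddMonoidHom
        (fun (c : k) (x : V) => by show f (c • x) = c ^ q • f x; rw [map_smulₛₗ, hσ]) hinj v hv
      have hw' : f w = w := hw
      obtain ⟨hL, h1⟩ := line_stable q hq hσ f w hw'
      have hlt : finrank k (V ⧸ Submodule.span k {w}) < n := by
        have h3 := (Submodule.span k {w}).finrank_quotient_add_finrank
        rw [finrank_span_singleton hw0, hn] at h3
        omega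
      exact surj_of_stable f _ hL h1 (ih _ hlt (V ⧸ Submodule.span k {w}) _ rfl)
  · have hK : LinearMap.ker f ≠ ⊥ := fun h => hinj (LinearMap.ker_eq_bot.1 h)
    have hL : LinearMap.ker f ≤ (LinearMap.ker f).comap f := by
      intro z hz
      rw [Submodule.mem_comap, LinearMap.mem_ker.1 hz]
      exact Submodule.zero_mem _
    have h1 : ∀ z ∈ LinearMap.ker f, ∃ t ∈ LinearMap.ker f, f t - t = z := by
      intro z hz
      refine ⟨-z, Submodule.neg_mem _ hz, ?_⟩
      rw [map_neg, LinearMap.mem_ker.1 hz]; simp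
    have hlt : finrank k (V ⧸ LinearMap.ker f) < n := by
      have h3 := (LinearMap.ker f).finrank_quotient_add_finrank
      have h4 : finrank k (LinearMap.ker f) ≠ 0 := fun h => hK (Submodule.finrank_eq_zero.1 h)
      omega
    exact surj_of_stable f _ hL h1 (ih _ hlt (V ⧸ LinearMap.ker f) _ rfl)

/-- additive-map version -/
theorem surj_of_add (σ : k →+* k) (q : ℕ) (hq : 2 ≤ q) (hσ : ∀ c, σ c = c ^ q)
    {V : Type v} [AddCommGroup V] [Module k V] [FiniteDimensional k V] (F : V →+ V)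
    (hF : ∀ (c : k) (v : V), F (c • v) = c ^ q • F v) :
    Function.Surjective (fun v => F v - v) :=
  surj_sub_id σ q hq hσ _ V
    ({ toFun := F, map_add' := F.map_add,
       map_smul' := fun c v => by show F (c • v) = σ c • F v; rw [hF, hσ] } : V →ₛₗ[σ] V) rfl

theorem span_fixed_eq_top (σ : k →+* k) (q : ℕ) (hq : 2 ≤ q) (hσ : ∀ c, σ c = c ^ q) :
    ∀ (n : ℕ) (V : Type v) [AddCommGroup V] [Module k V] [FiniteDimensional k V]
      (f : V →ₛₗ[σ] V), Function.Injective f → finrank k V = n →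
        Submodule.span k {v | f v = v} = ⊤ := by
  intro n
  induction n using Nat.strong_induction_on with
  | _ n ih =>
  intro V _ _ _ f hinj hn
  by_cases hV : ∀ x : V, x = 0
  · exact eq_top_iff.2 fun x _ => by rw [hV x]; exact Submodule.zero_mem _
  · push Not at hV
    obtain ⟨v, hv⟩ := hV
    obtain ⟨w, hw0, hw⟩ := exists_fixed_ne_zero q hq f.toAddMonoidHom
      (fun (c : k) (x : V) => by show f (c • x) = c ^ q • f x; rw [map_smulₛₗ, hσ]) hinj v hv
    have hw' : f w = w := hw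
    obtain ⟨hL, h1⟩ := line_stable q hq hσ f w hw'
    have hlt : finrank k (V ⧸ Submodule.span k {w}) < n := by
      have h3 := (Submodule.span k {w}).finrank_quotient_add_finrank
      rw [finrank_span_singleton hw0, hn] at h3
      omega
    -- injectivity of the induced map
    have hinjq : Function.Injective ((Submodule.span k {w}).mapQ (Submodule.span k {w}) f hL) := by
      rw [← LinearMap.ker_eq_bot, LinearMap.ker_eq_bot']
      intro xb hxb
      obtain ⟨x, rfl⟩ := Submodule.Quotient.mk_surjective _ xb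
      rw [Submodule.mapQ_apply, Submodule.Quotient.mk_eq_zero] at hxb
      obtain ⟨c, hc⟩ := Submodule.mem_span_singleton.1 hxb
      obtain ⟨d, hd⟩ := IsAlgClosed.exists_pow_nat_eq c (n := q) (by omega)
      have : f (d • w) = f x := by rw [map_smulₛₗ, hw', hσ, hd, hc]
      rw [Submodule.Quotient.mk_eq_zero, ← hinj this]
      exact Submodule.smul_mem _ _ (Submodule.mem_span_singleton_self w)
    have hIH := ih _ hlt (V ⧸ Submodule.span k {w}) _ hinjq rfl
    have hLS : Submodule.span k {w} ≤ Submodule.span k {v | f v = v} :=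
      Submodule.span_mono (Set.singleton_subset_iff.2 hw')
    have hmap : (Submodule.span k {v | f v = v}).map (Submodule.span k {w}).mkQ = ⊤ := by
      rw [eq_top_iff, ← hIH, Submodule.span_le]
      intro xb hxb
      obtain ⟨x, rfl⟩ := Submodule.Quotient.mk_surjective _ xb
      have hxb' : (Submodule.span k {w}).mapQ (Submodule.span k {w}) f hL
          (Submodule.Quotient.mk x) = Submodule.Quotient.mk x := hxb
      rw [Submodule.mapQ_apply, ← sub_eq_zero, ← Submodule.Quotient.mk_sub,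
        Submodule.Quotient.mk_eq_zero] at hxb'
      obtain ⟨t, ht, hft⟩ := h1 _ (Submodule.neg_mem _ hxb')
      refine ⟨x + t, Submodule.subset_span ?_, ?_⟩
      · show f (x + t) = x + t
        rw [map_add]
        have : f x + f t = (f x - x) + (f t - t) + (x + t) := by abel
        rw [this, hft]; abel
      · rw [Submodule.mkQ_apply, Submodule.Quotient.mk_add,
          (Submodule.Quotient.mk_eq_zero _).2 ht, add_zero]
    have := (Submodule.map_mkQ_eq_top _ _).1 hmap
    rwa [sup_eq_right.2 hLS] at this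

end semilinear

end Groth.Agent.H2.FrobSemi
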