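import Mathlib
import Groth.Agent.H2.FrobSemi

namespace Groth.Agent.H2.FrobFix

open Polynomial Module

universe v

variable {k : Type*} [Field k]

lemma roots_finite (q : ℕ) (hq : 2 ≤ q) :
    Set.Finite {d : k | d ^ q = d} ∧ Set.ncard {d : k | d ^ q = d} ≤ q := by
  classical
  have hne : (X ^ q - X : k[X]) ≠ 0 := FiniteField.X_pow_card_sub_X_ne_zero k (by omega)
  have hsub : {d : k | d ^ q = d} ⊆ ((X ^ q - X : k[X]).roots.toFinset : Set k) := by
    intro d hd
    simp only [Finset.mem_coe, Multiset.mem_toFinset, mem_roots hne, IsRoot.def, eval_sub,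
      eval_pow, eval_X]
    exact sub_eq_zero.2 hd
  refine ⟨(Finset.finite_toSet _).subset hsub, ?_⟩
  calc Set.ncard {d : k | d ^ q = d}
      ≤ Set.ncard ((X ^ q - X : k[X]).roots.toFinset : Set k) :=
        Set.ncard_le_ncard hsub (Finset.finite_toSet _)
    _ = (X ^ q - X : k[X]).roots.toFinset.card := Set.ncard_coe_finset _
    _ ≤ Multiset.card (X ^ q - X : k[X]).roots := Multiset.toFinset_card_le _
    _ ≤ (X ^ q - X : k[X]).natDegree := card_roots' _
    _ = q := FiniteField.X_pow_card_sub_X_natDegree_eq k (by omega)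

theorem card_fixed_le (σ : k →+* k) (q : ℕ) (hq : 2 ≤ q) (hσ : ∀ c, σ c = c ^ q) :
    ∀ (n : ℕ) (V : Type v) [AddCommGroup V] [Module k V] [FiniteDimensional k V]
      (f : V →ₛₗ[σ] V), finrank k V = n →
        Set.Finite {v | f v = v} ∧ Set.ncard {v | f v = v} ≤ q ^ n := by
  intro n
  induction n using Nat.strong_induction_on with
  | _ n ih =>
  intro V _ _ _ f hn
  classical
  by_cases h : ∃ w, w ≠ 0 ∧ f w = w
  · obtain ⟨w, hw0, hw⟩ := h
    have hL : Submodule.span k {w} ≤ (Submodule.span k {w}).comap f := by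
      intro z hz
      obtain ⟨c, rfl⟩ := Submodule.mem_span_singleton.1 hz
      rw [Submodule.mem_comap, map_smulₛₗ, hw]
      exact Submodule.smul_mem _ _ (Submodule.mem_span_singleton_self w)
    have hfr : finrank k (V ⧸ Submodule.span k {w}) + 1 = n := by
      have h3 := (Submodule.span k {w}).finrank_quotient_add_finrank
      rw [finrank_span_singleton hw0, hn] at h3
      exact h3
    obtain ⟨hfin', hcard'⟩ := ih _ (by omega) (V ⧸ Submodule.span k {w})
      ((Submodule.span k {w}).mapQ (Submodule.span k {w}) f hL) rfl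
    obtain ⟨hDfin, hDcard⟩ := roots_finite (k := k) q hq
    -- section choice
    have hx₀ : ∀ yb : V ⧸ Submodule.span k {w}, ∃ x₀ : V,
        (∃ x, f x = x ∧ (Submodule.span k {w}).mkQ x = yb) →
          f x₀ = x₀ ∧ (Submodule.span k {w}).mkQ x₀ = yb := by
      intro yb
      by_cases hh : ∃ x, f x = x ∧ (Submodule.span k {w}).mkQ x = yb
      · obtain ⟨x, hx⟩ := hh
        exact ⟨x, fun _ => hx⟩
      · exact ⟨0, fun h' => absurd h' hh⟩
    choose x₀ hx₀ using hx₀
    have hcoef : ∀ z : V, ∃ d : k, z ∈ Submodule.span k {w} → d • w = z := by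
      intro z
      by_cases hz : z ∈ Submodule.span k {w}
      · obtain ⟨d, hd⟩ := Submodule.mem_span_singleton.1 hz
        exact ⟨d, fun _ => hd⟩
      · exact ⟨0, fun h' => absurd h' hz⟩
    choose coef hcoef using hcoef
    let g : V → (V ⧸ Submodule.span k {w}) × k :=
      fun x => ((Submodule.span k {w}).mkQ x, coef (x - x₀ ((Submodule.span k {w}).mkQ x)))
    have hkey : ∀ x, f x = x →
        x - x₀ ((Submodule.span k {w}).mkQ x) ∈ Submodule.span k {w} ∧
          f (x - x₀ ((Submodule.span k {w}).mkQ x)) = x - x₀ ((Submodule.span k {w}).mkQ x) := by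
      intro x hx
      obtain ⟨h1, h2⟩ := hx₀ _ ⟨x, hx, rfl⟩
      constructor
      · rw [← Submodule.Quotient.mk_eq_zero, Submodule.Quotient.mk_sub]
        have h2' : (Submodule.Quotient.mk (x₀ ((Submodule.span k {w}).mkQ x)) :
            V ⧸ Submodule.span k {w}) = Submodule.Quotient.mk x := h2
        rw [h2', sub_self]
      · rw [map_sub, hx, h1]
    have hmaps : Set.MapsTo g {v | f v = v}
        ({v | (Submodule.span k {w}).mapQ (Submodule.span k {w}) f hL v = v} ×ˢ
          {d : k | d ^ q = d}) := by
      intro x hx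
      obtain ⟨hz, hfz⟩ := hkey x hx
      refine ⟨?_, ?_⟩
      · show (Submodule.span k {w}).mapQ (Submodule.span k {w}) f hL
          ((Submodule.span k {w}).mkQ x) = (Submodule.span k {w}).mkQ x
        rw [Submodule.mkQ_apply, Submodule.mapQ_apply, hx]
      · show coef (x - x₀ ((Submodule.span k {w}).mkQ x)) ^ q =
          coef (x - x₀ ((Submodule.span k {w}).mkQ x))
        have hd := hcoef _ hz
        rw [← hd, map_smulₛₗ, hw, hσ] at hfz
        have h5 : (coef (x - x₀ ((Submodule.span k {w}).mkQ x)) ^ q -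
            coef (x - x₀ ((Submodule.span k {w}).mkQ x))) • w = 0 := by
          rw [sub_smul, hfz, sub_self]
        rcases smul_eq_zero.1 h5 with h6 | h6
        · exact sub_eq_zero.1 h6
        · exact absurd h6 hw0
    have hinj : Set.InjOn g {v | f v = v} := by
      intro x hx x' hx' hgg
      have e1 : (Submodule.span k {w}).mkQ x = (Submodule.span k {w}).mkQ x' :=
        congrArg Prod.fst hgg
      have e2 : coef (x - x₀ ((Submodule.span k {w}).mkQ x)) =
          coef (x' - x₀ ((Submodule.span k {w}).mkQ x')) := congrArg Prod.snd hgg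
      have h1 := hcoef _ (hkey x hx).1
      have h2 := hcoef _ (hkey x' hx').1
      rw [e2, h2, ← e1] at h1
      exact (sub_left_injective h1).symm
    refine ⟨Set.Finite.of_injOn hmaps hinj (hfin'.prod hDfin), ?_⟩
    calc Set.ncard {v | f v = v}
        ≤ Set.ncard ({v | (Submodule.span k {w}).mapQ (Submodule.span k {w}) f hL v = v} ×ˢ
          {d : k | d ^ q = d}) :=
          Set.ncard_le_ncard_of_injOn g hmaps hinj (hfin'.prod hDfin)
      _ = Set.ncard {v | (Submodule.span k {w}).mapQ (Submodule.span k {w}) f hL v = v} *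
          Set.ncard {d : k | d ^ q = d} := Set.ncard_prod
      _ ≤ q ^ (finrank k (V ⧸ Submodule.span k {w})) * q := Nat.mul_le_mul hcard' hDcard
      _ = q ^ n := by rw [← hfr, pow_succ]
  · push Not at h
    have hset : {v | f v = v} = {0} := by
      ext v
      constructor
      · intro hv
        by_contra hne
        exact h v hne hv
      · rintro rfl
        exact map_zero f
    rw [hset]
    refine ⟨Set.finite_singleton _, ?_⟩
    rw [Set.ncard_singleton]
    exact Nat.one_le_pow _ _ (by omega)

end Groth.Agent.H2.FrobFix
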