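import Mathlib
import Groth.Agent.H2.FrobSemi

namespace Groth.Agent.H2.FrobInt

open Module

universe u v w

theorem main (p : ℕ) [Fact p.Prime]
    (L : Type u) [Field L] [IsAlgClosed L] [CharP L p]
    (R : Type v) [CommRing R] [Algebra L R] [Algebra.IsIntegral L R] [ExpChar R p]
    (M : Type w) [AddCommGroup M] [Module R M] [Module.Finite R M]
    (φ : M →ₛₗ[frobenius R p] M) :
    Function.Surjective fun m : M => φ m - m := by
  classical
  letI : Module L M := Module.compHom M (algebraMap L R)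
  haveI : IsScalarTower L R M := ⟨fun a r m => by
    show (a • r) • m = algebraMap L R a • (r • m)
    rw [Algebra.smul_def, mul_smul]⟩
  haveI : ExpChar L p := ExpChar.prime Fact.out
  obtain ⟨n, g, hg⟩ := Module.Finite.exists_fin (R := R) (M := M)
  have hr : ∀ j, ∃ c : Fin n → R, ∑ i, c i • g i = φ (g j) := fun j =>
    (Submodule.mem_span_range_iff_exists_fun R).1 (by rw [hg]; trivial)
  choose r hr using hr
  intro b
  obtain ⟨s, hs⟩ := (Submodule.mem_span_range_iff_exists_fun R).1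
    (show b ∈ Submodule.span R (Set.range g) by rw [hg]; trivial)
  obtain ⟨T, hT⟩ : ∃ T : Set R, T = Set.range s ∪ Set.range (fun ij : Fin n × Fin n => r ij.1 ij.2) :=
    ⟨_, rfl⟩
  have hTfin : T.Finite := by
    rw [hT]; exact (Set.finite_range _).union (Set.finite_range _)
  obtain ⟨R₀, hR₀⟩ : ∃ R₀ : Subalgebra L R, R₀ = Algebra.adjoin L T := ⟨_, rfl⟩
  haveI : Module.Finite L R₀ := by
    rw [hR₀]
    exact Algebra.finite_adjoin_of_finite_of_isIntegral hTfin
      (fun x _ => Algebra.IsIntegral.isIntegral x)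
  have hsmem : ∀ i, s i ∈ R₀ := fun i => by
    rw [hR₀]; exact Algebra.subset_adjoin (by rw [hT]; exact Or.inl ⟨i, rfl⟩)
  have hrmem : ∀ i j, r i j ∈ R₀ := fun i j => by
    rw [hR₀]; exact Algebra.subset_adjoin (by rw [hT]; exact Or.inr ⟨(i, j), rfl⟩)
  obtain ⟨Ψ, hΨ⟩ : ∃ Ψ : (Fin n → R₀) →ₗ[L] M, ∀ c, Ψ c = ∑ i, (c i : R) • g i :=
    ⟨{ toFun := fun c => ∑ i, (c i : R) • g i
       map_add' := fun c c' => by simp [add_smul, Finset.sum_add_distrib]
       map_smul' := fun a c => by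
        simp only [Pi.smul_apply, RingHom.id_apply, Finset.smul_sum]
        apply Finset.sum_congr rfl; intro i _
        rw [Subalgebra.coe_smul, smul_assoc] }, fun c => rfl⟩
  obtain ⟨N, hN⟩ : ∃ N : Submodule L M, N = LinearMap.range Ψ := ⟨_, rfl⟩
  haveI : FiniteDimensional L N := by rw [hN]; infer_instance
  have hstable : ∀ x ∈ N, φ x ∈ N := by
    intro x hx
    rw [hN] at hx ⊢
    obtain ⟨c, rfl⟩ := hx
    refine ⟨fun j => ∑ i, (c i) ^ p * ⟨r i j, hrmem i j⟩, ?_⟩
    rw [hΨ, hΨ, map_sum]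
    have h1 : ∀ i, φ ((c i : R) • g i) = ∑ j, (((c i : R)) ^ p * r i j) • g j := by
      intro i
      rw [map_smulₛₗ, frobenius_def, ← hr i, Finset.smul_sum]
      apply Finset.sum_congr rfl; intro j _; rw [smul_smul]
    simp only [h1]
    rw [Finset.sum_comm]
    apply Finset.sum_congr rfl; intro j _
    rw [← Finset.sum_smul]
    congr 1
    push_cast
    rfl
  have hbN : b ∈ N := by
    rw [hN]; exact ⟨fun i => ⟨s i, hsmem i⟩, by rw [hΨ]; exact hs⟩
  let F : N →+ N := AddMonoidHom.mk' (fun x => ⟨φ x, hstable x x.2⟩)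
    (fun x y => by apply Subtype.ext; simp)
  have hF : ∀ (a : L) (x : N), F (a • x) = a ^ p • F x := by
    intro a x
    apply Subtype.ext
    show φ (algebraMap L R a • (x : M)) = algebraMap L R (a ^ p) • φ (x : M)
    rw [map_smulₛₗ, frobenius_def, map_pow]
  obtain ⟨x, hx⟩ := FrobSemi.surj_of_add (frobenius L p) p (Fact.out : p.Prime).two_le
    (fun c => rfl) F hF ⟨b, hbN⟩
  have h2 : φ (x : M) - (x : M) = b := congrArg Subtype.val hx
  exact ⟨x, h2⟩

end Groth.Agent.H2.FrobInt
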