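import Mathlib

namespace Groth.Agent.H2.GenericDet

open Matrix

variable {k : Type*} [Field k] {n : ℕ}

/-- scale the variables in `S` by `T` -/
noncomputable def phi (S : Fin n × Fin n → Prop) [DecidablePred S] :
    MvPolynomial (Fin n × Fin n) k →+* Polynomial (MvPolynomial (Fin n × Fin n) k) :=
  MvPolynomial.eval₂Hom (Polynomial.C.comp MvPolynomial.C)
    (fun v => if S v then Polynomial.X * Polynomial.C (MvPolynomial.X v)
      else Polynomial.C (MvPolynomial.X v))

/-- kill the variables in `S` -/
noncomputable def zeta (S : Fin n × Fin n → Prop) [DecidablePred S] :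
    MvPolynomial (Fin n × Fin n) k →+* MvPolynomial (Fin n × Fin n) k :=
  MvPolynomial.eval₂Hom MvPolynomial.C (fun v => if S v then 0 else MvPolynomial.X v)

lemma eval_one_phi (S : Fin n × Fin n → Prop) [DecidablePred S]
    (p : MvPolynomial (Fin n × Fin n) k) : Polynomial.eval 1 (phi S p) = p := by
  have h : (Polynomial.evalRingHom (1 : MvPolynomial (Fin n × Fin n) k)).comp (phi S) =
      RingHom.id _ := by
    apply MvPolynomial.ringHom_ext
    · intro a
      simp [phi]
    · intro v
      simp only [phi, RingHom.comp_apply, MvPolynomial.eval₂Hom_X', RingHom.id_apply,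
        Polynomial.coe_evalRingHom]
      split_ifs <;> simp
  exact RingHom.congr_fun h p

lemma eval_zero_phi (S : Fin n × Fin n → Prop) [DecidablePred S]
    (p : MvPolynomial (Fin n × Fin n) k) : Polynomial.eval 0 (phi S p) = zeta S p := by
  have h : (Polynomial.evalRingHom (0 : MvPolynomial (Fin n × Fin n) k)).comp (phi S) =
      zeta S := by
    apply MvPolynomial.ringHom_ext
    · intro a
      simp [phi, zeta]
    · intro v
      simp only [phi, zeta, RingHom.comp_apply, MvPolynomial.eval₂Hom_X',
        Polynomial.coe_evalRingHom]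
      split_ifs <;> simp
  exact RingHom.congr_fun h p

lemma zeta_of_natDegree (S : Fin n × Fin n → Prop) [DecidablePred S]
    (p : MvPolynomial (Fin n × Fin n) k) (h : (phi S p).natDegree = 0) : zeta S p = p := by
  have h1 := Polynomial.eq_C_of_natDegree_eq_zero h
  have h2 := eval_one_phi S p
  have h3 := eval_zero_phi S p
  rw [h1, Polynomial.eval_C] at h2 h3
  rw [← h3, h2]

lemma split (S : Fin n × Fin n → Prop) [DecidablePred S]
    (D f g : MvPolynomial (Fin n × Fin n) k) (hD : D ≠ 0)
    (hphi : phi S D = Polynomial.X * Polynomial.C D) (hfg : D = f * g) :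
    zeta S f = f ∨ zeta S g = g := by
  have hf : f ≠ 0 := by
    rintro rfl
    exact hD (by rw [hfg, zero_mul])
  have hg : g ≠ 0 := by
    rintro rfl
    exact hD (by rw [hfg, mul_zero])
  have hf' : phi S f ≠ 0 := by
    intro h
    apply hf
    rw [← eval_one_phi S f, h, Polynomial.eval_zero]
  have hg' : phi S g ≠ 0 := by
    intro h
    apply hg
    rw [← eval_one_phi S g, h, Polynomial.eval_zero]
  have h1 : (phi S f).natDegree + (phi S g).natDegree = 1 := by
    rw [← Polynomial.natDegree_mul hf' hg', ← map_mul, ← hfg, hphi,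
      Polynomial.natDegree_X_mul (Polynomial.C_ne_zero.mpr hD), Polynomial.natDegree_C]
  rcases Nat.eq_zero_or_pos (phi S f).natDegree with h | h
  · exact Or.inl (zeta_of_natDegree S f h)
  · exact Or.inr (zeta_of_natDegree S g (by omega))

lemma phi_row (i : Fin n) :
    phi (fun v : Fin n × Fin n => v.1 = i) (Matrix.mvPolynomialX (Fin n) (Fin n) k).det =
      Polynomial.X * Polynomial.C (Matrix.mvPolynomialX (Fin n) (Fin n) k).det := by
  have e1 := RingHom.map_det (phi (fun v : Fin n × Fin n => v.1 = i))
    (Matrix.mvPolynomialX (Fin n) (Fin n) k)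
  have e2 := RingHom.map_det (Polynomial.C : MvPolynomial (Fin n × Fin n) k →+* _)
    (Matrix.mvPolynomialX (Fin n) (Fin n) k)
  have h : (phi (fun v : Fin n × Fin n => v.1 = i)).mapMatrix
        (Matrix.mvPolynomialX (Fin n) (Fin n) k) =
      Matrix.of (fun a b =>
        (if a = i then (Polynomial.X : Polynomial (MvPolynomial (Fin n × Fin n) k)) else 1) *
        (Polynomial.C.mapMatrix (Matrix.mvPolynomialX (Fin n) (Fin n) k)) a b) := by
    ext a b
    simp only [RingHom.mapMatrix_apply, Matrix.map_apply, Matrix.mvPolynomialX_apply, phi,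
      MvPolynomial.eval₂Hom_X', Matrix.of_apply]
    split_ifs <;> simp
  have hprod : (∏ a : Fin n,
      (if a = i then (Polynomial.X : Polynomial (MvPolynomial (Fin n × Fin n) k)) else 1)) =
      Polynomial.X := by
    simp
  rw [e1, e2, h, Matrix.det_mul_column, hprod]

lemma phi_col (j : Fin n) :
    phi (fun v : Fin n × Fin n => v.2 = j) (Matrix.mvPolynomialX (Fin n) (Fin n) k).det =
      Polynomial.X * Polynomial.C (Matrix.mvPolynomialX (Fin n) (Fin n) k).det := by
  have e1 := RingHom.map_det (phi (fun v : Fin n × Fin n => v.2 = j))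
    (Matrix.mvPolynomialX (Fin n) (Fin n) k)
  have e2 := RingHom.map_det (Polynomial.C : MvPolynomial (Fin n × Fin n) k →+* _)
    (Matrix.mvPolynomialX (Fin n) (Fin n) k)
  have h : (phi (fun v : Fin n × Fin n => v.2 = j)).mapMatrix
        (Matrix.mvPolynomialX (Fin n) (Fin n) k) =
      Matrix.of (fun a b =>
        (if b = j then (Polynomial.X : Polynomial (MvPolynomial (Fin n × Fin n) k)) else 1) *
        (Polynomial.C.mapMatrix (Matrix.mvPolynomialX (Fin n) (Fin n) k)) a b) := by
    ext a b
    simp only [RingHom.mapMatrix_apply, Matrix.map_apply, Matrix.mvPolynomialX_apply, phi,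
      MvPolynomial.eval₂Hom_X', Matrix.of_apply]
    split_ifs <;> simp
  have hprod : (∏ a : Fin n,
      (if a = j then (Polynomial.X : Polynomial (MvPolynomial (Fin n × Fin n) k)) else 1)) =
      Polynomial.X := by
    simp
  rw [e1, e2, h, Matrix.det_mul_row, hprod]

lemma zeta_row_det (i : Fin n) :
    zeta (fun v : Fin n × Fin n => v.1 = i) (Matrix.mvPolynomialX (Fin n) (Fin n) k).det = 0 := by
  rw [RingHom.map_det]
  apply Matrix.det_eq_zero_of_row_eq_zero i
  intro b
  simp [zeta, Matrix.mvPolynomialX_apply]

lemma eval_det (M : Matrix (Fin n) (Fin n) k) :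
    MvPolynomial.eval (fun v : Fin n × Fin n => M v.1 v.2)
      (Matrix.mvPolynomialX (Fin n) (Fin n) k).det = M.det := by
  rw [RingHom.map_det, Matrix.mvPolynomialX_mapMatrix_eval]

lemma eval_zeta (S : Fin n × Fin n → Prop) [DecidablePred S] (w : Fin n × Fin n → k)
    (p : MvPolynomial (Fin n × Fin n) k) :
    MvPolynomial.eval w (zeta S p) = MvPolynomial.eval (fun v => if S v then 0 else w v) p := by
  have h : (MvPolynomial.eval w).comp (zeta S) =
      MvPolynomial.eval (fun v => if S v then 0 else w v) := by
    apply MvPolynomial.ringHom_ext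
    · intro a
      simp [zeta]
    · intro v
      simp only [zeta, RingHom.comp_apply, MvPolynomial.eval₂Hom_X', MvPolynomial.eval_X]
      split_ifs <;> simp
  exact RingHom.congr_fun h p

lemma no_mixed (i j : Fin n) (f g : MvPolynomial (Fin n × Fin n) k)
    (hfg : (Matrix.mvPolynomialX (Fin n) (Fin n) k).det = f * g)
    (hg : zeta (fun v : Fin n × Fin n => v.1 = i) g = g)
    (hf : zeta (fun v : Fin n × Fin n => v.2 = j) f = f) : False := by
  obtain ⟨M₀, hM₀⟩ : ∃ M₀ : Matrix (Fin n) (Fin n) k,
      M₀ = (1 : Matrix (Fin n) (Fin n) k).submatrix (Equiv.swap i j) id := ⟨_, rfl⟩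
  obtain ⟨M₁, hM₁⟩ : ∃ M₁ : Matrix (Fin n) (Fin n) k,
      M₁ = Matrix.of (fun a b => if a = i then 0 else M₀ a b) := ⟨_, rfl⟩
  have hrow : ∀ b, b ≠ j → M₀ i b = 0 := by
    intro b hb
    rw [hM₀, Matrix.submatrix_apply, Equiv.swap_apply_left, id, Matrix.one_apply_ne (Ne.symm hb)]
  have hdet0 : M₀.det ≠ 0 := by
    rw [hM₀, Matrix.det_permute, Matrix.det_one, mul_one]
    rcases Int.units_eq_one_or (Equiv.Perm.sign (Equiv.swap i j)) with h | h <;> rw [h] <;> simp
  have hdet1 : M₁.det = 0 := by
    apply Matrix.det_eq_zero_of_row_eq_zero i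
    intro b
    rw [hM₁, Matrix.of_apply, if_pos rfl]
  have eg : MvPolynomial.eval (fun v : Fin n × Fin n => M₀ v.1 v.2) g =
      MvPolynomial.eval (fun v : Fin n × Fin n => M₁ v.1 v.2) g := by
    conv_lhs => rw [← hg]
    rw [eval_zeta]
    have hw : (fun v : Fin n × Fin n => if v.1 = i then (0 : k) else M₀ v.1 v.2) =
        (fun v : Fin n × Fin n => M₁ v.1 v.2) := by
      funext v
      simp only [hM₁, Matrix.of_apply]
    exact congrArg (fun w => MvPolynomial.eval w g) hw
  have ef : MvPolynomial.eval (fun v : Fin n × Fin n => M₀ v.1 v.2) f =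
      MvPolynomial.eval (fun v : Fin n × Fin n => M₁ v.1 v.2) f := by
    rw [← hf, eval_zeta, eval_zeta]
    have hw : (fun v : Fin n × Fin n => if v.2 = j then (0 : k) else M₀ v.1 v.2) =
        (fun v : Fin n × Fin n => if v.2 = j then (0 : k) else M₁ v.1 v.2) := by
      funext v
      by_cases h : v.2 = j
      · simp [h]
      · simp only [h, if_false, hM₁, Matrix.of_apply]
        by_cases h' : v.1 = i
        · rw [if_pos h', h']
          exact hrow _ h
        · rw [if_neg h']
    exact congrArg (fun w => MvPolynomial.eval w f) hw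
  have h0 := eval_det M₀
  have h1 := eval_det M₁
  rw [hfg, map_mul] at h0 h1
  rw [ef, eg] at h0
  exact hdet0 (h0.symm.trans (h1.trans hdet1))

lemma const_of_cols (g : MvPolynomial (Fin n × Fin n) k)
    (h : ∀ j : Fin n, zeta (fun v : Fin n × Fin n => v.2 = j) g = g) :
    g = MvPolynomial.C (MvPolynomial.constantCoeff g) := by
  have key : ∀ T : Finset (Fin n), zeta (fun v : Fin n × Fin n => v.2 ∈ T) g = g := by
    intro T
    induction T using Finset.induction_on with
    | empty =>
      have h0 : zeta (k := k) (fun v : Fin n × Fin n => v.2 ∈ (∅ : Finset (Fin n))) =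
          RingHom.id _ := by
        apply MvPolynomial.ringHom_ext
        · intro a
          simp [zeta]
        · intro v
          simp [zeta]
      rw [h0]
      rfl
    | insert j T hj ih =>
      have h0 : zeta (k := k) (fun v : Fin n × Fin n => v.2 ∈ insert j T) =
          (zeta (fun v : Fin n × Fin n => v.2 ∈ T)).comp
            (zeta (fun v : Fin n × Fin n => v.2 = j)) := by
        apply MvPolynomial.ringHom_ext
        · intro a
          simp [zeta]
        · intro v
          simp only [zeta, RingHom.comp_apply, MvPolynomial.eval₂Hom_X', Finset.mem_insert]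
          by_cases h1 : v.2 = j
          · simp [h1]
          · simp [h1]
      rw [h0, RingHom.comp_apply, h j, ih]
  have h1 := key Finset.univ
  have h2 : zeta (k := k) (fun v : Fin n × Fin n => v.2 ∈ (Finset.univ : Finset (Fin n))) =
      (MvPolynomial.C).comp MvPolynomial.constantCoeff := by
    apply MvPolynomial.ringHom_ext
    · intro a
      simp [zeta]
    · intro v
      simp [zeta]
  rw [h2] at h1
  exact h1.symm

theorem main (k : Type*) [Field k] (n : ℕ) (hn : 1 ≤ n) :
    Irreducible (Matrix.mvPolynomialX (Fin n) (Fin n) k).det := by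
  have hD : (Matrix.mvPolynomialX (Fin n) (Fin n) k).det ≠ 0 :=
    Matrix.det_mvPolynomialX_ne_zero (Fin n) k
  obtain ⟨i₀⟩ : Nonempty (Fin n) := ⟨⟨0, hn⟩⟩
  have helper : ∀ f g : MvPolynomial (Fin n × Fin n) k,
      (Matrix.mvPolynomialX (Fin n) (Fin n) k).det = f * g →
      zeta (fun v : Fin n × Fin n => v.1 = i₀) g = g → IsUnit g := by
    intro f g hfg hg
    have hcols : ∀ j : Fin n, zeta (fun v : Fin n × Fin n => v.2 = j) g = g := by
      intro j
      rcases split (fun v : Fin n × Fin n => v.2 = j) _ f g hD (phi_col j) hfg with h | h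
      · exact (no_mixed i₀ j f g hfg hg h).elim
      · exact h
    have hc := const_of_cols g hcols
    have hg0 : g ≠ 0 := by
      rintro rfl
      exact hD (by rw [hfg, mul_zero])
    rw [hc]
    apply IsUnit.map
    rw [isUnit_iff_ne_zero]
    intro h0
    apply hg0
    rw [hc, h0, map_zero]
  refine ⟨?_, ?_⟩
  · intro hu
    have h1 := hu.map (zeta (fun v : Fin n × Fin n => v.1 = i₀))
    rw [zeta_row_det] at h1
    exact not_isUnit_zero h1
  · intro f g hfg
    rcases split (fun v : Fin n × Fin n => v.1 = i₀) _ f g hD (phi_row i₀) hfg with h | h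
    · left
      exact helper g f (by rw [hfg, mul_comm]) h
    · right
      exact helper f g hfg h

end Groth.Agent.H2.GenericDet
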