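import Mathlib

/-! Going-up and flatness over the total ring of fractions. -/

set_option autoImplicit false
set_option linter.style.haveILetI false
set_option linter.unusedSimpArgs false
set_option linter.unusedVariables false
set_option linter.unnecessarySeqFocus false
set_option linter.unusedSectionVars false

namespace Groth.Agent.H2.GoingUpFlat

open TensorProduct

/-- If `B_{q'}` is flat over `A` and `q ≤ q'`, then any localization of `B` at `q` is flat over `A`. -/
lemma flat_of_le {A B D : Type*} [CommRing A] [CommRing B] [CommRing D] [Algebra A B]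
    [Algebra B D] [Algebra A D] [IsScalarTower A B D]
    (q q' : Ideal B) [q.IsPrime] [q'.IsPrime] (hle : q ≤ q') [IsLocalization.AtPrime D q]
    (hflat : Module.Flat A (Localization.AtPrime q')) : Module.Flat A D := by
  have hunits : ∀ y : q'.primeCompl, IsUnit (algebraMap B D y) := fun y =>
    IsLocalization.map_units D (⟨y.1, fun hy => y.2 (hle hy)⟩ : q.primeCompl)
  let φ : Localization.AtPrime q' →+* D := IsLocalization.lift (M := q'.primeCompl) hunits
  letI : Algebra (Localization.AtPrime q') D := φ.toAlgebra
  haveI : IsScalarTower B (Localization.AtPrime q') D :=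
    IsScalarTower.of_algebraMap_eq fun x => (IsLocalization.lift_eq hunits x).symm
  haveI : IsLocalization (q.primeCompl.map (algebraMap B (Localization.AtPrime q'))) D :=
    IsLocalization.isLocalization_of_submonoid_le (Localization.AtPrime q') D q'.primeCompl
      q.primeCompl (fun x hx hxq => hx (hle hxq))
  haveI : Module.Flat (Localization.AtPrime q') D :=
    IsLocalization.flat D (q.primeCompl.map (algebraMap B (Localization.AtPrime q')))
  haveI : IsScalarTower A (Localization.AtPrime q') D :=
    IsScalarTower.of_algebraMap_eq fun a => by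
      rw [IsScalarTower.algebraMap_apply A B D,
        IsScalarTower.algebraMap_apply A B (Localization.AtPrime q'),
        ← IsScalarTower.algebraMap_apply B (Localization.AtPrime q') D]
  exact Module.Flat.trans A (Localization.AtPrime q') D

attribute [local instance] Algebra.TensorProduct.rightAlgebra in
theorem main (A B : Type*) [CommRing A] [CommRing B] [IsNoetherianRing A] [Algebra A B]
    [Algebra.HasGoingUp A B]
    (h4 : ∀ (q : Ideal B) [q.IsPrime], IsAssociatedPrime (q.comap (algebraMap A B)) A →
      Module.Flat A (Localization.AtPrime q)) :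
    Module.Flat (FractionRing A) (FractionRing A ⊗[A] B) := by
  rw [Module.flat_iff_of_isLocalization (FractionRing A) (nonZeroDivisors A)]
  haveI hloc : IsLocalization (Algebra.algebraMapSubmonoid B (nonZeroDivisors A))
      (FractionRing A ⊗[A] B) := IsLocalization.tensorRight (FractionRing A) (nonZeroDivisors A)
  apply Module.flat_of_isLocalized_maximal (FractionRing A ⊗[A] B) (FractionRing A ⊗[A] B)
    (fun P ↦ Localization.AtPrime P) (fun P ↦ Algebra.linearMap (FractionRing A ⊗[A] B) _)
  intro P hP
  haveI : P.IsPrime := hP.isPrime
  set q : Ideal B := P.comap (algebraMap B (FractionRing A ⊗[A] B)) with hq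
  haveI : q.IsPrime := Ideal.comap_isPrime _ _
  haveI : IsLocalization.AtPrime (Localization.AtPrime P) q :=
    IsLocalization.isLocalization_isLocalization_atPrime_isLocalization
      (Algebra.algebraMapSubmonoid B (nonZeroDivisors A)) (Localization.AtPrime P) P
  -- the contraction to `A` misses the non-zero-divisors
  have hdisj : Disjoint ((q.comap (algebraMap A B) : Ideal A) : Set A) (nonZeroDivisors A) := by
    rw [Set.disjoint_left]
    intro a ha hS
    have hu : IsUnit (algebraMap B (FractionRing A ⊗[A] B) (algebraMap A B a)) :=
      IsLocalization.map_units (FractionRing A ⊗[A] B)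
        (⟨algebraMap A B a, Algebra.mem_algebraMapSubmonoid_of_mem ⟨a, hS⟩⟩ :
          Algebra.algebraMapSubmonoid B (nonZeroDivisors A))
    have hmem : algebraMap B (FractionRing A ⊗[A] B) (algebraMap A B a) ∈ P := ha
    exact ‹P.IsPrime›.ne_top (Ideal.eq_top_of_isUnit_mem _ hmem hu)
  obtain ⟨P₀, hP₀, hle⟩ : ∃ P₀ ∈ associatedPrimes A A, q.comap (algebraMap A B) ≤ P₀ :=
    ((q.comap (algebraMap A B)).subset_union_prime_finite (associatedPrimes.finite ..) (f := id) 0 0
      fun _ h _ _ ↦ h.1).1 <|
    biUnion_associatedPrimes_eq_compl_nonZeroDivisors A ▸ hdisj.subset_compl_right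
  have hP₀' : IsAssociatedPrime P₀ A := AssociatedPrimes.mem_iff.1 hP₀
  haveI : P₀.IsPrime := hP₀'.isPrime
  haveI : q.LiesOver (q.comap (algebraMap A B)) := ⟨rfl⟩
  obtain ⟨Q, hqQ, hQprime, hQover⟩ := Ideal.exists_ideal_ge_liesOver_of_le
    (p := q.comap (algebraMap A B)) (q := P₀) q hle
  haveI := hQprime
  have hass : IsAssociatedPrime (Q.comap (algebraMap A B)) A := by
    have := Q.over_def P₀
    rw [Ideal.under_def] at this
    rw [← this]; exact hP₀'
  exact flat_of_le (D := Localization.AtPrime P) q Q hqQ (h4 Q hass)

end Groth.Agent.H2.GoingUpFlat
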