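import Mathlib.RingTheory.MvPowerSeries.Substitution
import Mathlib.RingTheory.MvPowerSeries.Order

/-!
# A formal inverse function theorem for multivariate power series

If `g s = X s + (terms of order ≥ 2)` for all `s`, then substitution `X s ↦ g s` is an
`R`-algebra automorphism of `MvPowerSeries σ R`.
-/

set_option autoImplicit false

namespace Groth.Agent.H2.IFT

open MvPowerSeries Finsupp

variable {σ : Type*} {R : Type*} [CommRing R]

lemma constCoeff_zero_of_two_le {p : MvPowerSeries σ R} (h : (2:ℕ∞) ≤ p.order) :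
    constantCoeff p = 0 :=
  one_le_order_iff_constCoeff_eq_zero.mp (le_trans one_le_two h)

lemma le_order_monomial (d : σ →₀ ℕ) (r : R) :
    ((d.degree : ℕ) : ℕ∞) ≤ (monomial d r).order := by
  refine nat_le_order fun e he => ?_
  rw [coeff_monomial_ne]
  rintro rfl
  exact lt_irrefl _ he

lemma le_order_add {p q : MvPowerSeries σ R} {n : ℕ∞} (hp : n ≤ p.order) (hq : n ≤ q.order) :
    n ≤ (p + q).order :=
  le_trans (le_min hp hq) min_order_le_add

lemma le_order_sub {p q : MvPowerSeries σ R} {n : ℕ∞} (hp : n ≤ p.order) (hq : n ≤ q.order) :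
    n ≤ (p - q).order := by
  rw [sub_eq_add_neg]
  exact le_order_add hp (by rwa [order_neg])

lemma le_order_mul_left {n : ℕ∞} (c : MvPowerSeries σ R) {p : MvPowerSeries σ R}
    (hp : n ≤ p.order) : n ≤ (c * p).order :=
  le_trans hp (le_trans le_add_self le_order_mul)

lemma le_order_mul_right {n : ℕ∞} (c : MvPowerSeries σ R) {p : MvPowerSeries σ R}
    (hp : n ≤ p.order) : n ≤ (p * c).order :=
  le_trans hp (le_trans le_self_add le_order_mul)

lemma two_le_order_mul {p q : MvPowerSeries σ R} (hp : constantCoeff p = 0)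
    (hq : constantCoeff q = 0) : (2:ℕ∞) ≤ (p * q).order := by
  have h1 := one_le_order_iff_constCoeff_eq_zero.mpr hp
  have h2 := one_le_order_iff_constCoeff_eq_zero.mpr hq
  calc (2:ℕ∞) = 1 + 1 := one_add_one_eq_two.symm
    _ ≤ p.order + q.order := add_le_add h1 h2
    _ ≤ _ := le_order_mul

lemma two_le_order_sq {p : MvPowerSeries σ R} (hp : constantCoeff p = 0) :
    (2:ℕ∞) ≤ (p ^ 2).order := by
  rw [pow_two]; exact two_le_order_mul hp hp

lemma coeff_eq_zero_of_le {p : MvPowerSeries σ R} {n : ℕ} (hp : (n:ℕ∞) ≤ p.order)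
    {d : σ →₀ ℕ} (hd : d.degree < n) : coeff d p = 0 :=
  coeff_of_lt_order (lt_of_lt_of_le (by exact_mod_cast hd) hp)

lemma pow_sub_pow_order {a x : MvPowerSeries σ R} (hx : constantCoeff x = 0)
    (h : (2:ℕ∞) ≤ (a - x).order) (k : ℕ) : (k : ℕ∞) + 1 ≤ (a ^ k - x ^ k).order := by
  have ha : (1:ℕ∞) ≤ a.order := by
    have : a = x + (a - x) := by ring
    rw [this]
    exact le_order_add (one_le_order_iff_constCoeff_eq_zero.mpr hx) (le_trans one_le_two h)
  induction k with
  | zero => simp
  | succ k ih =>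
    have e : a ^ (k+1) - x ^ (k+1) = (a^k - x^k) * a + x^k * (a - x) := by ring
    rw [e]
    push_cast
    refine le_order_add ?_ ?_
    · exact le_trans (add_le_add ih ha) le_order_mul
    · have : (k:ℕ∞) + 1 + 1 = k + 2 := by ring
      rw [this]
      exact le_trans (add_le_add (le_order_pow_of_constantCoeff_eq_zero k hx) h) le_order_mul

lemma prod_sub_monomial_order {g : σ → MvPowerSeries σ R}
    (hg : ∀ s, (2:ℕ∞) ≤ (g s - X s).order) (d : σ →₀ ℕ) :
    ((d.degree : ℕ) : ℕ∞) + 1 ≤ (d.prod (fun s k => g s ^ k) - monomial d (1:R)).order := by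
  classical
  refine Finsupp.induction_linear d ?_ ?_ ?_
  · simp [monomial_zero_one]
  · intro d1 d2 h1 h2
    have hz : ∀ s : σ, g s ^ (0:ℕ) = 1 := fun s => pow_zero _
    have hadd : ∀ (s : σ) (b1 b2 : ℕ), g s ^ (b1 + b2) = g s ^ b1 * g s ^ b2 :=
      fun s b1 b2 => pow_add _ _ _
    have hm : monomial (d1 + d2) (1:R) = monomial d1 1 * monomial d2 1 := by
      rw [monomial_mul_monomial, one_mul]
    rw [Finsupp.prod_add_index' hz hadd, hm, map_add]
    set A1 := d1.prod (fun s k => g s ^ k)
    set A2 := d2.prod (fun s k => g s ^ k)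
    set B1 : MvPowerSeries σ R := monomial d1 1
    set B2 : MvPowerSeries σ R := monomial d2 1
    have e : A1 * A2 - B1 * B2 = (A1 - B1) * A2 + B1 * (A2 - B2) := by ring
    have hA2 : ((d2.degree : ℕ) : ℕ∞) ≤ A2.order := by
      have : A2 = B2 + (A2 - B2) := by ring
      rw [this]
      exact le_order_add (le_order_monomial d2 1) (le_trans le_self_add h2)
    rw [e]
    push_cast
    refine le_order_add ?_ ?_
    · have : ((d1.degree : ℕ) : ℕ∞) + (d2.degree : ℕ) + 1 = (d1.degree + 1) + d2.degree := by ring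
      rw [this]
      exact le_trans (add_le_add h1 hA2) le_order_mul
    · rw [add_assoc]
      exact le_trans (add_le_add (le_order_monomial d1 1) h2) le_order_mul
  · intro s k
    rw [Finsupp.prod_single_index (h := fun s k => g s ^ k) (pow_zero _), Finsupp.degree_single,
      ← X_pow_eq]
    exact pow_sub_pow_order (constantCoeff_X s) (hg s) k

lemma coeff_prod_eq {g : σ → MvPowerSeries σ R}
    (hg : ∀ s, (2:ℕ∞) ≤ (g s - X s).order) (d e : σ →₀ ℕ) (h : e.degree ≤ d.degree) :
    coeff e (d.prod (fun s k => g s ^ k)) = coeff e (monomial d (1:R)) := by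
  have := prod_sub_monomial_order hg d
  have h0 : coeff e (d.prod (fun s k => g s ^ k) - monomial d (1:R)) = 0 :=
    coeff_of_lt_order (lt_of_lt_of_le (by exact_mod_cast Nat.lt_succ_of_le h) this)
  rwa [map_sub, sub_eq_zero] at h0

lemma coeff_subst_eq {g : σ → MvPowerSeries σ R}
    (hg : ∀ s, (2:ℕ∞) ≤ (g s - X s).order) (hs : HasSubst g)
    {p : MvPowerSeries σ R} {n : ℕ} (hp : (n:ℕ∞) ≤ p.order)
    {e : σ →₀ ℕ} (he : e.degree ≤ n) : coeff e (subst g p) = coeff e p := by
  rw [coeff_subst hs, finsum_eq_single _ e]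
  · rw [coeff_prod_eq hg e e le_rfl, coeff_monomial_same, smul_eq_mul, mul_one]
  · intro d hd
    by_cases hdn : d.degree < n
    · rw [coeff_eq_zero_of_le hp hdn, zero_smul]
    · rw [coeff_prod_eq hg d e (le_trans he (not_lt.mp hdn)), coeff_monomial_ne (Ne.symm hd),
        smul_zero]

lemma le_order_subst_sub {g : σ → MvPowerSeries σ R}
    (hg : ∀ s, (2:ℕ∞) ≤ (g s - X s).order) (hs : HasSubst g)
    {p : MvPowerSeries σ R} {n : ℕ} (hp : (n:ℕ∞) ≤ p.order) :
    ((n + 1 : ℕ) : ℕ∞) ≤ (subst g p - p).order := by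
  refine nat_le_order fun e he => ?_
  rw [map_sub, coeff_subst_eq hg hs hp (Nat.lt_succ_iff.mp he), sub_self]

lemma subst_injective {g : σ → MvPowerSeries σ R}
    (hg : ∀ s, (2:ℕ∞) ≤ (g s - X s).order) (hs : HasSubst g) :
    Function.Injective (substAlgHom hs : MvPowerSeries σ R →ₐ[R] MvPowerSeries σ R) := by
  rw [injective_iff_map_eq_zero]
  intro p hp
  rw [substAlgHom_apply] at hp
  have key : ∀ n : ℕ, (n:ℕ∞) ≤ p.order := by
    intro n
    induction n with
    | zero => simp
    | succ n ih =>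
      refine nat_le_order fun d hd => ?_
      rw [← coeff_subst_eq hg hs ih (Nat.lt_succ_iff.mp hd), hp, map_zero]
  ext d
  rw [map_zero]
  exact coeff_eq_zero_of_le (key (d.degree + 1)) (Nat.lt_succ_self _)

lemma subst_surjective {g : σ → MvPowerSeries σ R}
    (hg : ∀ s, (2:ℕ∞) ≤ (g s - X s).order) (hs : HasSubst g) :
    Function.Surjective (substAlgHom hs : MvPowerSeries σ R →ₐ[R] MvPowerSeries σ R) := by
  intro q
  let r : ℕ → MvPowerSeries σ R := fun k =>
    Nat.rec (motive := fun _ => MvPowerSeries σ R) q (fun _ x => x - subst g x) k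
  have r0 : r 0 = q := rfl
  have rs : ∀ k, r (k+1) = r k - subst g (r k) := fun k => rfl
  have hr : ∀ k : ℕ, (k:ℕ∞) ≤ (r k).order := by
    intro k
    induction k with
    | zero => simp
    | succ k ih =>
      rw [rs, ← neg_sub, order_neg]
      exact le_order_subst_sub hg hs ih
  let p : MvPowerSeries σ R := fun d => ∑ k ∈ Finset.range (d.degree + 1), coeff d (r k)
  have hpc : ∀ d, coeff d p = ∑ k ∈ Finset.range (d.degree + 1), coeff d (r k) := fun d => rfl
  refine ⟨p, ?_⟩
  rw [substAlgHom_apply]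
  ext e
  obtain ⟨n, hn⟩ : ∃ n, n = e.degree := ⟨_, rfl⟩
  obtain ⟨P, hP⟩ : ∃ P, P = ∑ k ∈ Finset.range (n+1), r k := ⟨_, rfl⟩
  have hz : ((n+1:ℕ):ℕ∞) ≤ (p - P).order := by
    refine nat_le_order fun d hd => ?_
    rw [map_sub, hpc, hP, map_sum, sub_eq_zero]
    refine Finset.sum_subset
      (Finset.range_subset_range.mpr (Nat.succ_le_succ (Nat.lt_succ_iff.mp hd))) ?_
    intro k _ hk'
    rw [Finset.mem_range, not_lt] at hk'
    exact coeff_eq_zero_of_le (hr k) hk'
  have h1 : coeff e (subst g (p - P)) = 0 := by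
    rw [coeff_subst_eq hg hs hz (hn ▸ Nat.le_succ _)]
    exact coeff_eq_zero_of_le hz (hn ▸ Nat.lt_succ_self _)
  have h2 : subst g P = q - r (n+1) := by
    have : ∀ k, subst g (r k) = r k - r (k+1) := fun k => by rw [rs]; ring
    rw [hP, ← substAlgHom_apply hs, map_sum]
    simp only [substAlgHom_apply, this]
    rw [Finset.sum_range_sub', r0]
  have h3 : subst g p = subst g (p - P) + subst g P := by
    rw [← subst_add hs, sub_add_cancel]
  rw [h3, map_add, h1, zero_add, h2, map_sub,
    coeff_eq_zero_of_le (hr (n+1)) (hn ▸ Nat.lt_succ_self _), sub_zero]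

/-- **Formal inverse function theorem.** -/
theorem exists_algEquiv [Finite σ] (g : σ → MvPowerSeries σ R)
    (hg : ∀ s, (2:ℕ∞) ≤ (g s - X s).order) :
    ∃ e : MvPowerSeries σ R ≃ₐ[R] MvPowerSeries σ R,
      (∀ s, e (X s) = g s) ∧ ∀ f, e f = subst g f := by
  have hs : HasSubst g := hasSubst_of_constantCoeff_zero fun s => by
    have : g s = X s + (g s - X s) := by ring
    rw [this, map_add, constantCoeff_X, constCoeff_zero_of_two_le (hg s), add_zero]
  refine ⟨AlgEquiv.ofBijective (substAlgHom hs) ⟨subst_injective hg hs, subst_surjective hg hs⟩,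
    fun s => ?_, fun f => ?_⟩
  · rw [AlgEquiv.ofBijective_apply]
    exact substAlgHom_X hs s
  · rw [AlgEquiv.ofBijective_apply, substAlgHom_apply]

/-- A substitution with an explicit two-sided inverse is an algebra automorphism. -/
theorem exists_algEquiv_of_inverse (a b : σ → MvPowerSeries σ R) (ha : HasSubst a)
    (hb : HasSubst b) (hab : ∀ s, subst b (a s) = X s) (hba : ∀ s, subst a (b s) = X s) :
    ∃ e : MvPowerSeries σ R ≃ₐ[R] MvPowerSeries σ R,
      (∀ s, e (X s) = a s) ∧ ∀ f, e f = subst a f := by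
  have h1 : ∀ f : MvPowerSeries σ R, subst b (subst a f) = f := fun f => by
    rw [subst_comp_subst_apply ha hb, show (fun s => subst b (a s)) = X from funext hab,
      subst_self]
    rfl
  have h2 : ∀ f : MvPowerSeries σ R, subst a (subst b f) = f := fun f => by
    rw [subst_comp_subst_apply hb ha, show (fun s => subst a (b s)) = X from funext hba,
      subst_self]
    rfl
  refine ⟨AlgEquiv.ofBijective (substAlgHom ha) ⟨?_, ?_⟩, fun s => ?_, fun f => ?_⟩
  · intro x y hxy
    rw [substAlgHom_apply, substAlgHom_apply] at hxy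
    rw [← h1 x, hxy, h1]
  · intro y
    exact ⟨subst b y, by rw [substAlgHom_apply, h2]⟩
  · rw [AlgEquiv.ofBijective_apply]
    exact substAlgHom_X ha s
  · rw [AlgEquiv.ofBijective_apply, substAlgHom_apply]

/-- An `R`-algebra hom of power series fixes constants. -/
lemma algEquiv_C (e : MvPowerSeries σ R ≃ₐ[R] MvPowerSeries σ R) (r : R) :
    e (C r) = C r := by
  have := e.commutes r
  simpa [MvPowerSeries.algebraMap_apply] using this

end Groth.Agent.H2.IFT
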