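import Groth.Agent.H2.IFT
import Mathlib.RingTheory.MvPowerSeries.Trunc
import Mathlib.LinearAlgebra.Matrix.NonsingularInverse

/-!
# Inverse function theorem for power series: unit Jacobian determinant
-/

set_option autoImplicit false

namespace Groth.Agent.H2.IFTJac

open MvPowerSeries Finsupp
open Groth.Agent.H2

variable {R : Type*} [CommRing R] {n : ℕ}

lemma le_order_sum {σ ι : Type*} (s : Finset ι) (F : ι → MvPowerSeries σ R) (m : ℕ∞)
    (h : ∀ i ∈ s, m ≤ (F i).order) : m ≤ (∑ i ∈ s, F i).order := by
  classical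
  induction s using Finset.induction_on with
  | empty => simp
  | insert a s ha ih =>
    rw [Finset.sum_insert ha]
    exact IFT.le_order_add (h a (Finset.mem_insert_self _ _))
      (ih fun i hi => h i (Finset.mem_insert_of_mem hi))

/-- first-order decomposition of a power series of positive order -/
lemma exists_decomp (f : MvPowerSeries (Fin n) R) (k : ℕ) (hf : ((k+1 : ℕ) : ℕ∞) ≤ f.order) :
    ∃ F : Fin n → MvPowerSeries (Fin n) R, (∀ i, (k:ℕ∞) ≤ (F i).order) ∧ f = ∑ i, X i * F i := by
  classical
  refine ⟨fun i d => if (∀ j, j < i → d j = 0) then coeff (d + single i 1) f else 0,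
    fun i => ?_, ?_⟩
  · refine nat_le_order fun d hd => ?_
    show (if (∀ j, j < i → d j = 0) then coeff (d + single i 1) f else 0) = 0
    split_ifs
    · refine IFT.coeff_eq_zero_of_le hf ?_
      rw [map_add, degree_single]; omega
    · rfl
  · ext e
    rw [map_sum]
    by_cases he : e = 0
    · subst he
      rw [IFT.coeff_eq_zero_of_le hf (by simp)]
      symm
      refine Finset.sum_eq_zero fun i _ => ?_
      exact coeff_zero_X_mul _ _
    · have hne : e.support.Nonempty := Finsupp.support_nonempty_iff.mpr he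
      obtain ⟨i₀, hi₀⟩ : ∃ i₀, i₀ = e.support.min' hne := ⟨_, rfl⟩
      have hi₀mem : e i₀ ≠ 0 := by
        rw [hi₀]; exact Finsupp.mem_support_iff.mp (Finset.min'_mem _ hne)
      have hmin : ∀ j, e j ≠ 0 → i₀ ≤ j := by
        intro j hj
        rw [hi₀]; exact Finset.min'_le e.support j (Finsupp.mem_support_iff.mpr hj)
      have hlt : ∀ j, j < i₀ → e j = 0 := by
        intro j hj
        by_contra hc
        exact absurd hj (not_lt.mpr (hmin j hc))
      rw [Finset.sum_eq_single i₀]
      · have hle : single i₀ 1 ≤ e := by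
          rw [Finsupp.single_le_iff]; omega
        show coeff e f = coeff e (monomial (single i₀ 1) 1 * _)
        rw [coeff_monomial_mul, if_pos hle, one_mul]
        show coeff e f = if (∀ j, j < i₀ → (e - single i₀ 1 : Fin n →₀ ℕ) j = 0) then
          coeff (e - single i₀ 1 + single i₀ 1) f else 0
        rw [if_pos, tsub_add_cancel_of_le hle]
        intro j hj
        rw [Finsupp.tsub_apply, hlt j hj, zero_tsub]
      · intro i _ hi
        show coeff e (monomial (single i 1) 1 * _) = 0
        rw [coeff_monomial_mul]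
        split_ifs with hle
        · rw [one_mul]
          show (if (∀ j, j < i → (e - single i 1 : Fin n →₀ ℕ) j = 0) then
            coeff (e - single i 1 + single i 1) f else 0) = 0
          rw [if_neg]
          intro hall
          have hei : e i ≠ 0 := by
            rw [Finsupp.single_le_iff] at hle; omega
          have hlt' : i₀ < i := lt_of_le_of_ne (hmin i hei) (Ne.symm hi)
          have := hall i₀ hlt'
          rw [Finsupp.tsub_apply, Finsupp.single_apply, if_neg (ne_of_gt hlt'), tsub_zero] at this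
          exact hi₀mem this
        · rfl
      · intro h; exact absurd (Finset.mem_univ _) h

/-- a ring endomorphism sending the variables into the augmentation ideal preserves the order
filtration -/
lemma le_order_map (φ : MvPowerSeries (Fin n) R →+* MvPowerSeries (Fin n) R)
    (h0 : ∀ i, constantCoeff (φ (X i)) = 0) :
    ∀ (k : ℕ) (f : MvPowerSeries (Fin n) R), (k:ℕ∞) ≤ f.order → (k:ℕ∞) ≤ (φ f).order := by
  intro k
  induction k with
  | zero => intro f _; simp
  | succ k ih =>
    intro f hf
    obtain ⟨F, hF, rfl⟩ := exists_decomp f k hf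
    rw [map_sum]
    refine le_order_sum _ _ _ fun i _ => ?_
    rw [map_mul]
    calc ((k+1:ℕ):ℕ∞) = 1 + k := by push_cast; ring
      _ ≤ (φ (X i)).order + (φ (F i)).order :=
        add_le_add (one_le_order_iff_constCoeff_eq_zero.mpr (h0 i)) (ih _ (hF i))
      _ ≤ _ := le_order_mul

/-- an algebra endomorphism sending the variables into the augmentation ideal is a substitution -/
lemma eq_subst (φ : MvPowerSeries (Fin n) R →ₐ[R] MvPowerSeries (Fin n) R)
    (h0 : ∀ i, constantCoeff (φ (X i)) = 0) (ha : HasSubst (fun i => φ (X i)))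
    (f : MvPowerSeries (Fin n) R) : φ f = subst (fun i => φ (X i)) f := by
  classical
  ext e
  obtain ⟨k, hk⟩ : ∃ k, k = e.degree + 1 := ⟨_, rfl⟩
  obtain ⟨P, hP⟩ : ∃ P : MvPolynomial (Fin n) R, P = truncTotal k f := ⟨_, rfl⟩
  have hrest : (k:ℕ∞) ≤ (f - (P : MvPowerSeries (Fin n) R)).order := by
    refine nat_le_order fun d hd => ?_
    rw [map_sub, MvPolynomial.coeff_coe, hP, coeff_truncTotal _ hd, sub_self]
  have hpoly : φ (P : MvPowerSeries (Fin n) R) = subst (fun i => φ (X i)) (P : MvPowerSeries (Fin n) R) := by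
    rw [← substAlgHom_apply ha, substAlgHom_coe]
    have : (φ.comp (MvPolynomial.coeToMvPowerSeries.algHom (R := R) R)) =
        MvPolynomial.aeval (fun i => φ (X i)) := by
      apply MvPolynomial.algHom_ext
      intro i
      rw [AlgHom.comp_apply, MvPolynomial.aeval_X, MvPolynomial.coeToMvPowerSeries.algHom_apply,
        MvPolynomial.coe_X]
      simp
    have h2 := DFunLike.congr_fun this P
    rw [AlgHom.comp_apply, MvPolynomial.coeToMvPowerSeries.algHom_apply] at h2
    simpa using h2
  have hs0 : ∀ i, constantCoeff ((substAlgHom ha : MvPowerSeries (Fin n) R →ₐ[R] _) (X i)) = 0 := by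
    intro i; rw [substAlgHom_X]; exact h0 i
  have e1 : coeff e (φ (f - P)) = 0 :=
    IFT.coeff_eq_zero_of_le (le_order_map φ.toRingHom h0 k _ hrest) (hk ▸ Nat.lt_succ_self _)
  have e2 : coeff e (subst (fun i => φ (X i)) (f - (P : MvPowerSeries (Fin n) R))) = 0 := by
    rw [← substAlgHom_apply ha]
    exact IFT.coeff_eq_zero_of_le (le_order_map (substAlgHom ha).toRingHom hs0 k _ hrest)
      (hk ▸ Nat.lt_succ_self _)
  have hsplit : f = (f - (P : MvPowerSeries (Fin n) R)) + P := by ring
  rw [hsplit, map_add, subst_add ha, map_add, map_add, e1, e2, hpoly]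

lemma exists_single_of_degree_one {σ : Type*} {d : σ →₀ ℕ} (hd : d.degree = 1) :
    ∃ l, d = single l 1 := by
  classical
  have hne : d ≠ 0 := by
    rintro rfl
    simp at hd
  obtain ⟨l, hl⟩ := Finsupp.support_nonempty_iff.mpr hne
  have hl' : d l ≠ 0 := Finsupp.mem_support_iff.mp hl
  have hsplit := Finsupp.single_add_erase l d
  have hdeg : (single l (d l)).degree + (d.erase l).degree = 1 := by
    rw [← map_add, hsplit, hd]
  rw [degree_single] at hdeg
  have h1 : d l = 1 := by omega
  have h2 : (d.erase l).degree = 0 := by omega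
  have h3 : d.erase l = 0 := (Finsupp.degree_eq_zero_iff _).mp h2
  refine ⟨l, ?_⟩
  rw [← hsplit, h3, add_zero, h1]

/-- **Inverse function theorem**: an algebra endomorphism of a power series ring in finitely many
variables, sending the variables into the augmentation ideal, with invertible Jacobian
determinant at the origin, is bijective. -/
theorem bijective_of_isUnit_det (φ : MvPowerSeries (Fin n) R →ₐ[R] MvPowerSeries (Fin n) R)
    (h0 : ∀ i, constantCoeff (φ (X i)) = 0)
    (hJ : IsUnit (Matrix.det (Matrix.of fun i j : Fin n => coeff (single j 1) (φ (X i))))) :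
    Function.Bijective φ := by
  classical
  obtain ⟨a, haDef⟩ : ∃ a : Fin n → MvPowerSeries (Fin n) R, a = fun i => φ (X i) := ⟨_, rfl⟩
  have ha0 : ∀ i, constantCoeff (a i) = 0 := fun i => by rw [haDef]; exact h0 i
  have ha : HasSubst a := hasSubst_of_constantCoeff_zero ha0
  have hφ : ∀ f, φ f = subst a f := by
    intro f; rw [haDef]; exact eq_subst φ h0 (haDef ▸ ha) f
  obtain ⟨J, hJdef⟩ : ∃ J : Matrix (Fin n) (Fin n) R,
      J = Matrix.of fun i j => coeff (single j 1) (φ (X i)) := ⟨_, rfl⟩
  rw [← hJdef] at hJ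
  have hJK : J * J⁻¹ = 1 := Matrix.mul_nonsing_inv J hJ
  have hKJ : J⁻¹ * J = 1 := Matrix.nonsing_inv_mul J hJ
  obtain ⟨K, hK⟩ : ∃ K : Matrix (Fin n) (Fin n) R, K = J⁻¹ := ⟨_, rfl⟩
  rw [← hK] at hJK hKJ
  obtain ⟨lin, hlin⟩ : ∃ lin : Matrix (Fin n) (Fin n) R → Fin n → MvPowerSeries (Fin n) R,
      lin = fun M i => ∑ j, C (M i j) * X j := ⟨_, rfl⟩
  have hlin0 : ∀ M i, constantCoeff (lin M i) = 0 := by
    intro M i; rw [hlin]; simp
  have hslin : ∀ M, HasSubst (lin M) := fun M => hasSubst_of_constantCoeff_zero (hlin0 M)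
  have hsubst_lin : ∀ (b : Fin n → MvPowerSeries (Fin n) R) (_ : HasSubst b) M i,
      subst b (lin M i) = ∑ j, C (M i j) * b j := by
    intro b hb M i
    rw [hlin]
    show subst b (∑ j, C (M i j) * X j) = _
    rw [← substAlgHom_apply hb, map_sum]
    refine Finset.sum_congr rfl fun j _ => ?_
    rw [map_mul, substAlgHom_X, substAlgHom_apply, subst_C]
  have hcomp : ∀ M N : Matrix (Fin n) (Fin n) R, M * N = 1 →
      ∀ i, subst (lin N) (lin M i) = X i := by
    intro M N hMN i
    rw [hsubst_lin _ (hslin N)]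
    have hN : ∀ j, lin N j = ∑ l, C (N j l) * X l := by intro j; rw [hlin]
    simp_rw [hN, Finset.mul_sum]
    rw [Finset.sum_comm]
    have : ∀ l, ∑ j, C (M i j) * (C (N j l) * X l) = C ((M * N) i l) * (X l : MvPowerSeries (Fin n) R) := by
      intro l
      rw [Matrix.mul_apply, map_sum, Finset.sum_mul]
      refine Finset.sum_congr rfl fun j _ => ?_
      rw [map_mul, mul_assoc]
    simp_rw [this, hMN, Matrix.one_apply]
    rw [Finset.sum_eq_single i]
    · simp
    · intro l _ hl; rw [if_neg (Ne.symm hl), map_zero, zero_mul]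
    · intro h; exact absurd (Finset.mem_univ _) h
  obtain ⟨ΛK, -, hΛK⟩ := IFT.exists_algEquiv_of_inverse (lin K) (lin J) (hslin K) (hslin J)
    (hcomp K J hKJ) (hcomp J K hJK)
  have hg' : ∀ i, ((2:ℕ):ℕ∞) ≤ (subst a (lin K i) - X i).order := by
    intro i
    rw [hsubst_lin a ha]
    refine nat_le_order fun d hd => ?_
    rw [map_sub, map_sum]
    have hd' : d.degree = 0 ∨ d.degree = 1 := by omega
    rcases hd' with hd0 | hd1
    · have : d = 0 := (Finsupp.degree_eq_zero_iff d).mp hd0
      subst this
      rw [coeff_zero_X, sub_zero]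
      refine Finset.sum_eq_zero fun j _ => ?_
      rw [coeff_zero_eq_constantCoeff_apply, map_mul, ha0 j, mul_zero]
    · obtain ⟨l, rfl⟩ : ∃ l, d = single l 1 := exists_single_of_degree_one hd1
      have : ∀ j, coeff (single l 1) (C (K i j) * a j) = K i j * J j l := by
        intro j
        rw [coeff_C_mul, hJdef, haDef]; rfl
      simp_rw [this]
      rw [← Matrix.mul_apply, hKJ, Matrix.one_apply, coeff_index_single_X]
      by_cases h : i = l
      · subst h; simp
      · rw [if_neg h, if_neg (Ne.symm h), sub_self]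
  have hg : ∀ i, (2:ℕ∞) ≤ (subst a (lin K i) - X i).order := fun i => by
    exact_mod_cast hg' i
  obtain ⟨Ψ, -, hΨ⟩ := IFT.exists_algEquiv (fun i => subst a (lin K i)) hg
  have hcompose : ∀ f, φ (ΛK f) = Ψ f := by
    intro f
    rw [hφ, hΛK, hΨ, subst_comp_subst_apply (hslin K) ha]
  have hfun : (φ : MvPowerSeries (Fin n) R → MvPowerSeries (Fin n) R) = Ψ ∘ ΛK.symm := by
    funext x
    rw [Function.comp_apply, ← hcompose, AlgEquiv.apply_symm_apply]
  rw [hfun]
  exact Ψ.bijective.comp ΛK.symm.bijective

end Groth.Agent.H2.IFTJac
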