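import Mathlib

set_option autoImplicit false
universe u
open TensorProduct

namespace Groth.Agent.H2

theorem isIntegral_codescends :
    RingHom.CodescendsAlong (fun {R S : Type u} [CommRing R] [CommRing S] (f : R →+* S) => f.IsIntegral)
      RingHom.FaithfullyFlat := by
  refine RingHom.CodescendsAlong.mk _ RingHom.isIntegral_respectsIso fun R S T _ _ _ _ _ h h' => ?_
  rw [RingHom.faithfullyFlat_algebraMap_iff] at h
  have hint : Algebra.IsIntegral S (S ⊗[R] T) := ⟨h'⟩
  intro t
  let T' : Subalgebra R T := Algebra.adjoin R {t}
  have hfg : T'.FG := by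
    have := Subalgebra.fg_adjoin_finset (R := R) ({t} : Finset T)
    simpa using this
  have hft : Algebra.FiniteType R T' := (Subalgebra.fg_iff_finiteType T').mp hfg
  let ι : S ⊗[R] T' →ₐ[S] S ⊗[R] T := Algebra.TensorProduct.map (AlgHom.id S S) T'.val
  have hι : Function.Injective ι := by
    have : Function.Injective (LinearMap.lTensor S T'.val.toLinearMap) :=
      Module.Flat.lTensor_preserves_injective_linearMap _ Subtype.val_injective
    intro x y hxy
    apply this
    exact hxy
  have hint' : Algebra.IsIntegral S (S ⊗[R] T') := Algebra.IsIntegral.of_injective ι hι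
  have hfin : Module.Finite S (S ⊗[R] T') := Algebra.IsIntegral.finite
  have hfin' : Module.Finite R T' := Module.Finite.of_finite_tensorProduct_of_faithfullyFlat S
  have h1 : IsIntegral R (⟨t, Algebra.subset_adjoin rfl⟩ : T') := IsIntegral.of_finite R _
  exact h1.map T'.val
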