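import Mathlib
import Groth.Prelude.Def_Isoc

set_option autoImplicit false
set_option linter.unusedSectionVars false
open scoped Pointwise
open Filter Topology

universe u v

namespace Groth.Agent.H2.Isoc1

variable {p : ℕ} [Fact p.Prime] {k : Type u} [Field k] [CharP k p] [PerfectRing k p]

local notation "𝕎" => WittVector p k
local notation "𝕃" => FractionRing (WittVector p k)

/-! ### Scalars -/

theorem pL_ne_zero : (p : 𝕃) ≠ 0 :=
  WittVector.FractionRing.p_nonzero p k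

theorem algebraMap_injective : Function.Injective (algebraMap 𝕎 𝕃) :=
  IsFractionRing.injective _ _

theorem algebraMap_unit_inv (u : 𝕎ˣ) :
    algebraMap 𝕎 𝕃 ((u⁻¹ : 𝕎ˣ) : 𝕎) = (algebraMap 𝕎 𝕃 (u : 𝕎))⁻¹ := by
  apply eq_inv_of_mul_eq_one_left
  rw [← map_mul, ← Units.val_mul, inv_mul_cancel, Units.val_one, map_one]

/-- good twists: ring endomorphisms of `L` inducing an automorphism of `W`. -/
def Tw (τ : 𝕃 →+* 𝕃) : Prop :=
  ∃ e : 𝕎 ≃+* 𝕎, ∀ w : 𝕎, τ (algebraMap 𝕎 𝕃 w) = algebraMap 𝕎 𝕃 (e w)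

theorem tw_frob (a : ℤ) : Tw (Isoc.frob p k a) :=
  ⟨WittVector.frobeniusEquiv p k ^ a, Isoc.frob_algebraMap p k a⟩

theorem Tw.pow {τ : 𝕃 →+* 𝕃} (h : Tw τ) (n : ℕ) : Tw (τ ^ n) := by
  induction n with
  | zero => exact ⟨RingEquiv.refl _, fun w => by rw [pow_zero]; rfl⟩
  | succ n ih =>
    obtain ⟨e, he⟩ := h
    obtain ⟨e', he'⟩ := ih
    refine ⟨e.trans e', fun w => ?_⟩
    rw [pow_succ, RingHom.mul_def, RingHom.comp_apply, he, he']
    rfl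

theorem map_p_zpow (τ : 𝕃 →+* 𝕃) (r : ℤ) : τ ((p : 𝕃) ^ r) = (p : 𝕃) ^ r := by
  rw [map_zpow₀, map_natCast]

theorem isOrdP_zpow (r : ℤ) : Isoc.IsOrdP ((p : 𝕃) ^ r) r :=
  ⟨1, by rw [Units.val_one, map_one, mul_one]⟩

theorem isOrdP_ne_zero {c : 𝕃} {r : ℤ} (h : Isoc.IsOrdP c r) : c ≠ 0 := by
  obtain ⟨u, rfl⟩ := h
  exact mul_ne_zero (zpow_ne_zero _ pL_ne_zero)
    ((map_ne_zero_iff _ algebraMap_injective).2 u.ne_zero)

theorem isOrdP_mul {c c' : 𝕃} {r r' : ℤ} (h : Isoc.IsOrdP c r) (h' : Isoc.IsOrdP c' r') :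
    Isoc.IsOrdP (c * c') (r + r') := by
  obtain ⟨u, rfl⟩ := h
  obtain ⟨u', rfl⟩ := h'
  refine ⟨u * u', ?_⟩
  rw [Units.val_mul, map_mul, zpow_add₀ pL_ne_zero]
  ring

theorem isOrdP_inv {c : 𝕃} {r : ℤ} (h : Isoc.IsOrdP c r) : Isoc.IsOrdP c⁻¹ (-r) := by
  obtain ⟨u, rfl⟩ := h
  refine ⟨u⁻¹, ?_⟩
  rw [mul_inv, zpow_neg, algebraMap_unit_inv]

theorem isOrdP_tw {τ : 𝕃 →+* 𝕃} (hτ : Tw τ) {c : 𝕃} {r : ℤ} (h : Isoc.IsOrdP c r) :
    Isoc.IsOrdP (τ c) r := by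
  obtain ⟨e, he⟩ := hτ
  obtain ⟨u, rfl⟩ := h
  refine ⟨Units.map (e.toRingHom.toMonoidHom) u, ?_⟩
  rw [map_mul, map_p_zpow, he]
  rfl

theorem isOrdP_algebraMap (w : 𝕎) (hw : w ≠ 0) :
    ∃ m : ℕ, Isoc.IsOrdP (algebraMap 𝕎 𝕃 w) m := by
  obtain ⟨m, u, hu⟩ := WittVector.exists_eq_pow_p_mul' w hw
  exact ⟨m, u, by rw [hu, map_mul, map_pow, map_natCast, zpow_natCast]⟩

theorem isOrdP_unique {c : 𝕃} {r r' : ℤ} (h : Isoc.IsOrdP c r) (h' : Isoc.IsOrdP c r') :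
    r = r' := by
  have key : ∀ {c : 𝕃} {r r' : ℤ}, Isoc.IsOrdP c r → Isoc.IsOrdP c r' → r ≤ r' → r = r' := by
    intro c r r' h h' hle
    obtain ⟨u, hu⟩ := h
    obtain ⟨u', hu'⟩ := h'
    obtain ⟨n, hn⟩ := Int.eq_ofNat_of_zero_le (sub_nonneg.2 hle)
    have hr' : r' = r + n := by omega
    rw [hu, hr', zpow_add₀ pL_ne_zero, zpow_natCast, mul_assoc] at hu'
    have h2 := mul_left_cancel₀ (zpow_ne_zero r pL_ne_zero) hu'
    rw [← map_natCast (algebraMap 𝕎 𝕃), ← map_pow, ← map_mul] at h2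
    have h3 := algebraMap_injective h2
    have h4 : IsUnit ((p : 𝕎) ^ n) := by
      have : IsUnit ((p : 𝕎) ^ n * (u' : 𝕎)) := h3 ▸ u.isUnit
      exact isUnit_of_mul_isUnit_left this
    by_cases hn0 : n = 0
    · subst hn0; omega
    · exact absurd ((isUnit_pow_iff hn0).1 h4) (WittVector.irreducible p).not_isUnit
  rcases le_total r r' with hle | hle
  · exact key h h' hle
  · exact (key h' h hle).symm

theorem exists_isOrdP (c : 𝕃) (hc : c ≠ 0) : ∃ r : ℤ, Isoc.IsOrdP c r := by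
  obtain ⟨a, b, hb, rfl⟩ := IsFractionRing.div_surjective (A := 𝕎) c
  have hb0 : b ≠ 0 := nonZeroDivisors.ne_zero hb
  have ha0 : a ≠ 0 := by
    rintro rfl
    simp at hc
  obtain ⟨m, hm⟩ := isOrdP_algebraMap a ha0
  obtain ⟨n, hn⟩ := isOrdP_algebraMap b hb0
  exact ⟨m + -n, by rw [div_eq_mul_inv]; exact isOrdP_mul hm (isOrdP_inv hn)⟩

theorem isOrdP_exists_algebraMap {c : 𝕃} {r : ℤ} (h : Isoc.IsOrdP c r) (hr : 0 ≤ r) :
    ∃ w : 𝕎, c = algebraMap 𝕎 𝕃 w := by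
  obtain ⟨u, rfl⟩ := h
  lift r to ℕ using hr
  exact ⟨(p : 𝕎) ^ r * u, by rw [map_mul, map_pow, map_natCast, zpow_natCast]⟩

theorem isOrdP_nonneg_of_algebraMap {w : 𝕎} {r : ℤ}
    (h : Isoc.IsOrdP (algebraMap 𝕎 𝕃 w) r) : 0 ≤ r := by
  have hw : w ≠ 0 := by
    rintro rfl
    exact isOrdP_ne_zero h (map_zero _)
  obtain ⟨m, hm⟩ := isOrdP_algebraMap w hw
  rw [isOrdP_unique h hm]
  exact Int.natCast_nonneg m

theorem isUnit_of_isOrdP_zero {w : 𝕎} (h : Isoc.IsOrdP (algebraMap 𝕎 𝕃 w) 0) : IsUnit w := by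
  obtain ⟨u, hu⟩ := h
  rw [zpow_zero, one_mul] at hu
  rw [algebraMap_injective hu]
  exact u.isUnit

theorem exists_pow_mul_eq_algebraMap (l : 𝕃) :
    ∃ (n : ℕ) (w : 𝕎), (p : 𝕃) ^ n * l = algebraMap 𝕎 𝕃 w := by
  by_cases hl : l = 0
  · exact ⟨0, 0, by rw [hl, mul_zero, map_zero]⟩
  · obtain ⟨r, hr⟩ := exists_isOrdP l hl
    have h1 : Isoc.IsOrdP ((p : 𝕃) ^ ((-r).toNat) * l) (((-r).toNat : ℤ) + r) := by
      have := isOrdP_mul (isOrdP_zpow (p := p) (k := k) ((-r).toNat : ℤ)) hr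
      rwa [zpow_natCast] at this
    obtain ⟨w, hw⟩ := isOrdP_exists_algebraMap h1 (by omega)
    exact ⟨_, w, hw⟩

theorem nonunit_eq_p_mul (w : 𝕎) (h : ¬ IsUnit w) : ∃ b : 𝕎, w = (p : 𝕎) * b := by
  by_cases hw : w = 0
  · exact ⟨0, by rw [hw, mul_zero]⟩
  · obtain ⟨m, u, hu⟩ := WittVector.exists_eq_pow_p_mul' w hw
    cases m with
    | zero =>
      exfalso; apply h; rw [hu, pow_zero, one_mul]; exact u.isUnit
    | succ m => exact ⟨(p : 𝕎) ^ m * u, by rw [hu, pow_succ', mul_assoc]⟩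

theorem exists_primitive {ι : Type*} [Fintype ι] (g : ι → 𝕃) (hg : ∃ i, g i ≠ 0) :
    ∃ (c : 𝕃) (w : ι → 𝕎), c ≠ 0 ∧ (∀ i, c * g i = algebraMap 𝕎 𝕃 (w i)) ∧
      ∃ i, IsUnit (w i) := by
  classical
  have hex : ∀ i, ∃ r : ℤ, g i ≠ 0 → Isoc.IsOrdP (g i) r := by
    intro i
    by_cases hi : g i = 0
    · exact ⟨0, fun h => absurd hi h⟩
    · obtain ⟨r, hr⟩ := exists_isOrdP (g i) hi
      exact ⟨r, fun _ => hr⟩
  choose o ho using hex
  obtain ⟨i₁, hi₁⟩ := hg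
  have hne : (Finset.univ.filter fun i => g i ≠ 0).Nonempty := ⟨i₁, by simp [hi₁]⟩
  obtain ⟨i₀, hi₀, hmin⟩ := Finset.exists_min_image _ o hne
  have hi₀' : g i₀ ≠ 0 := (Finset.mem_filter.1 hi₀).2
  have hall : ∀ i, ∃ w : 𝕎, (g i₀)⁻¹ * g i = algebraMap 𝕎 𝕃 w := by
    intro i
    by_cases hi : g i = 0
    · exact ⟨0, by rw [hi, mul_zero, map_zero]⟩
    · have h1 := isOrdP_mul (isOrdP_inv (ho i₀ hi₀')) (ho i hi)
      have h2 : o i₀ ≤ o i := hmin i (Finset.mem_filter.2 ⟨Finset.mem_univ _, hi⟩)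
      exact isOrdP_exists_algebraMap h1 (by omega)
  choose w hw using hall
  refine ⟨(g i₀)⁻¹, w, inv_ne_zero hi₀', hw, i₀, ?_⟩
  have h1 : algebraMap 𝕎 𝕃 (w i₀) = algebraMap 𝕎 𝕃 1 := by
    rw [← hw i₀, inv_mul_cancel₀ hi₀', map_one]
  rw [algebraMap_injective h1]
  exact isUnit_one

/-! ### Modules -/

variable {N : Type v} [AddCommGroup N] [Module (WittVector p k) N]
  [Module (FractionRing (WittVector p k)) N]
  [IsScalarTower (WittVector p k) (FractionRing (WittVector p k)) N]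

theorem pnat_smul (n : ℕ) (x : N) : ((p : 𝕃) ^ n) • x = ((p : 𝕎) ^ n) • x := by
  rw [← algebraMap_smul 𝕃 ((p : 𝕎) ^ n) x, map_pow, map_natCast]

theorem mem_pPow {r : ℤ} {M : Submodule 𝕎 N} {x : N} :
    x ∈ Isoc.pPow r M ↔ ((p : 𝕃) ^ (-r)) • x ∈ M := by
  unfold Isoc.pPow
  rw [Submodule.mem_smul_pointwise_iff_exists]
  constructor
  · rintro ⟨m, hm, rfl⟩
    rwa [smul_smul, ← zpow_add₀ pL_ne_zero, neg_add_cancel, zpow_zero, one_smul]
  · intro h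
    exact ⟨_, h, by rw [smul_smul, ← zpow_add₀ pL_ne_zero, add_neg_cancel, zpow_zero, one_smul]⟩

theorem smul_mem_pPow {r : ℤ} {M : Submodule 𝕎 N} {x : N} (hx : x ∈ M) :
    ((p : 𝕃) ^ r) • x ∈ Isoc.pPow r M := by
  rw [mem_pPow, smul_smul, ← zpow_add₀ pL_ne_zero, neg_add_cancel, zpow_zero, one_smul]
  exact hx

theorem pPow_zero (M : Submodule 𝕎 N) : Isoc.pPow 0 M = M := by
  ext x
  rw [mem_pPow, neg_zero, zpow_zero, one_smul]

theorem pPow_pPow (r s : ℤ) (M : Submodule 𝕎 N) :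
    Isoc.pPow r (Isoc.pPow s M) = Isoc.pPow (r + s) M := by
  ext x
  rw [mem_pPow, mem_pPow, mem_pPow, smul_smul, ← zpow_add₀ pL_ne_zero,
    show -s + -r = -(r + s) by ring]

theorem pPow_mono (r : ℤ) {M M' : Submodule 𝕎 N} (h : M ≤ M') :
    Isoc.pPow r M ≤ Isoc.pPow r M' := by
  intro x hx
  rw [mem_pPow] at hx ⊢
  exact h hx

theorem pPow_cancel (r : ℤ) {M M' : Submodule 𝕎 N} (h : Isoc.pPow r M ≤ Isoc.pPow r M') :
    M ≤ M' := by
  have := pPow_mono (-r) h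
  rwa [pPow_pPow, pPow_pPow, neg_add_cancel, pPow_zero, pPow_zero] at this

theorem pPow_anti (M : Submodule 𝕎 N) {r r' : ℤ} (h : r ≤ r') :
    Isoc.pPow r' M ≤ Isoc.pPow r M := by
  intro x hx
  rw [mem_pPow] at hx ⊢
  obtain ⟨n, hn⟩ := Int.eq_ofNat_of_zero_le (sub_nonneg.2 h)
  have : ((p : 𝕃) ^ (-r)) • x = ((p : 𝕎) ^ n) • (((p : 𝕃) ^ (-r')) • x) := by
    rw [← pnat_smul, smul_smul, ← zpow_natCast, ← hn, ← zpow_add₀ pL_ne_zero,
      show r' - r + -r' = -r by ring]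
  rw [this]
  exact M.smul_mem _ hx

theorem pPow_bot (r : ℤ) : Isoc.pPow r (⊥ : Submodule 𝕎 N) = ⊥ := by
  ext x
  rw [mem_pPow, Submodule.mem_bot, Submodule.mem_bot, smul_eq_zero]
  constructor
  · rintro (h | h)
    · exact absurd h (zpow_ne_zero _ pL_ne_zero)
    · exact h
  · intro h; exact Or.inr h

variable {τ : FractionRing (WittVector p k) →+* FractionRing (WittVector p k)}

theorem latImg_le_iff (F : N →ₛₗ[τ] N) (s : ℕ) (M M' : Submodule 𝕎 N) :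
    Isoc.latImg F s M ≤ M' ↔ ∀ m ∈ M, (⇑F)^[s] m ∈ M' := by
  unfold Isoc.latImg
  rw [Submodule.span_le]
  constructor
  · intro h m hm; exact h ⟨m, hm, rfl⟩
  · rintro h _ ⟨m, hm, rfl⟩; exact h m hm

theorem iter_mem_latImg (F : N →ₛₗ[τ] N) (s : ℕ) {M : Submodule 𝕎 N} {m : N} (hm : m ∈ M) :
    (⇑F)^[s] m ∈ Isoc.latImg F s M :=
  Submodule.subset_span ⟨m, hm, rfl⟩

theorem latImg_mono (F : N →ₛₗ[τ] N) (s : ℕ) {M M' : Submodule 𝕎 N} (h : M ≤ M') :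
    Isoc.latImg F s M ≤ Isoc.latImg F s M' :=
  Submodule.span_mono (Set.image_mono h)

theorem latImg_zero (F : N →ₛₗ[τ] N) (M : Submodule 𝕎 N) : Isoc.latImg F 0 M = M := by
  unfold Isoc.latImg
  rw [Function.iterate_zero, Set.image_id, Submodule.span_eq]

theorem iter_add (F : N →ₛₗ[τ] N) (s : ℕ) (x y : N) :
    (⇑F)^[s] (x + y) = (⇑F)^[s] x + (⇑F)^[s] y := (Isoc.iter F s).map_add x y

theorem iter_zero' (F : N →ₛₗ[τ] N) (s : ℕ) : (⇑F)^[s] (0 : N) = 0 := (Isoc.iter F s).map_zero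

theorem iter_neg (F : N →ₛₗ[τ] N) (s : ℕ) (x : N) :
    (⇑F)^[s] (-x) = -(⇑F)^[s] x := (Isoc.iter F s).map_neg x

theorem iter_smul (F : N →ₛₗ[τ] N) (s : ℕ) (c : 𝕃) (x : N) :
    (⇑F)^[s] (c • x) = (τ ^ s) c • (⇑F)^[s] x := (Isoc.iter F s).map_smulₛₗ c x

theorem iter_p_smul (F : N →ₛₗ[τ] N) (s : ℕ) (r : ℤ) (x : N) :
    (⇑F)^[s] (((p : 𝕃) ^ r) • x) = ((p : 𝕃) ^ r) • (⇑F)^[s] x := by
  rw [iter_smul, map_p_zpow]

theorem iter_W_smul (hτ : Tw τ) (F : N →ₛₗ[τ] N) (s : ℕ) :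
    ∃ e : 𝕎 ≃+* 𝕎, ∀ (w : 𝕎) (x : N), (⇑F)^[s] (w • x) = e w • (⇑F)^[s] x := by
  obtain ⟨e, he⟩ := hτ.pow s
  refine ⟨e, fun w x => ?_⟩
  rw [← algebraMap_smul 𝕃 w x, iter_smul, he, algebraMap_smul]

theorem mem_latImg (hτ : Tw τ) (F : N →ₛₗ[τ] N) (s : ℕ) (M : Submodule 𝕎 N) (y : N) :
    y ∈ Isoc.latImg F s M ↔ ∃ m ∈ M, (⇑F)^[s] m = y := by
  obtain ⟨e, he⟩ := iter_W_smul hτ F s
  constructor
  · intro hy
    unfold Isoc.latImg at hy
    induction hy using Submodule.span_induction with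
    | mem y hy => exact hy
    | zero => exact ⟨0, M.zero_mem, iter_zero' F s⟩
    | add y z _ _ hy hz =>
      obtain ⟨m, hm, rfl⟩ := hy
      obtain ⟨m', hm', rfl⟩ := hz
      exact ⟨m + m', M.add_mem hm hm', iter_add F s m m'⟩
    | smul w y _ hy =>
      obtain ⟨m, hm, rfl⟩ := hy
      refine ⟨e.symm w • m, M.smul_mem _ hm, ?_⟩
      rw [he, RingEquiv.apply_symm_apply]
  · rintro ⟨m, hm, rfl⟩
    exact iter_mem_latImg F s hm

theorem latImg_pPow (hτ : Tw τ) (F : N →ₛₗ[τ] N) (s : ℕ) (r : ℤ) (M : Submodule 𝕎 N) :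
    Isoc.latImg F s (Isoc.pPow r M) = Isoc.pPow r (Isoc.latImg F s M) := by
  ext y
  rw [mem_latImg hτ, mem_pPow, mem_latImg hτ]
  constructor
  · rintro ⟨m, hm, rfl⟩
    rw [mem_pPow] at hm
    exact ⟨_, hm, iter_p_smul F s _ m⟩
  · rintro ⟨m, hm, hy⟩
    refine ⟨((p : 𝕃) ^ r) • m, smul_mem_pPow hm, ?_⟩
    rw [iter_p_smul, hy, smul_smul, ← zpow_add₀ pL_ne_zero, add_neg_cancel, zpow_zero, one_smul]

theorem latImg_latImg (hτ : Tw τ) (F : N →ₛₗ[τ] N) (s t : ℕ) (M : Submodule 𝕎 N) :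
    Isoc.latImg F s (Isoc.latImg F t M) = Isoc.latImg F (s + t) M := by
  ext y
  rw [mem_latImg hτ, mem_latImg hτ]
  constructor
  · rintro ⟨m', hm', rfl⟩
    obtain ⟨m, hm, rfl⟩ := (mem_latImg hτ F t M m').1 hm'
    exact ⟨m, hm, Function.iterate_add_apply _ s t m⟩
  · rintro ⟨m, hm, rfl⟩
    exact ⟨_, iter_mem_latImg F t hm, (Function.iterate_add_apply _ s t m).symm⟩

theorem latImg_bot (F : N →ₛₗ[τ] N) (s : ℕ) : Isoc.latImg F s (⊥ : Submodule 𝕎 N) = ⊥ := by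
  rw [eq_bot_iff, latImg_le_iff]
  intro m hm
  rw [Submodule.mem_bot] at hm ⊢
  rw [hm, iter_zero']

/-! ### Commensurability and Nakayama -/

theorem exists_pow_smul_mem (M : Submodule 𝕎 N) (hspan : Submodule.span 𝕃 (M : Set N) = ⊤)
    (x : N) : ∃ c : ℕ, ((p : 𝕎) ^ c) • x ∈ M := by
  have hx : x ∈ Submodule.span 𝕃 (M : Set N) := by rw [hspan]; trivial
  induction hx using Submodule.span_induction with
  | mem x hx => exact ⟨0, by rw [pow_zero, one_smul]; exact hx⟩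
  | zero => exact ⟨0, by rw [smul_zero]; exact M.zero_mem⟩
  | add x y _ _ hx hy =>
    obtain ⟨c, hc⟩ := hx
    obtain ⟨c', hc'⟩ := hy
    refine ⟨c + c', ?_⟩
    have h1 : ((p : 𝕎) ^ (c + c')) • x = ((p : 𝕎) ^ c') • (((p : 𝕎) ^ c) • x) := by
      rw [smul_smul, ← pow_add, add_comm]
    have h2 : ((p : 𝕎) ^ (c + c')) • y = ((p : 𝕎) ^ c) • (((p : 𝕎) ^ c') • y) := by
      rw [smul_smul, ← pow_add]
    rw [smul_add, h1, h2]
    exact M.add_mem (M.smul_mem _ hc) (M.smul_mem _ hc')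
  | smul l x _ hx =>
    obtain ⟨c, hc⟩ := hx
    obtain ⟨n, w, hw⟩ := exists_pow_mul_eq_algebraMap (p := p) (k := k) l
    refine ⟨n + c, ?_⟩
    have : ((p : 𝕎) ^ (n + c)) • (l • x) = w • (((p : 𝕎) ^ c) • x) := by
      rw [← algebraMap_smul 𝕃 ((p : 𝕎) ^ (n + c)) (l • x), ← algebraMap_smul 𝕃 w,
        ← algebraMap_smul 𝕃 ((p : 𝕎) ^ c) x, ← hw, smul_smul, smul_smul, map_pow, map_pow,
        map_natCast, pow_add]
      congr 1
      ring
    rw [this]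
    exact M.smul_mem _ hc

theorem exists_pow_smul_mem_of_fg (M₁ M₂ : Submodule 𝕎 N) (h₁ : M₁.FG)
    (h₂ : Submodule.span 𝕃 (M₂ : Set N) = ⊤) :
    ∃ c : ℕ, ∀ x ∈ M₁, ((p : 𝕎) ^ c) • x ∈ M₂ := by
  induction M₁, h₁ using Submodule.fg_induction with
  | singleton x =>
    obtain ⟨c, hc⟩ := exists_pow_smul_mem M₂ h₂ x
    refine ⟨c, fun y hy => ?_⟩
    obtain ⟨w, rfl⟩ := Submodule.mem_span_singleton.1 hy
    rw [smul_comm]
    exact M₂.smul_mem _ hc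
  | sup A B _ _ hA hB =>
    obtain ⟨c, hc⟩ := hA
    obtain ⟨c', hc'⟩ := hB
    refine ⟨c + c', fun z hz => ?_⟩
    obtain ⟨x, hx, y, hy, rfl⟩ := Submodule.mem_sup.1 hz
    have h1 : ((p : 𝕎) ^ (c + c')) • x = ((p : 𝕎) ^ c') • (((p : 𝕎) ^ c) • x) := by
      rw [smul_smul, ← pow_add, add_comm]
    have h2 : ((p : 𝕎) ^ (c + c')) • y = ((p : 𝕎) ^ c) • (((p : 𝕎) ^ c') • y) := by
      rw [smul_smul, ← pow_add]
    rw [smul_add, h1, h2]
    exact M₂.add_mem (M₂.smul_mem _ (hc x hx)) (M₂.smul_mem _ (hc' y hy))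

theorem exists_le_pPow (M₁ M₂ : Submodule 𝕎 N) (h₁ : M₁.FG)
    (h₂ : Submodule.span 𝕃 (M₂ : Set N) = ⊤) :
    ∃ c : ℕ, M₁ ≤ Isoc.pPow (-(c : ℤ)) M₂ := by
  obtain ⟨c, hc⟩ := exists_pow_smul_mem_of_fg M₁ M₂ h₁ h₂
  refine ⟨c, fun x hx => ?_⟩
  rw [mem_pPow, neg_neg, zpow_natCast, pnat_smul]
  exact hc x hx

theorem eq_bot_of_le_pPow_one (M : Submodule 𝕎 N) (hfg : M.FG) (h : M ≤ Isoc.pPow 1 M) :
    M = ⊥ := by
  apply Submodule.eq_bot_of_le_smul_of_le_jacobson_bot (Ideal.span {(p : 𝕎)}) M hfg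
  · intro x hx
    have h1 := h hx
    rw [mem_pPow] at h1
    have hx' : x = (p : 𝕎) • (((p : 𝕃) ^ (-1 : ℤ)) • x) := by
      rw [← algebraMap_smul 𝕃 (p : 𝕎), map_natCast, smul_smul, zpow_neg_one,
        mul_inv_cancel₀ pL_ne_zero, one_smul]
    rw [hx']
    exact Submodule.smul_mem_smul (Ideal.mem_span_singleton_self _) h1
  · rw [IsLocalRing.jacobson_eq_maximalIdeal ⊥ bot_ne_top, Ideal.span_singleton_le_iff_mem,
      IsLocalRing.mem_maximalIdeal, mem_nonunits_iff]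
    exact (WittVector.irreducible p).not_isUnit

theorem le_zero_of_le_pPow (M : Submodule 𝕎 N) (hfg : M.FG) (hne : M ≠ ⊥) {j : ℤ}
    (h : M ≤ Isoc.pPow j M) : j ≤ 0 := by
  by_contra hj
  push Not at hj
  exact hne (eq_bot_of_le_pPow_one M hfg (h.trans (pPow_anti M (by omega))))

theorem le_of_pPow_le_pPow (M : Submodule 𝕎 N) (hfg : M.FG) (hne : M ≠ ⊥) {a b : ℤ}
    (h : Isoc.pPow a M ≤ Isoc.pPow b M) : b ≤ a := by
  have h1 := pPow_mono (-a) h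
  rw [pPow_pPow, pPow_pPow, neg_add_cancel, pPow_zero] at h1
  have := le_zero_of_le_pPow M hfg hne h1
  omega

theorem ne_bot_of_span [Nontrivial N] (M : Submodule 𝕎 N)
    (h : Submodule.span 𝕃 (M : Set N) = ⊤) : M ≠ ⊥ := by
  rintro rfl
  rw [Submodule.bot_coe, Submodule.span_zero_singleton] at h
  exact bot_ne_top h

/-! ### Images of lattices -/

theorem latImg_fg (hτ : Tw τ) (F : N →ₛₗ[τ] N) (s : ℕ) (M : Submodule 𝕎 N) (hfg : M.FG) :
    (Isoc.latImg F s M).FG := by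
  obtain ⟨e, he⟩ := iter_W_smul hτ F s
  obtain ⟨S, rfl⟩ := hfg
  have : Isoc.latImg F s (Submodule.span 𝕎 (S : Set N)) =
      Submodule.span 𝕎 ((⇑F)^[s] '' (S : Set N)) := by
    apply le_antisymm
    · rw [latImg_le_iff]
      intro m hm
      induction hm using Submodule.span_induction with
      | mem x hx => exact Submodule.subset_span ⟨x, hx, rfl⟩
      | zero => rw [iter_zero']; exact zero_mem _
      | add x y _ _ hx hy => rw [iter_add]; exact add_mem hx hy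
      | smul w x _ hx => rw [he]; exact Submodule.smul_mem _ _ hx
    · exact Submodule.span_mono (Set.image_mono Submodule.subset_span)
  rw [this]
  exact Submodule.fg_span (S.finite_toSet.image _)

theorem latImg_span_top (F : N →ₛₗ[τ] N) (hsurj : Function.Surjective F) (s : ℕ)
    (M : Submodule 𝕎 N) (h : Submodule.span 𝕃 (M : Set N) = ⊤) :
    Submodule.span 𝕃 (Isoc.latImg F s M : Set N) = ⊤ := by
  rw [eq_top_iff]
  intro y _
  obtain ⟨x, rfl⟩ := hsurj.iterate s y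
  have hx : x ∈ Submodule.span 𝕃 (M : Set N) := by rw [h]; trivial
  induction hx using Submodule.span_induction with
  | mem x hx => exact Submodule.subset_span (iter_mem_latImg F s hx)
  | zero => rw [iter_zero']; exact zero_mem _
  | add x y _ _ hx hy => rw [iter_add]; exact add_mem (hx trivial) (hy trivial)
  | smul c x _ hx => rw [iter_smul]; exact Submodule.smul_mem _ _ (hx trivial)

theorem latImg_isLattice (hτ : Tw τ) (F : N →ₛₗ[τ] N) (hF : Isoc.IsIsoc F) (s : ℕ)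
    (M : Submodule 𝕎 N) (hM : M.IsLattice 𝕃) : (Isoc.latImg F s M).IsLattice 𝕃 :=
  ⟨latImg_fg hτ F s M hM.fg, latImg_span_top F hF.bijective.surjective s M hM.span_eq_top⟩

theorem pPow_fg (r : ℤ) (M : Submodule 𝕎 N) (hfg : M.FG) : (Isoc.pPow r M).FG := by
  obtain ⟨S, rfl⟩ := hfg
  unfold Isoc.pPow
  rw [Submodule.smul_span]
  exact Submodule.fg_span (S.finite_toSet.image _)

theorem pPow_isLattice (r : ℤ) (M : Submodule 𝕎 N) (hM : M.IsLattice 𝕃) :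
    (Isoc.pPow r M).IsLattice 𝕃 := by
  refine ⟨pPow_fg r M hM.fg, ?_⟩
  rw [eq_top_iff]
  intro y _
  have hy : ((p : 𝕃) ^ (-r)) • y ∈ Submodule.span 𝕃 (M : Set N) := by
    rw [hM.span_eq_top]; trivial
  have h2 : Submodule.span 𝕃 (M : Set N) ≤ Submodule.span 𝕃 (Isoc.pPow r M : Set N) := by
    rw [Submodule.span_le]
    intro m hm
    have : m = ((p : 𝕃) ^ (-r)) • (((p : 𝕃) ^ r) • m) := by
      rw [smul_smul, ← zpow_add₀ pL_ne_zero, neg_add_cancel, zpow_zero, one_smul]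
    rw [this]
    exact Submodule.smul_mem _ _ (Submodule.subset_span (smul_mem_pPow hm))
  have h3 := Submodule.smul_mem _ ((p : 𝕃) ^ r) (h2 hy)
  rwa [smul_smul, ← zpow_add₀ pL_ne_zero, add_neg_cancel, zpow_zero, one_smul] at h3

/-! ### Orders -/

theorem isOrd_max {M : Submodule 𝕎 N} {F : N →ₛₗ[τ] N} {s : ℕ} {r r' : ℤ}
    (h : Isoc.IsOrd M F s r) (h' : Isoc.latImg F s M ≤ Isoc.pPow r' M) : r' ≤ r := by
  by_contra hlt
  push Not at hlt
  exact h.2 (h'.trans (pPow_anti M (by omega)))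

theorem isOrd_ne_bot {M : Submodule 𝕎 N} {F : N →ₛₗ[τ] N} {s : ℕ} {r : ℤ}
    (h : Isoc.IsOrd M F s r) : M ≠ ⊥ := by
  rintro rfl
  apply h.2
  rw [latImg_bot]
  exact bot_le

theorem exists_isOrd (hτ : Tw τ) (F : N →ₛₗ[τ] N) (hF : Isoc.IsIsoc F) [Nontrivial N]
    (M : Submodule 𝕎 N) (hM : M.IsLattice 𝕃) (s : ℕ) : ∃ r : ℤ, Isoc.IsOrd M F s r := by
  have hne : M ≠ ⊥ := ne_bot_of_span M hM.span_eq_top
  have hL := latImg_isLattice hτ F hF s M hM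
  obtain ⟨c, hc⟩ := exists_le_pPow (Isoc.latImg F s M) M hL.fg hM.span_eq_top
  obtain ⟨c', hc'⟩ := exists_le_pPow M (Isoc.latImg F s M) hM.fg hL.span_eq_top
  obtain ⟨r, hr, hmax⟩ := Int.exists_greatest_of_bdd
    (P := fun z => Isoc.latImg F s M ≤ Isoc.pPow z M) ⟨c', fun z hz => by
      have h1 : M ≤ Isoc.pPow (-(c' : ℤ)) (Isoc.pPow z M) := hc'.trans (pPow_mono _ hz)
      rw [pPow_pPow] at h1
      have := le_zero_of_le_pPow M hM.fg hne h1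
      omega⟩ ⟨-(c : ℤ), hc⟩
  exact ⟨r, hr, fun h => by have := hmax (r + 1) h; omega⟩

theorem isOrd_zero (F : N →ₛₗ[τ] N) (M : Submodule 𝕎 N) (hfg : M.FG) (hne : M ≠ ⊥) :
    Isoc.IsOrd M F 0 0 := by
  refine ⟨by rw [latImg_zero, pPow_zero], fun h => hne (eq_bot_of_le_pPow_one M hfg ?_)⟩
  rwa [latImg_zero, zero_add] at h

theorem latImg_add_le (hτ : Tw τ) (F : N →ₛₗ[τ] N) (M : Submodule 𝕎 N) {m n : ℕ} {a b : ℤ}
    (hm : Isoc.latImg F m M ≤ Isoc.pPow a M) (hn : Isoc.latImg F n M ≤ Isoc.pPow b M) :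
    Isoc.latImg F (m + n) M ≤ Isoc.pPow (a + b) M := by
  rw [← latImg_latImg hτ]
  calc Isoc.latImg F m (Isoc.latImg F n M) ≤ Isoc.latImg F m (Isoc.pPow b M) := latImg_mono _ _ hn
    _ = Isoc.pPow b (Isoc.latImg F m M) := latImg_pPow hτ F m b M
    _ ≤ Isoc.pPow b (Isoc.pPow a M) := pPow_mono _ hm
    _ = Isoc.pPow (a + b) M := by rw [pPow_pPow, add_comm]

theorem latImg_mul_le (hτ : Tw τ) (F : N →ₛₗ[τ] N) (M : Submodule 𝕎 N) {s : ℕ} {r : ℤ}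
    (h : Isoc.latImg F s M ≤ Isoc.pPow r M) (j : ℕ) :
    Isoc.latImg F (s * j) M ≤ Isoc.pPow (r * j) M := by
  induction j with
  | zero => simp [latImg_zero, pPow_zero]
  | succ j ih =>
    have := latImg_add_le hτ F M ih h
    rw [Nat.mul_succ]
    convert this using 2
    push_cast; ring

theorem latImg_mul_eq (hτ : Tw τ) (F : N →ₛₗ[τ] N) (M : Submodule 𝕎 N) {s : ℕ} {r : ℤ}
    (h : Isoc.latImg F s M = Isoc.pPow r M) (j : ℕ) :
    Isoc.latImg F (s * j) M = Isoc.pPow (r * j) M := by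
  induction j with
  | zero => simp [latImg_zero, pPow_zero]
  | succ j ih =>
    rw [Nat.mul_succ, add_comm, ← latImg_latImg hτ, ih, latImg_pPow hτ, h, pPow_pPow]
    congr 1
    push_cast; ring

/-- General form of S17141. -/
theorem exists_ord_limit (hτ : Tw τ) (F : N →ₛₗ[τ] N) (hF : Isoc.IsIsoc F) [Nontrivial N]
    (M : Submodule 𝕎 N) (hM : M.IsLattice 𝕃) :
    ∃ o : ℕ → ℤ, (∀ n : ℕ, Isoc.IsOrd M F n (o n)) ∧
      ∃ lam : ℝ, Tendsto (fun n : ℕ => (o n : ℝ) / n) atTop (𝓝 lam) := by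
  have hne : M ≠ ⊥ := ne_bot_of_span M hM.span_eq_top
  choose o ho using exists_isOrd hτ F hF M hM
  refine ⟨o, ho, ?_⟩
  have hsuper : ∀ m n, o m + o n ≤ o (m + n) := fun m n =>
    isOrd_max (ho (m + n)) (latImg_add_le hτ F M (ho m).1 (ho n).1)
  -- upper bound
  have hL := latImg_isLattice hτ F hF 1 M hM
  obtain ⟨c, hc⟩ := exists_le_pPow M (Isoc.latImg F 1 M) hM.fg hL.span_eq_top
  have hc' : Isoc.pPow c M ≤ Isoc.latImg F 1 M := by
    have := pPow_mono (c : ℤ) hc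
    rwa [pPow_pPow, add_neg_cancel, pPow_zero] at this
  have hlow : ∀ n : ℕ, Isoc.pPow ((c : ℤ) * n) M ≤ Isoc.latImg F n M := by
    intro n
    induction n with
    | zero => simp [latImg_zero, pPow_zero]
    | succ n ih =>
      rw [add_comm n 1, ← latImg_latImg hτ]
      calc Isoc.pPow ((c : ℤ) * ((1 + n : ℕ) : ℤ)) M
          = Isoc.pPow ((c : ℤ) * n) (Isoc.pPow c M) := by
            rw [pPow_pPow]; congr 1; push_cast; ring
        _ ≤ Isoc.pPow ((c : ℤ) * n) (Isoc.latImg F 1 M) := pPow_mono _ hc'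
        _ = Isoc.latImg F 1 (Isoc.pPow ((c : ℤ) * n) M) := (latImg_pPow hτ F 1 _ M).symm
        _ ≤ Isoc.latImg F 1 (Isoc.latImg F n M) := latImg_mono _ _ ih
  have hupper : ∀ n : ℕ, o n ≤ (c : ℤ) * n := fun n =>
    le_of_pPow_le_pPow M hM.fg hne ((hlow n).trans (ho n).1)
  set u : ℕ → ℝ := fun n => -(o n : ℝ) with hu
  have hsub : Subadditive u := by
    intro m n
    have := hsuper m n
    simp only [hu]
    have h2 : ((o m : ℝ) + o n) ≤ o (m + n) := by exact_mod_cast this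
    linarith
  have hbdd : BddBelow (Set.range fun n => u n / n) := by
    refine ⟨-(c : ℝ), ?_⟩
    rintro _ ⟨n, rfl⟩
    rcases Nat.eq_zero_or_pos n with rfl | hn
    · simp
    · have hn' : (0 : ℝ) < n := by exact_mod_cast hn
      show -(c : ℝ) ≤ u n / n
      rw [le_div_iff₀ hn']
      have h2 : (o n : ℝ) ≤ (c : ℝ) * n := by exact_mod_cast hupper n
      simp only [hu]
      linarith
  refine ⟨-hsub.lim, ?_⟩
  have := (hsub.tendsto_lim hbdd).neg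
  refine this.congr (fun n => ?_)
  simp only [hu]
  rw [neg_div, neg_neg]

end Groth.Agent.H2.Isoc1
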