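import Mathlib
import Groth.Prelude.Def_Isoc
import Groth.Agent.H2.Isoc1

set_option autoImplicit false
set_option linter.unusedSectionVars false
open scoped Pointwise
open Filter Topology

universe u v

namespace Groth.Agent.H2.Isoc2

open Groth.Agent.H2.Isoc1

variable {p : ℕ} [Fact p.Prime] {k : Type u} [Field k] [CharP k p] [PerfectRing k p]
variable {N : Type v} [AddCommGroup N] [Module (WittVector p k) N]
  [Module (FractionRing (WittVector p k)) N]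
  [IsScalarTower (WittVector p k) (FractionRing (WittVector p k)) N]
variable {τ : FractionRing (WittVector p k) →+* FractionRing (WittVector p k)}

local notation "𝕎" => WittVector p k
local notation "𝕃" => FractionRing (WittVector p k)

theorem ord_compare (hτ : Tw τ) (F : N →ₛₗ[τ] N) {M₁ M₂ : Submodule 𝕎 N} {c₁ c₂ : ℤ}
    (h12 : M₁ ≤ Isoc.pPow c₁ M₂) (h21 : M₂ ≤ Isoc.pPow c₂ M₁) {n : ℕ} {a : ℤ}
    (h : Isoc.latImg F n M₁ ≤ Isoc.pPow a M₁) :
    Isoc.latImg F n M₂ ≤ Isoc.pPow (a + c₁ + c₂) M₂ := by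
  calc Isoc.latImg F n M₂ ≤ Isoc.latImg F n (Isoc.pPow c₂ M₁) := latImg_mono _ _ h21
    _ = Isoc.pPow c₂ (Isoc.latImg F n M₁) := latImg_pPow hτ F n c₂ M₁
    _ ≤ Isoc.pPow c₂ (Isoc.pPow a M₁) := pPow_mono _ h
    _ ≤ Isoc.pPow c₂ (Isoc.pPow a (Isoc.pPow c₁ M₂)) := pPow_mono _ (pPow_mono _ h12)
    _ = Isoc.pPow (a + c₁ + c₂) M₂ := by rw [pPow_pPow, pPow_pPow]; congr 1; ring

/-- General form of S17142. -/
theorem slope_unique (hτ : Tw τ) (F : N →ₛₗ[τ] N)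
    (M₁ M₂ : Submodule 𝕎 N) (hM₁ : M₁.IsLattice 𝕃) (hM₂ : M₂.IsLattice 𝕃)
    (o₁ o₂ : ℕ → ℤ) (ho₁ : ∀ n : ℕ, 1 ≤ n → Isoc.IsOrd M₁ F n (o₁ n))
    (ho₂ : ∀ n : ℕ, 1 ≤ n → Isoc.IsOrd M₂ F n (o₂ n)) (lam₁ lam₂ : ℝ)
    (h₁ : Tendsto (fun n : ℕ => (o₁ n : ℝ) / n) atTop (𝓝 lam₁))
    (h₂ : Tendsto (fun n : ℕ => (o₂ n : ℝ) / n) atTop (𝓝 lam₂)) : lam₁ = lam₂ := by
  obtain ⟨c₁, hc₁⟩ := exists_le_pPow M₁ M₂ hM₁.fg hM₂.span_eq_top
  obtain ⟨c₂, hc₂⟩ := exists_le_pPow M₂ M₁ hM₂.fg hM₁.span_eq_top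
  have key1 : ∀ n, 1 ≤ n → o₁ n + -(c₁ : ℤ) + -(c₂ : ℤ) ≤ o₂ n := fun n hn =>
    isOrd_max (ho₂ n hn) (ord_compare hτ F hc₁ hc₂ (ho₁ n hn).1)
  have key2 : ∀ n, 1 ≤ n → o₂ n + -(c₂ : ℤ) + -(c₁ : ℤ) ≤ o₁ n := fun n hn =>
    isOrd_max (ho₁ n hn) (ord_compare hτ F hc₂ hc₁ (ho₂ n hn).1)
  have h0 : Tendsto (fun n : ℕ => ((o₁ n : ℝ) - o₂ n) / n) atTop (𝓝 0) := by
    apply squeeze_zero_norm' (a := fun n : ℕ => ((c₁ + c₂ : ℕ) : ℝ) / n) _
      (tendsto_const_div_atTop_nhds_zero_nat _)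
    filter_upwards [eventually_ge_atTop 1] with n hn
    rw [Real.norm_eq_abs, abs_div, Nat.abs_cast]
    apply div_le_div_of_nonneg_right _ (Nat.cast_nonneg n)
    have k1 := key1 n hn
    have k2 := key2 n hn
    rw [abs_le]
    constructor
    · have : ((o₂ n : ℤ) : ℝ) + -(c₂ : ℝ) + -(c₁ : ℝ) ≤ o₁ n := by exact_mod_cast k2
      push_cast; linarith
    · have : ((o₁ n : ℤ) : ℝ) + -(c₁ : ℝ) + -(c₂ : ℝ) ≤ o₂ n := by exact_mod_cast k1
      push_cast; linarith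
  have h12 := h₁.sub h₂
  have h12' : Tendsto (fun n : ℕ => ((o₁ n : ℝ) - o₂ n) / n) atTop (𝓝 (lam₁ - lam₂)) :=
    h12.congr (fun n => by rw [sub_div])
  exact sub_eq_zero.1 (tendsto_nhds_unique h12' h0)

theorem twist_iterate (F : N →ₛₗ[τ] N) (m : ℤ) (n j : ℕ) (x : N) :
    (⇑(((p : 𝕃) ^ m) • Isoc.iter F n))^[j] x = ((p : 𝕃) ^ (m * j)) • (⇑F)^[n * j] x := by
  induction j with
  | zero => simp
  | succ j ih =>
    rw [Function.iterate_succ_apply', ih, LinearMap.smul_apply, Isoc.iter_apply, iter_p_smul,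
      ← Function.iterate_add_apply, smul_smul, ← zpow_add₀ pL_ne_zero,
      show m + m * (j : ℤ) = m * ((j + 1 : ℕ) : ℤ) by push_cast; ring,
      show n + n * j = n * (j + 1) by ring]

theorem latImg_twist_le_iff (F : N →ₛₗ[τ] N) (m : ℤ) (n j : ℕ) (M : Submodule 𝕎 N) (t : ℤ) :
    Isoc.latImg (((p : 𝕃) ^ m) • Isoc.iter F n) j M ≤ Isoc.pPow t M ↔
      Isoc.latImg F (n * j) M ≤ Isoc.pPow (t - m * j) M := by
  rw [latImg_le_iff, latImg_le_iff]
  refine forall₂_congr (fun x _ => ?_)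
  rw [twist_iterate, mem_pPow, mem_pPow, smul_smul, ← zpow_add₀ pL_ne_zero,
    show -t + m * (j : ℤ) = -(t - m * j) by ring]

theorem isOrd_twist (F : N →ₛₗ[τ] N) (m : ℤ) (n j : ℕ) (M : Submodule 𝕎 N) (r : ℤ)
    (h : Isoc.IsOrd M F (n * j) r) :
    Isoc.IsOrd M (((p : 𝕃) ^ m) • Isoc.iter F n) j (m * j + r) := by
  refine ⟨(latImg_twist_le_iff F m n j M _).2 ?_, fun h' => h.2 ?_⟩
  · rw [show m * (j : ℤ) + r - m * j = r by ring]; exact h.1
  · have := (latImg_twist_le_iff F m n j M _).1 h'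
    rwa [show m * (j : ℤ) + r + 1 - m * j = r + 1 by ring] at this

/-- General form of S17143. -/
theorem firstSlope_twist (F : N →ₛₗ[τ] N) (lam : ℝ) (hlam : Isoc.IsFirstSlope F lam)
    (m : ℤ) (n : ℕ) :
    Isoc.IsFirstSlope (((p : 𝕃) ^ m) • Isoc.iter F n) (n * lam + m) := by
  obtain ⟨M, hM, o, ho, hlim⟩ := hlam
  have hne : M ≠ ⊥ := isOrd_ne_bot (ho 1 le_rfl)
  set o' : ℕ → ℤ := fun i => if i = 0 then 0 else o i with ho'
  have ho'' : ∀ i, Isoc.IsOrd M F i (o' i) := by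
    intro i
    by_cases hi : i = 0
    · subst hi; simp only [ho', if_true]; exact isOrd_zero F M hM.fg hne
    · simp only [ho', if_neg hi]; exact ho i (Nat.one_le_iff_ne_zero.2 hi)
  refine ⟨M, hM, fun j => m * j + o' (n * j), fun j _ => isOrd_twist F m n j M _ (ho'' _), ?_⟩
  rcases Nat.eq_zero_or_pos n with rfl | hn
  · have : (fun j : ℕ => ((m * (j : ℤ) + o' (0 * j) : ℤ) : ℝ) / j) =ᶠ[atTop]
        fun _ => (m : ℝ) := by
      filter_upwards [eventually_ge_atTop 1] with j hj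
      have hj' : (0 : ℝ) < j := by exact_mod_cast hj
      simp only [ho', zero_mul, if_true]
      push_cast
      field_simp
      ring
    rw [Nat.cast_zero, zero_mul, zero_add]
    exact (tendsto_const_nhds.congr' this.symm)
  · have hnj : Tendsto (fun j : ℕ => n * j) atTop atTop :=
      tendsto_atTop_mono (fun j => Nat.le_mul_of_pos_left j hn) tendsto_id
    have h1 := ((hlim.comp hnj).const_mul (n : ℝ)).add_const (m : ℝ)
    refine h1.congr' ?_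
    filter_upwards [eventually_ge_atTop 1] with j hj
    have hj' : (0 : ℝ) < j := by exact_mod_cast hj
    have hn' : (0 : ℝ) < n := by exact_mod_cast hn
    have hnj0 : n * j ≠ 0 := Nat.mul_ne_zero hn.ne' (by omega)
    simp only [Function.comp_apply, ho', if_neg hnj0]
    push_cast
    field_simp
    ring

theorem le_sup_zero (G : N →ₛₗ[τ] N) (M : Submodule 𝕎 N) (n : ℕ) :
    M ≤ ⨆ i : Fin (n + 1), Isoc.latImg G i M := by
  have := le_iSup (fun i : Fin (n + 1) => Isoc.latImg G i M) 0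
  simpa [latImg_zero] using this

theorem effective_of_sup (hτ : Tw τ) (G : N →ₛₗ[τ] N) (M : Submodule 𝕎 N)
    (hM : M.IsLattice 𝕃) (n : ℕ)
    (h : Isoc.latImg G (n + 1) M ≤ ⨆ i : Fin (n + 1), Isoc.latImg G i M) :
    Isoc.IsEffective G := by
  have hMT := le_sup_zero G M n
  set T : Submodule 𝕎 N := ⨆ i : Fin (n + 1), Isoc.latImg G i M with hT
  have hfg : T.FG := Submodule.fg_iSup _ (fun i => latImg_fg hτ G i M hM.fg)
  have hTl : T.IsLattice 𝕃 := by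
    haveI := hM
    exact Submodule.IsLattice.of_le_of_isLattice_of_fg 𝕃 hMT hfg
  refine ⟨T, hTl, ?_⟩
  rw [latImg_le_iff]
  intro y hy
  rw [Function.iterate_one]
  refine Submodule.iSup_induction (fun i : Fin (n + 1) => Isoc.latImg G i M)
    (motive := fun y => G y ∈ T) hy ?_ ?_ ?_
  · intro i y hy
    have h1 : G y ∈ Isoc.latImg G (1 + i) M := by
      rw [← latImg_latImg hτ]
      exact iter_mem_latImg G 1 hy
    by_cases hi : 1 + (i : ℕ) < n + 1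
    · exact le_iSup (fun i : Fin (n + 1) => Isoc.latImg G i M) ⟨1 + i, hi⟩ h1
    · have : 1 + (i : ℕ) = n + 1 := by omega
      rw [this] at h1
      exact h h1
  · rw [map_zero]; exact T.zero_mem
  · intro x y hx hy
    rw [map_add]; exact T.add_mem hx hy

theorem exists_relation (F : N →ₛₗ[τ] N) [Module.Finite 𝕃 N] (h : ℕ)
    (hh : Module.finrank 𝕃 N = h) (x : N) :
    ∃ w : Fin (h + 1) → 𝕎, (∑ i, w i • (⇑F)^[(i : ℕ)] x = 0) ∧ ∃ i, IsUnit (w i) := by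
  have hdep : ¬ LinearIndependent 𝕃 (fun i : Fin (h + 1) => (⇑F)^[(i : ℕ)] x) := by
    intro hli
    have := hli.fintype_card_le_finrank
    rw [Fintype.card_fin, hh] at this
    omega
  obtain ⟨g, hg, hne⟩ := Fintype.not_linearIndependent_iff.1 hdep
  obtain ⟨c, w, hc, hw, hunit⟩ := exists_primitive g hne
  refine ⟨w, ?_, hunit⟩
  have : c • ∑ i, g i • (⇑F)^[(i : ℕ)] x = 0 := by rw [hg, smul_zero]
  rw [Finset.smul_sum] at this
  rw [← this]
  refine Finset.sum_congr rfl (fun i _ => ?_)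
  rw [smul_smul, hw, algebraMap_smul]

/-- General form of S17144 (Zink's lemma). -/
theorem zink (hτ : Tw τ) (F : N →ₛₗ[τ] N) (hF : Isoc.IsIsoc F) (h : ℕ)
    (hh : Module.finrank 𝕃 N = h) (M : Submodule 𝕎 N) (hM : M.IsLattice 𝕃)
    (hFM : Isoc.latImg F (h + 1) M ≤ Isoc.pPow (-1) M) : Isoc.IsEffective F := by
  haveI := hF.finite
  apply effective_of_sup hτ F M hM h
  set T : Submodule 𝕎 N := ⨆ i : Fin (h + 1), Isoc.latImg F i M with hT
  have hT_le : ∀ i : ℕ, i ≤ h → Isoc.latImg F i M ≤ T := fun i hi =>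
    le_iSup (fun i : Fin (h + 1) => Isoc.latImg F i M) ⟨i, by omega⟩
  rw [latImg_le_iff]
  intro x hx
  have hpx : ∀ y ∈ M, ((p : 𝕎)) • (⇑F)^[h + 1] y ∈ M := by
    intro y hy
    have := (latImg_le_iff F (h + 1) M _).1 hFM y hy
    rw [mem_pPow, neg_neg, zpow_one] at this
    rwa [← algebraMap_smul 𝕃 (p : 𝕎), map_natCast]
  obtain ⟨w, hw, i₁, hi₁⟩ := exists_relation F h hh x
  classical
  obtain ⟨j₀, hj₀, hmax⟩ := Finset.exists_max_image
    (Finset.univ.filter fun i => IsUnit (w i)) (fun i => i) ⟨i₁, by simp [hi₁]⟩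
  have hj₀u : IsUnit (w j₀) := (Finset.mem_filter.1 hj₀).2
  have hgt : ∀ i, j₀ < i → ∃ b, w i = (p : 𝕎) * b := by
    intro i hi
    apply nonunit_eq_p_mul
    intro hu
    exact absurd (hmax i (Finset.mem_filter.2 ⟨Finset.mem_univ _, hu⟩)) (not_le.2 hi)
  set e₀ : ℕ := h + 1 - j₀ with he₀
  have hj₀h : (j₀ : ℕ) ≤ h := Nat.lt_succ_iff.1 j₀.2
  obtain ⟨e, he⟩ := iter_W_smul hτ F e₀
  have hrel : ∑ i : Fin (h + 1), e (w i) • (⇑F)^[e₀ + (i : ℕ)] x = 0 := by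
    have := congrArg (Isoc.iter F e₀) hw
    rw [map_sum, map_zero] at this
    rw [← this]
    refine Finset.sum_congr rfl (fun i _ => ?_)
    rw [Isoc.iter_apply, he, Function.iterate_add_apply]
  have hterm : ∀ i : Fin (h + 1), i ≠ j₀ → e (w i) • (⇑F)^[e₀ + (i : ℕ)] x ∈ T := by
    intro i hi
    rcases lt_or_gt_of_ne hi with hlt | hgt'
    · apply T.smul_mem
      have hle : e₀ + (i : ℕ) ≤ h := by
        have : (i : ℕ) < j₀ := hlt
        omega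
      exact hT_le _ hle (iter_mem_latImg F _ hx)
    · obtain ⟨b, hb⟩ := hgt i hgt'
      have hi' : (j₀ : ℕ) < i := hgt'
      have hexp : e₀ + (i : ℕ) = ((i : ℕ) - j₀) + (h + 1) := by omega
      rw [hb, map_mul, map_natCast, mul_comm, mul_smul, hexp, Function.iterate_add_apply]
      apply T.smul_mem
      have : ((p : 𝕎)) • (⇑F)^[(i : ℕ) - j₀] ((⇑F)^[h + 1] x) =
          (⇑F)^[(i : ℕ) - j₀] ((p : 𝕎) • (⇑F)^[h + 1] x) := by
        rw [← algebraMap_smul 𝕃 (p : 𝕎), ← algebraMap_smul 𝕃 (p : 𝕎), map_natCast,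
          ← zpow_one (p : 𝕃), iter_p_smul]
      rw [this]
      exact hT_le _ (by have := i.2; omega) (iter_mem_latImg F _ (hpx x hx))
  have hj₀term : e (w j₀) • (⇑F)^[e₀ + (j₀ : ℕ)] x ∈ T := by
    have := Finset.add_sum_erase Finset.univ
      (fun i : Fin (h + 1) => e (w i) • (⇑F)^[e₀ + (i : ℕ)] x) (Finset.mem_univ j₀)
    rw [hrel] at this
    have h2 : e (w j₀) • (⇑F)^[e₀ + (j₀ : ℕ)] x =
        - ∑ i ∈ Finset.univ.erase j₀, e (w i) • (⇑F)^[e₀ + (i : ℕ)] x :=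
      eq_neg_of_add_eq_zero_left this
    rw [h2]
    exact T.neg_mem (T.sum_mem (fun i hi => hterm i (Finset.ne_of_mem_erase hi)))
  have hexp : e₀ + (j₀ : ℕ) = h + 1 := by omega
  rw [hexp] at hj₀term
  have hu : IsUnit (e (w j₀)) := hj₀u.map e
  obtain ⟨u, hu'⟩ := hu
  rw [← hu'] at hj₀term
  have := T.smul_mem ((u⁻¹ : 𝕎ˣ) : 𝕎) hj₀term
  rwa [smul_smul, ← Units.val_mul, inv_mul_cancel, Units.val_one, one_smul] at this

theorem effective_of_pos_slope (hτ : Tw τ) (G : N →ₛₗ[τ] N) (lam : ℝ)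
    (hlam : Isoc.IsFirstSlope G lam) (hpos : 0 < lam) : Isoc.IsEffective G := by
  obtain ⟨M, hM, o, ho, hlim⟩ := hlam
  have hev : ∀ᶠ j : ℕ in atTop, 0 < (o j : ℝ) / j := (tendsto_order.1 hlim).1 0 hpos
  obtain ⟨j, hj2, hj1⟩ := (hev.and (eventually_ge_atTop 1)).exists
  have hjpos : (0 : ℝ) < j := by exact_mod_cast hj1
  have hoj : 0 ≤ o j := by
    by_contra hle
    push Not at hle
    have h1 : (o j : ℝ) ≤ 0 := by exact_mod_cast hle.le
    have : (o j : ℝ) / j ≤ 0 := div_nonpos_of_nonpos_of_nonneg h1 hjpos.le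
    linarith
  obtain ⟨n, rfl⟩ : ∃ n, j = n + 1 := ⟨j - 1, by omega⟩
  apply effective_of_sup hτ G M hM n
  refine (ho (n + 1) hj1).1.trans ((pPow_anti M hoj).trans ?_)
  rw [pPow_zero]
  exact le_sup_zero G M n

/-- General form of S17145. -/
theorem exists_lattice_of_le_slope (hτ : Tw τ) (F : N →ₛₗ[τ] N) (hF : Isoc.IsIsoc F) (lam : ℝ)
    (hlam : Isoc.IsFirstSlope F lam) (r : ℤ) (s : ℕ) (hs : 0 < s) (hrs : (r : ℝ) / s ≤ lam) :
    ∃ M : Submodule 𝕎 N, M.IsLattice 𝕃 ∧ Isoc.latImg F s M ≤ Isoc.pPow r M := by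
  haveI := hF.finite
  have hτs : Tw (τ ^ s) := hτ.pow s
  have hGslope := firstSlope_twist F lam hlam (-r) s
  have hs' : (0 : ℝ) < s := by exact_mod_cast hs
  have hnonneg : 0 ≤ (s : ℝ) * lam + ((-r : ℤ) : ℝ) := by
    rw [div_le_iff₀ hs'] at hrs
    push_cast; linarith
  have hG'slope := firstSlope_twist _ _ hGslope 1 (Module.finrank 𝕃 N + 1)
  have hpos : 0 < ((Module.finrank 𝕃 N + 1 : ℕ) : ℝ) * ((s : ℝ) * lam + ((-r : ℤ) : ℝ)) +
      ((1 : ℤ) : ℝ) := by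
    have h1 : (0 : ℝ) ≤ ((Module.finrank 𝕃 N + 1 : ℕ) : ℝ) := Nat.cast_nonneg _
    have := mul_nonneg h1 hnonneg
    push_cast at this ⊢; linarith
  obtain ⟨M', hM', hM'st⟩ := effective_of_pos_slope (hτs.pow _) _ _ hG'slope hpos
  have hGM' : Isoc.latImg (((p : 𝕃) ^ (-r)) • Isoc.iter F s) (Module.finrank 𝕃 N + 1) M' ≤
      Isoc.pPow (-1) M' := by
    rw [latImg_le_iff] at hM'st ⊢
    intro x hx
    have := hM'st x hx
    rw [Function.iterate_one, LinearMap.smul_apply, Isoc.iter_apply] at this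
    rw [mem_pPow, neg_neg]
    exact this
  have hGiso : Isoc.IsIsoc (((p : 𝕃) ^ (-r)) • Isoc.iter F s) := by
    refine ⟨hF.finite, ?_⟩
    have hcoe : ⇑(((p : 𝕃) ^ (-r)) • Isoc.iter F s) =
        (fun x : N => ((p : 𝕃) ^ (-r)) • x) ∘ (⇑F)^[s] := by
      funext x; rfl
    rw [hcoe]
    exact (MulAction.bijective₀ (zpow_ne_zero _ pL_ne_zero)).comp (hF.bijective.iterate s)
  obtain ⟨M'', hM'', hst⟩ := zink hτs _ hGiso _ rfl M' hM' hGM'
  refine ⟨M'', hM'', ?_⟩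
  rw [latImg_le_iff] at hst ⊢
  intro x hx
  have := hst x hx
  rw [Function.iterate_one, LinearMap.smul_apply, Isoc.iter_apply] at this
  rw [mem_pPow]
  exact this

end Groth.Agent.H2.Isoc2
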