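import Mathlib
import Groth.Prelude.Def_Isoc
import Groth.Agent.H2.Isoc1
import Groth.Agent.H2.Isoc2

set_option autoImplicit false
set_option linter.unusedSectionVars false
set_option linter.style.haveILetI false
set_option backward.isDefEq.respectTransparency false
open scoped Pointwise
open Filter Topology

universe u v

namespace Groth.Agent.H2.Isoc3

open Groth.Agent.H2.Isoc1 Groth.Agent.H2.Isoc2

variable {p : ℕ} [Fact p.Prime] {k : Type u} [Field k] [CharP k p] [PerfectRing k p]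
variable {N : Type v} [AddCommGroup N] [Module (WittVector p k) N]
  [Module (FractionRing (WittVector p k)) N]
  [IsScalarTower (WittVector p k) (FractionRing (WittVector p k)) N]
variable {τ : FractionRing (WittVector p k) →+* FractionRing (WittVector p k)}
variable {ι : Type*} [Fintype ι] [DecidableEq ι]

local notation "𝕎" => WittVector p k
local notation "𝕃" => FractionRing (WittVector p k)

/-- matrix of a semilinear map -/
noncomputable def mat (b : Module.Basis ι 𝕃 N) (F : N →ₛₗ[τ] N) : Matrix ι ι 𝕃 :=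
  b.toMatrix (F ∘ b)

theorem mat_apply (b : Module.Basis ι 𝕃 N) (F : N →ₛₗ[τ] N) (i j : ι) :
    mat b F i j = b.repr (F (b j)) i := rfl

theorem detCoeff_eq {n : ℕ} (b : Module.Basis (Fin n) 𝕃 N) (F : N →ₛₗ[τ] N) :
    Isoc.detCoeff b F = (mat b F).det := rfl

theorem repr_map (b : Module.Basis ι 𝕃 N) (F : N →ₛₗ[τ] N) (x : N) (i : ι) :
    b.repr (F x) i = ∑ j, b.repr (F (b j)) i * τ (b.repr x j) := by
  conv_lhs => rw [← b.sum_repr x]
  simp_rw [map_sum, map_smulₛₗ, RingHom.id_apply, Finset.sum_apply']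
  refine Finset.sum_congr rfl fun j _ => ?_
  rw [Finsupp.smul_apply, smul_eq_mul, mul_comm]

theorem mat_comp (b : Module.Basis ι 𝕃 N)
    {τ₁ τ₂ τ₃ : FractionRing (WittVector p k) →+* FractionRing (WittVector p k)}
    (F : N →ₛₗ[τ₁] N) (G : N →ₛₗ[τ₂] N) (H : N →ₛₗ[τ₃] N) (hH : ∀ x, H x = F (G x)) :
    mat b H = mat b F * (mat b G).map τ₁ := by
  ext i j
  rw [mat_apply, hH, repr_map, Matrix.mul_apply]
  rfl

theorem det_mat_comp (b : Module.Basis ι 𝕃 N)
    {τ₁ τ₂ τ₃ : FractionRing (WittVector p k) →+* FractionRing (WittVector p k)}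
    (F : N →ₛₗ[τ₁] N) (G : N →ₛₗ[τ₂] N) (H : N →ₛₗ[τ₃] N) (hH : ∀ x, H x = F (G x)) :
    (mat b H).det = (mat b F).det * τ₁ (mat b G).det := by
  rw [mat_comp b F G H hH, Matrix.det_mul, RingHom.map_det, RingHom.mapMatrix_apply]

theorem mat_change (b b' : Module.Basis ι 𝕃 N) (F : N →ₛₗ[τ] N) :
    mat b F * (b.toMatrix b').map τ = b.toMatrix b' * mat b' F := by
  have h1 : b.toMatrix b' * mat b' F = b.toMatrix (F ∘ b') :=
    Module.Basis.toMatrix_mul_toMatrix b b' (F ∘ b')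
  rw [h1]
  ext i j
  rw [Matrix.mul_apply, Module.Basis.toMatrix_apply, Function.comp_apply, repr_map]
  rfl

theorem isOrdP_det_iter (hτ : Tw τ) (b : Module.Basis ι 𝕃 N) (F : N →ₛₗ[τ] N) (d : ℤ)
    (hd : Isoc.IsOrdP (mat b F).det d) (n : ℕ) :
    Isoc.IsOrdP (mat b (Isoc.iter F n)).det (n * d) := by
  induction n with
  | zero =>
    have : mat b (Isoc.iter F 0) = 1 := by
      ext i j
      rw [mat_apply, Isoc.iter_apply, Function.iterate_zero, id, Module.Basis.repr_self_apply,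
        Matrix.one_apply]
      by_cases hij : i = j
      · subst hij; simp
      · rw [if_neg (Ne.symm hij), if_neg hij]
    rw [this, Matrix.det_one]
    have h0 := isOrdP_zpow (p := p) (k := k) 0
    rw [zpow_zero] at h0
    rw [Nat.cast_zero, zero_mul]
    exact h0
  | succ n ih =>
    have := det_mat_comp b F (Isoc.iter F n) (Isoc.iter F (n + 1)) (fun x => by
      rw [Isoc.iter_apply, Isoc.iter_apply, Function.iterate_succ_apply'])
    rw [this]
    have h2 := isOrdP_mul hd (isOrdP_tw hτ ih)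
    convert h2 using 1
    push_cast; ring

theorem isOrdP_det_basis (hτ : Tw τ) (b b' : Module.Basis ι 𝕃 N) (F : N →ₛₗ[τ] N) (d : ℤ)
    (hd : Isoc.IsOrdP (mat b F).det d) : Isoc.IsOrdP (mat b' F).det d := by
  have h1 := congrArg Matrix.det (mat_change b b' F)
  rw [Matrix.det_mul, Matrix.det_mul, ← RingHom.mapMatrix_apply, ← RingHom.map_det] at h1
  have hP : (b.toMatrix b').det ≠ 0 := by
    have := congrArg Matrix.det (Module.Basis.toMatrix_mul_toMatrix_flip b b')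
    rw [Matrix.det_mul, Matrix.det_one] at this
    exact left_ne_zero_of_mul_eq_one this
  obtain ⟨e, he⟩ := exists_isOrdP _ hP
  have h2 : (mat b' F).det =
      ((b.toMatrix b').det)⁻¹ * ((mat b F).det * τ (b.toMatrix b').det) := by
    rw [h1, ← mul_assoc, inv_mul_cancel₀ hP, one_mul]
  rw [h2]
  have := isOrdP_mul (isOrdP_inv he) (isOrdP_mul hd (isOrdP_tw hτ he))
  convert this using 1
  ring

/-- `e` is an `L`-basis of `N` which is a `W`-basis of `M`. -/
def LatBasis (M : Submodule 𝕎 N) (e : Module.Basis ι 𝕃 N) : Prop :=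
  ∀ x : N, x ∈ M ↔ ∀ i, ∃ w : 𝕎, e.repr x i = algebraMap 𝕎 𝕃 w

theorem exists_latBasis (M : Submodule 𝕎 N) (hM : M.IsLattice 𝕃) (h : ℕ)
    (hh : Module.finrank 𝕃 N = h) : ∃ e : Module.Basis (Fin h) 𝕃 N, LatBasis M e := by
  haveI := hM
  let b₀ := Module.Free.chooseBasis 𝕎 M
  let e₀ := b₀.extendOfIsLattice 𝕃
  have hcard : Fintype.card (Module.Free.ChooseBasisIndex 𝕎 M) = h := by
    rw [← hh, Module.finrank_eq_card_basis e₀]
  let σ := Fintype.equivFinOfCardEq hcard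
  refine ⟨e₀.reindex σ, fun x => ?_⟩
  constructor
  · intro hx i
    refine ⟨b₀.repr ⟨x, hx⟩ (σ.symm i), ?_⟩
    rw [Module.Basis.repr_reindex_apply]
    have h1 : x = ∑ j, algebraMap 𝕎 𝕃 (b₀.repr ⟨x, hx⟩ j) • e₀ j := by
      have h2 := congrArg M.subtype (b₀.sum_repr ⟨x, hx⟩)
      rw [map_sum] at h2
      simp only [map_smul, Submodule.subtype_apply] at h2
      refine h2.symm.trans (Finset.sum_congr rfl (fun j _ => ?_))
      rw [algebraMap_smul, Module.Basis.extendOfIsLattice_apply]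
    have h3 := congrFun (e₀.repr_sum_self (fun j => algebraMap 𝕎 𝕃 (b₀.repr ⟨x, hx⟩ j)))
      (σ.symm i)
    rw [← h1] at h3
    exact h3
  · intro hx
    choose w hw using hx
    have h1 := (e₀.reindex σ).sum_repr x
    rw [← h1]
    refine M.sum_mem (fun i _ => ?_)
    rw [hw, algebraMap_smul, Module.Basis.reindex_apply, Module.Basis.extendOfIsLattice_apply]
    exact M.smul_mem _ (b₀ (σ.symm i)).2

theorem LatBasis.basis_mem {M : Submodule 𝕎 N} {e : Module.Basis ι 𝕃 N} (he : LatBasis M e)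
    (j : ι) : e j ∈ M := by
  rw [he]
  intro i
  refine ⟨if j = i then 1 else 0, ?_⟩
  rw [Module.Basis.repr_self_apply]
  split_ifs <;> simp

theorem exists_mat_of_le {M : Submodule 𝕎 N} {e : Module.Basis ι 𝕃 N} (he : LatBasis M e)
    (F : N →ₛₗ[τ] N) (n : ℕ) (r : ℤ) (h : Isoc.latImg F n M ≤ Isoc.pPow r M) :
    ∃ A₀ : Matrix ι ι 𝕎, mat e (Isoc.iter F n) = ((p : 𝕃) ^ r) • A₀.map (algebraMap 𝕎 𝕃) := by
  have h1 : ∀ j i, ∃ w : 𝕎,
      ((p : 𝕃) ^ (-r)) * e.repr ((⇑F)^[n] (e j)) i = algebraMap 𝕎 𝕃 w := by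
    intro j i
    have h2 := (latImg_le_iff F n M _).1 h (e j) (he.basis_mem j)
    rw [mem_pPow, he] at h2
    obtain ⟨w, hw⟩ := h2 i
    exact ⟨w, by rw [← hw, map_smul, Finsupp.smul_apply, smul_eq_mul]⟩
  choose A hA using h1
  refine ⟨fun i j => A j i, ?_⟩
  ext i j
  rw [mat_apply, Isoc.iter_apply, Matrix.smul_apply, Matrix.map_apply, smul_eq_mul, ← hA j i,
    ← mul_assoc, ← zpow_add₀ pL_ne_zero, add_neg_cancel, zpow_zero, one_mul]

theorem det_of_mat_eq {A : Matrix ι ι 𝕃} {A₀ : Matrix ι ι 𝕎} {r : ℤ}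
    (h : A = ((p : 𝕃) ^ r) • A₀.map (algebraMap 𝕎 𝕃)) :
    A.det = (p : 𝕃) ^ (r * (Fintype.card ι : ℤ)) * algebraMap 𝕎 𝕃 A₀.det := by
  rw [h, Matrix.det_smul, ← RingHom.mapMatrix_apply, ← RingHom.map_det, zpow_mul, zpow_natCast]

theorem ord_det_ge {M : Submodule 𝕎 N} {e : Module.Basis ι 𝕃 N} (he : LatBasis M e)
    (F : N →ₛₗ[τ] N) (n : ℕ) (r : ℤ) {D : ℤ}
    (hD : Isoc.IsOrdP (mat e (Isoc.iter F n)).det D)
    (h : Isoc.latImg F n M ≤ Isoc.pPow r M) : r * (Fintype.card ι : ℤ) ≤ D := by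
  obtain ⟨A₀, hA⟩ := exists_mat_of_le he F n r h
  have h1 := det_of_mat_eq hA
  have h2 : Isoc.IsOrdP (algebraMap 𝕎 𝕃 A₀.det) (-(r * (Fintype.card ι : ℤ)) + D) := by
    have := isOrdP_mul (isOrdP_inv (isOrdP_zpow (p := p) (k := k) (r * (Fintype.card ι : ℤ)))) hD
    rw [h1, ← mul_assoc, inv_mul_cancel₀ (zpow_ne_zero _ pL_ne_zero), one_mul] at this
    exact this
  have := isOrdP_nonneg_of_algebraMap h2
  omega

theorem ord_det_eq (hτ : Tw τ) {M : Submodule 𝕎 N} {e : Module.Basis ι 𝕃 N}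
    (he : LatBasis M e) (F : N →ₛₗ[τ] N) (n : ℕ) (r : ℤ)
    (h : Isoc.latImg F n M = Isoc.pPow r M) :
    Isoc.IsOrdP (mat e (Isoc.iter F n)).det (r * (Fintype.card ι : ℤ)) := by
  obtain ⟨A₀, hA⟩ := exists_mat_of_le he F n r h.le
  have h1 := det_of_mat_eq hA
  obtain ⟨ε, hε⟩ := hτ.pow n
  have hy : ∀ i, ∃ y : ι → 𝕎, A₀.mulVec y = Pi.single i 1 := by
    intro i
    have hmem : ((p : 𝕃) ^ r) • e i ∈ Isoc.latImg F n M := by
      rw [h]; exact smul_mem_pPow (he.basis_mem i)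
    obtain ⟨m, hm, hFm⟩ := (mem_latImg hτ F n M _).1 hmem
    choose x hx using (he m).1 hm
    refine ⟨fun l => ε (x l), ?_⟩
    funext j
    apply algebraMap_injective (p := p) (k := k)
    apply mul_left_cancel₀ (zpow_ne_zero r (pL_ne_zero (p := p) (k := k)))
    have h2 := repr_map e (Isoc.iter F n) m j
    rw [Isoc.iter_apply, hFm, map_smul, Finsupp.smul_apply, Module.Basis.repr_self,
      smul_eq_mul] at h2
    have h3 : algebraMap 𝕎 𝕃 ((Pi.single i 1 : ι → 𝕎) j) = (Finsupp.single i (1 : 𝕃)) j := by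
      rw [Pi.single_apply, Finsupp.single_apply]
      by_cases hji : j = i
      · rw [if_pos hji, if_pos hji.symm, map_one]
      · rw [if_neg hji, if_neg (Ne.symm hji), map_zero]
    rw [h3, h2]
    simp only [Matrix.mulVec, dotProduct]
    rw [map_sum (algebraMap 𝕎 𝕃), Finset.mul_sum]
    refine Finset.sum_congr rfl (fun l _ => ?_)
    rw [← mat_apply e (Isoc.iter F n) j l, hA, Matrix.smul_apply, Matrix.map_apply, smul_eq_mul, hx l, hε, map_mul, mul_assoc]
  choose Y hY using hy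
  have hinv : A₀ * (Matrix.of fun l i => Y i l) = 1 := by
    ext j i
    have := congrFun (hY i) j
    simp only [Matrix.mulVec, dotProduct] at this
    rw [Matrix.mul_apply]
    simp only [Matrix.of_apply]
    rw [this, Pi.single_apply, Matrix.one_apply]
  obtain ⟨u, hu'⟩ := Matrix.isUnit_det_of_right_inverse hinv
  rw [h1]
  exact ⟨u, by rw [hu']⟩

theorem latImg_eq_of_ord_det (hτ : Tw τ) {M : Submodule 𝕎 N} {e : Module.Basis ι 𝕃 N}
    (he : LatBasis M e) (F : N →ₛₗ[τ] N) (n : ℕ) (r : ℤ)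
    (h : Isoc.latImg F n M ≤ Isoc.pPow r M)
    (hD : Isoc.IsOrdP (mat e (Isoc.iter F n)).det (r * (Fintype.card ι : ℤ))) :
    Isoc.latImg F n M = Isoc.pPow r M := by
  obtain ⟨A₀, hA⟩ := exists_mat_of_le he F n r h
  have h1 := det_of_mat_eq hA
  have hu : IsUnit A₀.det := by
    apply isUnit_of_isOrdP_zero
    have := isOrdP_mul (isOrdP_inv (isOrdP_zpow (p := p) (k := k) (r * (Fintype.card ι : ℤ)))) hD
    rw [h1, ← mul_assoc, inv_mul_cancel₀ (zpow_ne_zero _ pL_ne_zero), one_mul,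
      neg_add_cancel] at this
    exact this
  have hinv := Matrix.mul_nonsing_inv A₀ hu
  obtain ⟨ε, hε⟩ := hτ.pow n
  apply le_antisymm h
  have hei : ∀ i, ((p : 𝕃) ^ r) • e i ∈ Isoc.latImg F n M := by
    intro i
    rw [mem_latImg hτ]
    refine ⟨∑ l, algebraMap 𝕎 𝕃 (ε.symm (A₀⁻¹ l i)) • e l, ?_, ?_⟩
    · exact M.sum_mem (fun l _ => by
        rw [algebraMap_smul]; exact M.smul_mem _ (he.basis_mem l))
    · have hrepr : ∀ l, e.repr (∑ l, algebraMap 𝕎 𝕃 (ε.symm (A₀⁻¹ l i)) • e l) l =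
          algebraMap 𝕎 𝕃 (ε.symm (A₀⁻¹ l i)) := fun l => congrFun (e.repr_sum_self _) l
      apply e.repr.injective
      ext j
      rw [← Isoc.iter_apply, repr_map, map_smul, Finsupp.smul_apply, Module.Basis.repr_self,
        smul_eq_mul]
      have h3 : (Finsupp.single i (1 : 𝕃)) j = algebraMap 𝕎 𝕃 ((1 : Matrix ι ι 𝕎) j i) := by
        rw [Finsupp.single_apply, Matrix.one_apply]
        by_cases hji : j = i
        · rw [if_pos hji.symm, if_pos hji, map_one]
        · rw [if_neg (Ne.symm hji), if_neg hji, map_zero]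
      rw [h3, ← hinv, Matrix.mul_apply, map_sum (algebraMap 𝕎 𝕃), Finset.mul_sum]
      refine Finset.sum_congr rfl (fun l _ => ?_)
      rw [hrepr, hε, RingEquiv.apply_symm_apply, ← mat_apply e (Isoc.iter F n) j l, hA, Matrix.smul_apply, Matrix.map_apply,
        smul_eq_mul, map_mul, mul_assoc]
  intro x hx
  rw [mem_pPow] at hx
  choose c hc using (he _).1 hx
  have hx' : x = ∑ l, c l • (((p : 𝕃) ^ r) • e l) := by
    calc x = ((p : 𝕃) ^ r) • (((p : 𝕃) ^ (-r)) • x) := by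
          rw [smul_smul, ← zpow_add₀ pL_ne_zero, add_neg_cancel, zpow_zero, one_smul]
      _ = ((p : 𝕃) ^ r) • ∑ l, e.repr (((p : 𝕃) ^ (-r)) • x) l • e l := by rw [e.sum_repr]
      _ = ∑ l, c l • (((p : 𝕃) ^ r) • e l) := by
          rw [Finset.smul_sum]
          refine Finset.sum_congr rfl (fun l _ => ?_)
          rw [hc, algebraMap_smul, smul_comm]
  rw [hx']
  exact Submodule.sum_mem _ (fun l _ => Submodule.smul_mem _ _ (hei l))

/-! ### Statements -/

theorem finrank_of_basis {h : ℕ} (b : Module.Basis (Fin h) 𝕃 N) : Module.finrank 𝕃 N = h := by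
  rw [Module.finrank_eq_card_basis b, Fintype.card_fin]

/-- General form of S17140. -/
theorem ord_inequalities (hτ : Tw τ) (F : N →ₛₗ[τ] N)
    (h : ℕ) (b : Module.Basis (Fin h) 𝕃 N) (d : ℤ) (hd : Isoc.IsOrdP (Isoc.detCoeff b F) d)
    (M : Submodule 𝕎 N) (hM : M.IsLattice 𝕃) (n : ℕ) (r rn : ℤ)
    (hr : Isoc.IsOrd M F 1 r) (hrn : Isoc.IsOrd M F n rn) :
    (n : ℤ) * r ≤ rn ∧ rn * h ≤ n * d := by
  constructor
  · have := latImg_mul_le hτ F M hr.1 n
    rw [one_mul, mul_comm] at this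
    exact isOrd_max hrn this
  · obtain ⟨e, he⟩ := exists_latBasis M hM h (finrank_of_basis b)
    have hd' := isOrdP_det_basis hτ b e F d hd
    have hdn := isOrdP_det_iter hτ e F d hd' n
    have := ord_det_ge he F n rn hdn hrn.1
    rwa [Fintype.card_fin] at this

theorem firstSlope_of_eq (hτ : Tw τ) (F : N →ₛₗ[τ] N) (hF : Isoc.IsIsoc F) [Nontrivial N]
    (M : Submodule 𝕎 N) (hM : M.IsLattice 𝕃) (r : ℤ) (s : ℕ) (hs : 0 < s)
    (hFM : Isoc.latImg F s M = Isoc.pPow r M) : Isoc.IsFirstSlope F ((r : ℝ) / s) := by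
  obtain ⟨o, ho, lam, hlam⟩ := exists_ord_limit hτ F hF M hM
  have hne : M ≠ ⊥ := ne_bot_of_span M hM.span_eq_top
  have hsub : ∀ j : ℕ, o (s * j) = r * j := by
    intro j
    have h1 := latImg_mul_eq hτ F M hFM j
    have h2 : Isoc.IsOrd M F (s * j) (r * j) := by
      refine ⟨h1.le, fun h => ?_⟩
      rw [h1] at h
      have := le_of_pPow_le_pPow M hM.fg hne h
      omega
    exact le_antisymm (isOrd_max h2 (ho _).1) (isOrd_max (ho _) h2.1)
  have hlam' : lam = (r : ℝ) / s := by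
    have hsj : Tendsto (fun j : ℕ => s * (j + 1)) atTop atTop :=
      tendsto_atTop_mono (fun j => (Nat.le_succ j).trans (Nat.le_mul_of_pos_left (j + 1) hs))
        tendsto_id
    have h1 := hlam.comp hsj
    have hs' : (s : ℝ) ≠ 0 := by exact_mod_cast hs.ne'
    have h2 : ((fun n : ℕ => (o n : ℝ) / n) ∘ fun j : ℕ => s * (j + 1)) =
        fun _ => (r : ℝ) / s := by
      funext j
      have hj : ((j : ℝ) + 1) ≠ 0 := by positivity
      simp only [Function.comp_apply]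
      rw [hsub]
      push_cast
      field_simp
    rw [h2] at h1
    exact tendsto_nhds_unique h1 tendsto_const_nhds
  exact ⟨M, hM, o, fun n _ => ho n, hlam' ▸ hlam⟩

/-- General form of S17139. -/
theorem slope_of_eq (hτ : Tw τ) (F : N →ₛₗ[τ] N) (hF : Isoc.IsIsoc F) [Nontrivial N]
    (h : ℕ) (b : Module.Basis (Fin h) 𝕃 N) (d : ℤ) (hd : Isoc.IsOrdP (Isoc.detCoeff b F) d)
    (M : Submodule 𝕎 N) (hM : M.IsLattice 𝕃) (r : ℤ) (s : ℕ) (hs : 0 < s)
    (hFM : Isoc.latImg F s M = Isoc.pPow r M) :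
    Isoc.IsFirstSlope F ((r : ℝ) / s) ∧ r * h = s * d := by
  refine ⟨firstSlope_of_eq hτ F hF M hM r s hs hFM, ?_⟩
  obtain ⟨e, he⟩ := exists_latBasis M hM h (finrank_of_basis b)
  have hd' := isOrdP_det_basis hτ b e F d hd
  have hdn := isOrdP_det_iter hτ e F d hd' s
  have := ord_det_eq hτ he F s r hFM
  rw [Fintype.card_fin] at this
  exact isOrdP_unique this hdn

/-- General form of S17147. -/
theorem exists_lattice_eq (hτ : Tw τ) (F : N →ₛₗ[τ] N) (hF : Isoc.IsIsoc F)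
    (h : ℕ) (b : Module.Basis (Fin h) 𝕃 N) (d : ℤ) (hd : Isoc.IsOrdP (Isoc.detCoeff b F) d)
    (hlam : Isoc.IsFirstSlope F ((d : ℝ) / h)) :
    ∃ M : Submodule 𝕎 N, M.IsLattice 𝕃 ∧ Isoc.latImg F h M = Isoc.pPow d M := by
  rcases Nat.eq_zero_or_pos h with rfl | hpos
  · exfalso
    obtain ⟨M, hM, o, ho, _⟩ := hlam
    apply isOrd_ne_bot (ho 1 le_rfl)
    rw [Submodule.eq_bot_iff]
    intro x _
    exact b.repr.injective (Subsingleton.elim _ _)
  · obtain ⟨M, hM, hle⟩ := exists_lattice_of_le_slope hτ F hF _ hlam d h hpos le_rfl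
    obtain ⟨e, he⟩ := exists_latBasis M hM h (finrank_of_basis b)
    have hd' := isOrdP_det_basis hτ b e F d hd
    have hdn := isOrdP_det_iter hτ e F d hd' h
    refine ⟨M, hM, latImg_eq_of_ord_det hτ he F h d hle ?_⟩
    rw [Fintype.card_fin, mul_comm]
    exact hdn

end Groth.Agent.H2.Isoc3
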