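import Mathlib
import Groth.Prelude.Def_Isoc
import Groth.Agent.H2.Isoc1
import Groth.Agent.H2.Isoc2

set_option autoImplicit false
set_option linter.unusedSectionVars false
set_option linter.style.haveILetI false
open scoped Pointwise
open Filter Topology

universe u v w

namespace Groth.Agent.H2.Isoc4

open Groth.Agent.H2.Isoc1 Groth.Agent.H2.Isoc2

variable {p : ℕ} [Fact p.Prime] {k : Type u} [Field k] [CharP k p] [PerfectRing k p]
variable {N : Type v} [AddCommGroup N] [Module (WittVector p k) N]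
  [Module (FractionRing (WittVector p k)) N]
  [IsScalarTower (WittVector p k) (FractionRing (WittVector p k)) N]
variable {τ : FractionRing (WittVector p k) →+* FractionRing (WittVector p k)}

local notation "𝕎" => WittVector p k
local notation "𝕃" => FractionRing (WittVector p k)

/-! ### Noetherian facts, separatedness -/

theorem fg_of_le_fg (X M : Submodule 𝕎 N) (hfg : M.FG) (h : X ≤ M) : X.FG := by
  haveI : IsNoetherian 𝕎 M := isNoetherian_of_fg_of_noetherian M hfg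
  haveI : IsNoetherian 𝕎 X := isNoetherian_of_le h
  rw [← Module.Finite.iff_fg]
  infer_instance

theorem eq_zero_of_forall_mem_pPow (M : Submodule 𝕎 N) (hfg : M.FG) (x : N)
    (h : ∀ j : ℕ, x ∈ Isoc.pPow (j : ℤ) M) : x = 0 := by
  set X : Submodule 𝕎 N := ⨅ j : ℕ, Isoc.pPow (j : ℤ) M with hX
  have hXM : X ≤ M := by
    have := iInf_le (fun j : ℕ => Isoc.pPow (j : ℤ) M) 0
    simpa [pPow_zero] using this
  have hXfg : X.FG := fg_of_le_fg X M hfg hXM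
  have hXp : X ≤ Isoc.pPow 1 X := by
    intro y hy
    rw [mem_pPow, hX, Submodule.mem_iInf]
    intro j
    rw [hX, Submodule.mem_iInf] at hy
    have := hy (j + 1)
    rw [mem_pPow] at this ⊢
    rw [smul_smul, ← zpow_add₀ pL_ne_zero]
    convert this using 3
    push_cast; ring
  have hbot := eq_bot_of_le_pPow_one X hXfg hXp
  have hx : x ∈ X := by rw [hX, Submodule.mem_iInf]; exact h
  rw [hbot] at hx
  exact (Submodule.mem_bot _).1 hx

/-! ### Quotients (S17149) -/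

theorem mapQ_iterate (F : N →ₛₗ[τ] N) (P : Submodule 𝕃 N) (hP : P ≤ P.comap F) (s : ℕ) (m : N) :
    (⇑(P.mapQ P F hP))^[s] (Submodule.Quotient.mk m) = Submodule.Quotient.mk ((⇑F)^[s] m) := by
  induction s with
  | zero => rfl
  | succ s ih =>
    rw [Function.iterate_succ_apply', Function.iterate_succ_apply', ih, Submodule.mapQ_apply]

/-- General form of S17149. -/
theorem isIsoclinic_mapQ (hτ : Tw τ) (F : N →ₛₗ[τ] N) (μ : ℚ) (hμ : Isoc.IsIsoclinic F μ)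
    (P : Submodule 𝕃 N) (hP : P ≤ P.comap F) : Isoc.IsIsoclinic (P.mapQ P F hP) μ := by
  obtain ⟨M, hM, r, s, hs, hμ', hE⟩ := hμ
  refine ⟨M.map (P.mkQ.restrictScalars 𝕎), ⟨hM.fg.map _, ?_⟩, r, s, hs, hμ', ?_⟩
  · have : ((M.map (P.mkQ.restrictScalars 𝕎) : Submodule 𝕎 (N ⧸ P)) : Set (N ⧸ P)) =
        P.mkQ '' (M : Set N) := by
      ext y; simp
    rw [this, Submodule.span_image, hM.span_eq_top, Submodule.map_top, Submodule.range_mkQ]
  · ext y
    rw [mem_latImg hτ, mem_pPow]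
    constructor
    · rintro ⟨mq, hmq, rfl⟩
      obtain ⟨m, hm, rfl⟩ := Submodule.mem_map.1 hmq
      have h1 : (⇑F)^[s] m ∈ Isoc.pPow r M := by rw [← hE]; exact iter_mem_latImg F s hm
      rw [mem_pPow] at h1
      refine Submodule.mem_map.2 ⟨_, h1, ?_⟩
      show P.mkQ (((p : 𝕃) ^ (-r)) • (⇑F)^[s] m) = _
      rw [map_smul]
      congr 1
      exact (mapQ_iterate F P hP s m).symm
    · intro hy
      obtain ⟨m, hm, hmy⟩ := Submodule.mem_map.1 hy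
      have hmy' : P.mkQ m = ((p : 𝕃) ^ (-r)) • y := hmy
      have h1 : ((p : 𝕃) ^ r) • m ∈ Isoc.latImg F s M := by rw [hE]; exact smul_mem_pPow hm
      obtain ⟨m', hm', hFm'⟩ := (mem_latImg hτ F s M _).1 h1
      refine ⟨P.mkQ m', Submodule.mem_map_of_mem (f := P.mkQ.restrictScalars 𝕎) hm', ?_⟩
      show (⇑(P.mapQ P F hP))^[s] (Submodule.Quotient.mk m') = y
      rw [mapQ_iterate, hFm']
      show P.mkQ (((p : 𝕃) ^ r) • m) = y
      rw [map_smul, hmy', smul_smul, ← zpow_add₀ pL_ne_zero, add_neg_cancel, zpow_zero, one_smul]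

/-! ### Morphisms between different slopes (S17150) -/

section Hom

variable {N₂ : Type w} [AddCommGroup N₂] [Module (WittVector p k) N₂]
  [Module (FractionRing (WittVector p k)) N₂]
  [IsScalarTower (WittVector p k) (FractionRing (WittVector p k)) N₂]

theorem map_iter (F₁ : N →ₛₗ[τ] N) (F₂ : N₂ →ₛₗ[τ] N₂) (f : N →ₗ[𝕃] N₂)
    (hf : ∀ x : N, f (F₁ x) = F₂ (f x)) (j : ℕ) (x : N) :
    f ((⇑F₁)^[j] x) = (⇑F₂)^[j] (f x) := by
  induction j with
  | zero => rfl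
  | succ j ih => rw [Function.iterate_succ_apply', Function.iterate_succ_apply', hf, ih]

/-- General form of S17150. -/
theorem hom_eq_zero (hτ : Tw τ) (F₁ : N →ₛₗ[τ] N) (F₂ : N₂ →ₛₗ[τ] N₂)
    (h₂inj : Function.Injective F₂) (μ₁ μ₂ : ℚ) (hμ₁ : Isoc.IsIsoclinic F₁ μ₁)
    (hμ₂ : Isoc.IsIsoclinic F₂ μ₂) (hne : μ₁ ≠ μ₂) (f : N →ₗ[𝕃] N₂)
    (hf : ∀ x : N, f (F₁ x) = F₂ (f x)) : f = 0 := by
  obtain ⟨M₁, hM₁, r₁, s₁, hs₁, hμ₁', hE₁⟩ := hμ₁
  obtain ⟨M₂, hM₂, r₂, s₂, hs₂, hμ₂', hE₂⟩ := hμ₂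
  have hE₁' : ∀ n : ℕ, Isoc.latImg F₁ (s₁ * s₂ * n) M₁ = Isoc.pPow (r₁ * s₂ * n) M₁ := fun n =>
    latImg_mul_eq hτ F₁ M₁ (latImg_mul_eq hτ F₁ M₁ hE₁ s₂) n
  have hE₂' : ∀ n : ℕ, Isoc.latImg F₂ (s₁ * s₂ * n) M₂ = Isoc.pPow (r₂ * s₁ * n) M₂ := fun n => by
    have := latImg_mul_eq hτ F₂ M₂ hE₂ s₁
    rw [mul_comm s₂ s₁] at this
    exact latImg_mul_eq hτ F₂ M₂ this n
  have hab : r₁ * (s₂ : ℤ) ≠ r₂ * s₁ := by
    intro hab
    apply hne
    rw [← hμ₁', ← hμ₂']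
    have h1 : (s₁ : ℚ) ≠ 0 := by exact_mod_cast hs₁.ne'
    have h2 : (s₂ : ℚ) ≠ 0 := by exact_mod_cast hs₂.ne'
    rw [div_eq_div_iff h1 h2]
    exact_mod_cast hab
  set s := s₁ * s₂ with hs
  set a : ℤ := r₁ * s₂ with ha
  set b : ℤ := r₂ * s₁ with hb
  set T : Submodule 𝕎 N₂ := M₁.map (f.restrictScalars 𝕎) with hT
  have hTfg : T.FG := hM₁.fg.map _
  have hfT : ∀ m ∈ M₁, f m ∈ T := fun m hm =>
    Submodule.mem_map_of_mem (f := f.restrictScalars 𝕎) hm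
  obtain ⟨c, hc⟩ := exists_pow_smul_mem_of_fg T M₂ hTfg hM₂.span_eq_top
  have hcL : ∀ t ∈ T, ((p : 𝕃) ^ (c : ℤ)) • t ∈ M₂ := by
    intro t ht
    rw [zpow_natCast, pnat_smul]
    exact hc t ht
  -- Claim A
  have claimA : ∀ m ∈ M₁, ∀ n : ℕ, f m ∈ Isoc.pPow (b * n - a * n - c) M₂ := by
    intro m hm n
    have h1 : ((p : 𝕃) ^ (a * n)) • m ∈ Isoc.latImg F₁ (s * n) M₁ := by
      rw [hE₁']; exact smul_mem_pPow hm
    obtain ⟨m', hm', hFm'⟩ := (mem_latImg hτ F₁ (s * n) M₁ _).1 h1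
    have h2 := hcL _ (hfT m' hm')
    have h3 : (⇑F₂)^[s * n] (((p : 𝕃) ^ (c : ℤ)) • f m') ∈ Isoc.pPow (b * n) M₂ := by
      rw [← hE₂']; exact iter_mem_latImg F₂ _ h2
    rw [iter_p_smul, ← map_iter F₁ F₂ f hf, hFm', map_smul, mem_pPow, smul_smul, smul_smul,
      ← zpow_add₀ pL_ne_zero, ← zpow_add₀ pL_ne_zero] at h3
    rw [mem_pPow]
    convert h3 using 3
    ring
  -- Claim B
  have claimB : ∀ m ∈ M₁, ∀ n : ℕ, f m ∈ Isoc.pPow (a * n - b * n - c) M₂ := by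
    intro m hm n
    have h1 : (⇑F₁)^[s * n] m ∈ Isoc.pPow (a * n) M₁ := by
      rw [← hE₁']; exact iter_mem_latImg F₁ _ hm
    rw [mem_pPow] at h1
    have h2 := hcL _ (hfT _ h1)
    have h3 : (⇑F₂)^[s * n] (f m) ∈ Isoc.pPow (a * n - c) M₂ := by
      rw [mem_pPow, ← map_iter F₁ F₂ f hf]
      rw [map_smul, smul_smul, ← zpow_add₀ pL_ne_zero] at h2
      convert h2 using 3
      ring
    have h4 : Isoc.pPow (a * n - c) M₂ =
        Isoc.latImg F₂ (s * n) (Isoc.pPow (a * n - b * n - c) M₂) := by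
      rw [latImg_pPow hτ, hE₂', pPow_pPow]
      congr 1; ring
    rw [h4] at h3
    obtain ⟨z, hz, hFz⟩ := (mem_latImg hτ F₂ (s * n) _ _).1 h3
    have := (h₂inj.iterate (s * n)) hFz
    rw [← this]
    exact hz
  have hT0 : ∀ m ∈ M₁, f m = 0 := by
    intro m hm
    apply eq_zero_of_forall_mem_pPow M₂ hM₂.fg
    intro j
    rcases lt_or_gt_of_ne hab with hlt | hgt
    · have := claimA m hm (j + c)
      refine pPow_anti M₂ ?_ this
      have h1 : 1 ≤ b - a := by omega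
      have h2 : (0 : ℤ) ≤ (j : ℤ) + c := by positivity
      have h3 : 1 * ((j : ℤ) + c) ≤ (b - a) * ((j : ℤ) + c) := mul_le_mul_of_nonneg_right h1 h2
      push_cast
      linarith
    · have := claimB m hm (j + c)
      refine pPow_anti M₂ ?_ this
      have h1 : 1 ≤ a - b := by omega
      have h2 : (0 : ℤ) ≤ (j : ℤ) + c := by positivity
      have h3 : 1 * ((j : ℤ) + c) ≤ (a - b) * ((j : ℤ) + c) := mul_le_mul_of_nonneg_right h1 h2
      push_cast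
      linarith
  have hker : Submodule.span 𝕃 (M₁ : Set N) ≤ LinearMap.ker f :=
    Submodule.span_le.2 (fun m hm => LinearMap.mem_ker.2 (hT0 m hm))
  rw [hM₁.span_eq_top] at hker
  ext x
  exact LinearMap.mem_ker.1 (hker trivial)

end Hom

/-! ### Stable subspaces -/

theorem tw_surjective (hτ : Tw τ) : Function.Surjective τ := by
  obtain ⟨e, he⟩ := hτ
  intro l
  obtain ⟨a, b, hb, rfl⟩ := IsFractionRing.div_surjective (A := 𝕎) l
  refine ⟨algebraMap 𝕎 𝕃 (e.symm a) / algebraMap 𝕎 𝕃 (e.symm b), ?_⟩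
  rw [map_div₀, he, he, RingEquiv.apply_symm_apply, RingEquiv.apply_symm_apply]

theorem mem_of_map_mem (hτ : Tw τ) (F : N →ₛₗ[τ] N) (hF : Isoc.IsIsoc F) (P : Submodule 𝕃 N)
    (hP : ∀ x ∈ P, F x ∈ P) {x : N} (hx : F x ∈ P) : x ∈ P := by
  haveI := hF.finite
  have hle : P ≤ P.comap F := fun x hx => hP x hx
  have hfin : Module.finrank 𝕃 (P.comap F) ≤ Module.finrank 𝕃 P := by
    let v := Module.finBasis 𝕃 (P.comap F)
    let G : (P.comap F) →ₛₗ[τ] P := F.restrict (p := P.comap F) (q := P) (fun x hx => hx)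
    have hli := v.linearIndependent.map_of_surjective_injective τ G.toAddMonoidHom
      (tw_surjective hτ)
      (fun m hm => by
        have h1 : F (m : N) = 0 := congrArg Subtype.val hm
        have h2 : (m : N) = 0 := hF.bijective.injective (by rw [h1, map_zero])
        exact Subtype.ext h2)
      (fun r m => map_smulₛₗ G r m)
    have := hli.fintype_card_le_finrank
    rwa [Fintype.card_fin] at this
  have heq : P = P.comap F := Submodule.eq_of_le_of_finrank_le hle hfin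
  rw [heq]
  exact hx

theorem iter_mem_of_stable (F : N →ₛₗ[τ] N) (P : Submodule 𝕃 N) (hP : ∀ x ∈ P, F x ∈ P)
    (s : ℕ) {x : N} (hx : x ∈ P) : (⇑F)^[s] x ∈ P := by
  induction s with
  | zero => exact hx
  | succ s ih => rw [Function.iterate_succ_apply']; exact hP _ ih

theorem mem_of_iter_mem (hτ : Tw τ) (F : N →ₛₗ[τ] N) (hF : Isoc.IsIsoc F) (P : Submodule 𝕃 N)
    (hP : ∀ x ∈ P, F x ∈ P) (s : ℕ) {x : N} (hx : (⇑F)^[s] x ∈ P) : x ∈ P := by
  induction s with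
  | zero => exact hx
  | succ s ih =>
    rw [Function.iterate_succ_apply'] at hx
    exact ih (mem_of_map_mem hτ F hF P hP hx)

theorem restrict_iterate (F : N →ₛₗ[τ] N) (P : Submodule 𝕃 N) (hP : ∀ x ∈ P, F x ∈ P) (s : ℕ)
    (x : P) : (((⇑(F.restrict hP))^[s] x : P) : N) = (⇑F)^[s] (x : N) := by
  induction s with
  | zero => rfl
  | succ s ih =>
    rw [Function.iterate_succ_apply', Function.iterate_succ_apply', LinearMap.coe_restrict_apply, ih]

/-! ### Isoclinic subspaces in ambient form -/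

/-- `P` carries a lattice `M` (inside `N`) with `F^s M = p^r M`, `r/s = μ`. -/
def IsoIn (F : N →ₛₗ[τ] N) (μ : ℚ) (P : Submodule 𝕃 N) : Prop :=
  ∃ M : Submodule 𝕎 N, M.FG ∧ Submodule.span 𝕃 (M : Set N) = P ∧
    ∃ (r : ℤ) (s : ℕ), 0 < s ∧ (r : ℚ) / s = μ ∧ Isoc.latImg F s M = Isoc.pPow r M

theorem isoIn_of_restrict (hτ : Tw τ) (F : N →ₛₗ[τ] N) (μ : ℚ) (P : Submodule 𝕃 N)
    (hP : ∀ x ∈ P, F x ∈ P) (h : Isoc.IsIsoclinic (F.restrict hP) μ) : IsoIn F μ P := by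
  obtain ⟨M', hM', r, s, hs, hμ, hE⟩ := h
  refine ⟨M'.map (P.subtype.restrictScalars 𝕎), hM'.fg.map _, ?_, r, s, hs, hμ, ?_⟩
  · have : ((M'.map (P.subtype.restrictScalars 𝕎) : Submodule 𝕎 N) : Set N) =
        P.subtype '' (M' : Set P) := by
      ext y; simp
    rw [this, Submodule.span_image, hM'.span_eq_top, Submodule.map_subtype_top]
  · ext y
    rw [mem_latImg hτ, mem_pPow]
    constructor
    · rintro ⟨m, hm, rfl⟩
      obtain ⟨m', hm', rfl⟩ := Submodule.mem_map.1 hm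
      have h1 : (⇑(F.restrict hP))^[s] m' ∈ Isoc.pPow r M' := by
        rw [← hE]; exact iter_mem_latImg _ s hm'
      rw [mem_pPow] at h1
      refine Submodule.mem_map.2 ⟨_, h1, ?_⟩
      show ((((p : 𝕃) ^ (-r)) • (⇑(F.restrict hP))^[s] m' : P) : N) = _
      rw [Submodule.coe_smul, restrict_iterate]
      rfl
    · intro hy
      obtain ⟨m', hm', hmy⟩ := Submodule.mem_map.1 hy
      have hmy' : (m' : N) = ((p : 𝕃) ^ (-r)) • y := hmy
      have h1 : ((p : 𝕃) ^ r) • m' ∈ Isoc.latImg (F.restrict hP) s M' := by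
        rw [hE]; exact smul_mem_pPow hm'
      obtain ⟨m'', hm'', hFm''⟩ := (mem_latImg hτ _ s M' _).1 h1
      refine ⟨(m'' : N), Submodule.mem_map_of_mem (f := P.subtype.restrictScalars 𝕎) hm'', ?_⟩
      have := congrArg Subtype.val hFm''
      rw [restrict_iterate] at this
      rw [this, Submodule.coe_smul, hmy', smul_smul, ← zpow_add₀ pL_ne_zero, add_neg_cancel,
        zpow_zero, one_smul]

theorem restrict_of_isoIn (hτ : Tw τ) (F : N →ₛₗ[τ] N) (μ : ℚ) (P : Submodule 𝕃 N)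
    (hP : ∀ x ∈ P, F x ∈ P) (h : IsoIn F μ P) : Isoc.IsIsoclinic (F.restrict hP) μ := by
  obtain ⟨M, hMfg, hMspan, r, s, hs, hμ, hE⟩ := h
  have hMP : ∀ m ∈ M, m ∈ P := fun m hm => by
    rw [← hMspan]; exact Submodule.subset_span hm
  set M' : Submodule 𝕎 P := M.comap (P.subtype.restrictScalars 𝕎) with hM'
  have hmem' : ∀ x : P, x ∈ M' ↔ (x : N) ∈ M := fun x => Iff.rfl
  have hmap : M'.map (P.subtype.restrictScalars 𝕎) = M := by
    ext y
    constructor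
    · rintro ⟨x, hx, rfl⟩; exact hx
    · intro hy; exact ⟨⟨y, hMP y hy⟩, hy, rfl⟩
  have hfg : M'.FG := by
    apply Submodule.fg_of_fg_map_injective (P.subtype.restrictScalars 𝕎)
      (fun x y hxy => Subtype.ext hxy)
    rw [hmap]; exact hMfg
  have hspan : Submodule.span 𝕃 (M' : Set P) = ⊤ := by
    apply Submodule.map_injective_of_injective P.injective_subtype
    rw [Submodule.map_span, Submodule.map_subtype_top]
    have : P.subtype '' (M' : Set P) = (M : Set N) := by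
      ext y
      constructor
      · rintro ⟨x, hx, rfl⟩; exact hx
      · intro hy; exact ⟨⟨y, hMP y hy⟩, hy, rfl⟩
    rw [this, hMspan]
  refine ⟨M', ⟨hfg, hspan⟩, r, s, hs, hμ, ?_⟩
  ext y
  rw [mem_latImg hτ, mem_pPow, hmem']
  constructor
  · rintro ⟨m, hm, rfl⟩
    rw [Submodule.coe_smul, restrict_iterate]
    have h1 : (⇑F)^[s] (m : N) ∈ Isoc.pPow r M := by
      rw [← hE]; exact iter_mem_latImg F s ((hmem' m).1 hm)
    rwa [mem_pPow] at h1
  · intro hy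
    rw [Submodule.coe_smul] at hy
    have h1 : (y : N) ∈ Isoc.latImg F s M := by rw [hE, mem_pPow]; exact hy
    obtain ⟨m, hm, hFm⟩ := (mem_latImg hτ F s M _).1 h1
    refine ⟨⟨m, hMP m hm⟩, hm, ?_⟩
    apply Subtype.ext
    rw [restrict_iterate]
    exact hFm

/-- General form of S17148 (ambient version). -/
theorem isoIn_of_stable (hτ : Tw τ) (F : N →ₛₗ[τ] N) (hF : Isoc.IsIsoc F) (μ : ℚ)
    (hμ : Isoc.IsIsoclinic F μ) (P : Submodule 𝕃 N) (hP : ∀ x ∈ P, F x ∈ P) : IsoIn F μ P := by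
  obtain ⟨M, hM, r, s, hs, hμ', hE⟩ := hμ
  set MP : Submodule 𝕎 N := M ⊓ P.restrictScalars 𝕎 with hMP
  have hmemMP : ∀ x, x ∈ MP ↔ x ∈ M ∧ x ∈ P := fun x => by
    rw [hMP, Submodule.mem_inf, Submodule.restrictScalars_mem]
  refine ⟨MP, fg_of_le_fg MP M hM.fg inf_le_left, ?_, r, s, hs, hμ', ?_⟩
  · apply le_antisymm
    · rw [Submodule.span_le]
      intro x hx
      exact ((hmemMP x).1 hx).2
    · intro x hx
      obtain ⟨c, hc⟩ := exists_pow_smul_mem M hM.span_eq_top x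
      have h1 : ((p : 𝕎) ^ c) • x ∈ MP := by
        rw [hmemMP]
        refine ⟨hc, ?_⟩
        rw [← pnat_smul]
        exact P.smul_mem _ hx
      have h2 : x = ((p : 𝕃) ^ (-(c : ℤ))) • (((p : 𝕎) ^ c) • x) := by
        rw [← pnat_smul, smul_smul, ← zpow_natCast, ← zpow_add₀ pL_ne_zero, neg_add_cancel,
          zpow_zero, one_smul]
      rw [h2]
      exact Submodule.smul_mem _ _ (Submodule.subset_span h1)
  · ext y
    rw [mem_latImg hτ, mem_pPow, hmemMP]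
    constructor
    · rintro ⟨m, hm, rfl⟩
      obtain ⟨hmM, hmP⟩ := (hmemMP m).1 hm
      have h1 : (⇑F)^[s] m ∈ Isoc.pPow r M := by rw [← hE]; exact iter_mem_latImg F s hmM
      rw [mem_pPow] at h1
      exact ⟨h1, P.smul_mem _ (iter_mem_of_stable F P hP s hmP)⟩
    · rintro ⟨hyM, hyP⟩
      have h1 : y ∈ Isoc.latImg F s M := by rw [hE, mem_pPow]; exact hyM
      obtain ⟨m, hm, hFm⟩ := (mem_latImg hτ F s M _).1 h1
      have hyP' : y ∈ P := by
        have := P.smul_mem ((p : 𝕃) ^ r) hyP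
        rwa [smul_smul, ← zpow_add₀ pL_ne_zero, add_neg_cancel, zpow_zero, one_smul] at this
      have hmP : m ∈ P := mem_of_iter_mem hτ F hF P hP s (by rw [hFm]; exact hyP')
      exact ⟨m, (hmemMP m).2 ⟨hm, hmP⟩, hFm⟩

/-- General form of S17148. -/
theorem isIsoclinic_restrict (hτ : Tw τ) (F : N →ₛₗ[τ] N) (hF : Isoc.IsIsoc F) (μ : ℚ)
    (hμ : Isoc.IsIsoclinic F μ) (P : Submodule 𝕃 N) (hP : ∀ x ∈ P, F x ∈ P) :
    Isoc.IsIsoclinic (F.restrict hP) μ :=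
  restrict_of_isoIn hτ F μ P hP (isoIn_of_stable hτ F hF μ hμ P hP)

/-! ### The slope part (S17151) -/

theorem isoIn_bot (F : N →ₛₗ[τ] N) (μ : ℚ) : IsoIn F μ ⊥ := by
  refine ⟨⊥, Submodule.fg_bot, ?_, μ.num, μ.den, μ.den_pos, Rat.num_div_den μ, ?_⟩
  · rw [Submodule.bot_coe, Submodule.span_zero_singleton]
  · rw [latImg_bot, pPow_bot]

theorem isoIn_sup (hτ : Tw τ) (F : N →ₛₗ[τ] N) (μ : ℚ) (P₁ P₂ : Submodule 𝕃 N)
    (h₁ : IsoIn F μ P₁) (h₂ : IsoIn F μ P₂) : IsoIn F μ (P₁ ⊔ P₂) := by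
  obtain ⟨M₁, hfg₁, hsp₁, r₁, s₁, hs₁, hμ₁, hE₁⟩ := h₁
  obtain ⟨M₂, hfg₂, hsp₂, r₂, s₂, hs₂, hμ₂, hE₂⟩ := h₂
  have hrs : r₁ * (s₂ : ℤ) = r₂ * s₁ := by
    have h1 : (s₁ : ℚ) ≠ 0 := by exact_mod_cast hs₁.ne'
    have h2 : (s₂ : ℚ) ≠ 0 := by exact_mod_cast hs₂.ne'
    have := hμ₁.trans hμ₂.symm
    rw [div_eq_div_iff h1 h2] at this
    exact_mod_cast this
  have hE₁' : Isoc.latImg F (s₁ * s₂) M₁ = Isoc.pPow (r₁ * s₂) M₁ := latImg_mul_eq hτ F M₁ hE₁ s₂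
  have hE₂' : Isoc.latImg F (s₁ * s₂) M₂ = Isoc.pPow (r₁ * s₂) M₂ := by
    have := latImg_mul_eq hτ F M₂ hE₂ s₁
    rwa [mul_comm s₂ s₁, ← hrs] at this
  refine ⟨M₁ ⊔ M₂, hfg₁.sup hfg₂, ?_, r₁ * s₂, s₁ * s₂, Nat.mul_pos hs₁ hs₂, ?_, ?_⟩
  · apply le_antisymm
    · rw [Submodule.span_le]
      intro x hx
      obtain ⟨x₁, hx₁, x₂, hx₂, rfl⟩ := Submodule.mem_sup.1 hx
      refine Submodule.add_mem _ (Submodule.mem_sup_left ?_) (Submodule.mem_sup_right ?_)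
      · rw [← hsp₁]; exact Submodule.subset_span hx₁
      · rw [← hsp₂]; exact Submodule.subset_span hx₂
    · rw [← hsp₁, ← hsp₂]
      exact sup_le (Submodule.span_mono (fun x hx => Submodule.mem_sup_left hx))
        (Submodule.span_mono (fun x hx => Submodule.mem_sup_right hx))
  · rw [← hμ₁]
    have h2 : (s₂ : ℚ) ≠ 0 := by exact_mod_cast hs₂.ne'
    push_cast
    rw [mul_div_mul_right _ _ h2]
  · ext y
    rw [mem_latImg hτ, mem_pPow]
    constructor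
    · rintro ⟨m, hm, rfl⟩
      obtain ⟨x₁, hx₁, x₂, hx₂, rfl⟩ := Submodule.mem_sup.1 hm
      have h1 : (⇑F)^[s₁ * s₂] x₁ ∈ Isoc.pPow (r₁ * s₂) M₁ := by
        rw [← hE₁']; exact iter_mem_latImg F _ hx₁
      have h2 : (⇑F)^[s₁ * s₂] x₂ ∈ Isoc.pPow (r₁ * s₂) M₂ := by
        rw [← hE₂']; exact iter_mem_latImg F _ hx₂
      rw [mem_pPow] at h1 h2
      rw [iter_add, smul_add]
      exact Submodule.add_mem _ (Submodule.mem_sup_left h1) (Submodule.mem_sup_right h2)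
    · intro hy
      obtain ⟨y₁, hy₁, y₂, hy₂, hyy⟩ := Submodule.mem_sup.1 hy
      have h1 : ((p : 𝕃) ^ (r₁ * (s₂ : ℤ))) • y₁ ∈ Isoc.latImg F (s₁ * s₂) M₁ := by
        rw [hE₁']; exact smul_mem_pPow hy₁
      have h2 : ((p : 𝕃) ^ (r₁ * (s₂ : ℤ))) • y₂ ∈ Isoc.latImg F (s₁ * s₂) M₂ := by
        rw [hE₂']; exact smul_mem_pPow hy₂
      obtain ⟨m₁, hm₁, hF₁⟩ := (mem_latImg hτ F _ M₁ _).1 h1
      obtain ⟨m₂, hm₂, hF₂⟩ := (mem_latImg hτ F _ M₂ _).1 h2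
      refine ⟨m₁ + m₂, Submodule.add_mem _ (Submodule.mem_sup_left hm₁)
        (Submodule.mem_sup_right hm₂), ?_⟩
      rw [iter_add, hF₁, hF₂, ← smul_add, hyy, smul_smul, ← zpow_add₀ pL_ne_zero, add_neg_cancel,
        zpow_zero, one_smul]

/-- General form of S17151. -/
theorem slopePart_isoclinic (hτ : Tw τ) (F : N →ₛₗ[τ] N) (hF : Isoc.IsIsoc F) (μ : ℚ) :
    ∃ hP : ∀ x ∈ Isoc.slopePart F μ, F x ∈ Isoc.slopePart F μ,
      Isoc.IsIsoclinic (F.restrict hP) μ := by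
  haveI := hF.finite
  set 𝒮 : Set (Submodule 𝕃 N) :=
    {P | ∃ hP : ∀ x ∈ P, F x ∈ P, Isoc.IsIsoclinic (F.restrict hP) μ} with h𝒮
  have hne : 𝒮.Nonempty := by
    refine ⟨⊥, fun x hx => ?_, ?_⟩
    · rw [Submodule.mem_bot] at hx ⊢; rw [hx, map_zero]
    · exact restrict_of_isoIn hτ F μ ⊥ _ (isoIn_bot F μ)
  have hsc : SupClosed 𝒮 := by
    rintro P₁ ⟨hP₁, h₁⟩ P₂ ⟨hP₂, h₂⟩
    have hst : ∀ x ∈ P₁ ⊔ P₂, F x ∈ P₁ ⊔ P₂ := by
      intro x hx
      obtain ⟨x₁, hx₁, x₂, hx₂, rfl⟩ := Submodule.mem_sup.1 hx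
      rw [map_add]
      exact Submodule.add_mem _ (Submodule.mem_sup_left (hP₁ _ hx₁))
        (Submodule.mem_sup_right (hP₂ _ hx₂))
    exact ⟨hst, restrict_of_isoIn hτ F μ _ hst (isoIn_sup hτ F μ P₁ P₂
      (isoIn_of_restrict hτ F μ P₁ hP₁ h₁) (isoIn_of_restrict hτ F μ P₂ hP₂ h₂))⟩
  exact ((CompleteLattice.isSupClosedCompact_iff_wellFoundedGT _).2 inferInstance) 𝒮 hne hsc

end Groth.Agent.H2.Isoc4
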