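import Mathlib
import Groth.Prelude.Def_Isoc
import Groth.Agent.H2.Isoc1
import Groth.Agent.H2.Isoc2
import Groth.Agent.H2.Isoc3
import Groth.Agent.H2.Isoc4

set_option autoImplicit false
set_option linter.unusedSectionVars false
set_option linter.style.haveILetI false
set_option backward.isDefEq.respectTransparency false
open scoped Pointwise
open Filter Topology

universe u v w

namespace Groth.Agent.H2.Isoc5

open Groth.Agent.H2.Isoc1 Groth.Agent.H2.Isoc2 Groth.Agent.H2.Isoc3 Groth.Agent.H2.Isoc4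

variable {p : ℕ} [Fact p.Prime] {k : Type u} [Field k] [CharP k p] [PerfectRing k p]
variable {N : Type v} [AddCommGroup N] [Module (WittVector p k) N]
  [Module (FractionRing (WittVector p k)) N]
  [IsScalarTower (WittVector p k) (FractionRing (WittVector p k)) N]
variable {τ : FractionRing (WittVector p k) →+* FractionRing (WittVector p k)}
variable {ι : Type*} [Fintype ι] [DecidableEq ι]

local notation "𝕎" => WittVector p k
local notation "𝕃" => FractionRing (WittVector p k)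

/-! ### S17157 -/

theorem natCast_ne_zero (m : ℕ) (hm : m ≠ 0) : (m : 𝕃) ≠ 0 := by
  obtain ⟨v, m', hm', rfl⟩ := Nat.exists_eq_pow_mul_and_not_dvd hm p (Fact.out : p.Prime).ne_one
  have h1 : ((m' : ℕ) : 𝕎) ≠ 0 := by
    intro h
    have h2 := congrArg (WittVector.constantCoeff (p := p) (R := k)) h
    rw [map_natCast, map_zero] at h2
    exact hm' ((CharP.cast_eq_zero_iff k p m').1 h2)
  push_cast
  refine mul_ne_zero (pow_ne_zero _ pL_ne_zero) ?_
  rw [← map_natCast (algebraMap 𝕎 𝕃)]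
  exact (map_ne_zero_iff _ algebraMap_injective).2 h1

theorem frob_iterate_eq [Finite k] :
    ∃ m : ℕ, 0 < m ∧ ∀ l : 𝕃, (⇑(Isoc.frob p k 1))^[m] l = l := by
  haveI := Fintype.ofFinite k
  obtain ⟨n, _, hn⟩ := FiniteField.card k p
  refine ⟨n, n.pos, ?_⟩
  have hW : ∀ w : 𝕎, (⇑(WittVector.frobenius (p := p) (R := k)))^[(n : ℕ)] w = w := by
    intro w
    ext i
    rw [WittVector.iterate_frobenius_coeff, ← hn, FiniteField.pow_card]
  have hτ : ∀ w : 𝕎, Isoc.frob p k 1 (algebraMap 𝕎 𝕃 w) =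
      algebraMap 𝕎 𝕃 (WittVector.frobenius w) := by
    intro w
    rw [Isoc.frob_algebraMap, zpow_one]
    rfl
  have hτn : ∀ (j : ℕ) (w : 𝕎), (⇑(Isoc.frob p k 1))^[j] (algebraMap 𝕎 𝕃 w) =
      algebraMap 𝕎 𝕃 ((⇑(WittVector.frobenius (p := p) (R := k)))^[j] w) := by
    intro j
    induction j with
    | zero => intro w; rfl
    | succ j ih =>
      intro w
      rw [Function.iterate_succ_apply', Function.iterate_succ_apply', ih, hτ]
  intro l
  obtain ⟨a, b, hb, rfl⟩ := IsFractionRing.div_surjective (A := 𝕎) l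
  rw [← RingHom.coe_pow, map_div₀, RingHom.coe_pow, hτn, hτn, hW, hW]

/-- S17157. -/
theorem not_isCompl [Finite k]
    (U : (Fin 2 → 𝕃) →ₛₗ[Isoc.frob p k 1] (Fin 2 → 𝕃))
    (hU0 : U (Pi.single 0 1) = Pi.single 0 1)
    (hU1 : U (Pi.single 1 1) = Pi.single 0 1 + Pi.single 1 1)
    (Q : Submodule 𝕃 (Fin 2 → 𝕃)) (hQ : ∀ x ∈ Q, U x ∈ Q) :
    ¬ IsCompl (Submodule.span 𝕃 {(Pi.single 0 1 : Fin 2 → 𝕃)}) Q := by
  intro hc
  set e₀ : Fin 2 → 𝕃 := Pi.single 0 1 with he₀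
  set e₁ : Fin 2 → 𝕃 := Pi.single 1 1 with he₁
  have htop : e₁ ∈ Submodule.span 𝕃 {e₀} ⊔ Q := by rw [hc.sup_eq_top]; trivial
  obtain ⟨y, hy, q, hq, hyq⟩ := Submodule.mem_sup.1 htop
  obtain ⟨a, rfl⟩ := Submodule.mem_span_singleton.1 hy
  have hq' : q = e₁ - a • e₀ := by rw [← hyq]; abel
  have hUq : U q = e₀ + e₁ - (Isoc.frob p k 1 a) • e₀ := by
    rw [hq', map_sub, map_smulₛₗ, hU1, hU0]
  have hdiff : U q - q = (1 - Isoc.frob p k 1 a + a) • e₀ := by
    rw [hUq, hq', add_smul, sub_smul, one_smul]; abel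
  have hmemQ : U q - q ∈ Q := Q.sub_mem (hQ q hq) hq
  have hmemS : U q - q ∈ Submodule.span 𝕃 {e₀} := by
    rw [hdiff]; exact Submodule.smul_mem _ _ (Submodule.mem_span_singleton_self _)
  have hzero : U q - q = 0 := by
    have := hc.disjoint.le_bot (Submodule.mem_inf.2 ⟨hmemS, hmemQ⟩)
    exact (Submodule.mem_bot _).1 this
  rw [hdiff] at hzero
  have hcoef : 1 - Isoc.frob p k 1 a + a = 0 := by
    have := congrFun hzero 0
    simpa [he₀] using this
  have hτa : Isoc.frob p k 1 a = a + 1 := by linear_combination -hcoef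
  obtain ⟨m, hm, hfix⟩ := frob_iterate_eq (p := p) (k := k)
  have hiter : ∀ j : ℕ, (⇑(Isoc.frob p k 1))^[j] a = a + j := by
    intro j
    induction j with
    | zero => simp
    | succ j ih =>
      rw [Function.iterate_succ_apply', ih, map_add, map_natCast, hτa]; push_cast; ring
  have := hiter m
  rw [hfix] at this
  exact natCast_ne_zero m hm.ne' (by linear_combination -this)

/-! ### Determinant of an injective semilinear map -/

theorem det_mat_ne_zero (hτ : Tw τ) (b : Module.Basis ι 𝕃 N) (F : N →ₛₗ[τ] N)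
    (hinj : Function.Injective F) : (mat b F).det ≠ 0 := by
  intro hdet
  obtain ⟨v, hv, hAv⟩ := Matrix.exists_mulVec_eq_zero_iff.2 hdet
  have hsurj := tw_surjective hτ
  choose v' hv' using fun j => hsurj (v j)
  have hrepr : ∀ j, b.repr (∑ j, v' j • b j) j = v' j := fun j =>
    congrFun (b.repr_sum_self v') j
  have hFx : F (∑ j, v' j • b j) = 0 := by
    apply b.repr.injective
    ext i
    rw [repr_map, map_zero, Finsupp.zero_apply]
    have := congrFun hAv i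
    simp only [Matrix.mulVec, dotProduct, Pi.zero_apply] at this
    rw [← this]
    refine Finset.sum_congr rfl (fun j _ => ?_)
    rw [hrepr, hv']
    rfl
  have hx0 : (∑ j, v' j • b j) = 0 := hinj (by rw [hFx, map_zero])
  apply hv
  funext j
  have := hrepr j
  rw [hx0, map_zero, Finsupp.zero_apply] at this
  rw [← hv' j, ← this, map_zero]
  rfl

/-! ### S17153 -/

theorem stable_dvd (hτ : Tw τ) (F : N →ₛₗ[τ] N) (hF : Isoc.IsIsoc F) (d : ℤ) (h : ℕ)
    (hh : 0 < h) (hiso : Isoc.IsIsoclinic F ((d : ℚ) / h)) (P : Submodule 𝕃 N)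
    (hP : ∀ x ∈ P, F x ∈ P) (hPne : P ≠ ⊥) :
    (h : ℤ) ∣ d * (Module.finrank 𝕃 P : ℤ) := by
  haveI := hF.finite
  have hres := isIsoclinic_restrict hτ F hF _ hiso P hP
  obtain ⟨M', hM', r, s, hs, hμ, hE⟩ := hres
  haveI : Nontrivial P := Submodule.nontrivial_iff_ne_bot.2 hPne
  have hFP : Isoc.IsIsoc (F.restrict hP) := by
    refine ⟨inferInstance, ?_, ?_⟩
    · intro x y hxy
      apply Subtype.ext
      apply hF.bijective.injective
      exact congrArg Subtype.val hxy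
    · intro y
      obtain ⟨x, hx⟩ := hF.bijective.surjective (y : N)
      have hxP : x ∈ P := mem_of_map_mem hτ F hF P hP (by rw [hx]; exact y.2)
      exact ⟨⟨x, hxP⟩, Subtype.ext hx⟩
  let bP : Module.Basis (Fin (Module.finrank 𝕃 P)) 𝕃 P := Module.finBasis 𝕃 P
  have hdet : (mat bP (F.restrict hP)).det ≠ 0 :=
    det_mat_ne_zero hτ bP _ hFP.bijective.injective
  obtain ⟨dP, hdP⟩ := exists_isOrdP _ hdet
  have key := (slope_of_eq hτ (F.restrict hP) hFP _ bP dP hdP M' hM' r s hs hE).2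
  have h1 : (s : ℚ) ≠ 0 := by exact_mod_cast hs.ne'
  have h2 : (h : ℚ) ≠ 0 := by exact_mod_cast hh.ne'
  rw [div_eq_div_iff h1 h2] at hμ
  have hμ' : r * (h : ℤ) = d * s := by exact_mod_cast hμ
  have h3 : (s : ℤ) * (d * (Module.finrank 𝕃 P : ℤ)) = s * (h * dP) := by
    calc (s : ℤ) * (d * (Module.finrank 𝕃 P : ℤ)) = (d * s) * (Module.finrank 𝕃 P : ℤ) := by ring
      _ = r * h * (Module.finrank 𝕃 P : ℤ) := by rw [hμ']
      _ = h * (r * (Module.finrank 𝕃 P : ℤ)) := by ring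
      _ = h * (s * dP) := by rw [key]
      _ = s * (h * dP) := by ring
  have hs' : (s : ℤ) ≠ 0 := by exact_mod_cast hs.ne'
  exact ⟨dP, mul_left_cancel₀ hs' h3⟩

theorem latImg_span (hτ : Tw τ) (F : N →ₛₗ[τ] N) (s : ℕ) (S : Set N) :
    Isoc.latImg F s (Submodule.span 𝕎 S) = Submodule.span 𝕎 ((⇑F)^[s] '' S) := by
  obtain ⟨e, he⟩ := iter_W_smul hτ F s
  apply le_antisymm
  · rw [latImg_le_iff]
    intro m hm
    induction hm using Submodule.span_induction with
    | mem x hx => exact Submodule.subset_span ⟨x, hx, rfl⟩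
    | zero => rw [iter_zero']; exact zero_mem _
    | add x y _ _ hx hy => rw [iter_add]; exact add_mem hx hy
    | smul w x _ hx => rw [he]; exact Submodule.smul_mem _ _ hx
  · exact Submodule.span_mono (Set.image_mono Submodule.subset_span)

section Std

variable (τ)

theorem stdIsoc_single (d : ℤ) (h : ℕ) (j : Fin h) :
    Isoc.stdIsoc τ d h (Pi.single j 1) =
      (if ((finRotate h) j).val = 0 then (p : 𝕃) ^ d else 1) •
        (Pi.single (finRotate h j) 1 : Fin h → 𝕃) := by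
  funext i
  rw [Isoc.stdIsoc_apply, Pi.smul_apply, smul_eq_mul, Pi.single_apply, Pi.single_apply]
  by_cases hi : i = finRotate h j
  · subst hi
    rw [Equiv.symm_apply_apply, if_pos rfl, if_pos rfl, map_one]
  · have hi' : (finRotate h).symm i ≠ j := fun hh => hi (by rw [← hh, Equiv.apply_symm_apply])
    rw [if_neg hi', if_neg hi, map_zero, mul_zero, mul_zero]

theorem stdIsoc_single_lt (d : ℤ) (n : ℕ) (i : ℕ) (hi : i < n) :
    Isoc.stdIsoc τ d (n + 1) (Pi.single (⟨i, by omega⟩ : Fin (n + 1)) 1) =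
      (Pi.single (⟨i + 1, by omega⟩ : Fin (n + 1)) 1 : Fin (n + 1) → 𝕃) := by
  rw [stdIsoc_single, finRotate_of_lt hi]
  simp

theorem stdIsoc_single_last (d : ℤ) (n : ℕ) :
    Isoc.stdIsoc τ d (n + 1) (Pi.single (⟨n, by omega⟩ : Fin (n + 1)) 1) =
      ((p : 𝕃) ^ d) • (Pi.single (⟨0, by omega⟩ : Fin (n + 1)) 1 : Fin (n + 1) → 𝕃) := by
  rw [stdIsoc_single, finRotate_last']
  simp

theorem stdIsoc_iter_e0 (d : ℤ) (n : ℕ) (i : ℕ) (hi : i < n + 1) :
    (⇑(Isoc.stdIsoc τ d (n + 1)))^[i] (Pi.single (⟨0, by omega⟩ : Fin (n + 1)) 1) =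
      (Pi.single (⟨i, hi⟩ : Fin (n + 1)) 1 : Fin (n + 1) → 𝕃) := by
  induction i with
  | zero => rfl
  | succ i ih =>
    rw [Function.iterate_succ_apply', ih (by omega), stdIsoc_single_lt τ d n i (by omega)]

theorem stdIsoc_iter_h (d : ℤ) (n : ℕ) (j : Fin (n + 1)) :
    (⇑(Isoc.stdIsoc τ d (n + 1)))^[n + 1] (Pi.single j 1) =
      ((p : 𝕃) ^ d) • (Pi.single j 1 : Fin (n + 1) → 𝕃) := by
  have h0 : (⇑(Isoc.stdIsoc τ d (n + 1)))^[n + 1] (Pi.single (⟨0, by omega⟩ : Fin (n + 1)) 1) =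
      ((p : 𝕃) ^ d) • (Pi.single (⟨0, by omega⟩ : Fin (n + 1)) 1 : Fin (n + 1) → 𝕃) := by
    rw [Function.iterate_succ_apply', stdIsoc_iter_e0 τ d n n (by omega), stdIsoc_single_last]
  have hj : (Pi.single j 1 : Fin (n + 1) → 𝕃) =
      (⇑(Isoc.stdIsoc τ d (n + 1)))^[(j : ℕ)] (Pi.single (⟨0, by omega⟩ : Fin (n + 1)) 1) :=
    (stdIsoc_iter_e0 τ d n j j.2).symm
  rw [hj, ← Function.iterate_add_apply, Nat.add_comm (n + 1) (j : ℕ), Function.iterate_add_apply, h0,
    iter_p_smul]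

variable {τ}

theorem stdIsoc_isIsoc (hτ : Tw τ) (d : ℤ) (h : ℕ) : Isoc.IsIsoc (Isoc.stdIsoc τ d h) := by
  have hc : ∀ j : Fin h, (if (j : ℕ) = 0 then (p : 𝕃) ^ d else 1) ≠ 0 := by
    intro j
    split_ifs
    · exact zpow_ne_zero _ pL_ne_zero
    · exact one_ne_zero
  refine ⟨inferInstance, ?_, ?_⟩
  · intro x y hxy
    funext j
    have := congrFun hxy (finRotate h j)
    rw [Isoc.stdIsoc_apply, Isoc.stdIsoc_apply, Equiv.symm_apply_apply] at this
    exact τ.injective (mul_left_cancel₀ (hc _) this)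
  · intro y
    choose g hg using tw_surjective hτ
    refine ⟨fun j => g ((if ((finRotate h j : Fin h) : ℕ) = 0 then (p : 𝕃) ^ d else 1)⁻¹ *
      y (finRotate h j)), ?_⟩
    funext i
    rw [Isoc.stdIsoc_apply, hg, Equiv.apply_symm_apply, ← mul_assoc, mul_inv_cancel₀ (hc i),
      one_mul]

theorem stdIsoc_isIsoclinic (hτ : Tw τ) (d : ℤ) (n : ℕ) :
    Isoc.IsIsoclinic (Isoc.stdIsoc τ d (n + 1)) ((d : ℚ) / ((n + 1 : ℕ) : ℚ)) := by
  set S : Set (Fin (n + 1) → 𝕃) :=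
    Set.range (fun j : Fin (n + 1) => (Pi.single j 1 : Fin (n + 1) → 𝕃)) with hS
  refine ⟨Submodule.span 𝕎 S, ⟨Submodule.fg_span (Set.finite_range _), ?_⟩, d, n + 1,
    Nat.succ_pos n, rfl, ?_⟩
  · rw [eq_top_iff, ← (Pi.basisFun 𝕃 (Fin (n + 1))).span_eq]
    apply Submodule.span_mono
    rintro _ ⟨j, rfl⟩
    exact Submodule.subset_span ⟨j, by simp⟩
  · rw [latImg_span hτ]
    unfold Isoc.pPow
    rw [Submodule.smul_span]
    congr 1
    ext y
    constructor
    · rintro ⟨x, ⟨j, rfl⟩, rfl⟩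
      exact ⟨Pi.single j 1, ⟨j, rfl⟩, (stdIsoc_iter_h τ d n j).symm⟩
    · rintro ⟨x, ⟨j, rfl⟩, rfl⟩
      exact ⟨Pi.single j 1, ⟨j, rfl⟩, stdIsoc_iter_h τ d n j⟩

/-- General form of S17153. -/
theorem stdIsoc_simple (hτ : Tw τ) (d : ℤ) (h : ℕ) (hh : 0 < h) (hdh : Int.gcd d h = 1)
    (P : Submodule 𝕃 (Fin h → 𝕃)) (hP : ∀ x ∈ P, Isoc.stdIsoc τ d h x ∈ P) :
    P = ⊥ ∨ P = ⊤ := by
  obtain ⟨n, rfl⟩ : ∃ n, h = n + 1 := ⟨h - 1, by omega⟩
  by_cases hPne : P = ⊥
  · exact Or.inl hPne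
  · right
    have hdvd := stable_dvd hτ _ (stdIsoc_isIsoc hτ d (n + 1)) d (n + 1) hh
      (stdIsoc_isIsoclinic hτ d n) P hP hPne
    have hcop : IsCoprime ((n + 1 : ℕ) : ℤ) d := by
      rw [Int.isCoprime_iff_gcd_eq_one, Int.gcd_comm]; exact hdh
    have h1 : ((n + 1 : ℕ) : ℤ) ∣ (Module.finrank 𝕃 P : ℤ) := hcop.dvd_of_dvd_mul_left hdvd
    have h2 : (n + 1) ∣ Module.finrank 𝕃 P := Int.natCast_dvd_natCast.1 h1
    haveI : Nontrivial P := Submodule.nontrivial_iff_ne_bot.2 hPne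
    have h3 : 0 < Module.finrank 𝕃 P := Module.finrank_pos
    have h4 : Module.finrank 𝕃 P ≤ n + 1 := by
      have := Submodule.finrank_le P
      rwa [Module.finrank_fin_fun] at this
    apply Submodule.eq_top_of_finrank_eq
    rw [Module.finrank_fin_fun]
    exact le_antisymm h4 (Nat.le_of_dvd h3 h2)

end Std

end Groth.Agent.H2.Isoc5
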