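import Mathlib
import Groth.Prelude.Def_Isoc
import Groth.Agent.H2.Isoc1
import Groth.Agent.H2.Isoc2
import Groth.Agent.H2.Isoc3

set_option autoImplicit false
set_option linter.unusedSectionVars false
set_option linter.style.haveILetI false
open scoped Pointwise
open Filter Topology

universe u v w

namespace Groth.Agent.H2.Isoc6

open Groth.Agent.H2.Isoc1 Groth.Agent.H2.Isoc2 Groth.Agent.H2.Isoc3

variable {p : ℕ} [Fact p.Prime] {k : Type u} [Field k] [CharP k p] [PerfectRing k p]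
variable {N : Type v} [AddCommGroup N] [Module (WittVector p k) N]
  [Module (FractionRing (WittVector p k)) N]
  [IsScalarTower (WittVector p k) (FractionRing (WittVector p k)) N]
variable {τ : FractionRing (WittVector p k) →+* FractionRing (WittVector p k)}

local notation "𝕎" => WittVector p k
local notation "𝕃" => FractionRing (WittVector p k)

theorem ord_det_bound (hτ : Tw τ) (F : N →ₛₗ[τ] N)
    (h : ℕ) (b : Module.Basis (Fin h) 𝕃 N) (d : ℤ) (hd : Isoc.IsOrdP (Isoc.detCoeff b F) d)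
    (M : Submodule 𝕎 N) (hM : M.IsLattice 𝕃) (n : ℕ) (rn : ℤ)
    (hle : Isoc.latImg F n M ≤ Isoc.pPow rn M) : rn * h ≤ n * d := by
  obtain ⟨e, he⟩ := exists_latBasis M hM h (finrank_of_basis b)
  have hd' := isOrdP_det_basis hτ b e F d hd
  have hdn := isOrdP_det_iter hτ e F d hd' n
  have := ord_det_ge he F n rn hdn hle
  rwa [Fintype.card_fin] at this

theorem twist_isIsoc (F : N →ₛₗ[τ] N) (hF : Isoc.IsIsoc F) (m : ℤ) (n : ℕ) :
    Isoc.IsIsoc (((p : 𝕃) ^ m) • Isoc.iter F n) := by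
  refine ⟨hF.finite, ?_⟩
  have hcoe : ⇑(((p : 𝕃) ^ m) • Isoc.iter F n) =
      (fun x : N => ((p : 𝕃) ^ m) • x) ∘ (⇑F)^[n] := by
    funext x; rfl
  rw [hcoe]
  exact (MulAction.bijective₀ (zpow_ne_zero _ pL_ne_zero)).comp (hF.bijective.iterate n)

theorem exists_ord_of_slope (hτ : Tw τ) (G : N →ₛₗ[τ] N) (hG : Isoc.IsIsoc G) [Nontrivial N]
    (ε : ℝ) (hε : Isoc.IsFirstSlope G ε) (M : Submodule 𝕎 N) (hM : M.IsLattice 𝕃) :
    ∃ o : ℕ → ℤ, (∀ n, Isoc.IsOrd M G n (o n)) ∧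
      Tendsto (fun n : ℕ => (o n : ℝ) / n) atTop (𝓝 ε) := by
  obtain ⟨o, ho, lam', hlam'⟩ := exists_ord_limit hτ G hG M hM
  obtain ⟨M₀, hM₀, o₀, ho₀, hlim₀⟩ := hε
  have := slope_unique hτ G M M₀ hM hM₀ o o₀ (fun n _ => ho n) ho₀ lam' ε hlam' hlim₀
  exact ⟨o, ho, this ▸ hlam'⟩

theorem slope_ge_of_le (hτ : Tw τ) (G : N →ₛₗ[τ] N) (hG : Isoc.IsIsoc G) [Nontrivial N]
    (ε : ℝ) (hε : Isoc.IsFirstSlope G ε) (M : Submodule 𝕎 N) (hM : M.IsLattice 𝕃)
    (a : ℤ) (t : ℕ) (ht : 0 < t) (hle : Isoc.latImg G t M ≤ Isoc.pPow a M) :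
    (a : ℝ) / t ≤ ε := by
  obtain ⟨o, ho, hlim⟩ := exists_ord_of_slope hτ G hG ε hε M hM
  have hsj : Tendsto (fun j : ℕ => t * (j + 1)) atTop atTop :=
    tendsto_atTop_mono (fun j => (Nat.le_succ j).trans (Nat.le_mul_of_pos_left (j + 1) ht))
      tendsto_id
  have h1 := hlim.comp hsj
  refine ge_of_tendsto' h1 (fun j => ?_)
  have h2 : a * ((j + 1 : ℕ) : ℤ) ≤ o (t * (j + 1)) :=
    isOrd_max (ho _) (latImg_mul_le hτ G M hle (j + 1))
  have ht' : (0 : ℝ) < t := by exact_mod_cast ht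
  have hj' : (0 : ℝ) < ((j : ℝ) + 1) := by positivity
  simp only [Function.comp_apply]
  have h3 : (a : ℝ) * ((j : ℝ) + 1) ≤ (o (t * (j + 1)) : ℝ) := by exact_mod_cast h2
  have h4 : (0 : ℝ) < ((t * (j + 1) : ℕ) : ℝ) := by push_cast; positivity
  rw [div_le_div_iff₀ ht' h4]
  push_cast
  have := mul_le_mul_of_nonneg_right h3 ht'.le
  linarith

theorem exists_le_of_slope_pos (hτ : Tw τ) (G : N →ₛₗ[τ] N) (hG : Isoc.IsIsoc G) [Nontrivial N]
    (ε : ℝ) (hε : Isoc.IsFirstSlope G ε) (hpos : 0 < ε) (M : Submodule 𝕎 N)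
    (hM : M.IsLattice 𝕃) : ∃ n₀ : ℕ, Isoc.latImg G n₀ M ≤ Isoc.pPow 1 M := by
  obtain ⟨o, ho, hlim⟩ := exists_ord_of_slope hτ G hG ε hε M hM
  have hev : ∀ᶠ j : ℕ in atTop, 0 < (o j : ℝ) / j := (tendsto_order.1 hlim).1 0 hpos
  obtain ⟨j, hj2, hj1⟩ := (hev.and (eventually_ge_atTop 1)).exists
  have hjpos : (0 : ℝ) < j := by exact_mod_cast hj1
  have hoj : 1 ≤ o j := by
    by_contra hle
    push Not at hle
    have h1 : (o j : ℝ) ≤ 0 := by exact_mod_cast (by omega : o j ≤ 0)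
    have : (o j : ℝ) / j ≤ 0 := div_nonpos_of_nonpos_of_nonneg h1 hjpos.le
    linarith
  exact ⟨j, (ho j).1.trans (pPow_anti M hoj)⟩

theorem map_p_smul (G : N →ₛₗ[τ] N) (r : ℤ) (x : N) :
    G (((p : 𝕃) ^ r) • x) = ((p : 𝕃) ^ r) • G x := by
  rw [map_smulₛₗ, map_p_zpow]

theorem nilpotent_bound (hτ : Tw τ) (G : N →ₛₗ[τ] N) [Module.Finite 𝕃 N] (h : ℕ)
    (hh : Module.finrank 𝕃 N = h) (M : Submodule 𝕎 N) (hGM : Isoc.latImg G 1 M ≤ M) (n₀ : ℕ)
    (hn₀ : Isoc.latImg G n₀ M ≤ Isoc.pPow 1 M) : Isoc.latImg G h M ≤ Isoc.pPow 1 M := by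
  rw [latImg_le_iff]
  intro x hx
  have hstab : ∀ y ∈ M, G y ∈ M := fun y hy => by
    have := (latImg_le_iff G 1 M M).1 hGM y hy
    rwa [Function.iterate_one] at this
  have hstab' : ∀ e : ℕ, (⇑G)^[e] x ∈ M := by
    intro e
    induction e with
    | zero => exact hx
    | succ e ih => rw [Function.iterate_succ_apply']; exact hstab _ ih
  have hGp : ∀ y ∈ Isoc.pPow 1 M, G y ∈ Isoc.pPow 1 M := by
    intro y hy
    rw [mem_pPow] at hy ⊢
    rw [← map_p_smul]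
    exact hstab _ hy
  have hτ' := hτ
  obtain ⟨ε₁, hε₁⟩ := hτ'
  have hGw : ∀ (w : 𝕎) (y : N), G (w • y) = ε₁ w • G y := by
    intro w y
    rw [← algebraMap_smul 𝕃 w y, map_smulₛₗ, hε₁, algebraMap_smul]
  obtain ⟨X, hX⟩ : ∃ X : ℕ → Submodule 𝕎 N, ∀ t, X t = Isoc.pPow 1 M ⊔
      Submodule.span 𝕎 {y | ∃ e, t ≤ e ∧ y = (⇑G)^[e] x} := ⟨_, fun t => rfl⟩
  have hgen : ∀ t e, t ≤ e → (⇑G)^[e] x ∈ X t := fun t e hte => by
    rw [hX]; exact Submodule.mem_sup_right (Submodule.subset_span ⟨e, hte, rfl⟩)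
  have GX : ∀ t y, y ∈ X t → G y ∈ X (t + 1) := by
    intro t y hy
    rw [hX] at hy
    obtain ⟨a, ha, b, hb, rfl⟩ := Submodule.mem_sup.1 hy
    clear hy
    rw [map_add]
    refine Submodule.add_mem _ (by rw [hX]; exact Submodule.mem_sup_left (hGp a ha)) ?_
    induction hb using Submodule.span_induction with
    | mem b hb =>
      obtain ⟨e, hte, rfl⟩ := hb
      rw [← Function.iterate_succ_apply' (⇑G) e x]
      exact hgen _ _ (by omega)
    | zero => rw [map_zero]; exact zero_mem _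
    | add b c _ _ hb hc => rw [map_add]; exact add_mem hb hc
    | smul w b _ hb => rw [hGw]; exact Submodule.smul_mem _ _ hb
  have h4 : (⇑G)^[h] x ∈ X (h + 1) := by
    obtain ⟨w, hw, i₁, hi₁⟩ := exists_relation G h hh x
    classical
    obtain ⟨j₀, hj₀, hmin⟩ := Finset.exists_min_image
      (Finset.univ.filter fun i => IsUnit (w i)) (fun i => i) ⟨i₁, by simp [hi₁]⟩
    have hj₀u : IsUnit (w j₀) := (Finset.mem_filter.1 hj₀).2
    have hlt : ∀ i, i < j₀ → ∃ b, w i = (p : 𝕎) * b := by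
      intro i hi
      apply nonunit_eq_p_mul
      intro hu
      exact absurd (hmin i (Finset.mem_filter.2 ⟨Finset.mem_univ _, hu⟩)) (not_le.2 hi)
    have hj₀h : (j₀ : ℕ) ≤ h := Nat.lt_succ_iff.1 j₀.2
    obtain ⟨ε, hε⟩ := iter_W_smul hτ G (h - j₀)
    have hrel : ∑ i : Fin (h + 1), ε (w i) • (⇑G)^[(h - (j₀ : ℕ)) + (i : ℕ)] x = 0 := by
      have := congrArg (Isoc.iter G (h - j₀)) hw
      rw [map_sum, map_zero] at this
      rw [← this]
      refine Finset.sum_congr rfl (fun i _ => ?_)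
      rw [Isoc.iter_apply, hε, Function.iterate_add_apply]
    have hterm : ∀ i : Fin (h + 1), i ≠ j₀ →
        ε (w i) • (⇑G)^[(h - (j₀ : ℕ)) + (i : ℕ)] x ∈ X (h + 1) := by
      intro i hi
      rcases lt_or_gt_of_ne hi with hlt' | hgt'
      · obtain ⟨b, hb⟩ := hlt i hlt'
        rw [hX]
        apply Submodule.mem_sup_left
        have : ε (w i) • (⇑G)^[(h - (j₀ : ℕ)) + (i : ℕ)] x =
            ((p : 𝕃) ^ (1 : ℤ)) • (ε b • (⇑G)^[(h - (j₀ : ℕ)) + (i : ℕ)] x) := by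
          rw [hb, map_mul, map_natCast, mul_smul, zpow_one, ← algebraMap_smul 𝕃 (p : 𝕎),
            map_natCast]
        rw [this]
        exact smul_mem_pPow (M.smul_mem _ (hstab' _))
      · have hi' : (j₀ : ℕ) < i := hgt'
        have := hgen (h + 1) ((h - (j₀ : ℕ)) + (i : ℕ)) (by omega)
        rw [hX] at this ⊢
        exact Submodule.smul_mem _ _ this
    have hj₀term : ε (w j₀) • (⇑G)^[(h - (j₀ : ℕ)) + (j₀ : ℕ)] x ∈ X (h + 1) := by
      have := Finset.add_sum_erase Finset.univ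
        (fun i : Fin (h + 1) => ε (w i) • (⇑G)^[(h - (j₀ : ℕ)) + (i : ℕ)] x) (Finset.mem_univ j₀)
      rw [hrel] at this
      have h2 : ε (w j₀) • (⇑G)^[(h - (j₀ : ℕ)) + (j₀ : ℕ)] x =
          - ∑ i ∈ Finset.univ.erase j₀, ε (w i) • (⇑G)^[(h - (j₀ : ℕ)) + (i : ℕ)] x :=
        eq_neg_of_add_eq_zero_left this
      rw [h2]
      exact (X (h + 1)).neg_mem ((X (h + 1)).sum_mem
        (fun i hi => hterm i (Finset.ne_of_mem_erase hi)))
    have hexp : (h - (j₀ : ℕ)) + (j₀ : ℕ) = h := by omega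
    rw [hexp] at hj₀term
    have hu : IsUnit (ε (w j₀)) := hj₀u.map ε
    obtain ⟨u, hu'⟩ := hu
    rw [← hu'] at hj₀term
    have := (X (h + 1)).smul_mem ((u⁻¹ : 𝕎ˣ) : 𝕎) hj₀term
    rwa [smul_smul, ← Units.val_mul, inv_mul_cancel, Units.val_one, one_smul] at this
  have h5 : ∀ e, (⇑G)^[h + e] x ∈ X (h + 1 + e) := by
    intro e
    induction e with
    | zero => exact h4
    | succ e ih =>
      have := GX _ _ ih
      rw [← Function.iterate_succ_apply' (⇑G) (h + e) x] at this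
      exact this
  have h6 : ∀ e, X h ≤ X (h + e) := by
    intro e
    induction e with
    | zero => exact le_rfl
    | succ e ih =>
      refine ih.trans ?_
      rw [hX (h + e)]
      refine sup_le (by rw [hX]; exact le_sup_left) (Submodule.span_le.2 ?_)
      rintro _ ⟨e', he', rfl⟩
      rcases Nat.eq_or_lt_of_le he' with heq | hlt
      · rw [← heq]
        have := h5 e
        rwa [show h + 1 + e = h + (e + 1) by omega] at this
      · exact hgen _ _ hlt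
  have h7 : X (h + n₀) ≤ Isoc.pPow 1 M := by
    rw [hX]
    refine sup_le le_rfl (Submodule.span_le.2 ?_)
    rintro _ ⟨e', he', rfl⟩
    have : (⇑G)^[e'] x = (⇑G)^[n₀] ((⇑G)^[e' - n₀] x) := by
      rw [← Function.iterate_add_apply]; congr 1; omega
    rw [this]
    exact hn₀ (iter_mem_latImg G n₀ (hstab' _))
  exact h7 (h6 n₀ (hgen h h le_rfl))

/-- General form of S17146. -/
theorem rationality (hτ : Tw τ) (F : N →ₛₗ[τ] N) (hF : Isoc.IsIsoc F) (h : ℕ)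
    (b : Module.Basis (Fin h) 𝕃 N) (d : ℤ) (hd : Isoc.IsOrdP (Isoc.detCoeff b F) d) (lam : ℝ)
    (hlam : Isoc.IsFirstSlope F lam) :
    ∃ (r : ℤ) (s : ℕ) (M : Submodule 𝕎 N), 0 < s ∧ s ≤ h ∧ lam = (r : ℝ) / s ∧
      M.IsLattice 𝕃 ∧ Isoc.IsOrd M F s r ∧ r * h ≤ s * d := by
  haveI := hF.finite
  have hfr : Module.finrank 𝕃 N = h := finrank_of_basis b
  haveI : Nontrivial N := by
    obtain ⟨M, hM, o, ho, _⟩ := hlam
    obtain ⟨x, _, hx⟩ := Submodule.exists_mem_ne_zero_of_ne_bot (isOrd_ne_bot (ho 1 le_rfl))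
    exact ⟨⟨x, 0, hx⟩⟩
  have hpos : 0 < h := by rw [← hfr]; exact Module.finrank_pos
  obtain ⟨r, k', hk0, hkh, habs⟩ := Real.exists_int_int_abs_mul_sub_le lam hpos
  obtain ⟨s, rfl⟩ : ∃ s : ℕ, k' = s := ⟨k'.toNat, (Int.toNat_of_nonneg hk0.le).symm⟩
  have hs : 0 < s := by exact_mod_cast hk0
  have hsh : s ≤ h := by exact_mod_cast hkh
  have hτs := hτ.pow s
  have hGiso := twist_isIsoc F hF (-r) s
  have hGslope := firstSlope_twist F lam hlam (-r) s
  obtain ⟨ε, hεdef⟩ : ∃ ε : ℝ, ε = (s : ℝ) * lam + ((-r : ℤ) : ℝ) := ⟨_, rfl⟩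
  rw [← hεdef] at hGslope
  have hεabs : |ε| ≤ 1 / ((h : ℝ) + 1) := by
    have : ε = ((s : ℤ) : ℝ) * lam - (r : ℝ) := by rw [hεdef]; push_cast; ring
    rw [this]; exact habs
  have hG'iso := twist_isIsoc _ hGiso 1 (h + 1)
  have hG'slope := firstSlope_twist _ _ hGslope 1 (h + 1)
  have hh1 : (0 : ℝ) < (h : ℝ) + 1 := by positivity
  have hG'nonneg : ((0 : ℤ) : ℝ) / ((1 : ℕ) : ℝ) ≤
      ((h + 1 : ℕ) : ℝ) * ε + ((1 : ℤ) : ℝ) := by
    have h1 := (abs_le.1 hεabs).1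
    have h2 : ((h : ℝ) + 1) * (-(1 / ((h : ℝ) + 1))) = -1 := by field_simp
    have h3 := mul_le_mul_of_nonneg_left h1 hh1.le
    have h0 : ((0 : ℤ) : ℝ) / ((1 : ℕ) : ℝ) = 0 := by norm_num
    rw [h0]
    push_cast
    linarith
  obtain ⟨M', hM', hM'le⟩ := exists_lattice_of_le_slope (hτs.pow (h + 1)) _ hG'iso _ hG'slope 0 1
    one_pos hG'nonneg
  have hGM' : Isoc.latImg (((p : 𝕃) ^ (-r)) • Isoc.iter F s) (h + 1) M' ≤ Isoc.pPow (-1) M' := by
    rw [latImg_le_iff] at hM'le ⊢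
    intro x hx
    have := hM'le x hx
    rw [Function.iterate_one, LinearMap.smul_apply, Isoc.iter_apply, pPow_zero] at this
    rw [mem_pPow, neg_neg]
    exact this
  obtain ⟨M, hM, hst⟩ := zink hτs _ hGiso h hfr M' hM' hGM'
  have hε0 : 0 ≤ ε := by
    have := slope_ge_of_le hτs _ hGiso _ hGslope M hM 0 1 one_pos (by rw [pPow_zero]; exact hst)
    simpa using this
  have hε0' : ε ≤ 0 := by
    by_contra hpos'
    push Not at hpos'
    obtain ⟨n₀, hn₀⟩ := exists_le_of_slope_pos hτs _ hGiso _ hGslope hpos' M hM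
    have hnb := nilpotent_bound hτs _ h hfr M hst n₀ hn₀
    have h1 := slope_ge_of_le hτs _ hGiso _ hGslope M hM 1 h hpos hnb
    have h2 := (abs_le.1 hεabs).2
    have hh' : (0 : ℝ) < h := by exact_mod_cast hpos
    have h3 : (1 : ℝ) / ((h : ℝ) + 1) < 1 / (h : ℝ) :=
      one_div_lt_one_div_of_lt hh' (by linarith)
    have h4 : ((1 : ℤ) : ℝ) / (h : ℝ) = 1 / (h : ℝ) := by norm_num
    rw [h4] at h1
    linarith
  have hεz : ε = 0 := le_antisymm hε0' hε0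
  have hFle : Isoc.latImg F s M ≤ Isoc.pPow r M := by
    have := (latImg_twist_le_iff F (-r) s 1 M 0).1 (by rw [pPow_zero]; exact hst)
    rwa [mul_one, Nat.cast_one, mul_one, zero_sub, neg_neg] at this
  refine ⟨r, s, M, hs, hsh, ?_, hM, ⟨hFle, ?_⟩, ?_⟩
  · have hs' : (s : ℝ) ≠ 0 := by exact_mod_cast hs.ne'
    rw [hεdef] at hεz
    push_cast at hεz
    field_simp
    linarith
  · intro hle
    have h1 : Isoc.latImg (((p : 𝕃) ^ (-r)) • Isoc.iter F s) 1 M ≤ Isoc.pPow 1 M := by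
      refine (latImg_twist_le_iff F (-r) s 1 M 1).2 ?_
      rw [mul_one, Nat.cast_one, mul_one, sub_neg_eq_add, add_comm]
      exact hle
    have h2 := slope_ge_of_le hτs _ hGiso _ hGslope M hM 1 1 one_pos h1
    norm_num at h2
    linarith
  · exact ord_det_bound hτ F h b d hd M hM s r hFle

end Groth.Agent.H2.Isoc6
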