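import Mathlib
import Groth.Agent.H2.FrobSemi

/-!
Frobenius-semilinear bijections of finite free modules over `W(k)`, `k` algebraically closed:
existence of a basis of fixed vectors.
-/

namespace Groth.Agent.H2.WittFix

open Module

universe u v

section approx

variable {W : Type*} [CommRing W] {M : Type*} [AddCommGroup M] [Module W M]

/-- auxiliary sequence -/
def ysSeq (Z : M → M) (y : M) : ℕ → M
  | 0 => y
  | (j+1) => - Z (ysSeq Z y j)

/-- successive approximation -/
theorem surj_of_approx (π : W) (F : M →+ M) (hFπ : ∀ m, F (π • m) = π • F m)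
    (ha : ∀ y : M, ∃ x z : M, F x - x = y + π • z)
    (hb : ∀ t : ℕ → M, ∃ L : M, ∀ n, ∃ u : M,
      L = ∑ j ∈ Finset.range n, π ^ j • t j + π ^ n • u)
    (hc : ∀ m : M, (∀ n : ℕ, ∃ u : M, m = π ^ n • u) → m = 0) :
    ∀ y : M, ∃ x, F x - x = y := by
  intro y
  choose X Z hXZ using ha
  have yss : ∀ j, ysSeq Z y (j+1) = - Z (ysSeq Z y j) := fun j => rfl
  have hstep : ∀ j, F (X (ysSeq Z y j)) - X (ysSeq Z y j) =
      ysSeq Z y j - π • ysSeq Z y (j+1) := by
    intro j; rw [hXZ, yss, smul_neg, sub_neg_eq_add]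
  have hFpow : ∀ (n : ℕ) (m : M), F (π ^ n • m) = π ^ n • F m := by
    intro n
    induction n with
    | zero => intro m; simp
    | succ n ih => intro m; rw [pow_succ, mul_smul, ih, hFπ, mul_smul]
  have htel : ∀ n, ∑ j ∈ Finset.range n, π ^ j • (F (X (ysSeq Z y j)) - X (ysSeq Z y j)) =
      y - π ^ n • ysSeq Z y n := by
    intro n
    induction n with
    | zero => simp [ysSeq]
    | succ n ih =>
      rw [Finset.sum_range_succ, ih, hstep, smul_sub, smul_smul, ← pow_succ]; abel
  obtain ⟨L, hL⟩ := hb (fun j => X (ysSeq Z y j))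
  refine ⟨L, ?_⟩
  rw [← sub_eq_zero]
  apply hc
  intro n
  obtain ⟨u, hu⟩ := hL n
  refine ⟨F u - u - ysSeq Z y n, ?_⟩
  have h1 : F L - L = (∑ j ∈ Finset.range n, π ^ j • (F (X (ysSeq Z y j)) - X (ysSeq Z y j))) +
      π ^ n • (F u - u) := by
    rw [hu, map_add, map_sum]
    simp only [hFpow, smul_sub, Finset.sum_sub_distrib]
    abel
  rw [h1, htel]
  simp only [smul_sub]
  abel

end approx

section witt

variable {p : ℕ} [hp : Fact p.Prime] {k : Type u} [Field k] [CharP k p] [PerfectRing k p]


lemma W_sep (x : WittVector p k) (h : ∀ n : ℕ, ∃ u : WittVector p k, x = (p : WittVector p k) ^ n * u) : x = 0 := by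
  ext i
  obtain ⟨u, hu⟩ := h (i+1)
  have h1 : x ∈ Ideal.span {((p : WittVector p k)) ^ (i+1)} := Ideal.mem_span_singleton.2 ⟨u, hu⟩
  rw [WittVector.mem_span_p_pow_iff_le_coeff_eq_zero] at h1
  simpa using h1 i (Nat.lt_succ_self i)

lemma W_series (t : ℕ → WittVector p k) : ∃ L : WittVector p k, ∀ n, ∃ u : WittVector p k,
    L = ∑ j ∈ Finset.range n, (p : WittVector p k) ^ j * t j + (p : WittVector p k) ^ n * u := by
  have hprec : IsPrecomplete (Ideal.span {(p : WittVector p k)}) (WittVector p k) :=
    (WittVector.isAdicCompleteIdealSpanP (p := p) (k := k)).toIsPrecomplete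
  obtain ⟨L, hL⟩ := hprec.prec' (fun n => ∑ j ∈ Finset.range n, (p : WittVector p k) ^ j * t j) (by
    intro m n hmn
    rw [SModEq.sub_mem, smul_eq_mul, Ideal.mul_top, Ideal.span_singleton_pow,
      Ideal.mem_span_singleton, ← Finset.sum_range_add_sum_Ico _ hmn, sub_add_cancel_left]
    apply (dvd_neg).2
    apply Finset.dvd_sum
    intro j hj
    exact Dvd.dvd.mul_right (pow_dvd_pow _ (Finset.mem_Ico.1 hj).1) _)
  refine ⟨L, fun n => ?_⟩
  have h1 := hL n
  rw [SModEq.sub_mem, smul_eq_mul, Ideal.mul_top, Ideal.span_singleton_pow,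
    Ideal.mem_span_singleton] at h1
  obtain ⟨c, hc⟩ := h1
  refine ⟨-c, ?_⟩
  rw [mul_neg, ← hc]; ring

variable {M : Type v} [AddCommGroup M] [Module (WittVector p k) M] {ι₀ : Type v} [Fintype ι₀]

lemma M_sep (E : M ≃ₗ[WittVector p k] (ι₀ → WittVector p k)) (m : M)
    (h : ∀ n : ℕ, ∃ u : M, m = (p : WittVector p k) ^ n • u) : m = 0 := by
  apply E.injective
  rw [map_zero]
  funext i
  apply W_sep
  intro n
  obtain ⟨u, hu⟩ := h n
  exact ⟨E u i, by rw [hu, map_smul]; rfl⟩

lemma M_series (E : M ≃ₗ[WittVector p k] (ι₀ → WittVector p k)) (t : ℕ → M) : ∃ L : M, ∀ n, ∃ u : M,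
    L = ∑ j ∈ Finset.range n, (p : WittVector p k) ^ j • t j + (p : WittVector p k) ^ n • u := by
  have h := fun i : ι₀ => W_series (fun j => E (t j) i)
  choose L hL using h
  choose U hU using hL
  refine ⟨E.symm L, fun n => ⟨E.symm (fun i => U i n), ?_⟩⟩
  apply E.injective
  rw [LinearEquiv.apply_symm_apply, map_add, map_sum, map_smul, LinearEquiv.apply_symm_apply]
  funext i
  simp only [Pi.add_apply, Finset.sum_apply, map_smul, Pi.smul_apply, smul_eq_mul]
  exact hU i n

/-- reduction mod `p` in coordinates -/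
noncomputable def red (E : M ≃ₗ[WittVector p k] (ι₀ → WittVector p k)) : M →+ (ι₀ → k) where
  toFun m := fun i => WittVector.constantCoeff (E m i)
  map_zero' := by funext i; simp
  map_add' := fun m m' => by
    funext i
    show WittVector.constantCoeff (E (m + m') i) =
      WittVector.constantCoeff (E m i) + WittVector.constantCoeff (E m' i)
    rw [map_add, Pi.add_apply, map_add]

lemma red_smul (E : M ≃ₗ[WittVector p k] (ι₀ → WittVector p k)) (a : WittVector p k) (m : M) :
    red E (a • m) = WittVector.constantCoeff a • red E m := by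
  funext i
  show WittVector.constantCoeff (E (a • m) i) =
    WittVector.constantCoeff a * WittVector.constantCoeff (E m i)
  rw [map_smul, Pi.smul_apply, smul_eq_mul, map_mul]

lemma red_eq_zero_iff (E : M ≃ₗ[WittVector p k] (ι₀ → WittVector p k)) (m : M) :
    red E m = 0 ↔ ∃ t : M, m = (p : WittVector p k) • t := by
  constructor
  · intro h
    have h1 : ∀ i, ∃ c : WittVector p k, E m i = (p : WittVector p k) * c := by
      intro i
      have h2 : (E m i).coeff 0 = 0 := congrFun h i
      rw [← WittVector.mem_span_p_iff_coeff_zero_eq_zero, Ideal.mem_span_singleton] at h2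
      exact h2
    choose c hc using h1
    refine ⟨E.symm c, ?_⟩
    apply E.injective
    rw [map_smul, LinearEquiv.apply_symm_apply]
    funext i
    rw [hc i]; rfl
  · rintro ⟨t, rfl⟩
    rw [red_smul]
    have h2 : WittVector.constantCoeff ((p : WittVector p k)) = (0 : k) := by
      rw [map_natCast]; exact CharP.cast_eq_zero k p
    rw [h2, zero_smul]

/-- Teichmüller lift in coordinates -/
noncomputable def lift (E : M ≃ₗ[WittVector p k] (ι₀ → WittVector p k)) (v : ι₀ → k) : M :=
  E.symm (fun i => WittVector.teichmuller p (v i))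

lemma red_lift (E : M ≃ₗ[WittVector p k] (ι₀ → WittVector p k)) (v : ι₀ → k) : red E (lift E v) = v := by
  funext i
  show WittVector.constantCoeff (E (E.symm _) i) = v i
  rw [LinearEquiv.apply_symm_apply]; rfl

theorem main [IsAlgClosed k] [DecidableEq ι₀] (ν : ℕ) (hν : 1 ≤ ν)
    (e : Basis ι₀ (WittVector p k) M) (F : M →+ M)
    (hF : ∀ (a : WittVector p k) (m : M),
      F (a • m) = ((⇑(WittVector.frobenius : WittVector p k →+* WittVector p k))^[ν] a) • F m)
    (hbij : Function.Bijective F) :
    ∃ b : Basis ι₀ (WittVector p k) M, ∀ i, F (b i) = b i := by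
  classical
  obtain ⟨E, hE⟩ : ∃ E : M ≃ₗ[WittVector p k] (ι₀ → WittVector p k), E = e.equivFun := ⟨_, rfl⟩
  have hp2 : 2 ≤ p ^ ν := by
    have h1 : 2 ≤ p := hp.out.two_le
    calc 2 ≤ p := h1
      _ = p ^ 1 := (pow_one p).symm
      _ ≤ p ^ ν := Nat.pow_le_pow_right (by omega) hν
  have hΦp : (⇑(WittVector.frobenius : WittVector p k →+* WittVector p k))^[ν] (p : WittVector p k) = p :=
    Function.iterate_fixed (map_natCast _ p) ν
  have hFp : ∀ m, F ((p : WittVector p k) • m) = (p : WittVector p k) • F m := fun m => by rw [hF, hΦp]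
  have hcc : ∀ (n : ℕ) (a : WittVector p k),
      WittVector.constantCoeff ((⇑(WittVector.frobenius : WittVector p k →+* WittVector p k))^[n] a) =
        (WittVector.constantCoeff a) ^ (p ^ n) := by
    intro n a
    induction n with
    | zero => simp
    | succ n ih =>
      rw [Function.iterate_succ_apply']
      show (WittVector.frobenius _).coeff 0 = _
      rw [WittVector.coeff_frobenius_charP]
      show (WittVector.constantCoeff _) ^ p = _
      rw [ih, ← pow_mul, ← pow_succ]
  have K1 : ∀ m m', red E m = red E m' → red E (F m) = red E (F m') := by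
    intro m m' h
    have h0 : red E (m - m') = 0 := by rw [map_sub, h, sub_self]
    obtain ⟨t, ht⟩ := (red_eq_zero_iff E _).1 h0
    have h1 : F m - F m' = (p : WittVector p k) • F t := by rw [← map_sub, ht, hFp]
    have h2 : red E (F m - F m') = 0 := (red_eq_zero_iff E _).2 ⟨_, h1⟩
    rw [map_sub, sub_eq_zero] at h2
    exact h2
  haveI : ExpChar k p := ExpChar.prime hp.out
  let fb : (ι₀ → k) →ₛₗ[iterateFrobenius k p ν] (ι₀ → k) :=
    { toFun := fun v => red E (F (lift E v))
      map_add' := fun v v' => by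
        rw [K1 (lift E (v + v')) (lift E v + lift E v')
          (by rw [map_add, red_lift, red_lift, red_lift]), map_add, map_add]
      map_smul' := fun c v => by
        rw [K1 (lift E (c • v)) (WittVector.teichmuller p c • lift E v)
          (by rw [red_lift, red_smul, red_lift]; rfl), hF, red_smul, hcc]
        rfl }
  have hfb : ∀ m, fb (red E m) = red E (F m) := fun m => K1 _ _ (red_lift E _)
  have hinj : Function.Injective fb := by
    rw [injective_iff_map_eq_zero]
    intro v hv
    have h1 : red E (F (lift E v)) = 0 := hv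
    obtain ⟨t, ht⟩ := (red_eq_zero_iff E _).1 h1
    obtain ⟨t', rfl⟩ := hbij.2 t
    rw [← hFp] at ht
    have h2 := hbij.1 ht
    have h3 : red E (lift E v) = 0 := (red_eq_zero_iff E _).2 ⟨t', h2⟩
    rwa [red_lift] at h3
  have hσ : ∀ c : k, (iterateFrobenius k p ν) c = c ^ (p ^ ν) := fun c => rfl
  have hsurjb := FrobSemi.surj_sub_id (iterateFrobenius k p ν) (p ^ ν) hp2 hσ _ (ι₀ → k) fb rfl
  have hspan := FrobSemi.span_fixed_eq_top (iterateFrobenius k p ν) (p ^ ν) hp2 hσ _
    (ι₀ → k) fb hinj rfl
  have hsurj : ∀ y : M, ∃ x, F x - x = y := by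
    apply surj_of_approx (p : WittVector p k) F hFp
    · intro y
      obtain ⟨v', hv'⟩ := hsurjb (red E y)
      have h0 : red E (F (lift E v') - lift E v' - y) = 0 := by
        rw [map_sub, map_sub, ← hfb, red_lift]
        have h5 : fb v' - v' = red E y := hv'
        rw [h5, sub_self]
      obtain ⟨z, hz⟩ := (red_eq_zero_iff E _).1 h0
      exact ⟨lift E v', z, by rw [← hz]; abel⟩
    · exact M_series E
    · exact M_sep E
  obtain ⟨bb, hbb⟩ : ∃ bb : Basis ι₀ k (ι₀ → k), ∀ j, fb (bb j) = bb j := by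
    have hb0 : ∀ i, fb (Module.Basis.ofSpan hspan.ge i) = Module.Basis.ofSpan hspan.ge i :=
      fun i => Module.Basis.ofSpan_subset hspan.ge ⟨i, rfl⟩
    refine ⟨(Module.Basis.ofSpan hspan.ge).reindex
      ((Module.Basis.ofSpan hspan.ge).indexEquiv (Pi.basisFun k ι₀)), fun j => ?_⟩
    rw [Module.Basis.reindex_apply]; exact hb0 _
  have hlift : ∀ j, ∃ m : M, F m = m ∧ red E m = bb j := by
    intro j
    have h0 : red E (F (lift E (bb j)) - lift E (bb j)) = 0 := by
      rw [map_sub, ← hfb, red_lift, hbb, sub_self]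
    obtain ⟨c', hc'⟩ := (red_eq_zero_iff E _).1 h0
    obtain ⟨t', ht'⟩ := hsurj (-c')
    refine ⟨lift E (bb j) + (p : WittVector p k) • t', ?_, ?_⟩
    · rw [map_add, hFp]
      have h4 : F t' = t' - c' := by
        have h6 := ht'
        rw [sub_eq_iff_eq_add] at h6
        rw [h6]; abel
      have h5 : F (lift E (bb j)) = lift E (bb j) + (p : WittVector p k) • c' := by rw [← hc']; abel
      rw [h4, h5, smul_sub]; abel
    · rw [map_add, red_lift, (red_eq_zero_iff E _).2 ⟨t', rfl⟩, add_zero]
  choose b hbF hbred using hlift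
  have hdet : IsUnit (e.det b) := by
    rw [Module.Basis.det_apply]
    apply WittVector.isUnit_of_coeff_zero_ne_zero
    show WittVector.constantCoeff (Matrix.det (e.toMatrix b)) ≠ 0
    rw [RingHom.map_det]
    have hmat : (WittVector.constantCoeff : WittVector p k →+* k).mapMatrix (e.toMatrix b) =
        (Pi.basisFun k ι₀).toMatrix bb := by
      ext i j
      rw [RingHom.mapMatrix_apply, Matrix.map_apply, Module.Basis.toMatrix_apply,
        Module.Basis.toMatrix_apply, Pi.basisFun_repr, ← hbred j, hE]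
      rfl
    rw [hmat]
    have h1 := Module.Basis.toMatrix_mul_toMatrix_flip (Pi.basisFun k ι₀) bb
    have h2 := congrArg Matrix.det h1
    rw [Matrix.det_mul, Matrix.det_one] at h2
    exact left_ne_zero_of_mul_eq_one h2
  obtain ⟨hli, hsp⟩ := (Module.Basis.is_basis_iff_det e).2 hdet
  exact ⟨Module.Basis.mk hli hsp.ge, fun i => by rw [Module.Basis.coe_mk]; exact hbF i⟩

end witt

end Groth.Agent.H2.WittFix
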