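import Mathlib
import Groth.Prelude.Def_Isoc
import Groth.Agent.H2.WittFix
import Groth.Agent.H2.Isoc1
import Groth.Agent.H2.Isoc2
import Groth.Agent.H2.Isoc3
import Groth.Agent.H2.Isoc4
import Groth.Agent.H2.Isoc6

set_option autoImplicit false
set_option linter.unusedSectionVars false
set_option linter.style.haveILetI false
open scoped Pointwise
open Filter Topology

universe u v w

namespace Groth.Agent.H2.Isoc7

open Groth.Agent.H2.Isoc1 Groth.Agent.H2.Isoc2 Groth.Agent.H2.Isoc3 Groth.Agent.H2.Isoc4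
  Groth.Agent.H2.Isoc6

variable {p : ℕ} [Fact p.Prime] {k : Type u} [Field k] [CharP k p] [PerfectRing k p]
variable {N : Type v} [AddCommGroup N] [Module (WittVector p k) N]
  [Module (FractionRing (WittVector p k)) N]
  [IsScalarTower (WittVector p k) (FractionRing (WittVector p k)) N]
variable {τ : FractionRing (WittVector p k) →+* FractionRing (WittVector p k)}
variable {ι : Type*} [Fintype ι] [DecidableEq ι]

local notation "𝕎" => WittVector p k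
local notation "𝕃" => FractionRing (WittVector p k)

/-! ### Part A: general lattice facts -/

theorem exists_pow_smul_mem' (M : Submodule 𝕎 N) (x : N)
    (hx : x ∈ Submodule.span 𝕃 (M : Set N)) : ∃ c : ℕ, ((p : 𝕎) ^ c) • x ∈ M := by
  induction hx using Submodule.span_induction with
  | mem x hx => exact ⟨0, by rw [pow_zero, one_smul]; exact hx⟩
  | zero => exact ⟨0, by rw [smul_zero]; exact M.zero_mem⟩
  | add x y _ _ hx hy =>
    obtain ⟨c, hc⟩ := hx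
    obtain ⟨c', hc'⟩ := hy
    refine ⟨c + c', ?_⟩
    have h1 : ((p : 𝕎) ^ (c + c')) • x = ((p : 𝕎) ^ c') • (((p : 𝕎) ^ c) • x) := by
      rw [smul_smul, ← pow_add, add_comm]
    have h2 : ((p : 𝕎) ^ (c + c')) • y = ((p : 𝕎) ^ c) • (((p : 𝕎) ^ c') • y) := by
      rw [smul_smul, ← pow_add]
    rw [smul_add, h1, h2]
    exact M.add_mem (M.smul_mem _ hc) (M.smul_mem _ hc')
  | smul l x _ hx =>
    obtain ⟨c, hc⟩ := hx
    obtain ⟨n, w, hw⟩ := exists_pow_mul_eq_algebraMap (p := p) (k := k) l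
    refine ⟨n + c, ?_⟩
    have : ((p : 𝕎) ^ (n + c)) • (l • x) = w • (((p : 𝕎) ^ c) • x) := by
      rw [← algebraMap_smul 𝕃 ((p : 𝕎) ^ (n + c)) (l • x), ← algebraMap_smul 𝕃 w,
        ← algebraMap_smul 𝕃 ((p : 𝕎) ^ c) x, ← hw, smul_smul, smul_smul, map_pow, map_pow,
        map_natCast, pow_add]
      congr 1
      ring
    rw [this]
    exact M.smul_mem _ hc

theorem exists_pow_smul_mem_of_fg' (M₁ M₂ : Submodule 𝕎 N) (h₁ : M₁.FG)
    (h₂ : ∀ x ∈ M₁, x ∈ Submodule.span 𝕃 (M₂ : Set N)) :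
    ∃ c : ℕ, ∀ x ∈ M₁, ((p : 𝕎) ^ c) • x ∈ M₂ := by
  revert h₂
  induction M₁, h₁ using Submodule.fg_induction with
  | singleton x =>
    intro h₂
    obtain ⟨c, hc⟩ := exists_pow_smul_mem' M₂ x (h₂ x (Submodule.mem_span_singleton_self x))
    refine ⟨c, fun y hy => ?_⟩
    obtain ⟨w, rfl⟩ := Submodule.mem_span_singleton.1 hy
    rw [smul_comm]
    exact M₂.smul_mem _ hc
  | sup A B _ _ hA hB =>
    intro h₂
    obtain ⟨c, hc⟩ := hA (fun x hx => h₂ x (Submodule.mem_sup_left hx))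
    obtain ⟨c', hc'⟩ := hB (fun x hx => h₂ x (Submodule.mem_sup_right hx))
    refine ⟨c + c', fun z hz => ?_⟩
    obtain ⟨x, hx, y, hy, rfl⟩ := Submodule.mem_sup.1 hz
    have h1 : ((p : 𝕎) ^ (c + c')) • x = ((p : 𝕎) ^ c') • (((p : 𝕎) ^ c) • x) := by
      rw [smul_smul, ← pow_add, add_comm]
    have h2 : ((p : 𝕎) ^ (c + c')) • y = ((p : 𝕎) ^ c) • (((p : 𝕎) ^ c') • y) := by
      rw [smul_smul, ← pow_add]
    rw [smul_add, h1, h2]
    exact M₂.add_mem (M₂.smul_mem _ (hc x hx)) (M₂.smul_mem _ (hc' y hy))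

theorem pPow_one_le_smul (M : Submodule 𝕎 N) :
    Isoc.pPow 1 M ≤ (Ideal.span {(p : 𝕎)}) • M := by
  intro x hx
  rw [mem_pPow] at hx
  have hx' : x = (p : 𝕎) • (((p : 𝕃) ^ (-1 : ℤ)) • x) := by
    rw [← algebraMap_smul 𝕃 (p : 𝕎), map_natCast, smul_smul, zpow_neg_one,
      mul_inv_cancel₀ pL_ne_zero, one_smul]
  rw [hx']
  exact Submodule.smul_mem_smul (Ideal.mem_span_singleton_self _) hx

theorem smul_mem_pPow_add {M : Submodule 𝕎 N} {a : ℤ} (b : ℤ) {x : N}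
    (hx : x ∈ Isoc.pPow a M) : ((p : 𝕃) ^ b) • x ∈ Isoc.pPow (a + b) M := by
  rw [mem_pPow] at hx ⊢
  rw [smul_smul, ← zpow_add₀ pL_ne_zero]
  convert hx using 3
  ring

theorem wsmul_mem_pPow_succ {M : Submodule 𝕎 N} {a : ℤ} {x : N}
    (hx : x ∈ Isoc.pPow a M) : (p : 𝕎) • x ∈ Isoc.pPow (a + 1) M := by
  have := smul_mem_pPow_add (p := p) (k := k) 1 hx
  rwa [zpow_one, ← map_natCast (algebraMap 𝕎 𝕃), algebraMap_smul] at this

theorem wpow_smul_mem_pPow {M : Submodule 𝕎 N} (n : ℕ) {x : N}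
    (hx : x ∈ M) : ((p : 𝕎) ^ n) • x ∈ Isoc.pPow (n : ℤ) M := by
  rw [← pnat_smul, ← zpow_natCast]
  exact smul_mem_pPow hx

/-- completeness of a lattice -/
theorem lattice_complete {M : Submodule 𝕎 N} {e : Module.Basis ι 𝕃 N} (he : LatBasis M e)
    (f : ℕ → N) (hf : ∀ j, f j ∈ M)
    (hc : ∀ j : ℕ, f (j + 1) - f j ∈ Isoc.pPow (j : ℤ) M) :
    ∃ z ∈ M, ∀ j : ℕ, z - f j ∈ Isoc.pPow (j : ℤ) M := by
  have h1 : ∀ j i, ∃ c : 𝕎, e.repr (f j) i = algebraMap 𝕎 𝕃 c := fun j i => (he _).1 (hf j) i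
  choose c hcoord using h1
  have h2 : ∀ j i, ∃ t : 𝕎, c (j + 1) i - c j i = (p : 𝕎) ^ j * t := by
    intro j i
    have h3 := hc j
    rw [mem_pPow, he] at h3
    obtain ⟨t, ht⟩ := h3 i
    refine ⟨t, ?_⟩
    apply algebraMap_injective (p := p) (k := k)
    rw [map_smul, Finsupp.smul_apply, map_sub, Finsupp.sub_apply, hcoord, hcoord,
      smul_eq_mul] at ht
    rw [map_mul, map_pow, map_natCast, map_sub, ← ht, ← mul_assoc, ← zpow_natCast,
      ← zpow_add₀ pL_ne_zero, add_neg_cancel, zpow_zero, one_mul]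
  choose t ht using h2
  have h4 := fun i : ι => Groth.Agent.H2.WittFix.W_series (fun j => t j i)
  choose L hL using h4
  have htel : ∀ (n : ℕ) (i : ι),
      ∑ j ∈ Finset.range n, (p : 𝕎) ^ j * t j i = c n i - c 0 i := by
    intro n i
    induction n with
    | zero => simp
    | succ n ih => rw [Finset.sum_range_succ, ih, ← ht]; ring
  refine ⟨∑ i, algebraMap 𝕎 𝕃 (c 0 i + L i) • e i, ?_, ?_⟩
  · rw [he]
    intro i
    exact ⟨c 0 i + L i, congrFun (e.repr_sum_self _) i⟩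
  · intro n
    rw [mem_pPow, he]
    intro i
    obtain ⟨u, hu⟩ := hL i n
    refine ⟨u, ?_⟩
    have h5 : e.repr (∑ i, algebraMap 𝕎 𝕃 (c 0 i + L i) • e i) i =
        algebraMap 𝕎 𝕃 (c 0 i + L i) := congrFun (e.repr_sum_self _) i
    rw [map_smul, Finsupp.smul_apply, map_sub, Finsupp.sub_apply, h5, hcoord, smul_eq_mul,
      ← map_sub, hu, htel]
    have : c 0 i + (c n i - c 0 i + (p : 𝕎) ^ n * u) - c n i = (p : 𝕎) ^ n * u := by ring
    rw [this, map_mul, map_pow, map_natCast, ← mul_assoc, ← zpow_natCast,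
      ← zpow_add₀ pL_ne_zero, neg_add_cancel, zpow_zero, one_mul]

/-! ### Part B: the mod `p` Fitting facts -/

/-- dependent choice along `ℕ` -/
theorem exists_seq {α : Type*} (Q : ℕ → α → Prop) (R : ℕ → α → α → Prop) (x₀ : α) (h0 : Q 0 x₀)
    (step : ∀ j x, Q j x → ∃ x', Q (j + 1) x' ∧ R j x x') :
    ∃ f : ℕ → α, f 0 = x₀ ∧ ∀ j, Q j (f j) ∧ R j (f j) (f (j + 1)) := by
  classical
  let g : (j : ℕ) → {x : α // Q j x} := fun j =>
    Nat.rec (motive := fun j => {x : α // Q j x}) ⟨x₀, h0⟩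
      (fun j ih => ⟨Classical.choose (step j ih.1 ih.2),
        (Classical.choose_spec (step j ih.1 ih.2)).1⟩) j
  refine ⟨fun j => (g j).1, rfl, fun j => ⟨(g j).2, ?_⟩⟩
  exact (Classical.choose_spec (step j (g j).1 (g j).2)).2

/-- topologically nilpotent elements of `M` -/
noncomputable def nilSet (G : N →ₛₗ[τ] N) (M : Submodule 𝕎 N) : Set N :=
  {x | x ∈ M ∧ ∀ j : ℕ, ∃ n : ℕ, (⇑G)^[n] x ∈ Isoc.pPow (j : ℤ) M}

noncomputable def Mnil (G : N →ₛₗ[τ] N) (M : Submodule 𝕎 N) : Submodule 𝕎 N :=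
  Submodule.span 𝕎 (nilSet G M)

noncomputable def Mbij (G : N →ₛₗ[τ] N) (M : Submodule 𝕎 N) : Submodule 𝕎 N :=
  ⨅ n : ℕ, Isoc.latImg G n M

theorem mem_Mbij (G : N →ₛₗ[τ] N) (M : Submodule 𝕎 N) {z : N} :
    z ∈ Mbij G M ↔ ∀ n, z ∈ Isoc.latImg G n M := Submodule.mem_iInf _

theorem Mbij_le (G : N →ₛₗ[τ] N) (M : Submodule 𝕎 N) : Mbij G M ≤ M := fun z hz => by
  have := (mem_Mbij G M).1 hz 0
  rwa [latImg_zero] at this

section Fitting

variable (hτ : Tw τ) (G : N →ₛₗ[τ] N) (M : Submodule (WittVector p k) N)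
  (hGM : ∀ y ∈ M, G y ∈ M)
include hGM

theorem G_mem_pPow (j : ℤ) {y : N} (hy : y ∈ Isoc.pPow j M) : G y ∈ Isoc.pPow j M := by
  rw [mem_pPow] at hy ⊢
  rw [← map_p_smul]
  exact hGM _ hy

theorem iter_mem_pPow (j : ℤ) (n : ℕ) {y : N} (hy : y ∈ Isoc.pPow j M) :
    (⇑G)^[n] y ∈ Isoc.pPow j M := by
  induction n with
  | zero => exact hy
  | succ n ih => rw [Function.iterate_succ_apply']; exact G_mem_pPow G M hGM j ih

theorem iter_mem (n : ℕ) {y : N} (hy : y ∈ M) : (⇑G)^[n] y ∈ M := by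
  induction n with
  | zero => exact hy
  | succ n ih => rw [Function.iterate_succ_apply']; exact hGM _ ih

theorem iter_mem_pPow_of_le (j : ℤ) {n n' : ℕ} (hn : n ≤ n') {y : N}
    (hy : (⇑G)^[n] y ∈ Isoc.pPow j M) : (⇑G)^[n'] y ∈ Isoc.pPow j M := by
  have : (⇑G)^[n'] y = (⇑G)^[n' - n] ((⇑G)^[n] y) := by
    rw [← Function.iterate_add_apply]; congr 1; omega
  rw [this]
  exact iter_mem_pPow G M hGM j _ hy

include hτ

theorem rel_mem [Module.Finite 𝕃 N] (h : ℕ) (hh : Module.finrank 𝕃 N = h) (x : N) (hx : x ∈ M) :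
    (⇑G)^[h] x ∈ Isoc.pPow 1 M ⊔
      Submodule.span 𝕎 {y | ∃ e, h + 1 ≤ e ∧ y = (⇑G)^[e] x} := by
  set X : Submodule 𝕎 N := Isoc.pPow 1 M ⊔
      Submodule.span 𝕎 {y | ∃ e, h + 1 ≤ e ∧ y = (⇑G)^[e] x} with hX
  obtain ⟨w, hw, i₁, hi₁⟩ := exists_relation G h hh x
  classical
  obtain ⟨j₀, hj₀, hmin⟩ := Finset.exists_min_image
    (Finset.univ.filter fun i => IsUnit (w i)) (fun i => i) ⟨i₁, by simp [hi₁]⟩
  have hj₀u : IsUnit (w j₀) := (Finset.mem_filter.1 hj₀).2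
  have hlt : ∀ i, i < j₀ → ∃ b, w i = (p : 𝕎) * b := by
    intro i hi
    apply nonunit_eq_p_mul
    intro hu
    exact absurd (hmin i (Finset.mem_filter.2 ⟨Finset.mem_univ _, hu⟩)) (not_le.2 hi)
  have hj₀h : (j₀ : ℕ) ≤ h := Nat.lt_succ_iff.1 j₀.2
  obtain ⟨ε, hε⟩ := iter_W_smul hτ G (h - j₀)
  have hrel : ∑ i : Fin (h + 1), ε (w i) • (⇑G)^[(h - (j₀ : ℕ)) + (i : ℕ)] x = 0 := by
    have := congrArg (Isoc.iter G (h - j₀)) hw
    rw [map_sum, map_zero] at this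
    rw [← this]
    refine Finset.sum_congr rfl (fun i _ => ?_)
    rw [Isoc.iter_apply, hε, Function.iterate_add_apply]
  have hterm : ∀ i : Fin (h + 1), i ≠ j₀ →
      ε (w i) • (⇑G)^[(h - (j₀ : ℕ)) + (i : ℕ)] x ∈ X := by
    intro i hi
    rcases lt_or_gt_of_ne hi with hlt' | hgt'
    · obtain ⟨b, hb⟩ := hlt i hlt'
      apply Submodule.mem_sup_left
      have : ε (w i) • (⇑G)^[(h - (j₀ : ℕ)) + (i : ℕ)] x =
          ((p : 𝕃) ^ (1 : ℤ)) • (ε b • (⇑G)^[(h - (j₀ : ℕ)) + (i : ℕ)] x) := by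
        rw [hb, map_mul, map_natCast, mul_smul, zpow_one, ← algebraMap_smul 𝕃 (p : 𝕎),
          map_natCast]
      rw [this]
      exact smul_mem_pPow (M.smul_mem _ (iter_mem G M hGM _ hx))
    · have hi' : (j₀ : ℕ) < i := hgt'
      apply Submodule.mem_sup_right
      exact Submodule.smul_mem _ _ (Submodule.subset_span ⟨_, by omega, rfl⟩)
  have hj₀term : ε (w j₀) • (⇑G)^[(h - (j₀ : ℕ)) + (j₀ : ℕ)] x ∈ X := by
    have := Finset.add_sum_erase Finset.univ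
      (fun i : Fin (h + 1) => ε (w i) • (⇑G)^[(h - (j₀ : ℕ)) + (i : ℕ)] x) (Finset.mem_univ j₀)
    rw [hrel] at this
    have h2 : ε (w j₀) • (⇑G)^[(h - (j₀ : ℕ)) + (j₀ : ℕ)] x =
        - ∑ i ∈ Finset.univ.erase j₀, ε (w i) • (⇑G)^[(h - (j₀ : ℕ)) + (i : ℕ)] x :=
      eq_neg_of_add_eq_zero_left this
    rw [h2]
    exact X.neg_mem (X.sum_mem (fun i hi => hterm i (Finset.ne_of_mem_erase hi)))
  have hexp : (h - (j₀ : ℕ)) + (j₀ : ℕ) = h := by omega
  rw [hexp] at hj₀term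
  have hu : IsUnit (ε (w j₀)) := hj₀u.map ε
  obtain ⟨u, hu'⟩ := hu
  rw [← hu'] at hj₀term
  have := X.smul_mem ((u⁻¹ : 𝕎ˣ) : 𝕎) hj₀term
  rwa [smul_smul, ← Units.val_mul, inv_mul_cancel, Units.val_one, one_smul] at this

/-- F3 -/
theorem stab_one [Module.Finite 𝕃 N] (h : ℕ) (hh : Module.finrank 𝕃 N = h) (x : N)
    (hx : x ∈ M) : (⇑G)^[h] x ∈ Isoc.latImg G (h + 1) M ⊔ Isoc.pPow 1 M := by
  have h1 := rel_mem hτ G M hGM h hh x hx
  have h2 : Isoc.pPow 1 M ⊔ Submodule.span 𝕎 {y | ∃ e, h + 1 ≤ e ∧ y = (⇑G)^[e] x} ≤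
      Isoc.latImg G (h + 1) M ⊔ Isoc.pPow 1 M := by
    refine sup_le le_sup_right ((Submodule.span_le.2 ?_).trans le_sup_left)
    rintro _ ⟨e, he, rfl⟩
    have : (⇑G)^[e] x = (⇑G)^[h + 1] ((⇑G)^[e - (h + 1)] x) := by
      rw [← Function.iterate_add_apply]; congr 1; omega
    rw [this]
    exact iter_mem_latImg G (h + 1) (iter_mem G M hGM _ hx)
  exact h2 h1

/-- F4: per-element nilpotent bound -/
theorem nil_elt [Module.Finite 𝕃 N] (h : ℕ) (hh : Module.finrank 𝕃 N = h) (x : N)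
    (hx : x ∈ M) (n₀ : ℕ) (hn₀ : (⇑G)^[n₀] x ∈ Isoc.pPow 1 M) :
    (⇑G)^[h] x ∈ Isoc.pPow 1 M := by
  have hτ' := hτ
  obtain ⟨ε₁, hε₁⟩ := hτ'
  have hGw : ∀ (w : 𝕎) (y : N), G (w • y) = ε₁ w • G y := by
    intro w y
    rw [← algebraMap_smul 𝕃 w y, map_smulₛₗ, hε₁, algebraMap_smul]
  obtain ⟨X, hX⟩ : ∃ X : ℕ → Submodule 𝕎 N, ∀ t, X t = Isoc.pPow 1 M ⊔
      Submodule.span 𝕎 {y | ∃ e, t ≤ e ∧ y = (⇑G)^[e] x} := ⟨_, fun t => rfl⟩
  have hgen : ∀ t e, t ≤ e → (⇑G)^[e] x ∈ X t := fun t e hte => by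
    rw [hX]; exact Submodule.mem_sup_right (Submodule.subset_span ⟨e, hte, rfl⟩)
  have GX : ∀ t y, y ∈ X t → G y ∈ X (t + 1) := by
    intro t y hy
    rw [hX] at hy
    obtain ⟨a, ha, b, hb, rfl⟩ := Submodule.mem_sup.1 hy
    clear hy
    rw [map_add]
    refine Submodule.add_mem _ (by
      rw [hX]; exact Submodule.mem_sup_left (G_mem_pPow G M hGM 1 ha)) ?_
    induction hb using Submodule.span_induction with
    | mem b hb =>
      obtain ⟨e, hte, rfl⟩ := hb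
      rw [← Function.iterate_succ_apply' (⇑G) e x]
      exact hgen _ _ (by omega)
    | zero => rw [map_zero]; exact zero_mem _
    | add b c _ _ hb hc => rw [map_add]; exact add_mem hb hc
    | smul w b _ hb => rw [hGw]; exact Submodule.smul_mem _ _ hb
  have h4 : (⇑G)^[h] x ∈ X (h + 1) := by
    rw [hX]; exact rel_mem hτ G M hGM h hh x hx
  have h5 : ∀ e, (⇑G)^[h + e] x ∈ X (h + 1 + e) := by
    intro e
    induction e with
    | zero => exact h4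
    | succ e ih =>
      have := GX _ _ ih
      rw [← Function.iterate_succ_apply' (⇑G) (h + e) x] at this
      exact this
  have h6 : ∀ e, X h ≤ X (h + e) := by
    intro e
    induction e with
    | zero => exact le_rfl
    | succ e ih =>
      refine ih.trans ?_
      rw [hX (h + e)]
      refine sup_le (by rw [hX]; exact le_sup_left) (Submodule.span_le.2 ?_)
      rintro _ ⟨e', he', rfl⟩
      rcases Nat.eq_or_lt_of_le he' with heq | hlt
      · rw [← heq]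
        have := h5 e
        rwa [show h + 1 + e = h + (e + 1) by omega] at this
      · exact hgen _ _ hlt
  have h7 : X (h + n₀) ≤ Isoc.pPow 1 M := by
    rw [hX]
    refine sup_le le_rfl (Submodule.span_le.2 ?_)
    rintro _ ⟨e', he', rfl⟩
    have : (⇑G)^[e'] x = (⇑G)^[e' - n₀] ((⇑G)^[n₀] x) := by
      rw [← Function.iterate_add_apply]; congr 1; omega
    rw [this]
    exact iter_mem_pPow G M hGM 1 _ hn₀
  exact h7 (h6 n₀ (hgen h h le_rfl))

/-- F5 -/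
theorem stab_many [Module.Finite 𝕃 N] (h : ℕ) (hh : Module.finrank 𝕃 N = h) (t : ℕ) :
    ∀ x ∈ M, ∃ y ∈ M, ∃ b ∈ Isoc.pPow 1 M, (⇑G)^[h] x = (⇑G)^[h + t] y + b := by
  induction t with
  | zero => intro x hx; exact ⟨x, hx, 0, zero_mem _, by rw [add_zero, add_zero]⟩
  | succ t ih =>
    intro x hx
    have h1 := stab_one hτ G M hGM h hh x hx
    obtain ⟨A, hA, B, hB, hAB⟩ := Submodule.mem_sup.1 h1
    obtain ⟨y, hy, rfl⟩ := (mem_latImg hτ G (h + 1) M A).1 hA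
    obtain ⟨y', hy', B', hB', hyy'⟩ := ih y hy
    refine ⟨y', hy', G B' + B, Submodule.add_mem _ (G_mem_pPow G M hGM 1 hB') hB, ?_⟩
    rw [← hAB, Function.iterate_succ_apply', hyy', map_add, ← add_assoc,
      ← Function.iterate_succ_apply' (⇑G)]
    rfl

/-- F6 -/
theorem fit_decomp [Module.Finite 𝕃 N] (h : ℕ) (hh : Module.finrank 𝕃 N = h) (x : N)
    (hx : x ∈ M) : ∃ u ∈ M, (⇑G)^[h] (x - (⇑G)^[h] u) ∈ Isoc.pPow 1 M := by
  obtain ⟨y, hy, b, hb, hxy⟩ := stab_many hτ G M hGM h hh h x hx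
  refine ⟨y, hy, ?_⟩
  have : (⇑G)^[h] (x - (⇑G)^[h] y) = b := by
    rw [← Isoc.iter_apply, map_sub, Isoc.iter_apply, Isoc.iter_apply, hxy,
      ← Function.iterate_add_apply]
    abel
  rw [this]
  exact hb

/-- F7 -/
theorem lift_step [Module.Finite 𝕃 N] (h : ℕ) (hh : Module.finrank 𝕃 N = h) (j : ℕ) (x' : N)
    (hx' : x' ∈ M) (hj : (⇑G)^[j * h] x' ∈ Isoc.pPow (j : ℤ) M) :
    ∃ v ∈ M, (⇑G)^[(j + 1) * h] (x' - ((p : 𝕎) ^ j) • v) ∈ Isoc.pPow ((j : ℤ) + 1) M := by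
  have hy : ((p : 𝕃) ^ (-(j : ℤ))) • (⇑G)^[j * h] x' ∈ M := mem_pPow.1 hj
  obtain ⟨v, hv, b, hb, hvb⟩ := stab_many hτ G M hGM h hh (j * h) _ hy
  refine ⟨v, hv, ?_⟩
  have e1 : (j + 1) * h = h + j * h := by ring
  have h1 : (⇑G)^[(j + 1) * h] x' = ((p : 𝕃) ^ (j : ℤ)) • ((⇑G)^[h + j * h] v + b) := by
    rw [← hvb, iter_p_smul, smul_smul, ← zpow_add₀ pL_ne_zero, add_neg_cancel, zpow_zero,
      one_smul, e1, Function.iterate_add_apply]
  have h2 : (⇑G)^[(j + 1) * h] (((p : 𝕎) ^ j) • v) =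
      ((p : 𝕃) ^ (j : ℤ)) • (⇑G)^[h + j * h] v := by
    rw [← pnat_smul, ← zpow_natCast, iter_p_smul, e1]
  have h3 : (⇑G)^[(j + 1) * h] (x' - ((p : 𝕎) ^ j) • v) = ((p : 𝕃) ^ (j : ℤ)) • b := by
    rw [← Isoc.iter_apply, map_sub, Isoc.iter_apply, Isoc.iter_apply, h1, h2, smul_add,
      add_sub_cancel_left]
  rw [h3]
  have := smul_mem_pPow_add (p := p) (k := k) (j : ℤ) hb
  rwa [add_comm] at this

/-- F8 -/
theorem lift_nil [Module.Finite 𝕃 N] {e : Module.Basis ι 𝕃 N} (he : LatBasis M e) (h : ℕ)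
    (hh : Module.finrank 𝕃 N = h) (x : N) (hx : x ∈ M) (hx1 : (⇑G)^[h] x ∈ Isoc.pPow 1 M) :
    ∃ c ∈ M, (∀ j : ℕ, ∃ n : ℕ, (⇑G)^[n] c ∈ Isoc.pPow (j : ℤ) M) ∧ c - x ∈ Isoc.pPow 1 M := by
  have h0 : x ∈ M ∧ (⇑G)^[(0 + 1) * h] x ∈ Isoc.pPow (((0 : ℕ) : ℤ) + 1) M :=
    ⟨hx, by rw [zero_add, one_mul, Nat.cast_zero, zero_add]; exact hx1⟩
  obtain ⟨f, hf0, hf⟩ := exists_seq
    (fun (j : ℕ) (y : N) => y ∈ M ∧ (⇑G)^[(j + 1) * h] y ∈ Isoc.pPow ((j : ℤ) + 1) M)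
    (fun (j : ℕ) (y y' : N) => y' - y ∈ Isoc.pPow ((j : ℤ) + 1) M) x h0 (by
      rintro j y ⟨hy, hyj⟩
      obtain ⟨v, hv, hv'⟩ := lift_step hτ G M hGM h hh (j + 1) y hy
        (by rw [Nat.cast_add, Nat.cast_one]; exact hyj)
      refine ⟨y - ((p : 𝕎) ^ (j + 1)) • v, ⟨M.sub_mem hy (M.smul_mem _ hv), hv'⟩, ?_⟩
      have e : y - ((p : 𝕎) ^ (j + 1)) • v - y = -(((p : 𝕎) ^ (j + 1)) • v) := by abel
      rw [e]
      refine Submodule.neg_mem _ ?_
      have := wpow_smul_mem_pPow (p := p) (k := k) (M := M) (j + 1) hv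
      rwa [Nat.cast_add, Nat.cast_one] at this)
  obtain ⟨c, hc, hcf⟩ := lattice_complete he f (fun j => (hf j).1.1)
    (fun j => pPow_anti M (by omega) (hf j).2)
  refine ⟨c, hc, fun j => ⟨(j + 1) * h, ?_⟩, ?_⟩
  · have h1 : (⇑G)^[(j + 1) * h] c =
        (⇑G)^[(j + 1) * h] (f j) + (⇑G)^[(j + 1) * h] (c - f j) := by
      rw [← iter_add]; congr 1; abel
    rw [h1]
    exact Submodule.add_mem _ (pPow_anti M (by omega) (hf j).1.2)
      (iter_mem_pPow G M hGM _ _ (hcf j))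
  · have h01 := (hf 0).2
    rw [zero_add, Nat.cast_zero, zero_add, hf0] at h01
    have h11 := hcf 1
    rw [Nat.cast_one] at h11
    have e : c - x = (c - f 1) + (f 1 - x) := by abel
    rw [e]
    exact Submodule.add_mem _ h11 h01

theorem mem_Mnil {x : N} : x ∈ Mnil G M ↔ x ∈ nilSet G M := by
  have hε' := fun n => iter_W_smul hτ G n
  choose ε hε using hε'
  have key : ∀ y ∈ Submodule.span 𝕎 (nilSet G M), y ∈ nilSet G M := by
    intro y hy
    induction hy using Submodule.span_induction with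
    | mem x hx => exact hx
    | zero =>
      exact ⟨M.zero_mem, fun j => ⟨0, by rw [Function.iterate_zero, id_eq]; exact zero_mem _⟩⟩
    | add x y _ _ hx hy =>
      refine ⟨M.add_mem hx.1 hy.1, fun j => ?_⟩
      obtain ⟨n₁, h₁⟩ := hx.2 j
      obtain ⟨n₂, h₂⟩ := hy.2 j
      refine ⟨n₁ + n₂, ?_⟩
      rw [iter_add]
      exact Submodule.add_mem _ (iter_mem_pPow_of_le G M hGM _ (Nat.le_add_right _ _) h₁)
        (iter_mem_pPow_of_le G M hGM _ (Nat.le_add_left _ _) h₂)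
    | smul w x _ hx =>
      refine ⟨M.smul_mem _ hx.1, fun j => ?_⟩
      obtain ⟨n, hn⟩ := hx.2 j
      exact ⟨n, by rw [hε]; exact Submodule.smul_mem _ _ hn⟩
  exact ⟨fun hx => key x hx, fun hx => Submodule.subset_span hx⟩

theorem Mnil_le : Mnil G M ≤ M := fun _ hx => ((mem_Mnil hτ G M hGM).1 hx).1

theorem Mnil_stable {x : N} (hx : x ∈ Mnil G M) : G x ∈ Mnil G M := by
  rw [mem_Mnil hτ G M hGM] at hx ⊢
  refine ⟨hGM _ hx.1, fun j => ?_⟩
  obtain ⟨n, hn⟩ := hx.2 j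
  refine ⟨n, ?_⟩
  rw [← Function.iterate_succ_apply (⇑G) n x, Function.iterate_succ_apply' (⇑G) n x]
  exact G_mem_pPow G M hGM _ hn

theorem Mnil_iter_stable (n : ℕ) {x : N} (hx : x ∈ Mnil G M) : (⇑G)^[n] x ∈ Mnil G M := by
  induction n with
  | zero => exact hx
  | succ n ih =>
    rw [Function.iterate_succ_apply' (⇑G) n x]
    exact Mnil_stable hτ G M hGM ih

/-- F9 -/
theorem le_sup_nil [Module.Finite 𝕃 N] {e : Module.Basis ι 𝕃 N} (he : LatBasis M e)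
    (hfg : M.FG) (h : ℕ) (hh : Module.finrank 𝕃 N = h) (hpos : 0 < h) :
    M ≤ Isoc.latImg G 1 M ⊔ Mnil G M := by
  apply Submodule.le_of_le_smul_of_le_jacobson_bot (I := Ideal.span {(p : 𝕎)}) hfg
  · rw [IsLocalRing.jacobson_eq_maximalIdeal ⊥ bot_ne_top, Ideal.span_singleton_le_iff_mem,
      IsLocalRing.mem_maximalIdeal, mem_nonunits_iff]
    exact (WittVector.irreducible p).not_isUnit
  · intro x hx
    obtain ⟨u, hu, hu'⟩ := fit_decomp hτ G M hGM h hh x hx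
    have hx₁ : x - (⇑G)^[h] u ∈ M := M.sub_mem hx (iter_mem G M hGM h hu)
    obtain ⟨c, hc, hcnil, hcx⟩ := lift_nil hτ G M hGM he h hh _ hx₁ hu'
    have hdec : (⇑G)^[h] u + c + -(c - (x - (⇑G)^[h] u)) = x := by abel
    rw [← hdec]
    refine Submodule.add_mem _ (Submodule.mem_sup_left (Submodule.add_mem _
      (Submodule.mem_sup_left ?_) (Submodule.mem_sup_right ?_))) (Submodule.mem_sup_right ?_)
    · have : (⇑G)^[h] u = (⇑G)^[1] ((⇑G)^[h - 1] u) := by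
        rw [← Function.iterate_add_apply]; congr 1; omega
      rw [this]
      exact iter_mem_latImg G 1 (iter_mem G M hGM _ hu)
    · exact Submodule.subset_span ⟨hc, hcnil⟩
    · exact Submodule.neg_mem _ (pPow_one_le_smul M hcx)

theorem le_sup_nil_iter [Module.Finite 𝕃 N] {e : Module.Basis ι 𝕃 N} (he : LatBasis M e)
    (hfg : M.FG) (h : ℕ) (hh : Module.finrank 𝕃 N = h) (hpos : 0 < h) (n : ℕ) :
    M ≤ Isoc.latImg G n M ⊔ Mnil G M := by
  induction n with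
  | zero => rw [latImg_zero]; exact le_sup_left
  | succ n ih =>
    intro x hx
    obtain ⟨a, ha, c, hc, rfl⟩ := Submodule.mem_sup.1 (ih hx)
    obtain ⟨m, hm, rfl⟩ := (mem_latImg hτ G n M a).1 ha
    obtain ⟨a', ha', c', hc', rfl⟩ :=
      Submodule.mem_sup.1 (le_sup_nil hτ G M hGM he hfg h hh hpos hm)
    obtain ⟨m', hm'M, rfl⟩ := (mem_latImg hτ G 1 M a').1 ha'
    have : (⇑G)^[n] ((⇑G)^[1] m' + c') + c = (⇑G)^[n + 1] m' + ((⇑G)^[n] c' + c) := by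
      rw [iter_add, Function.iterate_add_apply, add_assoc]
    rw [this]
    exact Submodule.add_mem _ (Submodule.mem_sup_left (iter_mem_latImg G (n + 1) hm'M))
      (Submodule.mem_sup_right (Submodule.add_mem _ (Mnil_iter_stable hτ G M hGM n hc') hc))

/-- F10 -/
theorem nil_uniform (hfg : M.FG) (j : ℕ) :
    ∃ n : ℕ, ∀ c ∈ Mnil G M, (⇑G)^[n] c ∈ Isoc.pPow (j : ℤ) M := by
  have hfgn : (Mnil G M).FG := fg_of_le_fg _ M hfg (Mnil_le hτ G M hGM)
  have hε' := fun n => iter_W_smul hτ G n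
  choose ε hε using hε'
  have key : ∀ A : Submodule 𝕎 N, A.FG → A ≤ Mnil G M →
      ∃ n : ℕ, ∀ c ∈ A, (⇑G)^[n] c ∈ Isoc.pPow (j : ℤ) M := by
    intro A hA
    induction A, hA using Submodule.fg_induction with
    | singleton x =>
      intro hle
      have hx : x ∈ Mnil G M := hle (Submodule.mem_span_singleton_self x)
      obtain ⟨n, hn⟩ := ((mem_Mnil hτ G M hGM).1 hx).2 j
      refine ⟨n, fun c hc => ?_⟩
      obtain ⟨w, rfl⟩ := Submodule.mem_span_singleton.1 hc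
      rw [hε]; exact Submodule.smul_mem _ _ hn
    | sup A B _ _ hA hB =>
      intro hle
      obtain ⟨n₁, h₁⟩ := hA (le_sup_left.trans hle)
      obtain ⟨n₂, h₂⟩ := hB (le_sup_right.trans hle)
      refine ⟨n₁ + n₂, fun c hc => ?_⟩
      obtain ⟨a, ha, b, hb, rfl⟩ := Submodule.mem_sup.1 hc
      rw [iter_add]
      exact Submodule.add_mem _
        (iter_mem_pPow_of_le G M hGM _ (Nat.le_add_right _ _) (h₁ a ha))
        (iter_mem_pPow_of_le G M hGM _ (Nat.le_add_left _ _) (h₂ b hb))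
  exact key _ hfgn le_rfl

/-- F11 -/
theorem exists_bij_part [Module.Finite 𝕃 N] {e : Module.Basis ι 𝕃 N} (he : LatBasis M e)
    (hfg : M.FG) (h : ℕ) (hh : Module.finrank 𝕃 N = h) (hpos : 0 < h)
    (hopen : ∀ n : ℕ, ∃ c : ℕ, Isoc.pPow (c : ℤ) M ≤ Isoc.latImg G n M) (x : N) (hx : x ∈ M) :
    ∃ z : N, (∀ n, z ∈ Isoc.latImg G n M) ∧ x - z ∈ Mnil G M := by
  have h0 : x ∈ M ∧ 0 ≤ 0 ∧ x - (⇑G)^[0] x ∈ Mnil G M ∧
      ∀ c ∈ Mnil G M, (⇑G)^[0] c ∈ Isoc.pPow ((0 : ℕ) : ℤ) M := by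
    refine ⟨hx, le_rfl, ?_, fun c hc => ?_⟩
    · rw [Function.iterate_zero, id_eq, sub_self]; exact zero_mem _
    · rw [Function.iterate_zero, id_eq, Nat.cast_zero, pPow_zero]
      exact Mnil_le hτ G M hGM hc
  obtain ⟨s, hs0, hs⟩ := exists_seq (α := ℕ × N)
    (fun (j : ℕ) (my : ℕ × N) => my.2 ∈ M ∧ j ≤ my.1 ∧ x - (⇑G)^[my.1] my.2 ∈ Mnil G M ∧
      ∀ c ∈ Mnil G M, (⇑G)^[my.1] c ∈ Isoc.pPow (j : ℤ) M)
    (fun (j : ℕ) (my my' : ℕ × N) =>
      (⇑G)^[my'.1] my'.2 - (⇑G)^[my.1] my.2 ∈ Isoc.pPow (j : ℤ) M)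
    (0, x) h0 (by
      rintro j ⟨m, y⟩ ⟨hy, hjm, hxy, hnil⟩
      obtain ⟨n, hn⟩ := nil_uniform hτ G M hGM hfg (j + 1)
      obtain ⟨a, ha, c, hc, hac⟩ :=
        Submodule.mem_sup.1 (le_sup_nil_iter hτ G M hGM he hfg h hh hpos (n + 1) hy)
      obtain ⟨y', hy', rfl⟩ := (mem_latImg hτ G (n + 1) M a).1 ha
      have hjm' : j ≤ m := hjm
      have hy0 : y ∈ M := hy
      replace hac : (⇑G)^[n + 1] y' + c = y := hac
      replace hxy : x - (⇑G)^[m] y ∈ Mnil G M := hxy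
      replace hnil : ∀ c ∈ Mnil G M, (⇑G)^[m] c ∈ Isoc.pPow (j : ℤ) M := hnil
      refine ⟨(m + (n + 1), y'), ⟨hy', ?_, ?_, ?_⟩, ?_⟩
      · show j + 1 ≤ m + (n + 1)
        omega
      · have e1 : x - (⇑G)^[m + (n + 1)] y' = (x - (⇑G)^[m] y) + (⇑G)^[m] c := by
          rw [← hac, iter_add, Function.iterate_add_apply]; abel
        show x - (⇑G)^[m + (n + 1)] y' ∈ Mnil G M
        rw [e1]
        exact Submodule.add_mem _ hxy (Mnil_iter_stable hτ G M hGM m hc)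
      · intro c' hc'
        show (⇑G)^[m + (n + 1)] c' ∈ Isoc.pPow ((j + 1 : ℕ) : ℤ) M
        exact iter_mem_pPow_of_le G M hGM _ (by omega) (hn c' hc')
      · show (⇑G)^[m + (n + 1)] y' - (⇑G)^[m] y ∈ Isoc.pPow (j : ℤ) M
        have e2 : (⇑G)^[m + (n + 1)] y' - (⇑G)^[m] y = -(⇑G)^[m] c := by
          rw [← hac, iter_add, Function.iterate_add_apply]; abel
        rw [e2]
        exact Submodule.neg_mem _ (hnil c hc))
  obtain ⟨z, hz, hzf⟩ := lattice_complete he (fun j => (⇑G)^[(s j).1] (s j).2)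
    (fun j => iter_mem G M hGM _ (hs j).1.1) (fun j => (hs j).2)
  refine ⟨z, fun n => ?_, ?_⟩
  · obtain ⟨c, hc⟩ := hopen n
    have hjm := (hs (c + n)).1.2.1
    have e : z = (⇑G)^[(s (c + n)).1] (s (c + n)).2 + (z - (⇑G)^[(s (c + n)).1] (s (c + n)).2) := by
      abel
    rw [e]
    refine Submodule.add_mem _ ?_ ?_
    · have e' : (⇑G)^[(s (c + n)).1] (s (c + n)).2 =
          (⇑G)^[n] ((⇑G)^[(s (c + n)).1 - n] (s (c + n)).2) := by
        rw [← Function.iterate_add_apply]; congr 1; omega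
      rw [e']
      exact iter_mem_latImg G n (iter_mem G M hGM _ (hs (c + n)).1.1)
    · exact hc (pPow_anti M (by push_cast; omega) (hzf (c + n)))
  · rw [mem_Mnil hτ G M hGM]
    refine ⟨M.sub_mem hx hz, fun j => ⟨(s j).1, ?_⟩⟩
    have e : x - z = (x - (⇑G)^[(s j).1] (s j).2) + -(z - (⇑G)^[(s j).1] (s j).2) := by abel
    rw [e, iter_add, iter_neg]
    exact Submodule.add_mem _ ((hs j).1.2.2.2 _ (hs j).1.2.2.1)
      (Submodule.neg_mem _ (iter_mem_pPow G M hGM _ _ (hzf j)))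

/-- F12 -/
theorem latImg_Mbij (hinj : Function.Injective G) :
    Isoc.latImg G 1 (Mbij G M) = Mbij G M := by
  apply le_antisymm
  · rw [latImg_le_iff]
    intro z hz
    rw [mem_Mbij] at hz ⊢
    intro n
    rw [Function.iterate_one]
    cases n with
    | zero =>
      rw [latImg_zero]
      apply hGM
      have := hz 0
      rwa [latImg_zero] at this
    | succ n =>
      obtain ⟨m, hm, rfl⟩ := (mem_latImg hτ G n M z).1 (hz n)
      rw [← Function.iterate_succ_apply' (⇑G) n m]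
      exact iter_mem_latImg G (n + 1) hm
  · intro z hz
    have hz' := (mem_Mbij G M).1 hz
    obtain ⟨y₀, hy₀, hy₀z⟩ := (mem_latImg hτ G 1 M z).1 (hz' 1)
    rw [Function.iterate_one] at hy₀z
    have hy₀b : y₀ ∈ Mbij G M := by
      rw [mem_Mbij]
      intro n
      obtain ⟨m, hm, hmz⟩ := (mem_latImg hτ G (n + 1) M z).1 (hz' (n + 1))
      rw [Function.iterate_succ_apply' (⇑G) n m, ← hy₀z] at hmz
      have := hinj hmz
      rw [← this]
      exact iter_mem_latImg G n hm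
    rw [← hy₀z]
    show (⇑G)^[1] y₀ ∈ _
    exact iter_mem_latImg G 1 hy₀b

end Fitting

end Groth.Agent.H2.Isoc7
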