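import Mathlib
import Groth.Prelude.Def_Isoc
import Groth.Agent.H2.WittFix
import Groth.Agent.H2.Isoc1
import Groth.Agent.H2.Isoc2
import Groth.Agent.H2.Isoc3
import Groth.Agent.H2.Isoc4
import Groth.Agent.H2.Isoc5
import Groth.Agent.H2.Isoc6
import Groth.Agent.H2.Isoc7

set_option autoImplicit false
set_option linter.unusedSectionVars false
set_option linter.style.haveILetI false
open scoped Pointwise
open Filter Topology

universe u v w

namespace Groth.Agent.H2.Isoc8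

open Groth.Agent.H2.Isoc1 Groth.Agent.H2.Isoc2 Groth.Agent.H2.Isoc3 Groth.Agent.H2.Isoc4
  Groth.Agent.H2.Isoc5 Groth.Agent.H2.Isoc6 Groth.Agent.H2.Isoc7

variable {p : ℕ} [Fact p.Prime] {k : Type u} [Field k] [CharP k p] [PerfectRing k p]
variable {N : Type v} [AddCommGroup N] [Module (WittVector p k) N]
  [Module (FractionRing (WittVector p k)) N]
  [IsScalarTower (WittVector p k) (FractionRing (WittVector p k)) N]
variable {τ : FractionRing (WittVector p k) →+* FractionRing (WittVector p k)}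

local notation "𝕎" => WittVector p k
local notation "𝕃" => FractionRing (WittVector p k)

theorem comm_twist (F : N →ₛₗ[τ] N) (m : ℤ) (s : ℕ) (x : N) :
    F ((((p : 𝕃) ^ m) • Isoc.iter F s) x) = (((p : 𝕃) ^ m) • Isoc.iter F s) (F x) := by
  rw [LinearMap.smul_apply, LinearMap.smul_apply, map_p_smul, Isoc.iter_apply, Isoc.iter_apply,
    ← Function.iterate_succ_apply' (⇑F) s x, Function.iterate_succ_apply (⇑F) s x]

theorem comm_twist_iter (F : N →ₛₗ[τ] N) (m : ℤ) (s : ℕ) (n : ℕ) (x : N) :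
    F ((⇑(((p : 𝕃) ^ m) • Isoc.iter F s))^[n] x) =
      (⇑(((p : 𝕃) ^ m) • Isoc.iter F s))^[n] (F x) := by
  induction n generalizing x with
  | zero => rfl
  | succ n ih =>
    rw [Function.iterate_succ_apply, Function.iterate_succ_apply, ih, comm_twist]

theorem latImg_twist_one (F : N →ₛₗ[τ] N) (m : ℤ) (s : ℕ) (M : Submodule 𝕎 N) :
    Isoc.latImg (((p : 𝕃) ^ m) • Isoc.iter F s) 1 M = Isoc.pPow m (Isoc.latImg F s M) := by
  unfold Isoc.latImg Isoc.pPow
  rw [Submodule.smul_span]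
  congr 1
  ext y
  constructor
  · rintro ⟨x, hx, rfl⟩
    exact ⟨(⇑F)^[s] x, ⟨x, hx, rfl⟩, rfl⟩
  · rintro ⟨_, ⟨x, hx, rfl⟩, rfl⟩
    exact ⟨x, hx, rfl⟩

theorem exists_lattice [Module.Finite 𝕃 N] : ∃ M₀ : Submodule 𝕎 N, M₀.IsLattice 𝕃 := by
  let b := Module.finBasis 𝕃 N
  refine ⟨Submodule.span 𝕎 (Set.range b), ⟨Submodule.fg_span (Set.finite_range _), ?_⟩⟩
  rw [eq_top_iff, ← b.span_eq]
  exact Submodule.span_mono Submodule.subset_span

/-- the splitting step of the slope decomposition -/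
theorem split (hτ : Tw τ) (F : N →ₛₗ[τ] N) (hF : Isoc.IsIsoc F) [Nontrivial N] :
    ∃ (μ : ℚ) (P Q : Submodule 𝕃 N), P ⊔ Q = ⊤ ∧ IsoIn F μ P ∧ (∀ x ∈ P, F x ∈ P) ∧
      (∀ x ∈ Q, F x ∈ Q) ∧ Q ≠ ⊤ := by
  haveI := hF.finite
  have hpos : 0 < Module.finrank 𝕃 N := Module.finrank_pos
  have hdet : Isoc.detCoeff (Module.finBasis 𝕃 N) F ≠ 0 := by
    rw [detCoeff_eq]; exact det_mat_ne_zero hτ _ F hF.bijective.1
  obtain ⟨d, hd⟩ := exists_isOrdP _ hdet
  obtain ⟨M₀, hM₀⟩ := exists_lattice (p := p) (k := k) (N := N)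
  obtain ⟨o, ho, lam, hlim⟩ := exists_ord_limit hτ F hF M₀ hM₀
  have hlam : Isoc.IsFirstSlope F lam := ⟨M₀, hM₀, o, fun n _ => ho n, hlim⟩
  obtain ⟨r, s, M, hs, -, hlamrs, hM, hord, -⟩ :=
    rationality hτ F hF _ (Module.finBasis 𝕃 N) d hd lam hlam
  obtain ⟨G, hG⟩ : ∃ G : N →ₛₗ[τ ^ s] N, G = ((p : 𝕃) ^ (-r)) • Isoc.iter F s := ⟨_, rfl⟩
  have hτs : Tw (τ ^ s) := hτ.pow s
  have hGi : Isoc.IsIsoc G := by rw [hG]; exact twist_isIsoc F hF (-r) s
  have hGM' : Isoc.latImg G 1 M ≤ M := by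
    have e1 : s * 1 = s := mul_one s
    have e2 : (0 : ℤ) - (-r) * ((1 : ℕ) : ℤ) = r := by push_cast; ring
    have := (latImg_twist_le_iff F (-r) s 1 M 0).2 (by rw [e1, e2]; exact hord.1)
    rw [pPow_zero] at this
    rw [hG]; exact this
  have hGM : ∀ y ∈ M, G y ∈ M := fun y hy => by
    have := (latImg_le_iff G 1 M M).1 hGM' y hy
    rwa [Function.iterate_one] at this
  have hG0 : Isoc.IsFirstSlope G 0 := by
    have := firstSlope_twist F lam hlam (-r) s
    have hs' : (s : ℝ) ≠ 0 := Nat.cast_ne_zero.2 hs.ne'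
    have e : (s : ℝ) * lam + ((-r : ℤ) : ℝ) = 0 := by
      rw [hlamrs, mul_comm, div_mul_cancel₀ _ hs']; push_cast; ring
    rw [e] at this
    rw [hG]; exact this
  obtain ⟨e, he⟩ := exists_latBasis M hM _ rfl
  have hfg : M.FG := hM.fg
  have hopen : ∀ n : ℕ, ∃ c : ℕ, Isoc.pPow (c : ℤ) M ≤ Isoc.latImg G n M := by
    intro n
    obtain ⟨c, hc⟩ := exists_le_pPow M (Isoc.latImg G n M) hfg
      (latImg_span_top G hGi.bijective.2 n M hM.span_eq_top)
    refine ⟨c, ?_⟩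
    have := pPow_mono (c : ℤ) hc
    rwa [pPow_pPow, add_neg_cancel, pPow_zero] at this
  -- `F` and `G` commute
  have hFG : ∀ (n : ℕ) (y : N), F ((⇑G)^[n] y) = (⇑G)^[n] (F y) := by
    intro n y; rw [hG]; exact comm_twist_iter F (-r) s n y
  -- `F` is bounded on `M`
  obtain ⟨c, hc⟩ := exists_le_pPow (Isoc.latImg F 1 M) M (latImg_fg hτ F 1 M hfg) hM.span_eq_top
  have hFc : ∀ (j : ℤ) (y : N), y ∈ Isoc.pPow j M →
      ((p : 𝕃) ^ (c : ℤ)) • F y ∈ Isoc.pPow j M := by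
    intro j y hy
    rw [mem_pPow] at hy ⊢
    have h1 := hc (iter_mem_latImg F 1 hy)
    rw [mem_pPow, neg_neg, Function.iterate_one, map_p_smul] at h1
    rwa [smul_comm]
  have hcomm : ∀ (n : ℕ) (y : N),
      (⇑G)^[n] (((p : 𝕃) ^ (c : ℤ)) • F y) = ((p : 𝕃) ^ (c : ℤ)) • F ((⇑G)^[n] y) := by
    intro n y; rw [iter_p_smul, hFG]
  have hinv : ∀ y : N, F y = ((p : 𝕃) ^ (-(c : ℤ))) • (((p : 𝕃) ^ (c : ℤ)) • F y) := by
    intro y
    rw [smul_smul, ← zpow_add₀ pL_ne_zero, neg_add_cancel, zpow_zero, one_smul]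
  refine ⟨(r : ℚ) / s, Submodule.span 𝕃 (Mbij G M : Set N), Submodule.span 𝕃 (Mnil G M : Set N),
    ?_, ?_, ?_, ?_, ?_⟩
  · -- sum is everything
    rw [eq_top_iff, ← hM.span_eq_top, Submodule.span_le]
    intro x hx
    obtain ⟨z, hz, hxz⟩ := exists_bij_part hτs G M hGM he hfg _ rfl hpos hopen x hx
    have e1 : z + (x - z) = x := by abel
    rw [← e1]
    exact Submodule.add_mem _
      (Submodule.mem_sup_left (Submodule.subset_span ((mem_Mbij G M).2 hz)))
      (Submodule.mem_sup_right (Submodule.subset_span hxz))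
  · -- isoclinic
    refine ⟨Mbij G M, fg_of_le_fg _ M hfg (Mbij_le G M), rfl, r, s, hs, rfl, ?_⟩
    have h1 := latImg_Mbij hτs G M hGM hGi.bijective.1
    have h2 : Isoc.latImg G 1 (Mbij G M) = Isoc.pPow (-r) (Isoc.latImg F s (Mbij G M)) := by
      rw [hG]; exact latImg_twist_one F (-r) s _
    have h3 : Isoc.pPow (-r) (Isoc.latImg F s (Mbij G M)) = Mbij G M := h2.symm.trans h1
    have h4 := congrArg (Isoc.pPow r) h3
    rwa [pPow_pPow, add_neg_cancel, pPow_zero] at h4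
  · -- `P` stable
    intro x hx
    induction hx using Submodule.span_induction with
    | mem z hz =>
      rw [hinv]
      refine Submodule.smul_mem _ _ (Submodule.subset_span ?_)
      rw [SetLike.mem_coe, mem_Mbij] at hz ⊢
      intro n
      obtain ⟨m, hm, rfl⟩ := (mem_latImg hτs G n M z).1 (hz n)
      rw [← hcomm]
      refine iter_mem_latImg G n ?_
      have := hFc 0 m (by rw [pPow_zero]; exact hm)
      rwa [pPow_zero] at this
    | zero => rw [map_zero]; exact zero_mem _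
    | add x y _ _ hx hy => rw [map_add]; exact add_mem hx hy
    | smul l x _ hx => rw [map_smulₛₗ]; exact Submodule.smul_mem _ _ hx
  · -- `Q` stable
    intro x hx
    induction hx using Submodule.span_induction with
    | mem z hz =>
      rw [hinv]
      refine Submodule.smul_mem _ _ (Submodule.subset_span ?_)
      rw [SetLike.mem_coe, mem_Mnil hτs G M hGM] at hz ⊢
      refine ⟨?_, fun j => ?_⟩
      · have := hFc 0 z (by rw [pPow_zero]; exact hz.1)
        rwa [pPow_zero] at this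
      · obtain ⟨n, hn⟩ := hz.2 j
        exact ⟨n, by rw [hcomm]; exact hFc _ _ hn⟩
    | zero => rw [map_zero]; exact zero_mem _
    | add x y _ _ hx hy => rw [map_add]; exact add_mem hx hy
    | smul l x _ hx => rw [map_smulₛₗ]; exact Submodule.smul_mem _ _ hx
  · -- `Q` is proper
    intro hQtop
    obtain ⟨c', hc'⟩ := exists_pow_smul_mem_of_fg' M (Mnil G M) hfg
      (fun x _ => by rw [hQtop]; exact Submodule.mem_top)
    obtain ⟨n, hn⟩ := nil_uniform hτs G M hGM hfg (c' + 1)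
    have hle : Isoc.latImg G (n + 1) M ≤ Isoc.pPow 1 M := by
      rw [latImg_le_iff]
      intro x hx
      have h1 := iter_mem_pPow_of_le G M hGM _ (Nat.le_succ n) (hn _ (hc' x hx))
      rw [← pnat_smul, ← zpow_natCast, iter_p_smul, mem_pPow, smul_smul,
        ← zpow_add₀ pL_ne_zero] at h1
      have e : (-1 : ℤ) = -((c' + 1 : ℕ) : ℤ) + (c' : ℤ) := by push_cast; ring
      rw [mem_pPow, e]
      exact h1
    have h2 := slope_ge_of_le hτs G hGi 0 hG0 M hM 1 (n + 1) (Nat.succ_pos n) hle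
    have h3 : (0 : ℝ) < ((1 : ℤ) : ℝ) / ((n + 1 : ℕ) : ℝ) := by push_cast; positivity
    linarith

theorem isoIn_map (hτ : Tw τ) (F : N →ₛₗ[τ] N) (Q : Submodule 𝕃 N) (hQ : ∀ x ∈ Q, F x ∈ Q)
    (μ : ℚ) (P' : Submodule 𝕃 Q) (h : IsoIn (F.restrict hQ) μ P') :
    IsoIn F μ (P'.map Q.subtype) := by
  obtain ⟨M', hfg, hspan, r, s, hs, hμ, hE⟩ := h
  refine ⟨M'.map (Q.subtype.restrictScalars 𝕎), hfg.map _, ?_, r, s, hs, hμ, ?_⟩
  · have : ((M'.map (Q.subtype.restrictScalars 𝕎) : Submodule 𝕎 N) : Set N) =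
        Q.subtype '' (M' : Set Q) := by
      ext y; simp
    rw [this, Submodule.span_image, hspan]
  · ext y
    rw [mem_latImg hτ, mem_pPow]
    constructor
    · rintro ⟨m, hm, rfl⟩
      obtain ⟨m', hm', rfl⟩ := Submodule.mem_map.1 hm
      have h1 : (⇑(F.restrict hQ))^[s] m' ∈ Isoc.pPow r M' := by
        rw [← hE]; exact iter_mem_latImg _ s hm'
      rw [mem_pPow] at h1
      refine Submodule.mem_map.2 ⟨_, h1, ?_⟩
      show ((((p : 𝕃) ^ (-r)) • (⇑(F.restrict hQ))^[s] m' : Q) : N) = _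
      rw [Submodule.coe_smul, restrict_iterate]
      rfl
    · intro hy
      obtain ⟨m', hm', hmy⟩ := Submodule.mem_map.1 hy
      have hmy' : (m' : N) = ((p : 𝕃) ^ (-r)) • y := hmy
      have h1 : ((p : 𝕃) ^ r) • m' ∈ Isoc.latImg (F.restrict hQ) s M' := by
        rw [hE]; exact smul_mem_pPow hm'
      obtain ⟨m'', hm'', hFm''⟩ := (mem_latImg hτ _ s M' _).1 h1
      refine ⟨(m'' : N), Submodule.mem_map_of_mem (f := Q.subtype.restrictScalars 𝕎) hm'', ?_⟩
      have := congrArg Subtype.val hFm''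
      rw [restrict_iterate] at this
      rw [this, Submodule.coe_smul, hmy', smul_smul, ← zpow_add₀ pL_ne_zero, add_neg_cancel,
        zpow_zero, one_smul]

theorem le_iSup_slopePart (hτ : Tw τ) (F : N →ₛₗ[τ] N) (hF : Isoc.IsIsoc F) :
    ∀ (n : ℕ) (Q : Submodule 𝕃 N), (∀ x ∈ Q, F x ∈ Q) → Module.finrank 𝕃 Q = n →
      Q ≤ ⨆ μ : ℚ, Isoc.slopePart F μ := by
  haveI := hF.finite
  intro n
  induction n using Nat.strong_induction_on with
  | _ n ih =>
    intro Q hQ hn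
    by_cases hQb : Q = ⊥
    · rw [hQb]; exact bot_le
    haveI : Nontrivial Q := Submodule.nontrivial_iff_ne_bot.2 hQb
    have hF' : Isoc.IsIsoc (F.restrict hQ) := by
      refine ⟨inferInstance, ?_, ?_⟩
      · intro x y hxy
        apply Subtype.ext
        apply hF.bijective.injective
        exact congrArg Subtype.val hxy
      · intro y
        obtain ⟨x, hx⟩ := hF.bijective.surjective (y : N)
        have hxP : x ∈ Q := mem_of_map_mem hτ F hF Q hQ (by rw [hx]; exact y.2)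
        exact ⟨⟨x, hxP⟩, Subtype.ext hx⟩
    obtain ⟨μ, P', Q', hsup, hiso, hP', hQ', hne⟩ := split hτ (F.restrict hQ) hF'
    have hmapP : P'.map Q.subtype ≤ Isoc.slopePart F μ := by
      have hst : ∀ x ∈ P'.map Q.subtype, F x ∈ P'.map Q.subtype := by
        rintro _ ⟨q, hq, rfl⟩
        exact ⟨F.restrict hQ q, hP' q hq, rfl⟩
      exact le_sSup ⟨hst, restrict_of_isoIn hτ F μ _ hst (isoIn_map hτ F Q hQ μ P' hiso)⟩
    have hmapQ : Q'.map Q.subtype ≤ ⨆ μ : ℚ, Isoc.slopePart F μ := by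
      have hst : ∀ x ∈ Q'.map Q.subtype, F x ∈ Q'.map Q.subtype := by
        rintro _ ⟨q, hq, rfl⟩
        exact ⟨F.restrict hQ q, hQ' q hq, rfl⟩
      refine ih _ ?_ _ hst rfl
      rw [Submodule.finrank_map_subtype_eq, ← hn]
      exact Submodule.finrank_lt hne
    have e : Q = P'.map Q.subtype ⊔ Q'.map Q.subtype := by
      rw [← Submodule.map_sup, hsup, Submodule.map_subtype_top]
    rw [e]
    exact sup_le (hmapP.trans (le_iSup (fun μ : ℚ => Isoc.slopePart F μ) μ)) hmapQ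

theorem iSup_slopePart_eq_top (hτ : Tw τ) (F : N →ₛₗ[τ] N) (hF : Isoc.IsIsoc F) :
    ⨆ μ : ℚ, Isoc.slopePart F μ = ⊤ :=
  eq_top_iff.2 (le_iSup_slopePart hτ F hF _ ⊤ (fun _ _ => Submodule.mem_top) rfl)

end Groth.Agent.H2.Isoc8
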