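import Mathlib
import Groth.Prelude.Def_Isoc
import Groth.Agent.H2.WittFix
import Groth.Agent.H2.Isoc1
import Groth.Agent.H2.Isoc2
import Groth.Agent.H2.Isoc3
import Groth.Agent.H2.Isoc4
import Groth.Agent.H2.Isoc5
import Groth.Agent.H2.Isoc6
import Groth.Agent.H2.Isoc7
import Groth.Agent.H2.Isoc8

set_option autoImplicit false
set_option linter.unusedSectionVars false
set_option linter.style.haveILetI false
open scoped Pointwise
open Filter Topology

universe u v w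

namespace Groth.Agent.H2.Isoc9

open Groth.Agent.H2.Isoc1 Groth.Agent.H2.Isoc2 Groth.Agent.H2.Isoc3 Groth.Agent.H2.Isoc4
  Groth.Agent.H2.Isoc5 Groth.Agent.H2.Isoc6 Groth.Agent.H2.Isoc7 Groth.Agent.H2.Isoc8

variable {p : ℕ} [Fact p.Prime] {k : Type u} [Field k] [CharP k p] [PerfectRing k p]
variable {N : Type v} [AddCommGroup N] [Module (WittVector p k) N]
  [Module (FractionRing (WittVector p k)) N]
  [IsScalarTower (WittVector p k) (FractionRing (WittVector p k)) N]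
variable {τ : FractionRing (WittVector p k) →+* FractionRing (WittVector p k)}

local notation "𝕎" => WittVector p k
local notation "𝕃" => FractionRing (WittVector p k)

theorem disjoint_of_lattices (hτ : Tw τ) (G : N →ₛₗ[τ] N) (hinj : Function.Injective G)
    (M₀ M₁ : Submodule 𝕎 N) (h₀fg : M₀.FG) (h₁fg : M₁.FG)
    (h₀ : Isoc.latImg G 1 M₀ = M₀) (h₁ : Isoc.latImg G 1 M₁ ≤ Isoc.pPow 1 M₁)
    (x : N) (hx₀ : x ∈ Submodule.span 𝕃 (M₀ : Set N))
    (hx₁ : x ∈ Submodule.span 𝕃 (M₁ : Set N)) : x = 0 := by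
  obtain ⟨c₀, hc₀⟩ := exists_pow_smul_mem' M₀ x hx₀
  obtain ⟨c₁, hc₁⟩ := exists_pow_smul_mem' M₁ x hx₁
  obtain ⟨Y, hY⟩ : ∃ Y : Submodule 𝕎 N,
      Y = M₁ ⊓ (Submodule.span 𝕃 (M₀ : Set N)).restrictScalars 𝕎 := ⟨_, rfl⟩
  have hYfg : Y.FG := fg_of_le_fg Y M₁ h₁fg (by rw [hY]; exact inf_le_left)
  obtain ⟨c, hc⟩ := exists_pow_smul_mem_of_fg' Y M₀ hYfg
    (fun y hy => by rw [hY] at hy; exact (Submodule.mem_inf.1 hy).2)
  obtain ⟨x', hx'⟩ : ∃ x' : N, x' = ((p : 𝕎) ^ (c₀ + c₁)) • x := ⟨_, rfl⟩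
  have hx'0 : x' ∈ M₀ := by
    rw [hx', pow_add, mul_comm, mul_smul]; exact M₀.smul_mem _ hc₀
  have hx'1 : x' ∈ M₁ := by
    rw [hx', pow_add, mul_smul]; exact M₁.smul_mem _ hc₁
  have hn0 : ∀ n : ℕ, Isoc.latImg G n M₀ = M₀ := by
    intro n
    have := latImg_mul_eq hτ G M₀ (r := 0) (s := 1) (by rw [pPow_zero]; exact h₀) n
    rwa [one_mul, zero_mul, pPow_zero] at this
  have hW : ∀ y : N, ((p : 𝕎) ^ c) • y = ((p : 𝕃) ^ (c : ℤ)) • y := fun y => by
    rw [zpow_natCast, pnat_smul]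
  have hall : ∀ n : ℕ, ((p : 𝕎) ^ c) • x' ∈ Isoc.pPow (n : ℤ) M₀ := by
    intro n
    have h1 : (⇑G)^[n] x' ∈ Isoc.pPow (n : ℤ) M₁ := by
      have := latImg_mul_le hτ G M₁ h₁ n
      rw [one_mul, one_mul] at this
      exact this (iter_mem_latImg G n hx'1)
    have h1' : (⇑G)^[n] x' ∈ M₀ := by
      have := iter_mem_latImg G n hx'0
      rwa [hn0 n] at this
    have hm₁ : ((p : 𝕃) ^ (-(n : ℤ))) • (⇑G)^[n] x' ∈ Y := by
      rw [hY]
      exact Submodule.mem_inf.2 ⟨mem_pPow.1 h1,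
        Submodule.smul_mem _ _ (Submodule.subset_span h1')⟩
    have h2 := hc _ hm₁
    rw [← hn0 n] at h2
    obtain ⟨m₀, hm₀, hm₀e⟩ := (mem_latImg hτ G n M₀ _).1 h2
    have key : (⇑G)^[n] (((p : 𝕃) ^ (c : ℤ)) • x') = (⇑G)^[n] (((p : 𝕃) ^ (n : ℤ)) • m₀) := by
      rw [iter_p_smul, iter_p_smul, hm₀e, hW, smul_smul, smul_smul, ← zpow_add₀ pL_ne_zero,
        ← zpow_add₀ pL_ne_zero]
      congr 2; ring
    have := hinj.iterate n key
    rw [hW, this]
    exact smul_mem_pPow hm₀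
  have hz := eq_zero_of_forall_mem_pPow M₀ h₀fg _ hall
  have hp : ∀ (n : ℕ) (y : N), ((p : 𝕎) ^ n) • y = 0 → y = 0 := by
    intro n y hy
    rw [← pnat_smul] at hy
    exact (smul_eq_zero.1 hy).resolve_left (pow_ne_zero _ pL_ne_zero)
  have hx'z : x' = 0 := hp _ _ hz
  rw [hx'] at hx'z
  exact hp _ _ hx'z

theorem iso_at (hτ : Tw τ) (F : N →ₛₗ[τ] N) (μ : ℚ) (M : Submodule 𝕎 N) (r : ℤ) (s : ℕ)
    (hs : 0 < s) (hμ : (r : ℚ) / s = μ) (hE : Isoc.latImg F s M = Isoc.pPow r M) (t : ℕ)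
    (ht : s ∣ t) : ∃ a : ℤ, (a : ℚ) = μ * t ∧ Isoc.latImg F t M = Isoc.pPow a M := by
  obtain ⟨j, rfl⟩ := ht
  refine ⟨r * j, ?_, latImg_mul_eq hτ F M hE j⟩
  have hs' : (s : ℚ) ≠ 0 := Nat.cast_ne_zero.2 hs.ne'
  rw [← hμ]
  push_cast
  rw [div_mul_eq_mul_div, eq_div_iff hs']
  ring

theorem indep_aux (hτ : Tw τ) (F : N →ₛₗ[τ] N) (hF : Isoc.IsIsoc F) :
    ∀ (S : Finset ℚ) (x : ℚ → N), (∀ μ ∈ S, x μ ∈ Isoc.slopePart F μ) → ∑ μ ∈ S, x μ = 0 →
      ∀ μ ∈ S, x μ = 0 := by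
  have key : ∀ μ : ℚ, ∃ M : Submodule 𝕎 N, M.FG ∧
      Submodule.span 𝕃 (M : Set N) = Isoc.slopePart F μ ∧
      ∃ (r : ℤ) (s : ℕ), 0 < s ∧ (r : ℚ) / s = μ ∧ Isoc.latImg F s M = Isoc.pPow r M := by
    intro μ
    obtain ⟨hP, h⟩ := slopePart_isoclinic hτ F hF μ
    exact isoIn_of_restrict hτ F μ _ hP h
  choose M hMfg hMspan r s hs hμ hE using key
  intro S
  induction S using Finset.induction_on_min with
  | empty => intro x _ _ μ hμ'; exact absurd hμ' (Finset.notMem_empty μ)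
  | insert μ₀ S' hlt ih =>
    intro x hx hsum μ hμS
    have hμ₀S' : μ₀ ∉ S' := fun h => lt_irrefl _ (hlt μ₀ h)
    rw [Finset.sum_insert hμ₀S'] at hsum
    obtain ⟨t, ht⟩ : ∃ t : ℕ, t = ∏ ν ∈ insert μ₀ S', s ν := ⟨_, rfl⟩
    have htpos : 0 < t := by rw [ht]; exact Finset.prod_pos (fun ν _ => hs ν)
    have hdat : ∀ ν ∈ insert μ₀ S', ∃ a : ℤ, (a : ℚ) = ν * t ∧
        Isoc.latImg F t (M ν) = Isoc.pPow a (M ν) := fun ν hν =>
      iso_at hτ F ν (M ν) (r ν) (s ν) (hs ν) (hμ ν) (hE ν) t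
        (by rw [ht]; exact Finset.dvd_prod_of_mem s hν)
    choose! a ha1 ha2 using hdat
    obtain ⟨G, hG⟩ : ∃ G : N →ₛₗ[τ ^ t] N, G = ((p : 𝕃) ^ (-(a μ₀))) • Isoc.iter F t :=
      ⟨_, rfl⟩
    have hGl : ∀ ν ∈ insert μ₀ S',
        Isoc.latImg G 1 (M ν) = Isoc.pPow (a ν - a μ₀) (M ν) := by
      intro ν hν
      rw [hG, latImg_twist_one, ha2 ν hν, pPow_pPow]
      congr 1; ring
    have hx0 : x μ₀ = 0 := by
      apply disjoint_of_lattices (hτ.pow t) G ?_ (M μ₀) (S'.sup M) (hMfg μ₀)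
        (Submodule.fg_finset_sup _ _ (fun ν _ => hMfg ν)) ?_ ?_ (x μ₀) ?_ ?_
      · rw [hG]; exact (twist_isIsoc F hF _ t).bijective.1
      · rw [hGl μ₀ (Finset.mem_insert_self _ _), sub_self, pPow_zero]
      · refine Finset.sup_induction (p := fun A : Submodule 𝕎 N =>
          Isoc.latImg G 1 A ≤ Isoc.pPow 1 A) ?_ ?_ ?_
        · rw [latImg_bot]; exact bot_le
        · intro A hA B hB
          rw [latImg_le_iff]
          intro m hm
          obtain ⟨a', ha', b', hb', rfl⟩ := Submodule.mem_sup.1 hm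
          rw [iter_add]
          exact add_mem (pPow_mono 1 le_sup_left (hA (iter_mem_latImg G 1 ha')))
            (pPow_mono 1 le_sup_right (hB (iter_mem_latImg G 1 hb')))
        · intro ν hν
          rw [hGl ν (Finset.mem_insert_of_mem hν)]
          have h1 : (a μ₀ : ℚ) < a ν := by
            rw [ha1 _ (Finset.mem_insert_self _ _), ha1 _ (Finset.mem_insert_of_mem hν)]
            exact mul_lt_mul_of_pos_right (hlt ν hν) (by exact_mod_cast htpos)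
          have h2 : a μ₀ < a ν := by exact_mod_cast h1
          exact pPow_anti _ (by omega)
      · rw [hMspan]; exact hx μ₀ (Finset.mem_insert_self _ _)
      · have e : x μ₀ = -∑ ν ∈ S', x ν := eq_neg_of_add_eq_zero_left hsum
        rw [e]
        refine Submodule.neg_mem _ (Submodule.sum_mem _ (fun ν hν => ?_))
        have h1 : x ν ∈ Submodule.span 𝕃 (M ν : Set N) := by
          rw [hMspan]; exact hx ν (Finset.mem_insert_of_mem hν)
        have h2 : M ν ≤ S'.sup M := Finset.le_sup hν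
        exact Submodule.span_mono (fun y hy => h2 hy) h1
    rcases Finset.mem_insert.1 hμS with rfl | hμS'
    · exact hx0
    · rw [hx0, zero_add] at hsum
      exact ih x (fun ν hν => hx ν (Finset.mem_insert_of_mem hν)) hsum μ hμS'

theorem isInternal_slopePart (hτ : Tw τ) (F : N →ₛₗ[τ] N) (hF : Isoc.IsIsoc F) :
    DirectSum.IsInternal (fun μ : ℚ => Isoc.slopePart F μ) := by
  rw [DirectSum.isInternal_submodule_iff_iSupIndep_and_iSup_eq_top]
  exact ⟨(iSupIndep_iff_finsetSum_eq_zero_imp_eq_zero _).2 (indep_aux hτ F hF),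
    iSup_slopePart_eq_top hτ F hF⟩

end Groth.Agent.H2.Isoc9
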