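import Mathlib
import Groth.Prelude.Def_Isoc
import Groth.Agent.H2.WittFix
import Groth.Agent.H2.Isoc1
import Groth.Agent.H2.Isoc2
import Groth.Agent.H2.Isoc3
import Groth.Agent.H2.Isoc4
import Groth.Agent.H2.Isoc5
import Groth.Agent.H2.Isoc6
import Groth.Agent.H2.Isoc7
import Groth.Agent.H2.Isoc8
import Groth.Agent.H2.Isoc9

set_option autoImplicit false
set_option linter.unusedSectionVars false
set_option linter.style.haveILetI false
open scoped Pointwise
open Filter Topology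

universe u v w

namespace Groth.Agent.H2.Isoc10

open Groth.Agent.H2.Isoc1 Groth.Agent.H2.Isoc2 Groth.Agent.H2.Isoc3 Groth.Agent.H2.Isoc4
  Groth.Agent.H2.Isoc5 Groth.Agent.H2.Isoc6 Groth.Agent.H2.Isoc7 Groth.Agent.H2.Isoc8
  Groth.Agent.H2.Isoc9

variable {p : ℕ} [Fact p.Prime] {k : Type u} [Field k] [CharP k p] [PerfectRing k p]
variable {N : Type v} [AddCommGroup N] [Module (WittVector p k) N]
  [Module (FractionRing (WittVector p k)) N]
  [IsScalarTower (WittVector p k) (FractionRing (WittVector p k)) N]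
variable {τ : FractionRing (WittVector p k) →+* FractionRing (WittVector p k)}

local notation "𝕎" => WittVector p k
local notation "𝕃" => FractionRing (WittVector p k)

/-! ### Reduced lattices -/

theorem latImg_twist (F : N →ₛₗ[τ] N) (m : ℤ) (n j : ℕ) (M : Submodule 𝕎 N) :
    Isoc.latImg (((p : 𝕃) ^ m) • Isoc.iter F n) j M =
      Isoc.pPow (m * j) (Isoc.latImg F (n * j) M) := by
  unfold Isoc.latImg Isoc.pPow
  rw [Submodule.smul_span]
  congr 1
  ext y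
  constructor
  · rintro ⟨x, hx, rfl⟩
    exact ⟨(⇑F)^[n * j] x, ⟨x, hx, rfl⟩, (twist_iterate F m n j x).symm⟩
  · rintro ⟨_, ⟨x, hx, rfl⟩, rfl⟩
    exact ⟨x, hx, twist_iterate F m n j x⟩

theorem exists_reduced_lattice (hτ : Tw τ) (F : N →ₛₗ[τ] N) (μ : ℚ)
    (hiso : Isoc.IsIsoclinic F μ) :
    ∃ M' : Submodule 𝕎 N, M'.IsLattice 𝕃 ∧
      Isoc.latImg F μ.den M' = Isoc.pPow μ.num M' := by
  obtain ⟨M, hM, r, s, hs, hμ, hE⟩ := hiso
  have hs' : (s : ℚ) ≠ 0 := Nat.cast_ne_zero.2 hs.ne'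
  have hden : (μ.den : ℤ) ∣ (s : ℤ) := by
    have := Rat.den_dvd r (s : ℤ)
    rwa [Rat.divInt_eq_div, Int.cast_natCast, hμ] at this
  obtain ⟨c, hc⟩ := Int.natCast_dvd_natCast.1 hden
  have hcpos : 0 < c := by
    rcases Nat.eq_zero_or_pos c with h0 | h0
    · rw [h0, mul_zero] at hc; omega
    · exact h0
  have hr : r = μ.num * c := by
    have h1 : (r : ℚ) = μ * s := by rw [← hμ]; exact (div_mul_cancel₀ _ hs').symm
    have h2 : (μ : ℚ) * s = μ.num * c := by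
      rw [hc]; push_cast; rw [← mul_assoc, Rat.mul_den_eq_num]
    exact_mod_cast h1.trans h2
  have hτ' : Tw (τ ^ μ.den) := hτ.pow _
  obtain ⟨Φ, hΦ⟩ : ∃ Φ : N →ₛₗ[τ ^ μ.den] N,
      Φ = ((p : 𝕃) ^ (-μ.num)) • Isoc.iter F μ.den := ⟨_, rfl⟩
  have hLc : Isoc.latImg Φ c M = M := by
    rw [hΦ, latImg_twist, ← hc, hE, pPow_pPow, hr]
    have : -μ.num * (c : ℤ) + μ.num * (c : ℤ) = 0 := by ring
    rw [this, pPow_zero]
  have hL1 : ∀ i : ℕ, Isoc.latImg Φ 1 (Isoc.latImg Φ i M) = Isoc.latImg Φ (i + 1) M := by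
    intro i
    rw [latImg_latImg hτ' Φ 1 i M, Nat.add_comm]
  obtain ⟨M', hM'⟩ : ∃ M' : Submodule 𝕎 N, M' = ⨆ i : Fin c, Isoc.latImg Φ (i : ℕ) M :=
    ⟨_, rfl⟩
  have hle : ∀ i : ℕ, i < c → Isoc.latImg Φ i M ≤ M' := by
    intro i hi
    rw [hM']
    exact le_iSup (fun i : Fin c => Isoc.latImg Φ (i : ℕ) M) ⟨i, hi⟩
  have hMle : M ≤ M' := by
    have := hle 0 hcpos
    rwa [latImg_zero] at this
  have hfix : Isoc.latImg Φ 1 M' = M' := by
    apply le_antisymm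
    · rw [latImg_le_iff]
      intro m hm
      rw [hM'] at hm
      refine Submodule.iSup_induction _ (motive := fun m => (⇑Φ)^[1] m ∈ M') hm ?_ ?_ ?_
      · intro i m hm
        have h1 : (⇑Φ)^[1] m ∈ Isoc.latImg Φ ((i : ℕ) + 1) M := by
          rw [← hL1]; exact iter_mem_latImg Φ 1 hm
        rcases Nat.lt_or_ge ((i : ℕ) + 1) c with hlt | hge
        · exact hle _ hlt h1
        · have : (i : ℕ) + 1 = c := by have := i.2; omega
          rw [this, hLc] at h1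
          exact hMle h1
      · show (⇑Φ)^[1] 0 ∈ M'
        rw [iter_zero']; exact zero_mem _
      · intro x y hx hy
        show (⇑Φ)^[1] (x + y) ∈ M'
        rw [iter_add]; exact add_mem hx hy
    · have key : ∀ i : ℕ, i < c → Isoc.latImg Φ i M ≤ Isoc.latImg Φ 1 M' := by
        intro i hi
        rcases Nat.eq_zero_or_pos i with h0 | h0
        · rw [h0, latImg_zero]
          calc M = Isoc.latImg Φ 1 (Isoc.latImg Φ (c - 1) M) := by
                rw [hL1, Nat.sub_add_cancel hcpos, hLc]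
            _ ≤ Isoc.latImg Φ 1 M' := latImg_mono Φ 1 (hle _ (by omega))
        · calc Isoc.latImg Φ i M = Isoc.latImg Φ 1 (Isoc.latImg Φ (i - 1) M) := by
                rw [hL1, Nat.sub_add_cancel h0]
            _ ≤ Isoc.latImg Φ 1 M' := latImg_mono Φ 1 (hle _ (by omega))
      calc M' = ⨆ i : Fin c, Isoc.latImg Φ (i : ℕ) M := hM'
        _ ≤ Isoc.latImg Φ 1 M' := iSup_le (fun i => key i i.2)
  refine ⟨M', ⟨?_, ?_⟩, ?_⟩
  · rw [hM']
    exact Submodule.fg_iSup _ (fun i => latImg_fg hτ' Φ _ M hM.fg)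
  · rw [eq_top_iff, ← hM.span_eq_top]
    exact Submodule.span_mono hMle
  · have h2 : Isoc.latImg Φ 1 M' = Isoc.pPow (-μ.num) (Isoc.latImg F μ.den M') := by
      rw [hΦ]; exact latImg_twist_one F (-μ.num) μ.den _
    have h3 : Isoc.pPow (-μ.num) (Isoc.latImg F μ.den M') = M' := h2.symm.trans hfix
    have h4 := congrArg (Isoc.pPow μ.num) h3
    rwa [pPow_pPow, add_neg_cancel, pPow_zero] at h4

/-! ### Fixed vectors -/

theorem frobEquiv_pow_apply (n : ℕ) (w : 𝕎) :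
    (WittVector.frobeniusEquiv p k ^ n) w =
      (⇑(WittVector.frobenius : 𝕎 →+* 𝕎))^[n] w := by
  induction n generalizing w with
  | zero => rfl
  | succ n ih =>
    rw [pow_succ, RingAut.mul_apply, ih, Function.iterate_succ_apply]
    rfl

theorem iter_frob_smul (a : ℤ) (F : N →ₛₗ[Isoc.frob p k a] N) (s : ℕ) (w : 𝕎) (x : N) :
    (⇑F)^[s] (w • x) = ((WittVector.frobeniusEquiv p k ^ (a * s)) w) • (⇑F)^[s] x := by
  induction s with
  | zero =>
    rw [Nat.cast_zero, mul_zero, zpow_zero]; rfl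
  | succ s ih =>
    rw [Function.iterate_succ_apply', ih,
      ← algebraMap_smul 𝕃 ((WittVector.frobeniusEquiv p k ^ (a * s)) w), map_smulₛₗ,
      Isoc.frob_algebraMap, algebraMap_smul, ← RingAut.mul_apply, ← zpow_add,
      Function.iterate_succ_apply']
    congr 3
    push_cast; ring

theorem fix_general [IsAlgClosed k] {M₀ : Type v} [AddCommGroup M₀] [Module 𝕎 M₀]
    [Module.Finite 𝕎 M₀] [Module.Free 𝕎 M₀]
    (z : ℤ) (hz : z ≠ 0) (Φ : M₀ →+ M₀)
    (hΦ : ∀ (w : 𝕎) (m : M₀), Φ (w • m) = (WittVector.frobeniusEquiv p k ^ z) w • Φ m)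
    (hbij : Function.Bijective Φ) :
    ∃ b : Module.Basis (Module.Free.ChooseBasisIndex 𝕎 M₀) 𝕎 M₀, ∀ i, Φ (b i) = b i := by
  classical
  rcases lt_or_gt_of_ne hz with hneg | hpos
  · obtain ⟨ν, hν⟩ : ∃ ν : ℕ, z = -(ν : ℤ) := ⟨(-z).toNat, by omega⟩
    have hν1 : 1 ≤ ν := by omega
    let E : M₀ ≃+ M₀ := AddEquiv.ofBijective Φ hbij
    have hE : ∀ m, E m = Φ m := fun m => rfl
    have hΨ : ∀ (w : 𝕎) (m : M₀), E.symm.toAddMonoidHom (w • m) =
        ((⇑(WittVector.frobenius : 𝕎 →+* 𝕎))^[ν] w) • E.symm.toAddMonoidHom m := by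
      intro w m
      apply E.injective
      show E (E.symm (w • m)) = E (_ • E.symm m)
      rw [AddEquiv.apply_symm_apply, hE, hΦ, ← hE, AddEquiv.apply_symm_apply, hν,
        ← frobEquiv_pow_apply, zpow_neg, zpow_natCast, ← RingAut.mul_apply, inv_mul_cancel,
        RingAut.one_apply]
    obtain ⟨b, hb⟩ := Groth.Agent.H2.WittFix.main ν hν1 (Module.Free.chooseBasis 𝕎 M₀)
      E.symm.toAddMonoidHom hΨ E.symm.bijective
    refine ⟨b, fun i => ?_⟩
    have h1 : E.symm (b i) = b i := hb i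
    have h2 : E (E.symm (b i)) = E (b i) := congrArg E h1
    rw [AddEquiv.apply_symm_apply] at h2
    exact h2.symm
  · obtain ⟨ν, hν⟩ : ∃ ν : ℕ, z = (ν : ℤ) := ⟨z.toNat, by omega⟩
    have hν1 : 1 ≤ ν := by omega
    refine Groth.Agent.H2.WittFix.main ν hν1 (Module.Free.chooseBasis 𝕎 M₀) Φ
      (fun w m => ?_) hbij
    rw [hΦ, hν, zpow_natCast, frobEquiv_pow_apply]

theorem exists_fixed_span [IsAlgClosed k] (a : ℤ) (ha : a ≠ 0) (F : N →ₛₗ[Isoc.frob p k a] N)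
    (hF : Isoc.IsIsoc F) (h : ℕ) (hh : 0 < h) (d : ℤ) (M' : Submodule 𝕎 N)
    (hM' : M'.IsLattice 𝕃) (hE : Isoc.latImg F h M' = Isoc.pPow d M') :
    Submodule.span 𝕃 {x : N | (⇑F)^[h] x = ((p : 𝕃) ^ d) • x} = ⊤ := by
  haveI := hM'
  have hτ := tw_frob (p := p) (k := k) a
  have hmem : ∀ m ∈ M', ((p : 𝕃) ^ (-d)) • (⇑F)^[h] m ∈ M' := fun m hm => by
    have : (⇑F)^[h] m ∈ Isoc.pPow d M' := by rw [← hE]; exact iter_mem_latImg F h hm
    exact mem_pPow.1 this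
  let Φ : ↥M' →+ ↥M' :=
    { toFun := fun m => ⟨((p : 𝕃) ^ (-d)) • (⇑F)^[h] (m : N), hmem m m.2⟩
      map_zero' := by
        apply Subtype.ext
        show ((p : 𝕃) ^ (-d)) • (⇑F)^[h] ((0 : ↥M') : N) = ((0 : ↥M') : N)
        rw [Submodule.coe_zero, iter_zero', smul_zero]
      map_add' := fun x y => by
        apply Subtype.ext
        show ((p : 𝕃) ^ (-d)) • (⇑F)^[h] ((x + y : ↥M') : N) =
          ((p : 𝕃) ^ (-d)) • (⇑F)^[h] (x : N) + ((p : 𝕃) ^ (-d)) • (⇑F)^[h] (y : N)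
        rw [Submodule.coe_add, iter_add, smul_add] }
  have hΦv : ∀ m : ↥M', ((Φ m : ↥M') : N) = ((p : 𝕃) ^ (-d)) • (⇑F)^[h] (m : N) := fun m => rfl
  have hΦs : ∀ (w : 𝕎) (m : ↥M'),
      Φ (w • m) = (WittVector.frobeniusEquiv p k ^ (a * h)) w • Φ m := by
    intro w m
    apply Subtype.ext
    rw [hΦv, Submodule.coe_smul, Submodule.coe_smul, hΦv, iter_frob_smul, smul_comm]
  have hbij : Function.Bijective Φ := by
    constructor
    · intro x y hxy
      have h1 := congrArg Subtype.val hxy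
      rw [hΦv, hΦv] at h1
      have h2 := smul_right_injective N (zpow_ne_zero (-d) (pL_ne_zero (p := p) (k := k))) h1
      exact Subtype.ext (hF.bijective.1.iterate h h2)
    · intro y
      have h1 : ((p : 𝕃) ^ d) • (y : N) ∈ Isoc.latImg F h M' := by
        rw [hE]; exact smul_mem_pPow y.2
      obtain ⟨m, hm, hmy⟩ := (mem_latImg hτ F h M' _).1 h1
      refine ⟨⟨m, hm⟩, Subtype.ext ?_⟩
      rw [hΦv]
      show ((p : 𝕃) ^ (-d)) • (⇑F)^[h] m = (y : N)
      rw [hmy, smul_smul, ← zpow_add₀ pL_ne_zero, neg_add_cancel, zpow_zero, one_smul]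
  have hz : a * (h : ℤ) ≠ 0 := mul_ne_zero ha (by exact_mod_cast hh.ne')
  obtain ⟨b, hb⟩ := fix_general (a * h) hz Φ hΦs hbij
  have hfix : ∀ i, (⇑F)^[h] ((b i : ↥M') : N) = ((p : 𝕃) ^ d) • ((b i : ↥M') : N) := by
    intro i
    have h1 := congrArg Subtype.val (hb i)
    rw [hΦv] at h1
    have h2 := congrArg (fun y : N => ((p : 𝕃) ^ d) • y) h1
    rw [smul_smul, ← zpow_add₀ pL_ne_zero, add_neg_cancel, zpow_zero, one_smul] at h2
    exact h2
  rw [eq_top_iff, ← hM'.span_eq_top, Submodule.span_le]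
  intro m hm
  have h1 := congrArg M'.subtype (b.sum_repr ⟨m, hm⟩)
  rw [map_sum] at h1
  simp only [map_smul, Submodule.subtype_apply] at h1
  rw [SetLike.mem_coe, ← h1]
  refine Submodule.sum_mem _ (fun i _ => ?_)
  rw [← algebraMap_smul 𝕃]
  exact Submodule.smul_mem _ _ (Submodule.subset_span (hfix i))

theorem isIsoc_restrict (hτ : Tw τ) (F : N →ₛₗ[τ] N) (hF : Isoc.IsIsoc F) (Q : Submodule 𝕃 N)
    (hQ : ∀ x ∈ Q, F x ∈ Q) : Isoc.IsIsoc (F.restrict hQ) := by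
  haveI := hF.finite
  refine ⟨inferInstance, ?_, ?_⟩
  · intro x y hxy
    apply Subtype.ext
    apply hF.bijective.injective
    exact congrArg Subtype.val hxy
  · intro y
    obtain ⟨x, hx⟩ := hF.bijective.surjective (y : N)
    have hxP : x ∈ Q := mem_of_map_mem hτ F hF Q hQ (by rw [hx]; exact y.2)
    exact ⟨⟨x, hxP⟩, Subtype.ext hx⟩

theorem slopePart_le_span_fixed [IsAlgClosed k] (a : ℤ) (ha : a ≠ 0)
    (F : N →ₛₗ[Isoc.frob p k a] N) (hF : Isoc.IsIsoc F) (μ : ℚ) :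
    Isoc.slopePart F μ ≤ Submodule.span 𝕃
      {x : N | (⇑F)^[μ.den] x = ((p : 𝕃) ^ μ.num) • x} := by
  have hτ := tw_frob (p := p) (k := k) a
  obtain ⟨hP, hiso⟩ := slopePart_isoclinic hτ F hF μ
  have hF' := isIsoc_restrict hτ F hF _ hP
  obtain ⟨M', hM', hE⟩ := exists_reduced_lattice hτ (F.restrict hP) μ hiso
  have hspan := exists_fixed_span a ha (F.restrict hP) hF' μ.den μ.den_pos μ.num M' hM' hE
  intro y hy
  have h1 : (⟨y, hy⟩ : ↥(Isoc.slopePart F μ)) ∈ Submodule.span 𝕃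
      {x : ↥(Isoc.slopePart F μ) | (⇑(F.restrict hP))^[μ.den] x = ((p : 𝕃) ^ μ.num) • x} := by
    rw [hspan]; exact Submodule.mem_top
  have h2 := Submodule.apply_mem_span_image_of_mem_span (Isoc.slopePart F μ).subtype h1
  refine Submodule.span_mono ?_ h2
  rintro _ ⟨x', hx', rfl⟩
  have h3 := congrArg Subtype.val hx'
  rw [restrict_iterate] at h3
  exact h3

/-! ### Cyclic sub-isocrystals -/

noncomputable def cycMap (F : N →ₛₗ[τ] N) (h : ℕ) (x : N) : (Fin h → 𝕃) →ₗ[𝕃] N :=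
  Fintype.linearCombination 𝕃 (fun i : Fin h => (⇑F)^[(i : ℕ)] x)

theorem cycMap_apply (F : N →ₛₗ[τ] N) (h : ℕ) (x : N) (c : Fin h → 𝕃) :
    cycMap F h x c = ∑ i, c i • (⇑F)^[(i : ℕ)] x :=
  Fintype.linearCombination_apply 𝕃 _ c

theorem cycMap_equivariant (F : N →ₛₗ[τ] N) (d : ℤ) (n : ℕ) (x : N)
    (hx : (⇑F)^[n + 1] x = ((p : 𝕃) ^ d) • x) (c : Fin (n + 1) → 𝕃) :
    cycMap F (n + 1) x (Isoc.stdIsoc τ d (n + 1) c) = F (cycMap F (n + 1) x c) := by
  rw [cycMap_apply, cycMap_apply, map_sum]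
  symm
  refine Fintype.sum_equiv (finRotate (n + 1)) _ _ ?_
  rintro ⟨i, hi⟩
  rw [Isoc.stdIsoc_apply, Equiv.symm_apply_apply, map_smulₛₗ]
  rcases Nat.lt_or_ge i n with hlt | hge
  · rw [finRotate_of_lt hlt]
    show _ = ((if i + 1 = 0 then (p : 𝕃) ^ d else 1) * τ (c ⟨i, hi⟩)) • (⇑F)^[i + 1] x
    rw [if_neg (Nat.succ_ne_zero i), one_mul, Function.iterate_succ_apply' (⇑F) i x]
  · obtain rfl : i = n := by omega
    rw [finRotate_last']
    show τ (c ⟨i, hi⟩) • F ((⇑F)^[i] x) =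
      ((if 0 = 0 then (p : 𝕃) ^ d else 1) * τ (c ⟨i, hi⟩)) • (⇑F)^[0] x
    rw [if_pos rfl, ← Function.iterate_succ_apply' (⇑F) i x, hx, Function.iterate_zero, id_eq,
      mul_comm, mul_smul]

theorem cycMap_e0 (F : N →ₛₗ[τ] N) (n : ℕ) (x : N) :
    cycMap F (n + 1) x (Pi.single 0 1) = x := by
  unfold cycMap
  rw [Fintype.linearCombination_apply_single, one_smul]
  rfl

theorem cyc_stable (F : N →ₛₗ[τ] N) (d : ℤ) (n : ℕ) (x : N)
    (hx : (⇑F)^[n + 1] x = ((p : 𝕃) ^ d) • x) :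
    ∀ y ∈ LinearMap.range (cycMap F (n + 1) x), F y ∈ LinearMap.range (cycMap F (n + 1) x) := by
  rintro _ ⟨c, rfl⟩
  exact ⟨_, cycMap_equivariant F d n x hx c⟩

theorem cyc_simple (hτ : Tw τ) (F : N →ₛₗ[τ] N) (d : ℤ) (n : ℕ)
    (hdh : Int.gcd d ((n + 1 : ℕ) : ℤ) = 1) (x : N)
    (hx : (⇑F)^[n + 1] x = ((p : 𝕃) ^ d) • x) (Q : Submodule 𝕃 N) (hQ : ∀ y ∈ Q, F y ∈ Q)
    (hQle : Q ≤ LinearMap.range (cycMap F (n + 1) x)) :
    Q = ⊥ ∨ Q = LinearMap.range (cycMap F (n + 1) x) := by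
  have hst : ∀ c ∈ Q.comap (cycMap F (n + 1) x),
      Isoc.stdIsoc τ d (n + 1) c ∈ Q.comap (cycMap F (n + 1) x) := by
    intro c hc
    rw [Submodule.mem_comap] at hc ⊢
    rw [cycMap_equivariant F d n x hx]
    exact hQ _ hc
  rcases stdIsoc_simple hτ d (n + 1) (Nat.succ_pos n) hdh _ hst with h0 | h1
  · left
    rw [eq_bot_iff]
    intro y hy
    obtain ⟨c, rfl⟩ := hQle hy
    have hc : c ∈ Q.comap (cycMap F (n + 1) x) := hy
    rw [h0, Submodule.mem_bot] at hc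
    rw [hc, map_zero]; exact zero_mem _
  · right
    apply le_antisymm hQle
    rintro _ ⟨c, rfl⟩
    have hc : c ∈ Q.comap (cycMap F (n + 1) x) := by rw [h1]; exact Submodule.mem_top
    exact hc

theorem cycMap_injective (hτ : Tw τ) (F : N →ₛₗ[τ] N) (d : ℤ) (n : ℕ)
    (hdh : Int.gcd d ((n + 1 : ℕ) : ℤ) = 1) (x : N) (hx0 : x ≠ 0)
    (hx : (⇑F)^[n + 1] x = ((p : 𝕃) ^ d) • x) : Function.Injective (cycMap F (n + 1) x) := by
  rw [← LinearMap.ker_eq_bot]
  have hst : ∀ c ∈ LinearMap.ker (cycMap F (n + 1) x),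
      Isoc.stdIsoc τ d (n + 1) c ∈ LinearMap.ker (cycMap F (n + 1) x) := by
    intro c hc
    rw [LinearMap.mem_ker] at hc ⊢
    rw [cycMap_equivariant F d n x hx, hc, map_zero]
  rcases stdIsoc_simple hτ d (n + 1) (Nat.succ_pos n) hdh _ hst with h0 | h1
  · exact h0
  · exfalso
    apply hx0
    have : (Pi.single 0 1 : Fin (n + 1) → 𝕃) ∈ LinearMap.ker (cycMap F (n + 1) x) := by
      rw [h1]; exact Submodule.mem_top
    rw [LinearMap.mem_ker, cycMap_e0] at this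
    exact this

/-! ### Semisimplicity -/

def IsSimpleStable (F : N →ₛₗ[τ] N) (A : Submodule 𝕃 N) : Prop :=
  (∀ y ∈ A, F y ∈ A) ∧ ∀ Q : Submodule 𝕃 N, (∀ y ∈ Q, F y ∈ Q) → Q ≤ A → Q = ⊥ ∨ Q = A

theorem sSup_simple_eq_top [IsAlgClosed k] (a : ℤ) (ha : a ≠ 0)
    (F : N →ₛₗ[Isoc.frob p k a] N) (hF : Isoc.IsIsoc F) :
    sSup {A : Submodule 𝕃 N | IsSimpleStable F A} = ⊤ := by
  have hτ := tw_frob (p := p) (k := k) a
  rw [eq_top_iff, ← iSup_slopePart_eq_top hτ F hF]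
  refine iSup_le (fun μ => ?_)
  refine (slopePart_le_span_fixed a ha F hF μ).trans ?_
  rw [Submodule.span_le]
  intro x hx
  obtain ⟨n, hn⟩ : ∃ n, μ.den = n + 1 := ⟨μ.den - 1, by have := μ.den_pos; omega⟩
  have hx' : (⇑F)^[n + 1] x = ((p : 𝕃) ^ μ.num) • x := by rw [← hn]; exact hx
  have hgcd : Int.gcd μ.num ((n + 1 : ℕ) : ℤ) = 1 := by
    rw [← hn]
    have := μ.reduced
    rw [Int.gcd, Int.natAbs_natCast]
    exact this
  have hA : IsSimpleStable F (LinearMap.range (cycMap F (n + 1) x)) :=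
    ⟨cyc_stable F μ.num n x hx', fun Q hQ hQle => cyc_simple hτ F μ.num n hgcd x hx' Q hQ hQle⟩
  have hle : LinearMap.range (cycMap F (n + 1) x) ≤
      sSup {A : Submodule 𝕃 N | IsSimpleStable F A} := le_sSup hA
  exact hle ⟨Pi.single 0 1, cycMap_e0 F n x⟩

theorem exists_compl_aux (F : N →ₛₗ[τ] N) [Module.Finite 𝕃 N]
    (htop : sSup {A : Submodule 𝕃 N | IsSimpleStable F A} = ⊤) :
    ∀ (n : ℕ) (P : Submodule 𝕃 N), (∀ x ∈ P, F x ∈ P) →
      Module.finrank 𝕃 N - Module.finrank 𝕃 P = n →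
      ∃ Q : Submodule 𝕃 N, (∀ x ∈ Q, F x ∈ Q) ∧ IsCompl P Q := by
  intro n
  induction n using Nat.strong_induction_on with
  | _ n ih =>
    intro P hP hn
    by_cases hPtop : P = ⊤
    · exact ⟨⊥, fun x hx => by rw [Submodule.mem_bot] at hx ⊢; rw [hx, map_zero],
        hPtop ▸ isCompl_top_bot⟩
    · obtain ⟨A, hA, hAP⟩ : ∃ A : Submodule 𝕃 N, IsSimpleStable F A ∧ ¬ A ≤ P := by
        by_contra hcon
        push Not at hcon
        apply hPtop
        rw [eq_top_iff, ← htop]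
        exact sSup_le (fun A hA => hcon A hA)
      have hAPinf : A ⊓ P = ⊥ := by
        rcases hA.2 (A ⊓ P) (fun y hy => ⟨hA.1 y hy.1, hP y hy.2⟩) inf_le_left with h0 | h1
        · exact h0
        · exact absurd (h1 ▸ inf_le_right : A ≤ P) hAP
      have hP' : ∀ x ∈ P ⊔ A, F x ∈ P ⊔ A := by
        intro x hx
        obtain ⟨u, hu, v, hv, rfl⟩ := Submodule.mem_sup.1 hx
        rw [map_add]
        exact Submodule.add_mem _ (Submodule.mem_sup_left (hP u hu))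
          (Submodule.mem_sup_right (hA.1 v hv))
      have hlt : P < P ⊔ A := lt_of_le_of_ne le_sup_left (fun h => hAP (h ▸ le_sup_right))
      have hfr := Submodule.finrank_lt_finrank_of_lt hlt
      have hfrle := Submodule.finrank_le (P ⊔ A)
      obtain ⟨Q', hQ', hc⟩ := ih (Module.finrank 𝕃 N - Module.finrank 𝕃 ↥(P ⊔ A)) (by omega)
        (P ⊔ A) hP' rfl
      refine ⟨A ⊔ Q', ?_, ?_, ?_⟩
      · intro x hx
        obtain ⟨u, hu, v, hv, rfl⟩ := Submodule.mem_sup.1 hx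
        rw [map_add]
        exact Submodule.add_mem _ (Submodule.mem_sup_left (hA.1 u hu))
          (Submodule.mem_sup_right (hQ' v hv))
      · rw [Submodule.disjoint_def]
        intro y hyP hyQ
        obtain ⟨u, hu, v, hv, rfl⟩ := Submodule.mem_sup.1 hyQ
        have hv0 : v = 0 := by
          have h1 : v ∈ P ⊔ A := by
            have : v = (u + v) + -u := by abel
            rw [this]
            exact Submodule.add_mem _ (Submodule.mem_sup_left hyP)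
              (Submodule.mem_sup_right (A.neg_mem hu))
          exact (Submodule.disjoint_def.1 hc.disjoint) v h1 hv
        rw [hv0, add_zero] at hyP ⊢
        have : u ∈ A ⊓ P := ⟨hu, hyP⟩
        rw [hAPinf, Submodule.mem_bot] at this
        exact this
      · rw [codisjoint_iff, ← sup_assoc]
        exact codisjoint_iff.1 hc.codisjoint

theorem exists_compl [IsAlgClosed k] (a : ℤ) (ha : a ≠ 0)
    (F : N →ₛₗ[Isoc.frob p k a] N) (hF : Isoc.IsIsoc F) (P : Submodule 𝕃 N)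
    (hP : ∀ x ∈ P, F x ∈ P) :
    ∃ Q : Submodule 𝕃 N, (∀ x ∈ Q, F x ∈ Q) ∧ IsCompl P Q := by
  haveI := hF.finite
  exact exists_compl_aux F (sSup_simple_eq_top a ha F hF) _ P hP rfl

end Groth.Agent.H2.Isoc10
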