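import Mathlib
import Groth.Prelude.Def_Isoc
import Groth.Agent.H2.WittFix
import Groth.Agent.H2.Isoc1
import Groth.Agent.H2.Isoc2
import Groth.Agent.H2.Isoc3
import Groth.Agent.H2.Isoc4
import Groth.Agent.H2.Isoc5
import Groth.Agent.H2.Isoc6
import Groth.Agent.H2.Isoc7
import Groth.Agent.H2.Isoc8
import Groth.Agent.H2.Isoc9
import Groth.Agent.H2.Isoc10

set_option autoImplicit false
set_option linter.unusedSectionVars false
set_option linter.style.haveILetI false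
open scoped Pointwise
open Filter Topology

universe u v w

namespace Groth.Agent.H2.Isoc11

open Groth.Agent.H2.Isoc1 Groth.Agent.H2.Isoc2 Groth.Agent.H2.Isoc3 Groth.Agent.H2.Isoc4
  Groth.Agent.H2.Isoc5 Groth.Agent.H2.Isoc6 Groth.Agent.H2.Isoc7 Groth.Agent.H2.Isoc8
  Groth.Agent.H2.Isoc9 Groth.Agent.H2.Isoc10

variable {p : ℕ} [Fact p.Prime] {k : Type u} [Field k] [CharP k p] [PerfectRing k p]
variable {N : Type v} [AddCommGroup N] [Module (WittVector p k) N]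
  [Module (FractionRing (WittVector p k)) N]
  [IsScalarTower (WittVector p k) (FractionRing (WittVector p k)) N]
variable {τ : FractionRing (WittVector p k) →+* FractionRing (WittVector p k)}

local notation "𝕎" => WittVector p k
local notation "𝕃" => FractionRing (WittVector p k)

/-- a good fixed vector, tagged by its slope -/
def Good (F : N →ₛₗ[τ] N) (j : ℚ × N) : Prop :=
  j.2 ≠ 0 ∧ j.2 ∈ Isoc.slopePart F j.1 ∧ (⇑F)^[j.1.den] j.2 = ((p : 𝕃) ^ j.1.num) • j.2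

noncomputable def cycJ (F : N →ₛₗ[τ] N) (j : ℚ × N) : (Fin j.1.den → 𝕃) →ₗ[𝕃] N :=
  cycMap F j.1.den j.2

noncomputable def AJ (F : N →ₛₗ[τ] N) (j : ℚ × N) : Submodule 𝕃 N :=
  LinearMap.range (cycJ F j)

theorem gcd_num_den (μ : ℚ) : Int.gcd μ.num (μ.den : ℤ) = 1 := by
  have := μ.reduced
  rw [Int.gcd, Int.natAbs_natCast]
  exact this

theorem cycMap_equivariant' (F : N →ₛₗ[τ] N) (d : ℤ) (h : ℕ) (hpos : 0 < h) (x : N)
    (hx : (⇑F)^[h] x = ((p : 𝕃) ^ d) • x) (c : Fin h → 𝕃) :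
    cycMap F h x (Isoc.stdIsoc τ d h c) = F (cycMap F h x c) := by
  obtain ⟨n, rfl⟩ : ∃ n, h = n + 1 := ⟨h - 1, by omega⟩
  exact cycMap_equivariant F d n x hx c

theorem self_mem_cyc (F : N →ₛₗ[τ] N) (h : ℕ) (hpos : 0 < h) (x : N) :
    x ∈ LinearMap.range (cycMap F h x) := by
  obtain ⟨n, rfl⟩ : ∃ n, h = n + 1 := ⟨h - 1, by omega⟩
  exact ⟨Pi.single 0 1, cycMap_e0 F n x⟩

theorem cyc_simple' (hτ : Tw τ) (F : N →ₛₗ[τ] N) (d : ℤ) (h : ℕ) (hpos : 0 < h)
    (hdh : Int.gcd d (h : ℤ) = 1) (x : N)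
    (hx : (⇑F)^[h] x = ((p : 𝕃) ^ d) • x) (Q : Submodule 𝕃 N) (hQ : ∀ y ∈ Q, F y ∈ Q)
    (hQle : Q ≤ LinearMap.range (cycMap F h x)) :
    Q = ⊥ ∨ Q = LinearMap.range (cycMap F h x) := by
  obtain ⟨n, rfl⟩ : ∃ n, h = n + 1 := ⟨h - 1, by omega⟩
  exact cyc_simple hτ F d n hdh x hx Q hQ hQle

theorem cycMap_injective' (hτ : Tw τ) (F : N →ₛₗ[τ] N) (d : ℤ) (h : ℕ) (hpos : 0 < h)
    (hdh : Int.gcd d (h : ℤ) = 1) (x : N) (hx0 : x ≠ 0)
    (hx : (⇑F)^[h] x = ((p : 𝕃) ^ d) • x) : Function.Injective (cycMap F h x) := by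
  obtain ⟨n, rfl⟩ : ∃ n, h = n + 1 := ⟨h - 1, by omega⟩
  exact cycMap_injective hτ F d n hdh x hx0 hx

theorem cycJ_equivariant (F : N →ₛₗ[τ] N) (j : ℚ × N) (hj : Good F j)
    (c : Fin j.1.den → 𝕃) :
    cycJ F j (Isoc.stdIsoc τ j.1.num j.1.den c) = F (cycJ F j c) :=
  cycMap_equivariant' F j.1.num j.1.den j.1.den_pos j.2 hj.2.2 c

theorem AJ_stable (F : N →ₛₗ[τ] N) (j : ℚ × N) (hj : Good F j) :
    ∀ y ∈ AJ F j, F y ∈ AJ F j := by
  rintro _ ⟨c, rfl⟩
  exact ⟨_, cycJ_equivariant F j hj c⟩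

theorem self_mem_AJ (F : N →ₛₗ[τ] N) (j : ℚ × N) : j.2 ∈ AJ F j :=
  self_mem_cyc F j.1.den j.1.den_pos j.2

theorem AJ_simple (hτ : Tw τ) (F : N →ₛₗ[τ] N) (j : ℚ × N) (hj : Good F j)
    (Q : Submodule 𝕃 N) (hQ : ∀ y ∈ Q, F y ∈ Q) (hQle : Q ≤ AJ F j) : Q = ⊥ ∨ Q = AJ F j :=
  cyc_simple' hτ F j.1.num j.1.den j.1.den_pos (gcd_num_den j.1) j.2 hj.2.2 Q hQ hQle

theorem cycJ_injective (hτ : Tw τ) (F : N →ₛₗ[τ] N) (j : ℚ × N) (hj : Good F j) :
    Function.Injective (cycJ F j) :=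
  cycMap_injective' hτ F j.1.num j.1.den j.1.den_pos (gcd_num_den j.1) j.2 hj.1 hj.2.2

theorem finrank_AJ (hτ : Tw τ) (F : N →ₛₗ[τ] N) (j : ℚ × N) (hj : Good F j) :
    Module.finrank 𝕃 (AJ F j) = j.1.den := by
  unfold AJ
  rw [LinearMap.finrank_range_of_inj (cycJ_injective hτ F j hj), Module.finrank_fin_fun]

theorem AJ_le_slopePart (hτ : Tw τ) (F : N →ₛₗ[τ] N) (hF : Isoc.IsIsoc F) (j : ℚ × N)
    (hj : Good F j) : AJ F j ≤ Isoc.slopePart F j.1 := by
  obtain ⟨hP, -⟩ := slopePart_isoclinic hτ F hF j.1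
  rintro _ ⟨c, rfl⟩
  show cycMap F j.1.den j.2 c ∈ _
  rw [cycMap_apply]
  exact Submodule.sum_mem _ (fun i _ => Submodule.smul_mem _ _
    (iter_mem_of_stable F _ hP _ hj.2.1))

theorem stable_finset_sup (F : N →ₛₗ[τ] N) (J : Finset (ℚ × N)) (hJ : ∀ j ∈ J, Good F j) :
    ∀ y ∈ J.sup (AJ F), F y ∈ J.sup (AJ F) := by
  refine Finset.sup_induction (p := fun A : Submodule 𝕃 N => ∀ y ∈ A, F y ∈ A) ?_ ?_ ?_
  · intro y hy
    rw [Submodule.mem_bot] at hy ⊢
    rw [hy, map_zero]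
  · intro A hA B hB y hy
    obtain ⟨u, hu, v, hv, rfl⟩ := Submodule.mem_sup.1 hy
    rw [map_add]
    exact Submodule.add_mem _ (Submodule.mem_sup_left (hA u hu))
      (Submodule.mem_sup_right (hB v hv))
  · intro j hj
    exact AJ_stable F j (hJ j hj)

theorem finrank_sup_le (hτ : Tw τ) (F : N →ₛₗ[τ] N) [Module.Finite 𝕃 N]
    (S : Finset (ℚ × N)) (hS : ∀ j ∈ S, Good F j) :
    Module.finrank 𝕃 ↥(S.sup (AJ F)) ≤ ∑ j ∈ S, j.1.den := by
  classical
  induction S using Finset.induction_on with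
  | empty => rw [Finset.sup_empty, finrank_bot, Finset.sum_empty]
  | insert j S hjS ih =>
    rw [Finset.sup_insert, Finset.sum_insert hjS]
    have h1 := Submodule.finrank_add_le_finrank_add_finrank (AJ F j) (S.sup (AJ F))
    have h2 := finrank_AJ hτ F j (hS j (Finset.mem_insert_self _ _))
    have h3 := ih (fun j' hj' => hS j' (Finset.mem_insert_of_mem hj'))
    omega

theorem exists_good_not_mem [IsAlgClosed k] (a : ℤ) (ha : a ≠ 0)
    (F : N →ₛₗ[Isoc.frob p k a] N) (hF : Isoc.IsIsoc F) (Q : Submodule 𝕃 N) (hQ : Q ≠ ⊤) :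
    ∃ j : ℚ × N, Good F j ∧ j.2 ∉ Q := by
  have hτ := tw_frob (p := p) (k := k) a
  by_contra hcon
  push Not at hcon
  apply hQ
  rw [eq_top_iff, ← iSup_slopePart_eq_top hτ F hF]
  refine iSup_le (fun μ => ?_)
  obtain ⟨hP, hiso⟩ := slopePart_isoclinic hτ F hF μ
  have hF' := isIsoc_restrict hτ F hF _ hP
  obtain ⟨M', hM', hE⟩ := exists_reduced_lattice hτ (F.restrict hP) μ hiso
  have hspan := exists_fixed_span a ha (F.restrict hP) hF' μ.den μ.den_pos μ.num M' hM' hE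
  intro y hy
  have h1 : (⟨y, hy⟩ : ↥(Isoc.slopePart F μ)) ∈ Submodule.span 𝕃
      {x : ↥(Isoc.slopePart F μ) | (⇑(F.restrict hP))^[μ.den] x = ((p : 𝕃) ^ μ.num) • x} := by
    rw [hspan]; exact Submodule.mem_top
  have h2 := Submodule.apply_mem_span_image_of_mem_span (Isoc.slopePart F μ).subtype h1
  refine (Submodule.span_le.2 ?_) h2
  rintro _ ⟨x', hx', rfl⟩
  have h3 := congrArg Subtype.val hx'
  rw [restrict_iterate] at h3
  by_cases hx0 : (x' : N) = 0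
  · show (x' : N) ∈ Q
    rw [hx0]; exact zero_mem _
  · exact hcon (μ, (x' : N)) ⟨hx0, x'.2, h3⟩

theorem exists_family_aux [IsAlgClosed k] (a : ℤ) (ha : a ≠ 0)
    (F : N →ₛₗ[Isoc.frob p k a] N) (hF : Isoc.IsIsoc F) :
    ∀ (n : ℕ) (J : Finset (ℚ × N)), (∀ j ∈ J, Good F j) →
      ∑ j ∈ J, j.1.den = Module.finrank 𝕃 ↥(J.sup (AJ F)) →
      Module.finrank 𝕃 N - Module.finrank 𝕃 ↥(J.sup (AJ F)) = n →
      ∃ J' : Finset (ℚ × N), (∀ j ∈ J', Good F j) ∧ J'.sup (AJ F) = ⊤ ∧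
        ∑ j ∈ J', j.1.den = Module.finrank 𝕃 N := by
  classical
  haveI := hF.finite
  have hτ := tw_frob (p := p) (k := k) a
  intro n
  induction n using Nat.strong_induction_on with
  | _ n ih =>
    intro J hJ hsum hn
    by_cases htop : J.sup (AJ F) = ⊤
    · refine ⟨J, hJ, htop, ?_⟩
      rw [hsum, htop, finrank_top]
    · obtain ⟨j₀, hj₀, hj₀Q⟩ := exists_good_not_mem a ha F hF _ htop
      have hQst := stable_finset_sup F J hJ
      have hinf : AJ F j₀ ⊓ J.sup (AJ F) = ⊥ := by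
        rcases AJ_simple hτ F j₀ hj₀ (AJ F j₀ ⊓ J.sup (AJ F))
          (fun y hy => ⟨AJ_stable F j₀ hj₀ y hy.1, hQst y hy.2⟩) inf_le_left with h0 | h1
        · exact h0
        · exfalso
          apply hj₀Q
          have : AJ F j₀ ≤ J.sup (AJ F) := h1 ▸ inf_le_right
          exact this (self_mem_AJ F j₀)
      have hj₀J : j₀ ∉ J := by
        intro hmem
        apply hj₀Q
        have : AJ F j₀ ≤ J.sup (AJ F) := Finset.le_sup (f := AJ F) hmem
        exact this (self_mem_AJ F j₀)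
      have hfr : Module.finrank 𝕃 ↥(AJ F j₀ ⊔ J.sup (AJ F)) =
          j₀.1.den + Module.finrank 𝕃 ↥(J.sup (AJ F)) := by
        have h1 := Submodule.finrank_sup_add_finrank_inf_eq (AJ F j₀) (J.sup (AJ F))
        rw [hinf, finrank_bot, add_zero, finrank_AJ hτ F j₀ hj₀] at h1
        exact h1
      have hle := Submodule.finrank_le (AJ F j₀ ⊔ J.sup (AJ F))
      have hdpos := j₀.1.den_pos
      refine ih (Module.finrank 𝕃 N - Module.finrank 𝕃 ↥((insert j₀ J).sup (AJ F))) ?_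
        (insert j₀ J) ?_ ?_ rfl
      · rw [Finset.sup_insert]; omega
      · intro j hj
        rcases Finset.mem_insert.1 hj with rfl | hj
        · exact hj₀
        · exact hJ j hj
      · rw [Finset.sum_insert hj₀J, Finset.sup_insert, hfr, hsum]

theorem exists_family [IsAlgClosed k] (a : ℤ) (ha : a ≠ 0)
    (F : N →ₛₗ[Isoc.frob p k a] N) (hF : Isoc.IsIsoc F) :
    ∃ J : Finset (ℚ × N), (∀ j ∈ J, Good F j) ∧ J.sup (AJ F) = ⊤ ∧
      ∑ j ∈ J, j.1.den = Module.finrank 𝕃 N := by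
  refine exists_family_aux a ha F hF _ ∅ (fun j hj => absurd hj (Finset.notMem_empty j)) ?_ rfl
  rw [Finset.sum_empty, Finset.sup_empty, finrank_bot]

theorem mult_formula (hτ : Tw τ) (F : N →ₛₗ[τ] N) (hF : Isoc.IsIsoc F)
    (J : Finset (ℚ × N)) (hJ : ∀ j ∈ J, Good F j) (hJsup : J.sup (AJ F) = ⊤)
    (hJsum : ∑ j ∈ J, j.1.den = Module.finrank 𝕃 N) (μ : ℚ) :
    Module.finrank 𝕃 (Isoc.slopePart F μ) = ∑ j ∈ J.filter (fun j => j.1 = μ), j.1.den := by
  classical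
  haveI := hF.finite
  obtain ⟨B, hB⟩ : ∃ B : Submodule 𝕃 N, B = (J.filter (fun j => j.1 = μ)).sup (AJ F) := ⟨_, rfl⟩
  obtain ⟨C, hC⟩ : ∃ C : Submodule 𝕃 N, C = (J.filter (fun j => ¬ j.1 = μ)).sup (AJ F) :=
    ⟨_, rfl⟩
  have hBC : B ⊔ C = ⊤ := by
    rw [hB, hC, ← Finset.sup_union, Finset.filter_union_filter_not_eq, hJsup]
  have hBle : Module.finrank 𝕃 B ≤ ∑ j ∈ J.filter (fun j => j.1 = μ), j.1.den := by
    rw [hB]
    exact finrank_sup_le hτ F _ (fun j hj => hJ j (Finset.mem_filter.1 hj).1)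
  have hCle : Module.finrank 𝕃 C ≤ ∑ j ∈ J.filter (fun j => ¬ j.1 = μ), j.1.den := by
    rw [hC]
    exact finrank_sup_le hτ F _ (fun j hj => hJ j (Finset.mem_filter.1 hj).1)
  have hsplit := Finset.sum_filter_add_sum_filter_not J (fun j => j.1 = μ) (fun j => j.1.den)
  have hfr : Module.finrank 𝕃 N ≤ Module.finrank 𝕃 B + Module.finrank 𝕃 C := by
    have := Submodule.finrank_add_le_finrank_add_finrank B C
    rwa [hBC, finrank_top] at this
  have hBeq : Module.finrank 𝕃 B = ∑ j ∈ J.filter (fun j => j.1 = μ), j.1.den := by omega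
  have hBslope : B = Isoc.slopePart F μ := by
    apply le_antisymm
    · rw [hB]
      refine Finset.sup_le (fun j hj => ?_)
      have h1 := AJ_le_slopePart hτ F hF j (hJ j (Finset.mem_filter.1 hj).1)
      rwa [(Finset.mem_filter.1 hj).2] at h1
    · have hind := (isInternal_slopePart hτ F hF).submodule_iSupIndep
      have hCle' : C ≤ ⨆ (ν : ℚ) (_ : ν ≠ μ), Isoc.slopePart F ν := by
        rw [hC]
        refine Finset.sup_le (fun j hj => ?_)
        have h1 := AJ_le_slopePart hτ F hF j (hJ j (Finset.mem_filter.1 hj).1)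
        exact h1.trans (le_iSup₂ (f := fun (ν : ℚ) (_ : ν ≠ μ) => Isoc.slopePart F ν) j.1
          (Finset.mem_filter.1 hj).2)
      have hBle' : B ≤ Isoc.slopePart F μ := by
        rw [hB]
        refine Finset.sup_le (fun j hj => ?_)
        have h1 := AJ_le_slopePart hτ F hF j (hJ j (Finset.mem_filter.1 hj).1)
        rwa [(Finset.mem_filter.1 hj).2] at h1
      intro y hy
      have hy' : y ∈ B ⊔ C := by rw [hBC]; exact Submodule.mem_top
      obtain ⟨b, hb, c, hc, rfl⟩ := Submodule.mem_sup.1 hy'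
      have hc0 : c = 0 := by
        have h1 : c ∈ Isoc.slopePart F μ := by
          have : c = (b + c) + -b := by abel
          rw [this]
          exact Submodule.add_mem _ hy (Submodule.neg_mem _ (hBle' hb))
        exact (Submodule.disjoint_def.1 (hind μ)) c h1 (hCle' hc)
      rw [hc0, add_zero]
      exact hb
  rw [← hBslope, hBeq]

theorem classification [IsAlgClosed k] (a : ℤ) (ha : a ≠ 0)
    (F : N →ₛₗ[Isoc.frob p k a] N) (hF : Isoc.IsIsoc F) :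
    ∃ (t : ℕ) (d : Fin t → ℤ) (h : Fin t → ℕ)
      (e : N ≃ₗ[𝕃] ((i : Fin t) → (Fin (h i) → 𝕃))),
      (∀ i, 0 < h i ∧ Int.gcd (d i) (h i) = 1) ∧
      (∀ (x : N) (i : Fin t), e (F x) i = Isoc.stdIsoc (Isoc.frob p k a) (d i) (h i) (e x i)) ∧
      ∀ μ : ℚ, Isoc.newtonMult F μ =
        ∑ i : Fin t, (if ((d i : ℚ) / (h i : ℚ)) = μ then h i else 0) := by
  classical
  haveI := hF.finite
  have hτ := tw_frob (p := p) (k := k) a
  obtain ⟨J, hJgood, hJsup, hJsum⟩ := exists_family a ha F hF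
  let g : ((j : ↥J) → (Fin j.1.1.den → 𝕃)) →ₗ[𝕃] N :=
    ∑ j : ↥J, (cycJ F j.1).comp (LinearMap.proj j)
  have hg : ∀ c, g c = ∑ j : ↥J, cycJ F j.1 (c j) := by
    intro c
    simp only [g, LinearMap.sum_apply, LinearMap.comp_apply, LinearMap.proj_apply]
  have hsurj : Function.Surjective g := by
    rw [← LinearMap.range_eq_top, eq_top_iff, ← hJsup]
    refine Finset.sup_le (fun j hj => ?_)
    rintro _ ⟨c, rfl⟩
    refine ⟨Pi.single (⟨j, hj⟩ : ↥J) c, ?_⟩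
    rw [hg, Finset.sum_eq_single (⟨j, hj⟩ : ↥J)]
    · rw [Pi.single_eq_same]
    · intro i _ hi
      rw [Pi.single_eq_of_ne hi, map_zero]
    · intro h; exact absurd (Finset.mem_univ _) h
  have hfr : Module.finrank 𝕃 ((j : ↥J) → (Fin j.1.1.den → 𝕃)) = Module.finrank 𝕃 N := by
    rw [Module.finrank_pi_fintype]
    simp only [Module.finrank_fin_fun]
    rw [Finset.sum_coe_sort J (fun j => j.1.den), hJsum]
  have hinj : Function.Injective g :=
    (LinearMap.injective_iff_surjective_of_finrank_eq_finrank hfr).2 hsurj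
  let e₀ : ((j : ↥J) → (Fin j.1.1.den → 𝕃)) ≃ₗ[𝕃] N := LinearEquiv.ofBijective g ⟨hinj, hsurj⟩
  have he₀ : ∀ c, e₀ c = g c := fun c => rfl
  have key : ∀ c : (j : ↥J) → (Fin j.1.1.den → 𝕃),
      F (g c) = g (fun j => Isoc.stdIsoc (Isoc.frob p k a) j.1.1.num j.1.1.den (c j)) := by
    intro c
    rw [hg, hg, map_sum]
    refine Finset.sum_congr rfl (fun j _ => ?_)
    exact (cycJ_equivariant F j.1 (hJgood j.1 j.2) (c j)).symm
  have key2 : ∀ x : N, e₀.symm (F x) =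
      fun j => Isoc.stdIsoc (Isoc.frob p k a) j.1.1.num j.1.1.den (e₀.symm x j) := by
    intro x
    apply e₀.injective
    rw [e₀.apply_symm_apply, he₀, ← key, ← he₀, e₀.apply_symm_apply]
  let σ : ↥J ≃ Fin (Fintype.card ↥J) := Fintype.equivFin ↥J
  refine ⟨Fintype.card ↥J, fun i => (σ.symm i).1.1.num, fun i => (σ.symm i).1.1.den,
    e₀.symm.trans (LinearEquiv.piCongrLeft' 𝕃 (fun j : ↥J => Fin j.1.1.den → 𝕃) σ), ?_, ?_, ?_⟩
  · intro i
    exact ⟨(σ.symm i).1.1.den_pos, gcd_num_den _⟩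
  · intro x i
    show e₀.symm (F x) (σ.symm i) = Isoc.stdIsoc (Isoc.frob p k a) (σ.symm i).1.1.num
      (σ.symm i).1.1.den (e₀.symm x (σ.symm i))
    rw [key2]
  · intro μ
    show Module.finrank 𝕃 (Isoc.slopePart F μ) = _
    rw [mult_formula hτ F hF J hJgood hJsup hJsum μ]
    have h1 : ∑ i : Fin (Fintype.card ↥J),
        (if (((σ.symm i).1.1.num : ℚ) / ((σ.symm i).1.1.den : ℚ)) = μ
          then (σ.symm i).1.1.den else 0) =
        ∑ j : ↥J, (if ((j.1.1.num : ℚ) / (j.1.1.den : ℚ)) = μ then j.1.1.den else 0) :=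
      Equiv.sum_comp σ.symm
        (fun j : ↥J => if ((j.1.1.num : ℚ) / (j.1.1.den : ℚ)) = μ then j.1.1.den else 0)
    rw [h1, Finset.sum_coe_sort J
      (fun j => if ((j.1.num : ℚ) / (j.1.den : ℚ)) = μ then j.1.den else 0), Finset.sum_filter]
    refine Finset.sum_congr rfl (fun j _ => ?_)
    rw [Rat.num_div_den]

end Groth.Agent.H2.Isoc11
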