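import Mathlib
import Groth.Prelude.Def_Isoc
import Groth.Agent.H2.Isoc1
import Groth.Agent.H2.Isoc2
import Groth.Agent.H2.Isoc3
import Groth.Agent.H2.Isoc4
import Groth.Agent.H2.Isoc5
import Groth.Agent.H2.Isoc6
import Groth.Agent.H2.Isoc7
import Groth.Agent.H2.Isoc8
import Groth.Agent.H2.Isoc9
import Groth.Agent.H2.Isoc10

set_option autoImplicit false
set_option linter.unusedSectionVars false
set_option linter.style.haveILetI false
open scoped Pointwise
open Filter Topology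

universe u v w

namespace Groth.Agent.H2.Isoc12

open Groth.Agent.H2.Isoc1 Groth.Agent.H2.Isoc2 Groth.Agent.H2.Isoc3 Groth.Agent.H2.Isoc4
  Groth.Agent.H2.Isoc5 Groth.Agent.H2.Isoc6 Groth.Agent.H2.Isoc7 Groth.Agent.H2.Isoc8
  Groth.Agent.H2.Isoc9 Groth.Agent.H2.Isoc10

variable {p : ℕ} [Fact p.Prime] {k : Type u} [Field k] [CharP k p] [PerfectRing k p]
variable {N : Type v} [AddCommGroup N] [Module (WittVector p k) N]
  [Module (FractionRing (WittVector p k)) N]
  [IsScalarTower (WittVector p k) (FractionRing (WittVector p k)) N]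
variable {τ : FractionRing (WittVector p k) →+* FractionRing (WittVector p k)}

local notation "𝕎" => WittVector p k
local notation "𝕃" => FractionRing (WittVector p k)

/-- a matrix description of `F` on a stable subspace `P`, with the order of its determinant -/
def BlockData (F : N →ₛₗ[τ] N) (P : Submodule 𝕃 N) (d : ℤ) : Prop :=
  ∃ (ι : Type) (_ : Fintype ι) (_ : DecidableEq ι) (v : ι → N) (A : Matrix ι ι 𝕃),
    LinearIndependent 𝕃 v ∧ Submodule.span 𝕃 (Set.range v) = P ∧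
    (∀ j, F (v j) = ∑ i, A i j • v i) ∧ Isoc.IsOrdP A.det d

theorem isOrdP_one : Isoc.IsOrdP (1 : 𝕃) 0 := by
  have := isOrdP_zpow (p := p) (k := k) 0
  rwa [zpow_zero] at this

theorem bd_bot (F : N →ₛₗ[τ] N) : BlockData F ⊥ 0 := by
  refine ⟨Empty, inferInstance, inferInstance, fun e => e.elim, 0, linearIndependent_empty_type,
    ?_, fun j => j.elim, ?_⟩
  · rw [Set.range_eq_empty, Submodule.span_empty]
  · rw [Matrix.det_isEmpty]
    exact isOrdP_one

theorem bd_sup (F : N →ₛₗ[τ] N) (P Q : Submodule 𝕃 N) (d₁ d₂ : ℤ) (h₁ : BlockData F P d₁)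
    (h₂ : BlockData F Q d₂) (hd : Disjoint P Q) : BlockData F (P ⊔ Q) (d₁ + d₂) := by
  obtain ⟨ι₁, hf₁, hd₁, v₁, A₁, hli₁, hsp₁, hm₁, ho₁⟩ := h₁
  obtain ⟨ι₂, hf₂, hd₂, v₂, A₂, hli₂, hsp₂, hm₂, ho₂⟩ := h₂
  refine ⟨ι₁ ⊕ ι₂, inferInstance, inferInstance, Sum.elim v₁ v₂, Matrix.fromBlocks A₁ 0 0 A₂,
    ?_, ?_, ?_, ?_⟩
  · exact LinearIndependent.sum_type hli₁ hli₂ (by rw [hsp₁, hsp₂]; exact hd)
  · rw [Set.Sum.elim_range, Submodule.span_union, hsp₁, hsp₂]
  · rintro (j | j)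
    · rw [Fintype.sum_sum_type]
      simp only [Matrix.fromBlocks_apply₁₁, Matrix.fromBlocks_apply₂₁, Sum.elim_inl,
        Sum.elim_inr, Matrix.zero_apply, zero_smul, Finset.sum_const_zero, add_zero]
      exact hm₁ j
    · rw [Fintype.sum_sum_type]
      simp only [Matrix.fromBlocks_apply₁₂, Matrix.fromBlocks_apply₂₂, Sum.elim_inl,
        Sum.elim_inr, Matrix.zero_apply, zero_smul, Finset.sum_const_zero, zero_add]
      exact hm₂ j
  · rw [Matrix.det_fromBlocks_zero₂₁]
    exact isOrdP_mul ho₁ ho₂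

theorem bd_of_slope (hτ : Tw τ) (F : N →ₛₗ[τ] N) (hF : Isoc.IsIsoc F) (μ : ℚ) :
    ∃ d : ℤ, (d : ℚ) = μ * (Module.finrank 𝕃 (Isoc.slopePart F μ) : ℚ) ∧
      BlockData F (Isoc.slopePart F μ) d := by
  haveI := hF.finite
  by_cases hbot : Isoc.slopePart F μ = ⊥
  · refine ⟨0, ?_, ?_⟩
    · rw [hbot, finrank_bot]; simp
    · rw [hbot]; exact bd_bot F
  · haveI : Nontrivial ↥(Isoc.slopePart F μ) := Submodule.nontrivial_iff_ne_bot.2 hbot
    obtain ⟨hP, hiso⟩ := slopePart_isoclinic hτ F hF μ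
    have hF' := isIsoc_restrict hτ F hF _ hP
    obtain ⟨M', hM', r, s, hs, hμ, hE⟩ := hiso
    let b' := Module.finBasis 𝕃 ↥(Isoc.slopePart F μ)
    have hdet : (mat b' (F.restrict hP)).det ≠ 0 :=
      det_mat_ne_zero hτ b' _ hF'.bijective.injective
    obtain ⟨d', hd'⟩ := exists_isOrdP _ hdet
    have key := (slope_of_eq hτ (F.restrict hP) hF' _ b' d' hd' M' hM' r s hs hE).2
    refine ⟨d', ?_, Fin (Module.finrank 𝕃 ↥(Isoc.slopePart F μ)), inferInstance, inferInstance,
      fun i => ((b' i : ↥(Isoc.slopePart F μ)) : N), mat b' (F.restrict hP), ?_, ?_, ?_, hd'⟩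
    · have hs' : (s : ℚ) ≠ 0 := Nat.cast_ne_zero.2 hs.ne'
      have h1 : (r : ℚ) = μ * s := by rw [← hμ]; exact (div_mul_cancel₀ _ hs').symm
      have h2 : (r : ℚ) * (Module.finrank 𝕃 ↥(Isoc.slopePart F μ) : ℚ) = (s : ℚ) * (d' : ℚ) := by
        exact_mod_cast key
      rw [h1] at h2
      have h3 : (s : ℚ) * (μ * (Module.finrank 𝕃 ↥(Isoc.slopePart F μ) : ℚ)) =
          (s : ℚ) * (d' : ℚ) := by rw [← h2]; ring
      exact (mul_left_cancel₀ hs' h3).symm
    · exact b'.linearIndependent.map' (Isoc.slopePart F μ).subtype (Submodule.ker_subtype _)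
    · have : Set.range (fun i => ((b' i : ↥(Isoc.slopePart F μ)) : N)) =
          (Isoc.slopePart F μ).subtype '' Set.range b' := by
        rw [← Set.range_comp]; rfl
      rw [this, Submodule.span_image, b'.span_eq, Submodule.map_subtype_top]
    · intro j
      have h1 := congrArg (Isoc.slopePart F μ).subtype (b'.sum_repr ((F.restrict hP) (b' j)))
      rw [map_sum] at h1
      simp only [map_smul, Submodule.subtype_apply] at h1
      exact h1.symm

theorem bd_finset (hτ : Tw τ) (F : N →ₛₗ[τ] N) (hF : Isoc.IsIsoc F) (dfun : ℚ → ℤ)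
    (hdfun : ∀ μ, BlockData F (Isoc.slopePart F μ) (dfun μ)) (S : Finset ℚ) :
    BlockData F (S.sup (Isoc.slopePart F)) (∑ μ ∈ S, dfun μ) := by
  classical
  have hind := (isInternal_slopePart hτ F hF).submodule_iSupIndep
  induction S using Finset.induction_on with
  | empty => rw [Finset.sup_empty, Finset.sum_empty]; exact bd_bot F
  | insert μ₀ S hμ₀ ih =>
    rw [Finset.sup_insert, Finset.sum_insert hμ₀]
    refine bd_sup F _ _ _ _ (hdfun μ₀) ih ?_
    refine (hind μ₀).mono_right (Finset.sup_le (fun ν hν => ?_))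
    exact le_iSup₂ (f := fun (ν : ℚ) (_ : ν ≠ μ₀) => Isoc.slopePart F ν) ν
      (fun h => hμ₀ (h ▸ hν))

theorem sum_slopes (hτ : Tw τ) (F : N →ₛₗ[τ] N) (hF : Isoc.IsIsoc F)
    (h : ℕ) (b : Module.Basis (Fin h) 𝕃 N) (d : ℤ) (hd : Isoc.IsOrdP (Isoc.detCoeff b F) d) :
    ∑ᶠ μ : ℚ, μ * (Isoc.newtonMult F μ : ℚ) = d := by
  classical
  haveI := hF.finite
  have hind := (isInternal_slopePart hτ F hF).submodule_iSupIndep
  have hfin : {μ : ℚ | Isoc.slopePart F μ ≠ ⊥}.Finite :=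
    WellFoundedGT.finite_ne_bot_of_iSupIndep hind
  have hchoose := fun μ => bd_of_slope hτ F hF μ
  choose dfun hdfun1 hdfun2 using hchoose
  have hbd := bd_finset hτ F hF dfun hdfun2 hfin.toFinset
  have htop : hfin.toFinset.sup (Isoc.slopePart F) = ⊤ := by
    rw [eq_top_iff, ← iSup_slopePart_eq_top hτ F hF]
    refine iSup_le (fun μ => ?_)
    by_cases hb : Isoc.slopePart F μ = ⊥
    · rw [hb]; exact bot_le
    · exact Finset.le_sup (f := Isoc.slopePart F) (hfin.mem_toFinset.2 hb)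
  rw [htop] at hbd
  obtain ⟨ι, hfι, hdι, v, A, hli, hsp, hm, ho⟩ := hbd
  let B : Module.Basis ι 𝕃 N := Module.Basis.mk hli hsp.ge
  have hBv : ∀ i, B i = v i := fun i => Module.Basis.mk_apply hli hsp.ge i
  have hmatB : mat B F = A := by
    ext i j
    rw [mat_apply, hBv, hm]
    have h1 : ∑ i, A i j • v i = ∑ i, A i j • B i := by
      refine Finset.sum_congr rfl (fun i _ => ?_); rw [hBv]
    rw [h1]
    exact congrFun (B.repr_sum_self (fun i => A i j)) i
  have hcard : Fintype.card ι = h := by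
    rw [← Module.finrank_eq_card_basis B, finrank_of_basis b]
  let σ := Fintype.equivFinOfCardEq hcard
  have hmatB' : mat (B.reindex σ) F = (mat B F).submatrix σ.symm σ.symm := by
    ext i j
    rw [mat_apply, Matrix.submatrix_apply, mat_apply, Module.Basis.repr_reindex_apply,
      Module.Basis.reindex_apply]
  have ho' : Isoc.IsOrdP (mat (B.reindex σ) F).det (∑ μ ∈ hfin.toFinset, dfun μ) := by
    rw [hmatB', Matrix.det_submatrix_equiv_self, hmatB]
    exact ho
  have ho'' := isOrdP_det_basis hτ (B.reindex σ) b F _ ho'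
  have hdeq : (∑ μ ∈ hfin.toFinset, dfun μ) = d := isOrdP_unique ho'' hd
  rw [finsum_eq_finsetSum_of_support_subset (s := hfin.toFinset)]
  · have h1 : ∀ μ ∈ hfin.toFinset, μ * (Isoc.newtonMult F μ : ℚ) = (dfun μ : ℚ) := by
      intro μ _
      rw [hdfun1 μ]; rfl
    rw [Finset.sum_congr rfl h1, ← hdeq]
    push_cast
    rfl
  · intro μ hμ
    rw [Function.mem_support] at hμ
    rw [Finset.mem_coe, hfin.mem_toFinset]
    intro hb
    apply hμ
    show μ * ((Module.finrank 𝕃 ↥(Isoc.slopePart F μ) : ℕ) : ℚ) = 0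
    rw [hb, finrank_bot]; simp

end Groth.Agent.H2.Isoc12
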