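import Mathlib
import Groth.Prelude.Def_Isoc
import Groth.Agent.H2.Isoc1
import Groth.Agent.H2.Isoc2
import Groth.Agent.H2.Isoc3
import Groth.Agent.H2.Isoc4
import Groth.Agent.H2.Isoc5
import Groth.Agent.H2.Isoc6
import Groth.Agent.H2.Isoc7
import Groth.Agent.H2.Isoc8
import Groth.Agent.H2.Isoc9
import Groth.Agent.H2.Isoc10

set_option autoImplicit false
set_option linter.unusedSectionVars false
set_option linter.style.haveILetI false
open scoped Pointwise Classical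
open Filter Topology
open scoped Matrix

universe u v w

namespace Groth.Agent.H2.Isoc13

open Groth.Agent.H2.Isoc1 Groth.Agent.H2.Isoc2 Groth.Agent.H2.Isoc3 Groth.Agent.H2.Isoc4
  Groth.Agent.H2.Isoc5 Groth.Agent.H2.Isoc6 Groth.Agent.H2.Isoc7 Groth.Agent.H2.Isoc8
  Groth.Agent.H2.Isoc9 Groth.Agent.H2.Isoc10

variable {p : ℕ} [Fact p.Prime] {k : Type u} [Field k] [CharP k p] [PerfectRing k p]
variable {N : Type v} [AddCommGroup N] [Module (WittVector p k) N]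
  [Module (FractionRing (WittVector p k)) N]
  [IsScalarTower (WittVector p k) (FractionRing (WittVector p k)) N]
variable {τ : FractionRing (WittVector p k) →+* FractionRing (WittVector p k)}
variable {Ω : Type w} [Field Ω] [Algebra (WittVector p k) Ω]
  [Algebra (FractionRing (WittVector p k)) Ω]
  [IsScalarTower (WittVector p k) (FractionRing (WittVector p k)) Ω]

local notation "𝕎" => WittVector p k
local notation "𝕃" => FractionRing (WittVector p k)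

/-! ### Integral units -/

/-- `x` and `x⁻¹` are integral over `W` -/
def IU (p : ℕ) [Fact p.Prime] (k : Type u) [Field k] [CharP k p] [PerfectRing k p]
    {Ω : Type w} [Field Ω] [Algebra (WittVector p k) Ω] (x : Ω) : Prop :=
  IsIntegral (WittVector p k) x ∧ IsIntegral (WittVector p k) x⁻¹

theorem IU.mul {x y : Ω} (hx : IU p k x) (hy : IU p k y) : IU p k (x * y) :=
  ⟨hx.1.mul hy.1, by rw [mul_inv]; exact hx.2.mul hy.2⟩

theorem IU.inv {x : Ω} (hx : IU p k x) : IU p k x⁻¹ := ⟨hx.2, by rw [inv_inv]; exact hx.1⟩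

theorem IU.pow {x : Ω} (hx : IU p k x) (n : ℕ) : IU p k (x ^ n) :=
  ⟨hx.1.pow n, by rw [← inv_pow]; exact hx.2.pow n⟩

theorem IU.of_pow {x : Ω} {c : ℕ} (hc : 0 < c) (hx : IU p k (x ^ c)) : IU p k x :=
  ⟨IsIntegral.of_pow hc hx.1, IsIntegral.of_pow hc (by rw [inv_pow]; exact hx.2)⟩

theorem P_ne_zero : (algebraMap 𝕃 Ω (p : 𝕃)) ≠ 0 :=
  (map_ne_zero (algebraMap 𝕃 Ω)).2 pL_ne_zero

theorem not_isIntegral_zpow (e : ℤ) (he : e < 0) :
    ¬ IsIntegral 𝕎 ((algebraMap 𝕃 Ω (p : 𝕃)) ^ e) := by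
  intro h
  rw [← map_zpow₀, isIntegral_algebraMap_iff (algebraMap 𝕃 Ω).injective] at h
  obtain ⟨w, hw⟩ := IsIntegrallyClosed.isIntegral_iff.1 h
  have h1 : Isoc.IsOrdP (algebraMap 𝕎 𝕃 w) e := by rw [hw]; exact isOrdP_zpow e
  have := isOrdP_nonneg_of_algebraMap h1
  omega

theorem not_IU_zpow (e : ℤ) (he : e ≠ 0) : ¬ IU p k ((algebraMap 𝕃 Ω (p : 𝕃)) ^ e) := by
  intro h
  rcases lt_or_gt_of_ne he with hneg | hpos
  · exact not_isIntegral_zpow e hneg h.1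
  · have h2 := h.2
    rw [← zpow_neg] at h2
    exact not_isIntegral_zpow (-e) (by omega) h2

/-- slopes are determined by the roots -/
theorem IU_unique (m : ℕ) (hm : m ≠ 0) (μ ν : ℚ) (hne : ν ≠ μ) (α : Ω) (hα : α ≠ 0)
    (hν : IU p k (α ^ ν.den * (algebraMap 𝕃 Ω (p : 𝕃)) ^ (-(ν.num * (m : ℤ)))))
    (hμ : IU p k (α ^ μ.den * (algebraMap 𝕃 Ω (p : 𝕃)) ^ (-(μ.num * (m : ℤ))))) : False := by
  have hP := P_ne_zero (p := p) (k := k) (Ω := Ω)
  have h1 := (hν.pow μ.den).mul (hμ.pow ν.den).inv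
  have hcalc : (α ^ ν.den * (algebraMap 𝕃 Ω (p : 𝕃)) ^ (-(ν.num * (m : ℤ)))) ^ μ.den *
      ((α ^ μ.den * (algebraMap 𝕃 Ω (p : 𝕃)) ^ (-(μ.num * (m : ℤ)))) ^ ν.den)⁻¹ =
      (algebraMap 𝕃 Ω (p : 𝕃)) ^ ((m : ℤ) * (μ.num * ν.den - ν.num * μ.den)) := by
    have ha : α ^ (ν.den * μ.den) ≠ 0 := pow_ne_zero _ hα
    have e1 : (α ^ ν.den * (algebraMap 𝕃 Ω (p : 𝕃)) ^ (-(ν.num * (m : ℤ)))) ^ μ.den =
        α ^ (ν.den * μ.den) * (algebraMap 𝕃 Ω (p : 𝕃)) ^ (-(ν.num * (m : ℤ)) * (μ.den : ℤ)) := by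
      rw [mul_pow, ← pow_mul, ← zpow_natCast ((algebraMap 𝕃 Ω (p : 𝕃)) ^ (-(ν.num * (m : ℤ)))),
        ← zpow_mul]
    have e2 : (α ^ μ.den * (algebraMap 𝕃 Ω (p : 𝕃)) ^ (-(μ.num * (m : ℤ)))) ^ ν.den =
        α ^ (ν.den * μ.den) * (algebraMap 𝕃 Ω (p : 𝕃)) ^ (-(μ.num * (m : ℤ)) * (ν.den : ℤ)) := by
      rw [mul_pow, ← pow_mul, ← zpow_natCast ((algebraMap 𝕃 Ω (p : 𝕃)) ^ (-(μ.num * (m : ℤ)))),
        ← zpow_mul, Nat.mul_comm μ.den ν.den]
    rw [e1, e2, mul_inv, ← zpow_neg]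
    have e3 : α ^ (ν.den * μ.den) * (algebraMap 𝕃 Ω (p : 𝕃)) ^ (-(ν.num * (m : ℤ)) * (μ.den : ℤ)) *
        ((α ^ (ν.den * μ.den))⁻¹ *
          (algebraMap 𝕃 Ω (p : 𝕃)) ^ (-(-(μ.num * (m : ℤ)) * (ν.den : ℤ)))) =
        (α ^ (ν.den * μ.den) * (α ^ (ν.den * μ.den))⁻¹) *
          ((algebraMap 𝕃 Ω (p : 𝕃)) ^ (-(ν.num * (m : ℤ)) * (μ.den : ℤ)) *
          (algebraMap 𝕃 Ω (p : 𝕃)) ^ (-(-(μ.num * (m : ℤ)) * (ν.den : ℤ)))) := by ring
    rw [e3, mul_inv_cancel₀ ha, one_mul, ← zpow_add₀ hP]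
    congr 1
    ring
  rw [hcalc] at h1
  refine not_IU_zpow _ ?_ h1
  refine mul_ne_zero (by exact_mod_cast hm) ?_
  intro h0
  apply hne
  rw [Rat.eq_iff_mul_eq_mul]
  have : ν.num * (μ.den : ℤ) = μ.num * (ν.den : ℤ) := by linarith
  exact this

/-! ### Eigenvalues of integral matrices -/

section eig
variable {ι : Type*} [Fintype ι] [DecidableEq ι]

theorem scalar_mulVec' (β : Ω) (v : ι → Ω) : (Matrix.scalar ι β) *ᵥ v = β • v := by
  ext i
  rw [Matrix.scalar_apply, Matrix.mulVec_diagonal, Pi.smul_apply, smul_eq_mul]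

theorem isRoot_of_eig (C : Matrix ι ι Ω) (v : ι → Ω) (hv : v ≠ 0) (β : Ω)
    (h : C *ᵥ v = β • v) : C.charpoly.eval β = 0 := by
  rw [Matrix.eval_charpoly]
  apply Matrix.exists_mulVec_eq_zero_iff.1
  refine ⟨v, hv, ?_⟩
  rw [Matrix.sub_mulVec, h, scalar_mulVec', sub_self]

theorem exists_eig (C : Matrix ι ι Ω) (β : Ω) (h : C.charpoly.eval β = 0) :
    ∃ v : ι → Ω, v ≠ 0 ∧ C *ᵥ v = β • v := by
  rw [Matrix.eval_charpoly] at h
  obtain ⟨v, hv, hv'⟩ := Matrix.exists_mulVec_eq_zero_iff.2 h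
  refine ⟨v, hv, ?_⟩
  rw [Matrix.sub_mulVec, scalar_mulVec', sub_eq_zero] at hv'
  exact hv'.symm

theorem int_eig (C₀ : Matrix ι ι 𝕎) (v : ι → Ω) (hv : v ≠ 0) (β : Ω)
    (h : (C₀.map (algebraMap 𝕎 Ω)) *ᵥ v = β • v) : IsIntegral 𝕎 β := by
  refine ⟨C₀.charpoly, Matrix.charpoly_monic _, ?_⟩
  rw [← Polynomial.eval_map, ← Matrix.charpoly_map]
  exact isRoot_of_eig _ v hv β h

theorem pow_mulVec_eig (C : Matrix ι ι Ω) (v : ι → Ω) (α : Ω) (h : C *ᵥ v = α • v) (n : ℕ) :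
    (C ^ n) *ᵥ v = (α ^ n) • v := by
  induction n with
  | zero => rw [pow_zero, pow_zero, Matrix.one_mulVec, one_smul]
  | succ n ih =>
    rw [pow_succ, ← Matrix.mulVec_mulVec, h, Matrix.mulVec_smul, ih, smul_smul, pow_succ,
      mul_comm]

theorem eig_lemma (A : Matrix ι ι 𝕃) (A₀ : Matrix ι ι 𝕎) (hu : IsUnit A₀.det) (n : ℕ)
    (hn : 0 < n) (r : ℤ) (hA : A ^ n = ((p : 𝕃) ^ r) • A₀.map (algebraMap 𝕎 𝕃)) (α : Ω)
    (hα : (A.charpoly.map (algebraMap 𝕃 Ω)).eval α = 0) :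
    α ≠ 0 ∧ IU p k (α ^ n * (algebraMap 𝕃 Ω (p : 𝕃)) ^ (-r)) := by
  have hP := P_ne_zero (p := p) (k := k) (Ω := Ω)
  rw [← Matrix.charpoly_map] at hα
  obtain ⟨v, hv, hvα⟩ := exists_eig _ α hα
  have h1 := pow_mulVec_eig _ v α hvα n
  have h2 : (A.map (algebraMap 𝕃 Ω)) ^ n =
      ((algebraMap 𝕃 Ω (p : 𝕃)) ^ r) • A₀.map (algebraMap 𝕎 Ω) := by
    have : (A.map (algebraMap 𝕃 Ω)) ^ n = (A ^ n).map (algebraMap 𝕃 Ω) := by
      rw [← RingHom.mapMatrix_apply, ← RingHom.mapMatrix_apply, map_pow]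
    rw [this, hA]
    ext i j
    rw [Matrix.map_apply, Matrix.smul_apply, Matrix.smul_apply, Matrix.map_apply,
      Matrix.map_apply, smul_eq_mul, smul_eq_mul, map_mul, map_zpow₀,
      ← IsScalarTower.algebraMap_apply]
  rw [h2, Matrix.smul_mulVec] at h1
  set β : Ω := α ^ n * (algebraMap 𝕃 Ω (p : 𝕃)) ^ (-r) with hβ
  have h3 : (A₀.map (algebraMap 𝕎 Ω)) *ᵥ v = β • v := by
    have := congrArg (fun y : ι → Ω => ((algebraMap 𝕃 Ω (p : 𝕃)) ^ (-r)) • y) h1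
    rw [smul_smul, ← zpow_add₀ hP, neg_add_cancel, zpow_zero, one_smul, smul_smul] at this
    rw [this, hβ, mul_comm]
  have hint : IsIntegral 𝕎 β := int_eig A₀ v hv β h3
  have hinv : (A₀⁻¹).map (algebraMap 𝕎 Ω) * A₀.map (algebraMap 𝕎 Ω) = 1 := by
    rw [← Matrix.map_mul, Matrix.nonsing_inv_mul A₀ hu, Matrix.map_one _ (map_zero _) (map_one _)]
  have h4 : v = β • ((A₀⁻¹).map (algebraMap 𝕎 Ω) *ᵥ v) := by
    have := congrArg (fun y : ι → Ω => (A₀⁻¹).map (algebraMap 𝕎 Ω) *ᵥ y) h3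
    rw [Matrix.mulVec_mulVec, hinv, Matrix.one_mulVec, Matrix.mulVec_smul] at this
    exact this
  have hβ0 : β ≠ 0 := by
    intro h0
    rw [h0, zero_smul] at h4
    exact hv h4
  have h5 : (A₀⁻¹).map (algebraMap 𝕎 Ω) *ᵥ v = β⁻¹ • v := by
    have := congrArg (fun y : ι → Ω => β⁻¹ • y) h4
    rw [smul_smul, inv_mul_cancel₀ hβ0, one_smul] at this
    exact this.symm
  have hint' : IsIntegral 𝕎 β⁻¹ := int_eig A₀⁻¹ v hv β⁻¹ h5
  refine ⟨?_, hint, hint'⟩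
  intro hα0
  apply hβ0
  rw [hβ, hα0, zero_pow hn.ne', zero_mul]

end eig

/-! ### Block data with characteristic polynomials -/

/-- a matrix description of the linear map `π` on a stable subspace `P`, with the roots of its
characteristic polynomial in `Ω` -/
def BlockChar (π : N →ₗ[FractionRing (WittVector p k)] N)
    (P : Submodule (FractionRing (WittVector p k)) N) (R : Multiset Ω) : Prop :=
  ∃ (ι : Type) (_ : Fintype ι) (_ : DecidableEq ι) (v : ι → N) (A : Matrix ι ι 𝕃),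
    LinearIndependent 𝕃 v ∧ Submodule.span 𝕃 (Set.range v) = P ∧
    (∀ j, π (v j) = ∑ i, A i j • v i) ∧ (A.charpoly.map (algebraMap 𝕃 Ω)).roots = R

theorem bc_bot (π : N →ₗ[𝕃] N) : BlockChar π ⊥ (0 : Multiset Ω) := by
  refine ⟨Empty, inferInstance, inferInstance, fun e => e.elim, 0, linearIndependent_empty_type,
    ?_, fun j => j.elim, ?_⟩
  · rw [Set.range_eq_empty, Submodule.span_empty]
  · rw [Matrix.charpoly_isEmpty, Polynomial.map_one, Polynomial.roots_one]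
    rfl

theorem bc_sup (π : N →ₗ[𝕃] N) (P Q : Submodule 𝕃 N) (R₁ R₂ : Multiset Ω)
    (h₁ : BlockChar π P R₁) (h₂ : BlockChar π Q R₂) (hd : Disjoint P Q) :
    BlockChar π (P ⊔ Q) (R₁ + R₂) := by
  obtain ⟨ι₁, hf₁, hd₁, v₁, A₁, hli₁, hsp₁, hm₁, ho₁⟩ := h₁
  obtain ⟨ι₂, hf₂, hd₂, v₂, A₂, hli₂, hsp₂, hm₂, ho₂⟩ := h₂
  refine ⟨ι₁ ⊕ ι₂, inferInstance, inferInstance, Sum.elim v₁ v₂, Matrix.fromBlocks A₁ 0 0 A₂,
    ?_, ?_, ?_, ?_⟩
  · exact LinearIndependent.sum_type hli₁ hli₂ (by rw [hsp₁, hsp₂]; exact hd)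
  · rw [Set.Sum.elim_range, Submodule.span_union, hsp₁, hsp₂]
  · rintro (j | j)
    · rw [Fintype.sum_sum_type]
      simp only [Matrix.fromBlocks_apply₁₁, Matrix.fromBlocks_apply₂₁, Sum.elim_inl,
        Sum.elim_inr, Matrix.zero_apply, zero_smul, Finset.sum_const_zero, add_zero]
      exact hm₁ j
    · rw [Fintype.sum_sum_type]
      simp only [Matrix.fromBlocks_apply₁₂, Matrix.fromBlocks_apply₂₂, Sum.elim_inl,
        Sum.elim_inr, Matrix.zero_apply, zero_smul, Finset.sum_const_zero, zero_add]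
      exact hm₂ j
  · rw [Matrix.charpoly_fromBlocks_zero₂₁, Polynomial.map_mul, Polynomial.roots_mul, ho₁, ho₂]
    exact mul_ne_zero ((Matrix.charpoly_monic A₁).map _).ne_zero
      ((Matrix.charpoly_monic A₂).map _).ne_zero

theorem bc_finset (hτ : Tw τ) (F : N →ₛₗ[τ] N) (hF : Isoc.IsIsoc F) (π : N →ₗ[𝕃] N)
    (Rfun : ℚ → Multiset Ω) (hR : ∀ μ, BlockChar π (Isoc.slopePart F μ) (Rfun μ))
    (S : Finset ℚ) : BlockChar π (S.sup (Isoc.slopePart F)) (∑ μ ∈ S, Rfun μ) := by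
  have hind := (isInternal_slopePart hτ F hF).submodule_iSupIndep
  induction S using Finset.induction_on with
  | empty => rw [Finset.sup_empty, Finset.sum_empty]; exact bc_bot π
  | insert μ₀ S hμ₀ ih =>
    rw [Finset.sup_insert, Finset.sum_insert hμ₀]
    refine bc_sup π _ _ _ _ (hR μ₀) ih ?_
    refine (hind μ₀).mono_right (Finset.sup_le (fun ν hν => ?_))
    exact le_iSup₂ (f := fun (ν : ℚ) (_ : ν ≠ μ₀) => Isoc.slopePart F ν) ν
      (fun h => hμ₀ (h ▸ hν))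

/-! ### The slope pieces -/

theorem unit_mat {ι : Type*} [Fintype ι] [DecidableEq ι] (hτ : Tw τ) {M : Submodule 𝕎 N}
    {e : Module.Basis ι 𝕃 N} (he : LatBasis M e) (F : N →ₛₗ[τ] N) (n : ℕ) (r : ℤ)
    (h : Isoc.latImg F n M = Isoc.pPow r M) :
    ∃ A₀ : Matrix ι ι 𝕎, IsUnit A₀.det ∧
      mat e (Isoc.iter F n) = ((p : 𝕃) ^ r) • A₀.map (algebraMap 𝕎 𝕃) := by
  obtain ⟨A₀, hA⟩ := exists_mat_of_le he F n r h.le
  have hD := ord_det_eq hτ he F n r h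
  have h1 := det_of_mat_eq hA
  refine ⟨A₀, ?_, hA⟩
  apply isUnit_of_isOrdP_zero
  have := isOrdP_mul (isOrdP_inv (isOrdP_zpow (p := p) (k := k) (r * (Fintype.card ι : ℤ)))) hD
  rw [h1, ← mul_assoc, inv_mul_cancel₀ (zpow_ne_zero _ pL_ne_zero), one_mul,
    neg_add_cancel] at this
  exact this

theorem per_slope [IsAlgClosed Ω] (hτ : Tw τ) (F : N →ₛₗ[τ] N) (hF : Isoc.IsIsoc F) (m : ℕ)
    (π : N →ₗ[𝕃] N) (hπ : ∀ x : N, π x = (⇑F)^[m] x) (ν : ℚ) :
    ∃ R : Multiset Ω, BlockChar π (Isoc.slopePart F ν) R ∧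
      Multiset.card R = Module.finrank 𝕃 (Isoc.slopePart F ν) ∧
      ∀ α ∈ R, α ≠ 0 ∧
        IU p k (α ^ ν.den * (algebraMap 𝕃 Ω (p : 𝕃)) ^ (-(ν.num * (m : ℤ)))) := by
  haveI := hF.finite
  obtain ⟨hP, hiso⟩ := slopePart_isoclinic hτ F hF ν
  have hF' := isIsoc_restrict hτ F hF _ hP
  obtain ⟨M', hM', hE⟩ := exists_reduced_lattice hτ (F.restrict hP) ν hiso
  obtain ⟨e, he⟩ := exists_latBasis M' hM' _ rfl
  have hE' := latImg_mul_eq hτ (F.restrict hP) M' hE m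
  obtain ⟨A₀, hu, hA₀⟩ := unit_mat hτ he (F.restrict hP) (ν.den * m) (ν.num * m) hE'
  have hπP : ∀ x ∈ Isoc.slopePart F ν, π x ∈ Isoc.slopePart F ν := fun x hx => by
    rw [hπ]; exact iter_mem_of_stable F _ hP m hx
  have hπ' : ∀ x : ↥(Isoc.slopePart F ν), (π.restrict hπP) x = (⇑(F.restrict hP))^[m] x := by
    intro x
    apply Subtype.ext
    rw [restrict_iterate]
    exact hπ x
  have hπpow : ∀ (j : ℕ) (x : ↥(Isoc.slopePart F ν)),
      ((π.restrict hπP) ^ j) x = (⇑(F.restrict hP))^[j * m] x := by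
    intro j
    induction j with
    | zero => intro x; rw [pow_zero, zero_mul]; rfl
    | succ j ih =>
      intro x
      rw [pow_succ, Module.End.mul_apply, hπ', ih, ← Function.iterate_add_apply]
      congr 1; ring
  have hApow : (LinearMap.toMatrix e e (π.restrict hπP)) ^ ν.den =
      ((p : 𝕃) ^ (ν.num * (m : ℤ))) • A₀.map (algebraMap 𝕎 𝕃) := by
    rw [LinearMap.toMatrix_pow, ← hA₀]
    ext i j
    rw [LinearMap.toMatrix_apply, mat_apply, Isoc.iter_apply, hπpow]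
  refine ⟨((LinearMap.toMatrix e e (π.restrict hπP)).charpoly.map (algebraMap 𝕃 Ω)).roots,
    ⟨Fin (Module.finrank 𝕃 ↥(Isoc.slopePart F ν)), inferInstance, inferInstance,
      fun i => ((e i : ↥(Isoc.slopePart F ν)) : N), LinearMap.toMatrix e e (π.restrict hπP),
      ?_, ?_, ?_, rfl⟩, ?_, ?_⟩
  · exact e.linearIndependent.map' (Isoc.slopePart F ν).subtype (Submodule.ker_subtype _)
  · have : Set.range (fun i => ((e i : ↥(Isoc.slopePart F ν)) : N)) =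
        (Isoc.slopePart F ν).subtype '' Set.range e := by
      rw [← Set.range_comp]; rfl
    rw [this, Submodule.span_image, e.span_eq, Submodule.map_subtype_top]
  · intro j
    have h1 := congrArg (Isoc.slopePart F ν).subtype (e.sum_repr ((π.restrict hπP) (e j)))
    rw [map_sum] at h1
    simp only [map_smul, Submodule.subtype_apply] at h1
    have h2 : ∀ i, LinearMap.toMatrix e e (π.restrict hπP) i j =
        e.repr ((π.restrict hπP) (e j)) i := fun i => LinearMap.toMatrix_apply e e _ i j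
    simp only [h2]
    exact h1.symm
  · have hsplit := IsAlgClosed.splits
      ((LinearMap.toMatrix e e (π.restrict hπP)).charpoly.map (algebraMap 𝕃 Ω))
    rw [Polynomial.splits_iff_card_roots.1 hsplit,
      ((Matrix.charpoly_monic _).natDegree_map (algebraMap 𝕃 Ω)),
      Matrix.charpoly_natDegree_eq_dim, Fintype.card_fin]
  · intro α hα
    have hroot := (Polynomial.mem_roots'.1 hα).2
    rw [mul_comm ν.num (m : ℤ)] at hApow ⊢
    have := eig_lemma (Ω := Ω) _ A₀ hu ν.den ν.den_pos ((m : ℤ) * ν.num) hApow α hroot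
    exact this

/-! ### The theorem -/

theorem main [IsAlgClosed Ω] [Fintype k] (m : ℕ) (hk : Fintype.card k = p ^ m) (hτ : Tw τ)
    [Module.Finite 𝕃 N] (F : N →ₛₗ[τ] N) (hF : Isoc.IsIsoc F)
    (π : N →ₗ[𝕃] N) (hπ : ∀ x : N, π x = (⇑F)^[m] x) (μ : ℚ) :
    Isoc.newtonMult F μ =
      Multiset.countP
        (fun α : Ω => IsIntegral 𝕎 (α ^ μ.den * (algebraMap 𝕃 Ω (p : 𝕃)) ^ (-(μ.num * (m : ℤ))))
          ∧ IsIntegral 𝕎 (α ^ μ.den * (algebraMap 𝕃 Ω (p : 𝕃)) ^ (-(μ.num * (m : ℤ))))⁻¹)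
        ((π.charpoly.map (algebraMap 𝕃 Ω)).roots) := by
  have hm : m ≠ 0 := by
    rintro rfl
    rw [pow_zero] at hk
    have := Fintype.one_lt_card (α := k)
    omega
  have hind := (isInternal_slopePart hτ F hF).submodule_iSupIndep
  have hfin : {μ : ℚ | Isoc.slopePart F μ ≠ ⊥}.Finite :=
    WellFoundedGT.finite_ne_bot_of_iSupIndep hind
  have hchoose := fun ν => per_slope (Ω := Ω) hτ F hF m π hπ ν
  choose Rfun hR1 hR2 hR3 using hchoose
  have hbc := bc_finset hτ F hF π Rfun hR1 hfin.toFinset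
  have htop : hfin.toFinset.sup (Isoc.slopePart F) = ⊤ := by
    rw [eq_top_iff, ← iSup_slopePart_eq_top hτ F hF]
    refine iSup_le (fun μ => ?_)
    by_cases hb : Isoc.slopePart F μ = ⊥
    · rw [hb]; exact bot_le
    · exact Finset.le_sup (f := Isoc.slopePart F) (hfin.mem_toFinset.2 hb)
  rw [htop] at hbc
  obtain ⟨ι, hfι, hdι, v, A, hli, hsp, hmat, hroots⟩ := hbc
  let B : Module.Basis ι 𝕃 N := Module.Basis.mk hli hsp.ge
  have hBv : ∀ i, B i = v i := fun i => Module.Basis.mk_apply hli hsp.ge i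
  have hmatB : LinearMap.toMatrix B B π = A := by
    ext i j
    rw [LinearMap.toMatrix_apply, hBv, hmat]
    have h1 : ∑ i, A i j • v i = ∑ i, A i j • B i := by
      refine Finset.sum_congr rfl (fun i _ => ?_); rw [hBv]
    rw [h1]
    exact congrFun (B.repr_sum_self (fun i => A i j)) i
  have hcp : π.charpoly = A.charpoly := by
    rw [← hmatB, LinearMap.charpoly_toMatrix]
  rw [hcp, hroots]
  rw [← Multiset.coe_countPAddMonoidHom, map_sum]
  simp only [Multiset.coe_countPAddMonoidHom]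
  have hterm : ∀ ν ∈ hfin.toFinset, Multiset.countP
      (fun α : Ω => IsIntegral 𝕎 (α ^ μ.den * (algebraMap 𝕃 Ω (p : 𝕃)) ^ (-(μ.num * (m : ℤ))))
        ∧ IsIntegral 𝕎 (α ^ μ.den * (algebraMap 𝕃 Ω (p : 𝕃)) ^ (-(μ.num * (m : ℤ))))⁻¹)
      (Rfun ν) = if ν = μ then Module.finrank 𝕃 (Isoc.slopePart F μ) else 0 := by
    intro ν _
    by_cases hνμ : ν = μ
    · rw [if_pos hνμ, ← hνμ, ← hR2 ν, Multiset.countP_eq_card]
      intro α hα
      exact (hR3 ν α hα).2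
    · rw [if_neg hνμ, Multiset.countP_eq_zero]
      intro α hα hcon
      exact IU_unique m hm μ ν hνμ α (hR3 ν α hα).1 (hR3 ν α hα).2 hcon
  rw [Finset.sum_congr rfl hterm, Finset.sum_ite_eq']
  show Module.finrank 𝕃 (Isoc.slopePart F μ) = _
  split_ifs with hmem
  · rfl
  · rw [hfin.mem_toFinset] at hmem
    have : Isoc.slopePart F μ = ⊥ := by
      by_contra h; exact hmem h
    rw [this, finrank_bot]

end Groth.Agent.H2.Isoc13
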