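import Mathlib.Algebra.MvPolynomial.Expand
import Mathlib.Algebra.MvPolynomial.Derivation
import Mathlib.Algebra.MvPolynomial.Division
import Mathlib.Tactic.LinearCombination
import Mathlib.Tactic.FinCases
import Mathlib.Algebra.CharP.Two

/-!
# Parity arguments in `R[u, v]` relative to `R[u², v²]`, and kernels of `a ↦ u², b ↦ v², c ↦ g`
-/

set_option autoImplicit false

namespace Groth.Agent.H2.KumKer

open MvPolynomial

variable {R : Type*} [CommRing R]

section general

variable {σ : Type*}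

lemma coeff_expand_mul_monomial_of_odd (q : MvPolynomial σ R) (d δ : σ →₀ ℕ) (r : R) (i : σ)
    (h : (d i + δ i) % 2 = 1) : coeff d (expand 2 q * monomial δ r) = 0 := by
  rw [coeff_mul_monomial']
  split_ifs with hle
  · rw [coeff_expand_of_not_dvd q (i := i) ?_, zero_mul]
    have := hle i
    rw [Finsupp.tsub_apply]
    omega
  · rfl

lemma coeff_expand_mul_monomial_same (q : MvPolynomial σ R) (n δ : σ →₀ ℕ) (r : R) :
    coeff (2 • n + δ) (expand 2 q * monomial δ r) = coeff n q * r := by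
  rw [coeff_mul_monomial', if_pos le_add_self, add_tsub_cancel_right,
    coeff_expand_smul 2 two_ne_zero]

end general

lemma mono2 (i j : ℕ) (r : R) :
    (C r * X 0 ^ i * X 1 ^ j : MvPolynomial (Fin 2) R) =
      monomial (Finsupp.single 0 i + Finsupp.single 1 j) r := by
  rw [monomial_eq, Finsupp.prod_add_index' (by simp) (by intros; rw [pow_add]),
    Finsupp.prod_single_index
      (h := fun (n : Fin 2) (e : ℕ) => (X n : MvPolynomial (Fin 2) R) ^ e) (pow_zero _),
    Finsupp.prod_single_index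
      (h := fun (n : Fin 2) (e : ℕ) => (X n : MvPolynomial (Fin 2) R) ^ e) (pow_zero _)]
  ring

lemma apply2_zero (n : Fin 2 →₀ ℕ) (a b : ℕ) :
    (2 • n + (Finsupp.single 0 a + Finsupp.single 1 b) : Fin 2 →₀ ℕ) 0 = 2 * n 0 + a := by
  simp

lemma apply2_one (n : Fin 2 →₀ ℕ) (a b : ℕ) :
    (2 • n + (Finsupp.single 0 a + Finsupp.single 1 b) : Fin 2 →₀ ℕ) 1 = 2 * n 1 + b := by
  simp

lemma single2_zero (a b : ℕ) :
    (Finsupp.single (0 : Fin 2) a + Finsupp.single 1 b : Fin 2 →₀ ℕ) 0 = a := by simp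

lemma single2_one (a b : ℕ) :
    (Finsupp.single (0 : Fin 2) a + Finsupp.single 1 b : Fin 2 →₀ ℕ) 1 = b := by simp

/-- parity mismatch kills the coefficient -/
lemma lemA2 (q : MvPolynomial (Fin 2) R) (n : Fin 2 →₀ ℕ) (a b c d : ℕ) (r : R)
    (h : (a + c) % 2 = 1 ∨ (b + d) % 2 = 1) :
    coeff (2 • n + (Finsupp.single 0 a + Finsupp.single 1 b))
      (expand 2 q * monomial (Finsupp.single 0 c + Finsupp.single 1 d) r) = 0 := by
  rcases h with h | h
  · refine coeff_expand_mul_monomial_of_odd q _ _ r 0 ?_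
    rw [apply2_zero, single2_zero]; omega
  · refine coeff_expand_mul_monomial_of_odd q _ _ r 1 ?_
    rw [apply2_one, single2_one]; omega

lemma lemB2 (q : MvPolynomial (Fin 2) R) (n : Fin 2 →₀ ℕ) (a b : ℕ) (r : R) :
    coeff (2 • n + (Finsupp.single 0 a + Finsupp.single 1 b))
      (expand 2 q * monomial (Finsupp.single 0 a + Finsupp.single 1 b) r) = coeff n q * r :=
  coeff_expand_mul_monomial_same q n _ r

/-- coefficient of a pure `expand 2` at an exponent with an odd entry -/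
lemma lemE2 (q : MvPolynomial (Fin 2) R) (n : Fin 2 →₀ ℕ) (a b : ℕ)
    (h : a % 2 = 1 ∨ b % 2 = 1) :
    coeff (2 • n + (Finsupp.single 0 a + Finsupp.single 1 b)) (expand 2 q) = 0 := by
  rcases h with h | h
  · refine coeff_expand_of_not_dvd q (i := 0) ?_
    rw [apply2_zero]; omega
  · refine coeff_expand_of_not_dvd q (i := 1) ?_
    rw [apply2_one]; omega

/-! ### Parity decomposition of `R[x, y]` over `R[x², y²]` -/

/-- `T q00 q10 q01 q11 = E q00 + E q10 · x + E q01 · y + E q11 · xy` with `E = expand 2`. -/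
noncomputable def T (q00 q10 q01 q11 : MvPolynomial (Fin 2) R) : MvPolynomial (Fin 2) R :=
  expand 2 q00 + expand 2 q10 * X 0 + expand 2 q01 * X 1 + expand 2 q11 * (X 0 * X 1)

lemma T_sub (a00 a10 a01 a11 b00 b10 b01 b11 : MvPolynomial (Fin 2) R) :
    T a00 a10 a01 a11 - T b00 b10 b01 b11 = T (a00 - b00) (a10 - b10) (a01 - b01) (a11 - b11) := by
  simp only [T, map_sub]; ring

lemma exists_T (p : MvPolynomial (Fin 2) R) :
    ∃ q00 q10 q01 q11 : MvPolynomial (Fin 2) R, p = T q00 q10 q01 q11 := by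
  induction p using MvPolynomial.induction_on with
  | C r =>
    refine ⟨C r, 0, 0, 0, ?_⟩
    simp [T]
  | add p q hp hq =>
    obtain ⟨a00, a10, a01, a11, rfl⟩ := hp
    obtain ⟨b00, b10, b01, b11, rfl⟩ := hq
    refine ⟨a00 + b00, a10 + b10, a01 + b01, a11 + b11, ?_⟩
    simp only [T, map_add]; ring
  | mul_X p i hp =>
    obtain ⟨a00, a10, a01, a11, rfl⟩ := hp
    have hi : i = 0 ∨ i = 1 := by fin_cases i <;> simp
    rcases hi with rfl | rfl
    · refine ⟨a10 * X 0, a00, a11 * X 0, a01, ?_⟩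
      simp only [T, map_mul, expand_X]; ring
    · refine ⟨a01 * X 1, a11 * X 1, a00, a10, ?_⟩
      simp only [T, map_mul, expand_X]; ring

lemma T_eq_monomials (q00 q10 q01 q11 : MvPolynomial (Fin 2) R) :
    T q00 q10 q01 q11 =
      expand 2 q00 * monomial (Finsupp.single 0 0 + Finsupp.single 1 0) 1
      + expand 2 q10 * monomial (Finsupp.single 0 1 + Finsupp.single 1 0) 1
      + expand 2 q01 * monomial (Finsupp.single 0 0 + Finsupp.single 1 1) 1
      + expand 2 q11 * monomial (Finsupp.single 0 1 + Finsupp.single 1 1) 1 := by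
  simp only [← mono2, T]
  simp only [map_one]; ring

lemma coeff_T_00 (q00 q10 q01 q11 : MvPolynomial (Fin 2) R) (n : Fin 2 →₀ ℕ) :
    coeff (2 • n + (Finsupp.single 0 0 + Finsupp.single 1 0)) (T q00 q10 q01 q11) = coeff n q00 := by
  rw [T_eq_monomials]
  simp only [coeff_add]
  rw [lemB2 q00 n 0 0 1, lemA2 q10 n 0 0 1 0 1 (by decide), lemA2 q01 n 0 0 0 1 1 (by decide),
    lemA2 q11 n 0 0 1 1 1 (by decide)]
  simp

lemma coeff_T_10 (q00 q10 q01 q11 : MvPolynomial (Fin 2) R) (n : Fin 2 →₀ ℕ) :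
    coeff (2 • n + (Finsupp.single 0 1 + Finsupp.single 1 0)) (T q00 q10 q01 q11) = coeff n q10 := by
  rw [T_eq_monomials]
  simp only [coeff_add]
  rw [lemA2 q00 n 1 0 0 0 1 (by decide), lemB2 q10 n 1 0 1, lemA2 q01 n 1 0 0 1 1 (by decide),
    lemA2 q11 n 1 0 1 1 1 (by decide)]
  simp

lemma coeff_T_01 (q00 q10 q01 q11 : MvPolynomial (Fin 2) R) (n : Fin 2 →₀ ℕ) :
    coeff (2 • n + (Finsupp.single 0 0 + Finsupp.single 1 1)) (T q00 q10 q01 q11) = coeff n q01 := by
  rw [T_eq_monomials]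
  simp only [coeff_add]
  rw [lemA2 q00 n 0 1 0 0 1 (by decide), lemA2 q10 n 0 1 1 0 1 (by decide), lemB2 q01 n 0 1 1,
    lemA2 q11 n 0 1 1 1 1 (by decide)]
  simp

lemma coeff_T_11 (q00 q10 q01 q11 : MvPolynomial (Fin 2) R) (n : Fin 2 →₀ ℕ) :
    coeff (2 • n + (Finsupp.single 0 1 + Finsupp.single 1 1)) (T q00 q10 q01 q11) = coeff n q11 := by
  rw [T_eq_monomials]
  simp only [coeff_add]
  rw [lemA2 q00 n 1 1 0 0 1 (by decide), lemA2 q10 n 1 1 1 0 1 (by decide),
    lemA2 q01 n 1 1 0 1 1 (by decide), lemB2 q11 n 1 1 1]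
  simp

lemma T_eq_zero {q00 q10 q01 q11 : MvPolynomial (Fin 2) R} (h : T q00 q10 q01 q11 = 0) :
    q00 = 0 ∧ q10 = 0 ∧ q01 = 0 ∧ q11 = 0 := by
  refine ⟨?_, ?_, ?_, ?_⟩
  · ext n; rw [← coeff_T_00 q00 q10 q01 q11 n, h, coeff_zero, coeff_zero]
  · ext n; rw [← coeff_T_10 q00 q10 q01 q11 n, h, coeff_zero, coeff_zero]
  · ext n; rw [← coeff_T_01 q00 q10 q01 q11 n, h, coeff_zero, coeff_zero]
  · ext n; rw [← coeff_T_11 q00 q10 q01 q11 n, h, coeff_zero, coeff_zero]

lemma T_inj {a00 a10 a01 a11 b00 b10 b01 b11 : MvPolynomial (Fin 2) R}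
    (h : T a00 a10 a01 a11 = T b00 b10 b01 b11) :
    a00 = b00 ∧ a10 = b10 ∧ a01 = b01 ∧ a11 = b11 := by
  have := T_eq_zero (by rw [← T_sub, h, sub_self] :
    T (a00 - b00) (a10 - b10) (a01 - b01) (a11 - b11) = 0)
  exact ⟨sub_eq_zero.mp this.1, sub_eq_zero.mp this.2.1, sub_eq_zero.mp this.2.2.1,
    sub_eq_zero.mp this.2.2.2⟩

/-- In characteristic two every derivation kills `expand 2 q`. -/
lemma derivation_expand_two (h2C : (2 : MvPolynomial (Fin 2) R) = 0)
    (D : Derivation R (MvPolynomial (Fin 2) R) (MvPolynomial (Fin 2) R))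
    (q : MvPolynomial (Fin 2) R) : D (expand 2 q) = 0 := by
  induction q using MvPolynomial.induction_on with
  | C r => rw [expand_C, derivation_C]
  | add p q hp hq => rw [map_add, map_add, hp, hq, add_zero]
  | mul_X p i hp =>
    rw [map_mul, expand_X, Derivation.leibniz, hp, smul_zero, add_zero, Derivation.leibniz_pow,
      smul_eq_mul, smul_eq_mul, nsmul_eq_mul]
    have : ((2 : ℕ) : MvPolynomial (Fin 2) R) = 0 := by exact_mod_cast h2C
    rw [this, zero_mul, mul_zero]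

lemma derivation_T (h2C : (2 : MvPolynomial (Fin 2) R) = 0)
    (D : Derivation R (MvPolynomial (Fin 2) R) (MvPolynomial (Fin 2) R))
    (q00 q10 q01 q11 : MvPolynomial (Fin 2) R) :
    D (T q00 q10 q01 q11) = expand 2 q10 * D (X 0) + expand 2 q01 * D (X 1)
      + expand 2 q11 * (X 0 * D (X 1) + X 1 * D (X 0)) := by
  simp only [T, map_add, Derivation.leibniz, derivation_expand_two h2C, smul_eq_mul,
    mul_zero, add_zero, zero_add]

/-! ### Tools for the cuspidal chart -/

lemma monomial_one_mul_eq_zero {σ : Type*} {s : σ →₀ ℕ} {p : MvPolynomial σ R}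
    (h : monomial s (1:R) * p = 0) : p = 0 := by
  ext m
  have := congrArg (coeff (s + m)) h
  rwa [coeff_monomial_mul, one_mul, coeff_zero] at this

/-- no monomial has `u`-exponent `1` or `v`-exponent `1` -/
def NoOne (p : MvPolynomial (Fin 2) R) : Prop :=
  ∀ m : Fin 2 →₀ ℕ, (m 0 = 1 ∨ m 1 = 1) → coeff m p = 0

lemma noOne_X_pow (i : Fin 2) (k : ℕ) (hk : 2 ≤ k) : NoOne (X i ^ k : MvPolynomial (Fin 2) R) := by
  classical
  intro m hm
  rw [X_pow_eq_monomial, coeff_monomial, if_neg]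
  rintro rfl
  have hi : i = 0 ∨ i = 1 := by fin_cases i <;> simp
  rcases hi with rfl | rfl
  · simp at hm; omega
  · simp at hm; omega

lemma noOne_mul {p q : MvPolynomial (Fin 2) R} (hp : NoOne p) (hq : NoOne q) : NoOne (p * q) := by
  classical
  intro m hm
  rw [coeff_mul]
  refine Finset.sum_eq_zero fun x hx => ?_
  rw [Finset.mem_antidiagonal] at hx
  have h0 : x.1 0 + x.2 0 = m 0 := by rw [← hx]; rfl
  have h1 : x.1 1 + x.2 1 = m 1 := by rw [← hx]; rfl
  rcases hm with hm | hm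
  · have : x.1 0 = 1 ∨ x.2 0 = 1 := by omega
    rcases this with h | h
    · rw [hp _ (Or.inl h), zero_mul]
    · rw [hq _ (Or.inl h), mul_zero]
  · have : x.1 1 = 1 ∨ x.2 1 = 1 := by omega
    rcases this with h | h
    · rw [hp _ (Or.inr h), zero_mul]
    · rw [hq _ (Or.inr h), mul_zero]

lemma noOne_of_mem_adjoin {a : MvPolynomial (Fin 2) R}
    (ha : a ∈ Algebra.adjoin R
      ({X 0 ^ 2, X 0 ^ 3, X 1 ^ 2, X 1 ^ 3} : Set (MvPolynomial (Fin 2) R))) : NoOne a := by
  classical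
  induction ha using Algebra.adjoin_induction with
  | mem x hx =>
    simp only [Set.mem_insert_iff, Set.mem_singleton_iff] at hx
    rcases hx with rfl | rfl | rfl | rfl
    · exact noOne_X_pow 0 2 (by norm_num)
    · exact noOne_X_pow 0 3 (by norm_num)
    · exact noOne_X_pow 1 2 (by norm_num)
    · exact noOne_X_pow 1 3 (by norm_num)
  | algebraMap r =>
    intro m hm
    rw [MvPolynomial.algebraMap_eq, coeff_C, if_neg]
    rintro rfl
    simp at hm
  | add x y _ _ hx hy =>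
    intro m hm
    rw [coeff_add, hx m hm, hy m hm, add_zero]
  | mul x y _ _ hx hy => exact noOne_mul hx hy

lemma expand_two_mem (S : Subalgebra R (MvPolynomial (Fin 2) R)) (h0 : X 0 ^ 2 ∈ S)
    (h1 : X 1 ^ 2 ∈ S) (q : MvPolynomial (Fin 2) R) : expand 2 q ∈ S := by
  induction q using MvPolynomial.induction_on with
  | C r => rw [expand_C, ← MvPolynomial.algebraMap_eq]; exact S.algebraMap_mem r
  | add p q hp hq => rw [map_add]; exact S.add_mem hp hq
  | mul_X p i hp =>
    rw [map_mul, expand_X]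
    have hi : i = 0 ∨ i = 1 := by fin_cases i <;> simp
    rcases hi with rfl | rfl
    · exact S.mul_mem hp h0
    · exact S.mul_mem hp h1

/-- If `T q00 q10 q01 q11` has no monomial with an exponent equal to one, then `q11` is divisible
by `X 0 * X 1`. -/
lemma exists_eq_mul_of_noOne {q00 q10 q01 q11 : MvPolynomial (Fin 2) R}
    (h : NoOne (T q00 q10 q01 q11)) : ∃ r : MvPolynomial (Fin 2) R, q11 = X 0 * X 1 * r := by
  classical
  refine ⟨divMonomial q11 (Finsupp.single 0 1 + Finsupp.single 1 1), ?_⟩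
  have hmod : modMonomial q11 (Finsupp.single 0 1 + Finsupp.single 1 1) = 0 := by
    ext n
    rw [coeff_zero]
    by_cases hle : (Finsupp.single 0 1 + Finsupp.single 1 1 : Fin 2 →₀ ℕ) ≤ n
    · exact coeff_modMonomial_of_le _ hle
    · rw [coeff_modMonomial_of_not_le _ hle, ← coeff_T_11 q00 q10 q01 q11 n]
      apply h
      rw [apply2_zero, apply2_one]
      have : n 0 = 0 ∨ n 1 = 0 := by
        by_contra hcon
        push Not at hcon
        apply hle
        intro i
        have hi : i = 0 ∨ i = 1 := by fin_cases i <;> simp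
        rcases hi with rfl | rfl
        · rw [single2_zero]; omega
        · rw [single2_one]; omega
      omega
  have := divMonomial_add_modMonomial q11 (Finsupp.single 0 1 + Finsupp.single 1 1)
  rw [hmod, add_zero, ← mono2, map_one, pow_one, pow_one, one_mul] at this
  exact this.symm

lemma aeval_aeval_eq_expand (g q : MvPolynomial (Fin 2) R) :
    aeval (R := R) (S₁ := MvPolynomial (Fin 2) R) ![X 0 ^ 2, X 1 ^ 2, g]
      (aeval (R := R) (![X 0, X 1] : Fin 2 → MvPolynomial (Fin 3) R) q) = expand 2 q := by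
  have : (aeval (R := R) (S₁ := MvPolynomial (Fin 2) R) ![X 0 ^ 2, X 1 ^ 2, g]).comp
      (aeval (R := R) (![X 0, X 1] : Fin 2 → MvPolynomial (Fin 3) R)) = expand 2 := by
    apply algHom_ext
    intro i
    have hi : i = 0 ∨ i = 1 := by fin_cases i <;> simp
    rcases hi with rfl | rfl
    · rw [AlgHom.comp_apply, aeval_X, expand_X]
      show aeval (R := R) (S₁ := MvPolynomial (Fin 2) R) ![X 0 ^ 2, X 1 ^ 2, g] (X 0) = _
      rw [aeval_X]; rfl
    · rw [AlgHom.comp_apply, aeval_X, expand_X]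
      show aeval (R := R) (S₁ := MvPolynomial (Fin 2) R) ![X 0 ^ 2, X 1 ^ 2, g] (X 1) = _
      rw [aeval_X]; rfl
  exact DFunLike.congr_fun this q

/-- The kernel of `a ↦ u², b ↦ v², c ↦ g` when `g² ∈ R[u², v²]` and `g` has a unit "odd-odd"
coefficient that can be isolated. -/
theorem ker_aeval_eq_span (g G₂ : MvPolynomial (Fin 2) R) (a b : ℕ) (hab : a % 2 = 1 ∨ b % 2 = 1)
    (τ : R) (hτ : IsUnit τ) (hg2 : g ^ 2 + expand 2 G₂ = 0)
    (hcoef : ∀ (q : MvPolynomial (Fin 2) R) (n : Fin 2 →₀ ℕ),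
      coeff (2 • n + (Finsupp.single 0 a + Finsupp.single 1 b)) (expand 2 q * g) = coeff n q * τ) :
    RingHom.ker (aeval (R := R) (S₁ := MvPolynomial (Fin 2) R) ![X 0 ^ 2, X 1 ^ 2, g]) =
      Ideal.span {(X 2 ^ 2 + aeval (R := R) (![X 0, X 1] : Fin 2 → MvPolynomial (Fin 3) R) G₂ :
        MvPolynomial (Fin 3) R)} := by
  obtain ⟨ψ, hψ⟩ : ∃ ψ : MvPolynomial (Fin 3) R →ₐ[R] MvPolynomial (Fin 2) R,
      ψ = aeval (R := R) (S₁ := MvPolynomial (Fin 2) R) ![X 0 ^ 2, X 1 ^ 2, g] := ⟨_, rfl⟩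
  obtain ⟨ι, hι⟩ : ∃ ι : MvPolynomial (Fin 2) R →ₐ[R] MvPolynomial (Fin 3) R,
      ι = aeval (R := R) (![X 0, X 1] : Fin 2 → MvPolynomial (Fin 3) R) := ⟨_, rfl⟩
  rw [← hψ, ← hι]
  have ψ0 : ψ (X 0) = X 0 ^ 2 := by rw [hψ, aeval_X]; rfl
  have ψ1 : ψ (X 1) = X 1 ^ 2 := by rw [hψ, aeval_X]; rfl
  have ψ2 : ψ (X 2) = g := by rw [hψ, aeval_X]; rfl
  have ι0 : ι (X 0) = X 0 := by rw [hι, aeval_X]; rfl
  have ι1 : ι (X 1) = X 1 := by rw [hι, aeval_X]; rfl
  have hψι : ∀ q, ψ (ι q) = expand 2 q := by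
    intro q
    have : ψ.comp ι = expand 2 := by
      apply algHom_ext
      intro i
      have hi : i = 0 ∨ i = 1 := by fin_cases i <;> simp
      rcases hi with rfl | rfl
      · show ψ (ι (X 0)) = expand 2 (X 0); rw [ι0, ψ0, expand_X]
      · show ψ (ι (X 1)) = expand 2 (X 1); rw [ι1, ψ1, expand_X]
    exact DFunLike.congr_fun this q
  obtain ⟨F, hF⟩ : ∃ F : MvPolynomial (Fin 3) R, F = X 2 ^ 2 + ι G₂ := ⟨_, rfl⟩
  rw [← hF]
  have hFker : ψ F = 0 := by rw [hF, map_add, map_pow, ψ2, hψι]; exact hg2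
  have hle : Ideal.span {F} ≤ RingHom.ker ψ := by
    rw [Ideal.span_singleton_le_iff_mem, RingHom.mem_ker]; exact hFker
  refine le_antisymm ?_ hle
  intro P hP
  rw [RingHom.mem_ker] at hP
  have hdiv : ∀ P : MvPolynomial (Fin 3) R, ∃ P₀ P₁ : MvPolynomial (Fin 2) R,
      P - (ι P₀ + ι P₁ * X 2) ∈ Ideal.span {F} := by
    intro P
    induction P using MvPolynomial.induction_on with
    | C r =>
      refine ⟨C r, 0, ?_⟩
      have : ι (C r) = C r := by rw [hι, aeval_C]; rfl
      rw [this, map_zero, zero_mul, add_zero, sub_self]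
      exact Ideal.zero_mem _
    | add p q hp hq =>
      obtain ⟨p0, p1, hp⟩ := hp
      obtain ⟨q0, q1, hq⟩ := hq
      refine ⟨p0 + q0, p1 + q1, ?_⟩
      have := Ideal.add_mem _ hp hq
      convert this using 1
      simp only [map_add]; ring
    | mul_X p i hp =>
      obtain ⟨p0, p1, hp⟩ := hp
      have hi : i = 0 ∨ i = 1 ∨ i = 2 := by fin_cases i <;> simp
      rcases hi with rfl | rfl | rfl
      · refine ⟨p0 * X 0, p1 * X 0, ?_⟩
        have := Ideal.mul_mem_right (X 0) _ hp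
        convert this using 1
        simp only [map_mul, ι0]; ring
      · refine ⟨p0 * X 1, p1 * X 1, ?_⟩
        have := Ideal.mul_mem_right (X 1) _ hp
        convert this using 1
        simp only [map_mul, ι1]; ring
      · refine ⟨-(p1 * G₂), p0, ?_⟩
        have := Ideal.add_mem _ (Ideal.mul_mem_right (X 2) _ hp)
          (Ideal.mul_mem_left _ (ι p1) (Ideal.mem_span_singleton_self F))
        convert this using 1
        simp only [map_neg, map_mul, hF]; ring
  obtain ⟨P₀, P₁, hd⟩ := hdiv P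
  have hΔ := hle hd
  rw [RingHom.mem_ker, map_sub, hP, map_add, map_mul, hψι, hψι, ψ2, zero_sub, neg_eq_zero] at hΔ
  have hP1 : P₁ = 0 := by
    ext n
    have := congrArg (coeff (2 • n + (Finsupp.single 0 a + Finsupp.single 1 b))) hΔ
    rw [coeff_add, hcoef, coeff_zero, lemE2 P₀ n a b hab, zero_add] at this
    rw [coeff_zero]
    exact (hτ.mul_left_eq_zero).mp this
  have hP0 : P₀ = 0 := by
    rw [hP1, map_zero, zero_mul, add_zero] at hΔ
    exact (expand_eq_zero two_pos).mp hΔ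
  rw [hP1, hP0, map_zero, zero_mul, add_zero, sub_zero] at hd
  exact hd

end Groth.Agent.H2.KumKer
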