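import Mathlib.Tactic.LinearCombination
import Mathlib.Tactic.Ring

set_option autoImplicit false

namespace Groth.Agent.H2.KumNormal

theorem fixedPoint_identity {A : Type*} [CommRing A]
    (T Ti L2 L4 S2 S4 Ap Bp Ca Cb x0 x1 x2 : A)
    (h2 : (2:A) = 0) (hT : T * Ti = 1) (hA : Ap^2 = Ca) (hB : Bp^2 = Cb) :
    (x2 + (L4*Bp*x0^2 + S4*Ap*x1^2 + Ti*(S4*x1^2+S2*x1)*(L4*x0^2+L2*x0)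
        - L2*Bp*Ti^2*(L4*x0^2+L2*x0)^2 - S2*Ap*Ti^2*(S4*x1^2+S2*x1)^2)
      + L2*Bp*(x0 + Ti^2*(L4*x0^2+L2*x0)^2) + S2*Ap*(x1 + Ti^2*(S4*x1^2+S2*x1)^2))^2
      + (T*(x0 + Ti^2*(L4*x0^2+L2*x0)^2)) * (T*(x1 + Ti^2*(S4*x1^2+S2*x1)^2))
    = x2^2 + T^2*x0*x1 + (S4^2*x1^4 + S2^2*x1^2)*x0 + (L4^2*x0^4 + L2^2*x0^2)*x1
      + L4^2*Cb*x0^4 + L2^2*Cb*x0^2 + S4^2*Ca*x1^4 + S2^2*Ca*x1^2 := by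
  linear_combination (4*L2*L4*S2*S4*T*Ti^3*x0^3*x1^3 + 4*L2*L4*S2*S4*Ti^2*x0^3*x1^3 + 2*L2*L4*S2^2*T*Ti^3*x0^3*x1^2 + 2*L2*L4*S2^2*Ti^2*x0^3*x1^2 + 2*L2*L4*S4^2*T*Ti^3*x0^3*x1^4 + 2*L2*L4*S4^2*Ti^2*x0^3*x1^4 + 2*L2*L4*T*Ti*x0^3*x1 + 2*L2*L4*x0^3*x1 + 2*L2^2*S2*S4*T*Ti^3*x0^2*x1^3 + 2*L2^2*S2*S4*Ti^2*x0^2*x1^3 + L2^2*S2^2*T*Ti^3*x0^2*x1^2 + L2^2*S2^2*Ti^2*x0^2*x1^2 + L2^2*S4^2*T*Ti^3*x0^2*x1^4 + L2^2*S4^2*Ti^2*x0^2*x1^4 + L2^2*T*Ti*x0^2*x1 + L2^2*x0^2*x1 + 2*L4^2*S2*S4*T*Ti^3*x0^4*x1^3 + 2*L4^2*S2*S4*Ti^2*x0^4*x1^3 + L4^2*S2^2*T*Ti^3*x0^4*x1^2 + L4^2*S2^2*Ti^2*x0^4*x1^2 + L4^2*S4^2*T*Ti^3*x0^4*x1^4 + L4^2*S4^2*Ti^2*x0^4*x1^4 + L4^2*T*Ti*x0^4*x1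 + L4^2*x0^4*x1 + 2*S2*S4*T*Ti*x0*x1^3 + 2*S2*S4*x0*x1^3 + S2^2*T*Ti*x0*x1^2 + S2^2*x0*x1^2 + S4^2*T*Ti*x0*x1^4 + S4^2*x0*x1^4) * hT
    + (2*S2*S4*x1^3 + S2^2*x1^2 + S4^2*x1^4) * hA
    + (2*L2*L4*x0^3 + L2^2*x0^2 + L4^2*x0^4) * hB
    + (Ap*Bp*L2*S2*x0*x1 + Ap*Bp*L2*S4*x0*x1^2 + Ap*Bp*L4*S2*x0^2*x1 + Ap*Bp*L4*S4*x0^2*x1^2 + 2*Ap*L2*S2*S4*Ti*x0*x1^3 + Ap*L2*S2^2*Ti*x0*x1^2 + Ap*L2*S4^2*Ti*x0*x1^4 + 2*Ap*L4*S2*S4*Ti*x0^2*x1^3 + Ap*L4*S2^2*Ti*x0^2*x1^2 + Ap*L4*S4^2*Ti*x0^2*x1^4 + Ap*S2*x1*x2 + Ap*S4*x1^2*x2 + 2*Bp*L2*L4*S2*Ti*x0^3*x1 + 2*Bp*L2*L4*S4*Ti*x0^3*x1^2 + Bp*L2*x0*x2 + Bp*L2^2*S2*Ti*x0^2*x1 + Bp*L2^2*S4*Ti*x0^2*x1^2 + Bp*L4*x0^2*x2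 + Bp*L4^2*S2*Ti*x0^4*x1 + Bp*L4^2*S4*Ti*x0^4*x1^2 + Ca*S2*S4*x1^3 + Cb*L2*L4*x0^3 + 4*L2*L4*S2*S4*Ti^2*x0^3*x1^3 + 2*L2*L4*S2^2*Ti^2*x0^3*x1^2 + 2*L2*L4*S4^2*Ti^2*x0^3*x1^4 + L2*L4*x0^3*x1 + L2*S2*Ti*x0*x1*x2 + L2*S4*Ti*x0*x1^2*x2 + 2*L2^2*S2*S4*Ti^2*x0^2*x1^3 + L2^2*S2^2*Ti^2*x0^2*x1^2 + L2^2*S4^2*Ti^2*x0^2*x1^4 + L4*S2*Ti*x0^2*x1*x2 + L4*S4*Ti*x0^2*x1^2*x2 + 2*L4^2*S2*S4*Ti^2*x0^4*x1^3 + L4^2*S2^2*Ti^2*x0^4*x1^2 + L4^2*S4^2*Ti^2*x0^4*x1^4 + S2*S4*x0*x1^3) * h2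

end Groth.Agent.H2.KumNormal
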