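import Mathlib
import Groth.Prelude.Def_W4c1bouilletffgsL3

set_option autoImplicit false
set_option linter.style.haveILetI false
set_option linter.unusedSimpArgs false
set_option linter.unusedVariables false
set_option linter.unnecessarySeqFocus false

open MvPolynomial

namespace Groth.Agent.H2.Lie3

universe u

variable (k : Type u) [Field k]

theorem sub_C_eval_mem {σ : Type*} (c : σ → k) (z : MvPolynomial σ k) :
    z - C (eval c z) ∈ Ideal.span (Set.range fun i => (X i - C (c i) : MvPolynomial σ k)) := by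
  induction z using MvPolynomial.induction_on with
  | C a => simp
  | add p q hp hq =>
    have := Ideal.add_mem _ hp hq
    convert this using 1
    simp only [map_add]; ring
  | mul_X p i hp =>
    have h1 : p * X i - C (eval c (p * X i)) =
        (p - C (eval c p)) * X i + C (eval c p) * (X i - C (c i)) := by
      simp only [map_mul, eval_X]; ring
    rw [h1]
    exact Ideal.add_mem _ (Ideal.mul_mem_right _ _ hp)
      (Ideal.mul_mem_left _ _ (Ideal.subset_span ⟨i, rfl⟩))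

/-- the parametrisation of the component -/
noncomputable def Psi0 : MvPolynomial (Fin 9) k →ₐ[k] MvPolynomial (Fin 6) k :=
  aeval ![X 2 * X 0 + X 3 * X 1, X 2, X 3, X 4 * X 0 + X 5 * X 1, X 4, X 5,
    X 0 * (X 1 * X 2 - X 0 * X 4) + X 1 * (X 1 * X 3 - X 0 * X 5),
    X 1 * X 2 - X 0 * X 4, X 1 * X 3 - X 0 * X 5]

theorem Psi0_gens : Psi0 k (Lie3Mod.Q1 k) = 0 ∧ Psi0 k (Lie3Mod.Q2 k) = 0 ∧
    Psi0 k (Lie3Mod.Q3 k) = 0 ∧ Psi0 k (Lie3Mod.detM k) = 0 := by
  refine ⟨?_, ?_, ?_, ?_⟩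
  · simp [Psi0, Lie3Mod.Q1, Lie3Mod.va, Lie3Mod.vb, Lie3Mod.vc, Lie3Mod.vd, Lie3Mod.ve,
      Lie3Mod.vf, Lie3Mod.vg, Lie3Mod.vh, Lie3Mod.vi] <;> ring
  · simp [Psi0, Lie3Mod.Q2, Lie3Mod.va, Lie3Mod.vb, Lie3Mod.vc, Lie3Mod.vd, Lie3Mod.ve,
      Lie3Mod.vf, Lie3Mod.vg, Lie3Mod.vh, Lie3Mod.vi] <;> ring
  · simp [Psi0, Lie3Mod.Q3, Lie3Mod.va, Lie3Mod.vb, Lie3Mod.vc, Lie3Mod.vd, Lie3Mod.ve,
      Lie3Mod.vf, Lie3Mod.vg, Lie3Mod.vh, Lie3Mod.vi] <;> ring
  · simp [Psi0, Lie3Mod.detM, Lie3Mod.va, Lie3Mod.vb, Lie3Mod.vc, Lie3Mod.vd, Lie3Mod.ve,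
      Lie3Mod.vf, Lie3Mod.vg, Lie3Mod.vh, Lie3Mod.vi] <;> ring

theorem idJ_le_ker : Lie3Mod.idJ k ≤ RingHom.ker (Psi0 k).toRingHom := by
  rw [Lie3Mod.idJ, Ideal.span_le]
  intro x hx
  simp only [Set.mem_insert_iff, Set.mem_singleton_iff] at hx
  rcases hx with rfl | rfl | rfl | rfl
  · exact RingHom.mem_ker.mpr (Psi0_gens k).1
  · exact RingHom.mem_ker.mpr (Psi0_gens k).2.1
  · exact RingHom.mem_ker.mpr (Psi0_gens k).2.2.1
  · exact RingHom.mem_ker.mpr (Psi0_gens k).2.2.2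

noncomputable def PsiBar0 :
    (MvPolynomial (Fin 9) k ⧸ Lie3Mod.idJ k) →+* MvPolynomial (Fin 6) k :=
  Ideal.Quotient.lift (Lie3Mod.idJ k) (Psi0 k).toRingHom
    (fun x hx => RingHom.mem_ker.mp (idJ_le_ker k hx))

theorem PsiBar0_mk (z : MvPolynomial (Fin 9) k) :
    PsiBar0 k (Ideal.Quotient.mk _ z) = Psi0 k z := by
  simp [PsiBar0]

noncomputable def tau (j : Fin 6) (c : MvPolynomial (Fin 6) k) :
    MvPolynomial (Fin 6) k →+* MvPolynomial (Fin 6) k :=
  (aeval (Function.update X j c) : MvPolynomial (Fin 6) k →ₐ[k] MvPolynomial (Fin 6) k).toRingHom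

theorem height_step {R S : Type*} [CommRing R] [CommRing S] [IsDomain S] (f : R →+* S)
    (τ : S →+* S) (x : R) (n : ℕ∞) (hn : n ≤ (RingHom.ker f).height) (h0 : τ (f x) = 0)
    (h1 : f x ≠ 0) : n + 1 ≤ (RingHom.ker (τ.comp f)).height := by
  haveI : (RingHom.ker f).IsPrime := RingHom.ker_isPrime f
  haveI : (RingHom.ker (τ.comp f)).IsPrime := RingHom.ker_isPrime _
  have hlt : RingHom.ker f < RingHom.ker (τ.comp f) := by
    refine lt_of_le_of_ne ?_ ?_
    · intro y hy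
      rw [RingHom.mem_ker] at hy ⊢
      rw [RingHom.comp_apply, hy, map_zero]
    · intro h
      have hx : x ∈ RingHom.ker (τ.comp f) := by
        rw [RingHom.mem_ker, RingHom.comp_apply, h0]
      rw [← h, RingHom.mem_ker] at hx
      exact h1 hx
  calc n + 1 ≤ (RingHom.ker f).height + 1 := by gcongr
    _ ≤ _ := Ideal.height_add_one_le_of_lt_of_isPrime hlt

/-- the composite of all the specialisations -/
noncomputable def f6 (t : k) :
    (MvPolynomial (Fin 9) k ⧸ Lie3Mod.idJ k) →+* MvPolynomial (Fin 6) k :=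
  (tau k 5 (C t)).comp ((tau k 2 1).comp ((tau k 4 0).comp ((tau k 3 0).comp
    ((tau k 1 0).comp ((tau k 0 0).comp (PsiBar0 k))))))

theorem height_f6 (t : k) : (6 : ℕ∞) ≤ (RingHom.ker (f6 k t)).height := by
  have h0 : (0 : ℕ∞) ≤ (RingHom.ker (PsiBar0 k)).height := bot_le
  have h1 := height_step (PsiBar0 k) (tau k 0 0) (Ideal.Quotient.mk _ (X 0 * X 1 - X 2 * X 7)) 0 h0
    (by rw [PsiBar0_mk]; simp [Psi0, tau] <;> ring)
    (by
      rw [PsiBar0_mk]
      intro h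
      have h' := congrArg (eval ![1, 0, 1, 0, 0, 0]) h
      simp [Psi0] at h')
  have h2 := height_step _ (tau k 1 0) (Ideal.Quotient.mk _ (X 7)) _ h1
    (by simp [PsiBar0_mk, Psi0, tau])
    (by
      simp only [RingHom.comp_apply, PsiBar0_mk]
      intro h
      have h' := congrArg (eval ![0, 1, 1, 0, 0, 0]) h
      simp [Psi0, tau] at h')
  have h3 := height_step _ (tau k 3 0) (Ideal.Quotient.mk _ (X 2)) _ h2
    (by simp [PsiBar0_mk, Psi0, tau])
    (by
      simp only [RingHom.comp_apply, PsiBar0_mk]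
      intro h
      have h' := congrArg (eval ![0, 0, 0, 1, 0, 0]) h
      simp [Psi0, tau] at h')
  have h4 := height_step _ (tau k 4 0) (Ideal.Quotient.mk _ (X 4)) _ h3
    (by simp [PsiBar0_mk, Psi0, tau])
    (by
      simp only [RingHom.comp_apply, PsiBar0_mk]
      intro h
      have h' := congrArg (eval ![0, 0, 0, 0, 1, 0]) h
      simp [Psi0, tau] at h')
  have h5 := height_step _ (tau k 2 1) (Ideal.Quotient.mk _ (X 1 - 1)) _ h4
    (by simp [PsiBar0_mk, Psi0, tau])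
    (by
      simp only [RingHom.comp_apply, PsiBar0_mk]
      intro h
      have h' := congrArg (eval ![0, 0, 0, 0, 0, 0]) h
      simp [Psi0, tau] at h')
  have h6 := height_step _ (tau k 5 (C t)) (Ideal.Quotient.mk _ (X 5 - C t)) _ h5
    (by simp [PsiBar0_mk, Psi0, tau])
    (by
      simp only [RingHom.comp_apply, PsiBar0_mk]
      intro h
      have h' := congrArg (eval ![0, 0, 0, 0, 0, t + 1]) h
      simp [Psi0, tau] at h')
  have e : (6 : ℕ∞) = 0 + 1 + 1 + 1 + 1 + 1 + 1 := by norm_num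
  rw [e]
  exact h6

end Groth.Agent.H2.Lie3
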