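import Mathlib
import Groth.Prelude.Def_W4c1bouilletffgsL3
import Groth.Agent.H2.Lie3a

set_option autoImplicit false
set_option linter.style.haveILetI false
set_option linter.unusedSimpArgs false
set_option linter.unusedVariables false
set_option linter.unnecessarySeqFocus false

open MvPolynomial

namespace Groth.Agent.H2.Lie3

universe u

variable (k : Type u) [Field k]

/-- the point -/
def pt (t : k) : Fin 9 → k := ![0, 1, 0, 0, 0, t, 0, 0, 0]

/-- the nine generators -/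
noncomputable def S9 (t : k) : Set (MvPolynomial (Fin 9) k) :=
  {X 0, X 1 - 1, X 2, X 3, X 4, X 5 - C t, X 6, X 7, X 8}

theorem ev_J (t : k) : Lie3Mod.idJ k ≤ RingHom.ker (eval (pt k t)) := by
  rw [Lie3Mod.idJ, Ideal.span_le]
  intro x hx
  simp only [Set.mem_insert_iff, Set.mem_singleton_iff] at hx
  rcases hx with rfl | rfl | rfl | rfl
  · simp [RingHom.mem_ker, Lie3Mod.Q1, Lie3Mod.va, Lie3Mod.vb, Lie3Mod.vc, Lie3Mod.vd, Lie3Mod.ve,
      Lie3Mod.vf, Lie3Mod.vg, Lie3Mod.vh, Lie3Mod.vi, pt]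
  · simp [RingHom.mem_ker, Lie3Mod.Q2, Lie3Mod.va, Lie3Mod.vb, Lie3Mod.vc, Lie3Mod.vd, Lie3Mod.ve,
      Lie3Mod.vf, Lie3Mod.vg, Lie3Mod.vh, Lie3Mod.vi, pt]
  · simp [RingHom.mem_ker, Lie3Mod.Q3, Lie3Mod.va, Lie3Mod.vb, Lie3Mod.vc, Lie3Mod.vd, Lie3Mod.ve,
      Lie3Mod.vf, Lie3Mod.vg, Lie3Mod.vh, Lie3Mod.vi, pt]
  · simp [RingHom.mem_ker, Lie3Mod.detM, Lie3Mod.va, Lie3Mod.vb, Lie3Mod.vc, Lie3Mod.vd,
      Lie3Mod.ve, Lie3Mod.vf, Lie3Mod.vg, Lie3Mod.vh, Lie3Mod.vi, pt]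

theorem range_le (t : k) :
    Ideal.span (Set.range fun i => (X i - C (pt k t i) : MvPolynomial (Fin 9) k)) ≤
      Ideal.span (S9 k t) := by
  rw [Ideal.span_le]
  rintro _ ⟨i, rfl⟩
  apply Ideal.subset_span
  fin_cases i <;> simp [pt, S9]

theorem f6_comp (t : k) :
    (f6 k t).comp (Ideal.Quotient.mk (Lie3Mod.idJ k)) = C.comp (eval (pt k t)) := by
  apply MvPolynomial.ringHom_ext
  · intro a
    simp [f6, PsiBar0_mk, tau, Psi0]
  · intro i
    fin_cases i <;> simp [f6, PsiBar0_mk, tau, Psi0, pt]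

theorem f6_mk (t : k) (z : MvPolynomial (Fin 9) k) :
    f6 k t (Ideal.Quotient.mk _ z) = C (eval (pt k t) z) := by
  have := congrArg (fun g => g z) (f6_comp k t)
  simpa using this

theorem algD {R : Type*} [CommRing R] (A B D E F H I ub : R) (hub : ub * B = 1)
    (r2 : I * E + B * D - F * H - A * E = 0) : D = ub * (F * H + A * E - I * E) := by
  linear_combination (-D) * hub + ub * r2

theorem algI {R : Type*} [CommRing R] (A B C D F H I ub : R) (hub : ub * B = 1)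
    (r3 : H * C + D * C - A * F - B * I = 0) : I = ub * (H * C + D * C - A * F) := by
  linear_combination (-I) * hub - ub * r3

theorem algG {R : Type*} [CommRing R] (A B C D E F G H I uu : R)
    (huu : uu * (B * F - E * C - F - B) = 1)
    (r1 : A * H + D * I - F * G - B * G = 0)
    (r4 : -(C * H ^ 2) + G * B * F + E * I ^ 2 - G * E * C + H * B * I - I * H * F = 0) :
    G = -(uu * (A * H + D * I - C * H ^ 2 + E * I ^ 2 + H * B * I - I * H * F)) := by
  linear_combination (-G) * huu + uu * (r1 + r4)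

/-- the six generators -/
noncomputable def S6 (t : k) : Finset (MvPolynomial (Fin 9) k) := by
  classical exact {X 0, X 1 - 1, X 2, X 4, X 5 - C t, X 7}

theorem card_S6 (t : k) : (S6 k t).card ≤ 6 := by
  classical
  unfold S6
  exact Finset.card_le_six

theorem mem_S6 (t : k) (x : MvPolynomial (Fin 9) k) :
    x ∈ S6 k t ↔ x = X 0 ∨ x = X 1 - 1 ∨ x = X 2 ∨ x = X 4 ∨ x = X 5 - C t ∨ x = X 7 := by
  classical
  simp [S6]

theorem gen6 {L : Type*} [CommRing L] (t : k) (φ : MvPolynomial (Fin 9) k →+* L)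
    (hφJ : ∀ x ∈ Lie3Mod.idJ k, φ x = 0)
    (hunit : ∀ x : MvPolynomial (Fin 9) k, eval (pt k t) x ≠ 0 → IsUnit (φ x)) :
    Ideal.map φ (Ideal.span (S9 k t)) = Ideal.span (φ '' ↑(S6 k t)) := by
  -- relations
  have r1 : φ (Lie3Mod.Q1 k) = 0 :=
    hφJ _ (Ideal.subset_span (by simp [Lie3Mod.idJ]))
  have r2 : φ (Lie3Mod.Q2 k) = 0 :=
    hφJ _ (Ideal.subset_span (by simp [Lie3Mod.idJ]))
  have r3 : φ (Lie3Mod.Q3 k) = 0 :=
    hφJ _ (Ideal.subset_span (by simp [Lie3Mod.idJ]))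
  have r4 : φ (Lie3Mod.detM k) = 0 :=
    hφJ _ (Ideal.subset_span (by simp [Lie3Mod.idJ]))
  simp only [Lie3Mod.Q1, Lie3Mod.Q2, Lie3Mod.Q3, Lie3Mod.detM, Lie3Mod.va, Lie3Mod.vb, Lie3Mod.vc,
    Lie3Mod.vd, Lie3Mod.ve, Lie3Mod.vf, Lie3Mod.vg, Lie3Mod.vh, Lie3Mod.vi, map_sub, map_add,
    map_mul, map_pow, map_neg] at r1 r2 r3 r4
  obtain ⟨ub, hub⟩ : ∃ ub, ub * φ (X 1) = 1 := by
    have := hunit (X 1) (by simp [pt])
    obtain ⟨u, hu⟩ := this.exists_left_inv
    exact ⟨u, hu⟩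
  obtain ⟨uu, huu⟩ : ∃ uu, uu * (φ (X 1) * φ (X 5) - φ (X 4) * φ (X 2) - φ (X 5) - φ (X 1)) = 1 := by
    have := hunit (X 1 * X 5 - X 4 * X 2 - X 5 - X 1) (by simp [pt])
    obtain ⟨u, hu⟩ := this.exists_left_inv
    refine ⟨u, ?_⟩
    simpa only [map_sub, map_mul] using hu
  have hD : φ (X 3) = ub * (φ (X 5) * φ (X 7) + φ (X 0) * φ (X 4) - φ (X 8) * φ (X 4)) :=
    algD _ _ _ _ _ _ _ _ hub r2
  have hI : φ (X 8) = ub * (φ (X 7) * φ (X 2) + φ (X 3) * φ (X 2) - φ (X 0) * φ (X 5)) :=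
    algI _ _ _ _ _ _ _ _ hub r3
  have hG : φ (X 6) = -(uu * (φ (X 0) * φ (X 7) + φ (X 3) * φ (X 8) - φ (X 2) * φ (X 7) ^ 2
      + φ (X 4) * φ (X 8) ^ 2 + φ (X 7) * φ (X 1) * φ (X 8) - φ (X 8) * φ (X 7) * φ (X 5))) :=
    algG _ _ _ _ _ _ _ _ _ _ huu r1 r4
  obtain ⟨I6, hI6⟩ : ∃ I6 : Ideal L, I6 = Ideal.span (φ '' ↑(S6 k t)) := ⟨_, rfl⟩
  rw [← hI6]
  have hgen : ∀ x ∈ S6 k t, φ x ∈ I6 := by
    intro x hx
    rw [hI6]
    exact Ideal.subset_span ⟨x, hx, rfl⟩
  have mA : φ (X 0) ∈ I6 := hgen _ (by simp [mem_S6])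
  have mB : φ (X 1 - 1) ∈ I6 := hgen _ (by simp [mem_S6])
  have mC : φ (X 2) ∈ I6 := hgen _ (by simp [mem_S6])
  have mE : φ (X 4) ∈ I6 := hgen _ (by simp [mem_S6])
  have mF : φ (X 5 - C t) ∈ I6 := hgen _ (by simp [mem_S6])
  have mH : φ (X 7) ∈ I6 := hgen _ (by simp [mem_S6])
  have mD : φ (X 3) ∈ I6 := by
    rw [hD]
    refine Ideal.mul_mem_left _ _ ?_
    refine Ideal.sub_mem _ (Ideal.add_mem _ ?_ ?_) ?_
    · exact Ideal.mul_mem_left _ _ mH
    · exact Ideal.mul_mem_right _ _ mA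
    · exact Ideal.mul_mem_left _ _ mE
  have mI : φ (X 8) ∈ I6 := by
    rw [hI]
    refine Ideal.mul_mem_left _ _ ?_
    refine Ideal.sub_mem _ (Ideal.add_mem _ ?_ ?_) ?_
    · exact Ideal.mul_mem_right _ _ mH
    · exact Ideal.mul_mem_left _ _ mC
    · exact Ideal.mul_mem_right _ _ mA
  have mG : φ (X 6) ∈ I6 := by
    rw [hG]
    refine neg_mem (Ideal.mul_mem_left _ _ ?_)
    refine Ideal.sub_mem _ (Ideal.add_mem _ (Ideal.add_mem _ (Ideal.sub_mem _
      (Ideal.add_mem _ ?_ ?_) ?_) ?_) ?_) ?_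
    · exact Ideal.mul_mem_right _ _ mA
    · exact Ideal.mul_mem_right _ _ mD
    · exact Ideal.mul_mem_right _ _ mC
    · exact Ideal.mul_mem_right _ _ mE
    · exact Ideal.mul_mem_right _ _ (Ideal.mul_mem_right _ _ mH)
    · exact Ideal.mul_mem_right _ _ (Ideal.mul_mem_left _ _ mH)
  apply le_antisymm
  · rw [Ideal.map_span, Ideal.span_le]
    rintro _ ⟨x, hx, rfl⟩
    simp only [S9, Set.mem_insert_iff, Set.mem_singleton_iff] at hx
    rcases hx with rfl | rfl | rfl | rfl | rfl | rfl | rfl | rfl | rfl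
    · exact mA
    · exact mB
    · exact mC
    · exact mD
    · exact mE
    · exact mF
    · exact mG
    · exact mH
    · exact mI
  · rw [Ideal.map_span, hI6]
    apply Ideal.span_mono
    apply Set.image_mono
    intro x hx
    rw [Finset.mem_coe, mem_S6] at hx
    simp only [S9, Set.mem_insert_iff, Set.mem_singleton_iff]
    rcases hx with rfl | rfl | rfl | rfl | rfl | rfl <;> simp

section loc

variable (t : k) (P : Ideal (MvPolynomial (Fin 9) k ⧸ Lie3Mod.idJ k))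

theorem P_le_ker (hP' : P = Ideal.map (Ideal.Quotient.mk (Lie3Mod.idJ k)) (Ideal.span (S9 k t))) :
    P ≤ RingHom.ker (f6 k t) := by
  rw [hP', Ideal.map_le_iff_le_comap, Ideal.span_le]
  intro x hx
  simp only [S9, Set.mem_insert_iff, Set.mem_singleton_iff] at hx
  rw [SetLike.mem_coe, Ideal.mem_comap, RingHom.mem_ker, f6_mk]
  rcases hx with rfl | rfl | rfl | rfl | rfl | rfl | rfl | rfl | rfl <;> simp [pt]

theorem hPle (hP' : P = Ideal.map (Ideal.Quotient.mk (Lie3Mod.idJ k)) (Ideal.span (S9 k t)))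
    (z : MvPolynomial (Fin 9) k) (hz : Ideal.Quotient.mk (Lie3Mod.idJ k) z ∈ P) :
    eval (pt k t) z = 0 := by
  have := P_le_ker k t P hP' hz
  rw [RingHom.mem_ker, f6_mk] at this
  exact C_injective (Fin 6) k (by simpa using this)

theorem hker6 (hP' : P = Ideal.map (Ideal.Quotient.mk (Lie3Mod.idJ k)) (Ideal.span (S9 k t))) :
    RingHom.ker (f6 k t) ≤ P := by
  intro y hy
  obtain ⟨z, rfl⟩ := Ideal.Quotient.mk_surjective y
  rw [RingHom.mem_ker, f6_mk] at hy
  have h0 : eval (pt k t) z = 0 := C_injective (Fin 6) k (by simpa using hy)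
  have hz := sub_C_eval_mem k (pt k t) z
  rw [h0, map_zero, sub_zero] at hz
  rw [hP']
  exact Ideal.mem_map_of_mem _ (range_le k t hz)

theorem height_P (hP' : P = Ideal.map (Ideal.Quotient.mk (Lie3Mod.idJ k)) (Ideal.span (S9 k t))) :
    (6 : ℕ∞) ≤ P.height :=
  (height_f6 k t).trans (Ideal.height_mono (hker6 k t P hP'))

end loc

theorem reg_general {R : Type u} [CommRing R] [IsNoetherianRing R] (P : Ideal R) [P.IsPrime]
    (h6 : (6 : ℕ∞) ≤ P.height) (S : Finset R) (hcard : S.card ≤ 6)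
    (hgen : ∀ (L : Type u) [CommRing L] (ψ : R →+* L), (∀ x ∈ P.primeCompl, IsUnit (ψ x)) →
      Ideal.map ψ P = Ideal.span (ψ '' ↑S)) :
    IsRegularLocalRing (Localization.AtPrime P) ∧ ringKrullDim (Localization.AtPrime P) = 6 := by
  haveI : IsNoetherianRing (Localization.AtPrime P) :=
    IsLocalization.isNoetherianRing P.primeCompl _ inferInstance
  have hdim : ringKrullDim (Localization.AtPrime P) = P.height :=
    IsLocalization.AtPrime.ringKrullDim_eq_height P (Localization.AtPrime P)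
  have hdim6 : (6 : WithBot ℕ∞) ≤ ringKrullDim (Localization.AtPrime P) := by
    rw [hdim]
    exact WithBot.coe_le_coe.mpr h6
  have hmax : Ideal.map (algebraMap R (Localization.AtPrime P)) P =
      IsLocalRing.maximalIdeal (Localization.AtPrime P) :=
    IsLocalization.AtPrime.map_eq_maximalIdeal P (Localization.AtPrime P)
  have hg := hgen (Localization.AtPrime P) (algebraMap R (Localization.AtPrime P))
    (fun x hx => IsLocalization.map_units (Localization.AtPrime P) (⟨x, hx⟩ : P.primeCompl))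
  have hsf : (IsLocalRing.maximalIdeal (Localization.AtPrime P)).spanFinrank ≤ 6 := by
    rw [← hmax, hg]
    refine (Submodule.spanFinrank_span_le_ncard_of_finite
      ((Finset.finite_toSet _).image _)).trans ?_
    refine (Set.ncard_image_le (Finset.finite_toSet _)).trans ?_
    rw [Set.ncard_coe_finset]
    exact hcard
  have hsf' : ((IsLocalRing.maximalIdeal (Localization.AtPrime P)).spanFinrank : WithBot ℕ∞) ≤ 6 := by
    exact_mod_cast hsf
  exact ⟨IsRegularLocalRing.of_spanFinrank_maximalIdeal_le _ (hsf'.trans hdim6),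
    le_antisymm ((ringKrullDim_le_spanFinrank_maximalIdeal _).trans hsf') hdim6⟩

theorem main (t : k)
    (P : Ideal (Lie3Mod.D k ⧸ Lie3Mod.idJ k)) [P.IsPrime]
    (hP : P = Ideal.map (Ideal.Quotient.mk (Lie3Mod.idJ k))
      (Ideal.span ({X 0, X 1 - 1, X 2, X 3, X 4, X 5 - C t, X 6, X 7, X 8} : Set (Lie3Mod.D k)))) :
    IsRegularLocalRing (Localization.AtPrime P) ∧ ringKrullDim (Localization.AtPrime P) = 6 := by
  classical
  have hP' : P = Ideal.map (Ideal.Quotient.mk (Lie3Mod.idJ k)) (Ideal.span (S9 k t)) := hP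
  refine reg_general P (height_P k t P hP')
    ((S6 k t).image (Ideal.Quotient.mk (Lie3Mod.idJ k)))
    (Finset.card_image_le.trans (card_S6 k t)) ?_
  intro L _ ψ hψ
  have hφJ : ∀ x ∈ Lie3Mod.idJ k, (ψ.comp (Ideal.Quotient.mk (Lie3Mod.idJ k))) x = 0 := by
    intro x hx
    rw [RingHom.comp_apply, Ideal.Quotient.eq_zero_iff_mem.mpr hx, map_zero]
  have hunit : ∀ x : MvPolynomial (Fin 9) k, eval (pt k t) x ≠ 0 →
      IsUnit ((ψ.comp (Ideal.Quotient.mk (Lie3Mod.idJ k))) x) :=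
    fun x hx => hψ _ (fun h => hx (hPle k t P hP' x h))
  have hg := gen6 k t (ψ.comp (Ideal.Quotient.mk (Lie3Mod.idJ k))) hφJ hunit
  rw [hP', Ideal.map_map, hg, Finset.coe_image, Set.image_image]
  rfl

end Groth.Agent.H2.Lie3
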