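import Mathlib.Algebra.Lie.Basic
import Mathlib.LinearAlgebra.BilinearMap
import Mathlib.LinearAlgebra.Basis.Defs
import Mathlib.Tactic

/-! Helper: a linear map between Lie algebras that respects brackets on a basis is a Lie hom. -/

namespace Groth.Agent.H2

theorem map_lie_of_basis {k L L' ι : Type*} [CommRing k] [LieRing L] [LieAlgebra k L]
    [LieRing L'] [LieAlgebra k L'] (b : Module.Basis ι k L) (φ : L →ₗ[k] L')
    (h : ∀ i j, φ ⁅b i, b j⁆ = ⁅φ (b i), φ (b j)⁆) (x y : L) : φ ⁅x, y⁆ = ⁅φ x, φ y⁆ := by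
  let B1 : L →ₗ[k] L →ₗ[k] L' :=
    LinearMap.mk₂ k (fun x y => φ ⁅x, y⁆)
      (fun m₁ m₂ n => by simp [add_lie]) (fun c m n => by simp [smul_lie])
      (fun m n₁ n₂ => by simp [lie_add]) (fun c m n => by simp [lie_smul])
  let B2 : L →ₗ[k] L →ₗ[k] L' :=
    LinearMap.mk₂ k (fun x y => ⁅φ x, φ y⁆)
      (fun m₁ m₂ n => by simp [add_lie]) (fun c m n => by simp [smul_lie])
      (fun m n₁ n₂ => by simp [lie_add]) (fun c m n => by simp [lie_smul])
  have hB : B1 = B2 := by
    apply b.ext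
    intro i
    apply b.ext
    intro j
    simp [B1, B2, h]
  have := congrArg (fun B => B x y) hB
  simpa [B1, B2] using this

end Groth.Agent.H2
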