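import Mathlib

set_option autoImplicit false
set_option linter.style.haveILetI false
set_option linter.unusedSimpArgs false
set_option linter.unusedVariables false
set_option linter.unnecessarySeqFocus false
set_option linter.unusedSectionVars false

universe u

open CategoryTheory CategoryTheory.Limits CategoryTheory.MonoidalCategory Opposite TensorProduct

namespace Groth.Agent.H2.LimTensor

/-- Mittag-Leffler lifting for towers of Artinian modules. -/
theorem ml_lift {R : Type*} [Ring R] {A B : ℕ → Type*}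
    [∀ n, AddCommGroup (A n)] [∀ n, Module R (A n)] [∀ n, AddCommGroup (B n)] [∀ n, Module R (B n)]
    (tA : ∀ m n : ℕ, n ≤ m → (A m →ₗ[R] A n)) (tB : ∀ m n : ℕ, n ≤ m → (B m →ₗ[R] B n))
    (p : ∀ n, A n →ₗ[R] B n)
    (hArt : ∀ n, IsArtinian R (A n))
    (tA_id : ∀ n (x : A n), tA n n le_rfl x = x)
    (tA_comp : ∀ (l m n : ℕ) (h1 : m ≤ l) (h2 : n ≤ m) (x : A l),
      tA m n h2 (tA l m h1 x) = tA l n (h2.trans h1) x)
    (hcomm : ∀ (m n : ℕ) (h : n ≤ m) (x : A m), p n (tA m n h x) = tB m n h (p m x))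
    (y : ∀ n, B n) (hy : ∀ (m n : ℕ) (h : n ≤ m), tB m n h (y m) = y n)
    (hfib : ∀ n, ∃ a, p n a = y n) :
    ∃ x : ∀ n, A n, (∀ (m n : ℕ) (h : n ≤ m), tA m n h (x m) = x n) ∧ ∀ n, p n (x n) = y n := by
  classical
  haveI := hArt
  have hker : ∀ (m n : ℕ) (h : n ≤ m) (z : A m), p m z = 0 → p n (tA m n h z) = 0 := by
    intro m n h z hz; rw [hcomm, hz, map_zero]
  have stab : ∀ n, ∃ m₀, ∃ h0 : n ≤ m₀, ∀ (m : ℕ) (h : m₀ ≤ m) (z : A m₀), p m₀ z = 0 →
      ∃ z' : A m, p m z' = 0 ∧ tA m n (h0.trans h) z' = tA m₀ n h0 z := by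
    intro n
    let f : ℕ →o (Submodule R (A n))ᵒᵈ :=
      { toFun := fun k => OrderDual.toDual
          ((LinearMap.ker (p (n + k))).map (tA (n + k) n (Nat.le_add_right n k)))
        monotone' := by
          intro k k' hkk'
          show (LinearMap.ker (p (n + k'))).map (tA (n + k') n (Nat.le_add_right n k')) ≤
            (LinearMap.ker (p (n + k))).map (tA (n + k) n (Nat.le_add_right n k))
          rintro _ ⟨z, hz, rfl⟩
          have hle : n + k ≤ n + k' := Nat.add_le_add_left hkk' n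
          refine ⟨tA (n + k') (n + k) hle z, ?_, tA_comp _ _ _ hle (Nat.le_add_right n k) z⟩
          exact hker _ _ hle z hz }
    obtain ⟨k₀, hk₀⟩ := IsArtinian.monotone_stabilizes f
    refine ⟨n + k₀, Nat.le_add_right n k₀, ?_⟩
    intro m h z hz
    obtain ⟨k, rfl⟩ := Nat.exists_eq_add_of_le ((Nat.le_add_right n k₀).trans h)
    have hk : k₀ ≤ k := by omega
    have h2 : (LinearMap.ker (p (n + k₀))).map (tA (n + k₀) n (Nat.le_add_right n k₀)) =
        (LinearMap.ker (p (n + k))).map (tA (n + k) n (Nat.le_add_right n k)) :=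
      congrArg OrderDual.ofDual (hk₀ k hk)
    have hmem : tA (n + k₀) n (Nat.le_add_right n k₀) z ∈
        (LinearMap.ker (p (n + k₀))).map (tA (n + k₀) n (Nat.le_add_right n k₀)) :=
      ⟨z, hz, rfl⟩
    rw [h2] at hmem
    obtain ⟨z', hz', e⟩ := hmem
    exact ⟨z', hz', e⟩
  choose m₀ hm₀ hstab using stab
  let Ev : ∀ n, Set (A n) := fun n =>
    {a | ∀ (m : ℕ) (h : n ≤ m), ∃ a' : A m, p m a' = y m ∧ tA m n h a' = a}
  have claim2 : ∀ n (a₀ : A (m₀ n)), p (m₀ n) a₀ = y (m₀ n) →
      tA (m₀ n) n (hm₀ n) a₀ ∈ Ev n := by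
    intro n a₀ ha₀ m h
    obtain ⟨m', h2, h1⟩ : ∃ m', m ≤ m' ∧ m₀ n ≤ m' :=
      ⟨max m (m₀ n), le_max_left _ _, le_max_right _ _⟩
    obtain ⟨c, hc⟩ := hfib m'
    have hc0 : p (m₀ n) (tA m' (m₀ n) h1 c) = y (m₀ n) := by rw [hcomm, hc, hy]
    obtain ⟨z', hz', ez'⟩ := hstab n m' h1 (a₀ - tA m' (m₀ n) h1 c)
      (by rw [map_sub, ha₀, hc0, sub_self])
    refine ⟨tA m' m h2 (c + z'), ?_, ?_⟩
    · rw [hcomm, map_add, hc, hz', add_zero, hy]
    · have e1 : tA m n h (tA m' m h2 (c + z')) = tA m' n (h.trans h2) (c + z') :=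
        tA_comp _ _ _ h2 h _
      have e2 : tA m' n (h.trans h2) c = tA (m₀ n) n (hm₀ n) (tA m' (m₀ n) h1 c) :=
        (tA_comp _ _ _ h1 (hm₀ n) c).symm
      have e3 : tA m' n (h.trans h2) z' = tA (m₀ n) n (hm₀ n) (a₀ - tA m' (m₀ n) h1 c) := ez'
      rw [e1, map_add, e2, e3, map_sub]; abel
  have claim3 : ∀ n, ∃ a, a ∈ Ev n := by
    intro n
    obtain ⟨a₀, ha₀⟩ := hfib (m₀ n)
    exact ⟨_, claim2 n a₀ ha₀⟩
  have claim4 : ∀ n (a : A n), a ∈ Ev n →
      ∃ b, b ∈ Ev (n + 1) ∧ tA (n + 1) n (Nat.le_succ n) b = a := by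
    intro n a ha
    obtain ⟨a', ha', ea'⟩ := ha (m₀ (n + 1)) ((Nat.le_succ n).trans (hm₀ (n + 1)))
    refine ⟨tA (m₀ (n + 1)) (n + 1) (hm₀ (n + 1)) a', claim2 (n + 1) a' ha', ?_⟩
    rw [tA_comp]; exact ea'
  let X : ∀ n, {a : A n // a ∈ Ev n} := fun n =>
    Nat.rec (motive := fun n => {a : A n // a ∈ Ev n})
      ⟨(claim3 0).choose, (claim3 0).choose_spec⟩
      (fun n prev => ⟨(claim4 n prev.1 prev.2).choose, (claim4 n prev.1 prev.2).choose_spec.1⟩) n
  have hX : ∀ n, tA (n + 1) n (Nat.le_succ n) (X (n + 1)).1 = (X n).1 := fun n =>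
    (claim4 n (X n).1 (X n).2).choose_spec.2
  have key : ∀ (m n : ℕ) (h : n ≤ m), tA m n h (X m).1 = (X n).1 := by
    intro m n h
    induction m, h using Nat.le_induction with
    | base => exact tA_id n _
    | succ m hnm ih =>
      have := tA_comp (m + 1) m n (Nat.le_succ m) hnm (X (m + 1)).1
      rw [← this, hX m]; exact ih
  refine ⟨fun n => (X n).1, key, ?_⟩
  intro n
  obtain ⟨a', ha', ea'⟩ := (X n).2 n le_rfl
  rw [tA_id] at ea'
  show p n (X n).1 = y n
  rw [← ea']; exact ha'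

section App

variable {R : Type u} [CommRing R]

lemma lr_comm {Q Q' F F' : Type*} [AddCommGroup Q] [Module R Q] [AddCommGroup Q'] [Module R Q']
    [AddCommGroup F] [Module R F] [AddCommGroup F'] [Module R F']
    (f : Q →ₗ[R] Q') (g : F →ₗ[R] F') (x : Q ⊗[R] F) :
    LinearMap.lTensor Q' g (LinearMap.rTensor F f x) =
      LinearMap.rTensor F' f (LinearMap.lTensor Q g x) := by
  induction x using TensorProduct.induction_on with
  | zero => simp
  | tmul q v => simp
  | add a b ha hb => simp only [map_add, ha, hb]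

lemma piScalarRight_nat {Q Q' : Type u} [AddCommGroup Q] [Module R Q] [AddCommGroup Q']
    [Module R Q'] (c : ℕ) (f : Q →ₗ[R] Q') (x : Q ⊗[R] (Fin c → R)) (i : Fin c) :
    TensorProduct.piScalarRight R R Q' (Fin c) (LinearMap.rTensor (Fin c → R) f x) i =
      f (TensorProduct.piScalarRight R R Q (Fin c) x i) := by
  induction x using TensorProduct.induction_on with
  | zero => simp
  | tmul q g => simp
  | add a b ha hb => simp only [map_add, Pi.add_apply, ha, hb]

variable (M : ℕᵒᵖ ⥤ ModuleCat.{u} R)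

lemma lim_ext (F : ℕᵒᵖ ⥤ ModuleCat.{u} R) (x y : ((limit F : ModuleCat.{u} R) : Type u))
    (h : ∀ n : ℕ, (limit.π F (op n)).hom x = (limit.π F (op n)).hom y) : x = y := by
  have key : (ModuleCat.ofHom (LinearMap.toSpanSingleton R ((limit F : ModuleCat.{u} R) : Type u) x) :
      ModuleCat.of R R ⟶ limit F) =
      ModuleCat.ofHom (LinearMap.toSpanSingleton R ((limit F : ModuleCat.{u} R) : Type u) y) := by
    apply limit.hom_ext
    intro j
    apply ModuleCat.hom_ext
    apply LinearMap.ext_ring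
    show (limit.π F j).hom ((1 : R) • x) = (limit.π F j).hom ((1 : R) • y)
    rw [one_smul, one_smul]; exact h j.unop
  have h2 := congrArg (fun g => g.hom (1 : R)) key
  have h3 : (1 : R) • x = (1 : R) • y := h2
  rwa [one_smul, one_smul] at h3

lemma lim_exists (F : ℕᵒᵖ ⥤ ModuleCat.{u} R) (x : ∀ n : ℕ, (F.obj (op n) : Type u))
    (hx : ∀ (m n : ℕ) (h : n ≤ m), (F.map (homOfLE h).op).hom (x m) = x n) :
    ∃ l : ((limit F : ModuleCat.{u} R) : Type u), ∀ n : ℕ, (limit.π F (op n)).hom l = x n := by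
  let c : Cone F :=
    { pt := ModuleCat.of R R
      π :=
        { app := fun j => ModuleCat.ofHom
            (LinearMap.toSpanSingleton R (F.obj j : Type u) (x j.unop))
          naturality := by
            intro i j f
            have hf : f = (homOfLE (leOfHom f.unop)).op :=
              Quiver.Hom.unop_inj (Subsingleton.elim _ _)
            have key : (F.map f).hom (x i.unop) = x j.unop := by
              rw [hf]; exact hx i.unop j.unop _
            apply ModuleCat.hom_ext
            apply LinearMap.ext_ring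
            show (1 : R) • x j.unop = (F.map f).hom ((1 : R) • x i.unop)
            rw [one_smul, one_smul, key] } }
  refine ⟨(limit.lift F c).hom (1 : R), fun n => ?_⟩
  have h1 : limit.lift F c ≫ limit.π F (op n) = c.π.app (op n) := limit.lift_π c (op n)
  have h2 := congrArg (fun g => g.hom (1 : R)) h1
  exact h2.trans (one_smul R (x n))

lemma t_id (P : Type u) [AddCommGroup P] [Module R P] (n : ℕ)
    (x : (M.obj (op n) : Type u) ⊗[R] P) :
    LinearMap.rTensor P (M.map (homOfLE (le_refl n)).op).hom x = x := by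
  have e : (homOfLE (le_refl n)).op = 𝟙 (op n) := rfl
  rw [e, M.map_id, ModuleCat.hom_id, LinearMap.rTensor_id_apply]

lemma t_comp (P : Type u) [AddCommGroup P] [Module R P] (l m n : ℕ) (h1 : m ≤ l) (h2 : n ≤ m)
    (x : (M.obj (op l) : Type u) ⊗[R] P) :
    LinearMap.rTensor P (M.map (homOfLE h2).op).hom
        (LinearMap.rTensor P (M.map (homOfLE h1).op).hom x) =
      LinearMap.rTensor P (M.map (homOfLE (h2.trans h1)).op).hom x := by
  have e : (homOfLE h1).op ≫ (homOfLE h2).op = (homOfLE (h2.trans h1)).op := rfl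
  rw [← e, M.map_comp, ModuleCat.hom_comp, LinearMap.rTensor_comp_apply]

lemma art (hM : ∀ n : ℕᵒᵖ, IsFiniteLength R (M.obj n)) (c n : ℕ) :
    IsArtinian R ((M.obj (op n) : Type u) ⊗[R] (Fin c → R)) := by
  haveI : IsArtinian R (M.obj (op n)) :=
    (isFiniteLength_iff_isNoetherian_isArtinian.mp (hM (op n))).2
  exact isArtinian_of_linearEquiv (TensorProduct.piScalarRight R R (M.obj (op n)) (Fin c)).symm

lemma K1_unique (c : ℕ) (u u' : ((limit M : ModuleCat.{u} R) : Type u) ⊗[R] (Fin c → R))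
    (h : ∀ n : ℕ, LinearMap.rTensor (Fin c → R) (limit.π M (op n)).hom u =
      LinearMap.rTensor (Fin c → R) (limit.π M (op n)).hom u') : u = u' := by
  apply (TensorProduct.piScalarRight R R ((limit M : ModuleCat.{u} R) : Type u) (Fin c)).injective
  funext i
  apply lim_ext M
  intro n
  rw [← piScalarRight_nat, ← piScalarRight_nat, h n]

lemma K1_exists (c : ℕ) (x : ∀ n : ℕ, (M.obj (op n) : Type u) ⊗[R] (Fin c → R))
    (hx : ∀ (m n : ℕ) (h : n ≤ m),
      LinearMap.rTensor (Fin c → R) (M.map (homOfLE h).op).hom (x m) = x n) :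
    ∃ u : ((limit M : ModuleCat.{u} R) : Type u) ⊗[R] (Fin c → R),
      ∀ n : ℕ, LinearMap.rTensor (Fin c → R) (limit.π M (op n)).hom u = x n := by
  have : ∀ k : Fin c, ∃ l : ((limit M : ModuleCat.{u} R) : Type u), ∀ n : ℕ, (limit.π M (op n)).hom l =
      TensorProduct.piScalarRight R R (M.obj (op n) : Type u) (Fin c) (x n) k := by
    intro k
    refine lim_exists M
      (fun n => TensorProduct.piScalarRight R R (M.obj (op n) : Type u) (Fin c) (x n) k) ?_
    intro m n h
    show (M.map (homOfLE h).op).hom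
        (TensorProduct.piScalarRight R R (M.obj (op m) : Type u) (Fin c) (x m) k) =
      TensorProduct.piScalarRight R R (M.obj (op n) : Type u) (Fin c) (x n) k
    rw [← hx m n h, piScalarRight_nat]
  choose l hl using this
  refine ⟨(TensorProduct.piScalarRight R R ((limit M : ModuleCat.{u} R) : Type u) (Fin c)).symm l, fun n => ?_⟩
  apply (TensorProduct.piScalarRight R R (M.obj (op n) : Type u) (Fin c)).injective
  funext k
  rw [piScalarRight_nat, LinearEquiv.apply_symm_apply, hl]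

variable (N : Type u) [AddCommGroup N] [Module R N]

lemma post_apply (n : ℕ) (z : ((limit M : ModuleCat.{u} R) : Type u) ⊗[R] N) :
    (limit.π (M ⋙ tensorRight (ModuleCat.of R N)) (op n)).hom
        ((limit.post M (tensorRight (ModuleCat.of R N))).hom z) =
      LinearMap.rTensor N (limit.π M (op n)).hom z :=
  congrArg (fun g => g.hom z) (limit.post_π M (tensorRight (ModuleCat.of R N)) (op n))

lemma w_apply (m n : ℕ) (h : n ≤ m) (t : ((limit (M ⋙ tensorRight (ModuleCat.of R N)) : ModuleCat.{u} R) : Type u)) :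
    LinearMap.rTensor N (M.map (homOfLE h).op).hom
        ((limit.π (M ⋙ tensorRight (ModuleCat.of R N)) (op m)).hom t) =
      (limit.π (M ⋙ tensorRight (ModuleCat.of R N)) (op n)).hom t :=
  congrArg (fun g => g.hom t) (limit.w (M ⋙ tensorRight (ModuleCat.of R N)) (homOfLE h).op)

theorem main (hM : ∀ n : ℕᵒᵖ, IsFiniteLength R (M.obj n)) [Module.FinitePresentation R N] :
    IsIso (limit.post M (tensorRight (ModuleCat.of R N))) := by
  classical
  obtain ⟨b, π, hπ⟩ := Module.Finite.exists_fin' R N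
  have hKfg : (LinearMap.ker π).FG := Module.FinitePresentation.fg_ker π hπ
  haveI : Module.Finite R (LinearMap.ker π) := Module.Finite.iff_fg.mpr hKfg
  obtain ⟨a, ψ₀, hψ₀⟩ := Module.Finite.exists_fin' R (LinearMap.ker π)
  obtain ⟨ψ, hψdef⟩ : ∃ ψ : (Fin a → R) →ₗ[R] (Fin b → R), ∀ w, ψ w = (ψ₀ w : Fin b → R) :=
    ⟨(LinearMap.ker π).subtype ∘ₗ ψ₀, fun w => rfl⟩
  have hex : Function.Exact ψ π := by
    intro v
    constructor
    · intro hv
      obtain ⟨w, hw⟩ := hψ₀ ⟨v, hv⟩
      exact ⟨w, by rw [hψdef, hw]⟩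
    · rintro ⟨w, rfl⟩
      rw [hψdef]
      exact (ψ₀ w).2
  have hsurj : Function.Surjective (limit.post M (tensorRight (ModuleCat.of R N))).hom := by
    intro t
    obtain ⟨y, hydef⟩ : ∃ y : ∀ n : ℕ, (M.obj (op n) : Type u) ⊗[R] N,
        ∀ n, y n = (limit.π (M ⋙ tensorRight (ModuleCat.of R N)) (op n)).hom t :=
      ⟨_, fun n => rfl⟩
    have hy : ∀ (m n : ℕ) (h : n ≤ m),
        LinearMap.rTensor N (M.map (homOfLE h).op).hom (y m) = y n := by
      intro m n h
      rw [hydef, hydef, w_apply]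
    obtain ⟨x, hx, hpx⟩ := ml_lift
      (A := fun n => (M.obj (op n) : Type u) ⊗[R] (Fin b → R))
      (B := fun n => (M.obj (op n) : Type u) ⊗[R] N)
      (fun m n h => LinearMap.rTensor (Fin b → R) (M.map (homOfLE h).op).hom)
      (fun m n h => LinearMap.rTensor N (M.map (homOfLE h).op).hom)
      (fun n => LinearMap.lTensor (M.obj (op n) : Type u) π) (art M hM b)
      (fun n x => t_id M (Fin b → R) n x) (fun l m n h1 h2 x => t_comp M (Fin b → R) l m n h1 h2 x)
      (fun m n h x => lr_comm _ _ _) y hy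
      (fun n => LinearMap.lTensor_surjective _ hπ (y n))
    have hpx' : ∀ n, LinearMap.lTensor (M.obj (op n) : Type u) π (x n) = y n := hpx
    obtain ⟨u, hu⟩ := K1_exists M b x hx
    refine ⟨LinearMap.lTensor ((limit M : ModuleCat.{u} R) : Type u) π u, ?_⟩
    apply lim_ext (M ⋙ tensorRight (ModuleCat.of R N))
    intro n
    rw [post_apply, ← lr_comm, hu, hpx', hydef]
  have hinj : Function.Injective (limit.post M (tensorRight (ModuleCat.of R N))).hom := by
    rw [injective_iff_map_eq_zero]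
    intro z hz
    obtain ⟨u, rfl⟩ := LinearMap.lTensor_surjective ((limit M : ModuleCat.{u} R) : Type u) hπ z
    obtain ⟨x, hxdef⟩ : ∃ x : ∀ n : ℕ, (M.obj (op n) : Type u) ⊗[R] (Fin b → R),
        ∀ n, x n = LinearMap.rTensor (Fin b → R) (limit.π M (op n)).hom u :=
      ⟨_, fun n => rfl⟩
    have hx : ∀ (m n : ℕ) (h : n ≤ m),
        LinearMap.rTensor (Fin b → R) (M.map (homOfLE h).op).hom (x m) = x n := by
      intro m n h
      rw [hxdef, hxdef, ← LinearMap.rTensor_comp_apply, ← ModuleCat.hom_comp, limit.w]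
    have hpx : ∀ n, LinearMap.lTensor (M.obj (op n) : Type u) π (x n) = 0 := by
      intro n
      rw [hxdef, lr_comm, ← post_apply, hz, map_zero]
    obtain ⟨w, hw, hpw⟩ := ml_lift
      (A := fun n => (M.obj (op n) : Type u) ⊗[R] (Fin a → R))
      (B := fun n => (M.obj (op n) : Type u) ⊗[R] (Fin b → R))
      (fun m n h => LinearMap.rTensor (Fin a → R) (M.map (homOfLE h).op).hom)
      (fun m n h => LinearMap.rTensor (Fin b → R) (M.map (homOfLE h).op).hom)
      (fun n => LinearMap.lTensor (M.obj (op n) : Type u) ψ) (art M hM a)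
      (fun n x => t_id M (Fin a → R) n x) (fun l m n h1 h2 x => t_comp M (Fin a → R) l m n h1 h2 x)
      (fun m n h x => lr_comm _ _ _) x hx
      (fun n => (lTensor_exact (M.obj (op n) : Type u) hex hπ (x n)).mp (hpx n))
    have hpw' : ∀ n, LinearMap.lTensor (M.obj (op n) : Type u) ψ (w n) = x n := hpw
    obtain ⟨v, hv⟩ := K1_exists M a w hw
    have huv : LinearMap.lTensor ((limit M : ModuleCat.{u} R) : Type u) ψ v = u := by
      apply K1_unique M b
      intro n
      rw [← lr_comm, hv, hpw', hxdef]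
    rw [← huv]
    exact (lTensor_exact ((limit M : ModuleCat.{u} R) : Type u) hex hπ _).mpr ⟨v, rfl⟩
  exact (ConcreteCategory.isIso_iff_bijective _).mpr ⟨hinj, hsurj⟩

end App

end Groth.Agent.H2.LimTensor
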