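import Mathlib

set_option autoImplicit false
set_option linter.style.haveILetI false

namespace Groth.Agent.H2.Mukai

theorem key (n r d χ p q a : ℤ) (hn : 0 < n) (hr : 2 ≤ r) (hd : 0 < d) (hχ : χ < 0) (hp : 0 ≤ p)
    (hhodge : 4 * n * p * q ≤ a ^ 2)
    (hs : -2 ≤ d * a - r * q - χ * p ∧ d * a - r * q - χ * p ≤ 2)
    (hexc : ¬ (d = 1 ∧ χ = -1 ∧ a = 1 ∧ 2 * p * q = 0))
    (hr2 : r = 2 → ¬ (p = 0 ∧ a = 0)) :
    (0 ≤ 2 * n * d * p - r * a ↔ 0 ≤ χ * a - 2 * n * d * q) := by
  obtain ⟨hs1, hs2⟩ := hs
  have hr0 : 0 < r := by linarith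
  constructor
  · intro hA
    by_contra hC
    push Not at hC
    rcases lt_trichotomy a 0 with ha | ha | ha
    · -- a < 0
      have hχa : 0 < χ * a := mul_pos_of_neg_of_neg hχ ha
      have hq : 0 < q := by
        by_contra hq
        push Not at hq
        nlinarith [mul_nonneg (by positivity : (0:ℤ) ≤ 2 * n * d) (neg_nonneg.2 hq)]
      have hk : d * a < 2 * χ * p := by
        by_contra h
        push Not at h
        nlinarith [mul_nonneg (sub_nonneg.2 h) (by positivity : (0:ℤ) ≤ 2 * n * q),
          mul_nonneg (neg_nonneg.2 hχ.le) (sub_nonneg.2 hhodge),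
          mul_pos (sub_pos.2 hC) (neg_pos.2 ha)]
      have hda : d * a ≤ -1 := by nlinarith [mul_pos hd (neg_pos.2 ha)]
      have hrq : 2 ≤ r * q := by
        nlinarith [mul_nonneg (sub_nonneg.2 hr) (by linarith : (0:ℤ) ≤ q - 1)]
      linarith
    · -- a = 0
      subst ha
      have hq : 0 < q := by
        by_contra hq
        push Not at hq
        nlinarith [mul_nonneg (by positivity : (0:ℤ) ≤ 2 * n * d) (neg_nonneg.2 hq)]
      have hp0 : p = 0 := by
        by_contra h
        have hpp : 0 < p := lt_of_le_of_ne hp (Ne.symm h)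
        have := mul_pos (mul_pos (mul_pos (by norm_num : (0:ℤ) < 4) hn) hpp) hq
        nlinarith
      subst hp0
      have hrq : r * q ≤ 2 := by linarith
      have hr2' : r = 2 := by
        by_contra h
        have h3 : 3 ≤ r := by omega
        nlinarith [mul_nonneg (sub_nonneg.2 h3) (by linarith : (0:ℤ) ≤ q - 1)]
      exact hr2 hr2' ⟨rfl, rfl⟩
    · -- a > 0
      have hra : 0 < r * a := mul_pos hr0 ha
      have hp_pos : 0 < p := by
        by_contra h
        push Not at h
        obtain rfl : p = 0 := le_antisymm h hp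
        linarith
      have hk : 2 * r * q ≤ d * a := by
        by_contra h
        push Not at h
        nlinarith [mul_pos (sub_pos.2 h) (by positivity : (0:ℤ) < 2 * n * p),
          mul_nonneg hr0.le (sub_nonneg.2 hhodge), mul_nonneg hA ha.le]
      have hda1 : 1 ≤ d * a := by nlinarith [mul_pos hd ha]
      have hcp1 : 1 ≤ -χ * p := by nlinarith [mul_pos (neg_pos.2 hχ) hp_pos]
      have hχ1 : χ = -1 := by
        by_contra h
        have h2 : 0 ≤ -χ - 2 := by omega
        nlinarith [mul_nonneg h2 (by linarith : (0:ℤ) ≤ p - 1)]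
      subst hχ1
      have hp1 : p = 1 := by
        by_contra h
        have h2 : 2 ≤ p := by omega
        linarith
      subst hp1
      have hda2 : d * a ≤ 2 := by linarith
      rcases (by omega : d * a = 1 ∨ d * a = 2) with h1 | h2
      · have hd1 : d = 1 := by
          by_contra h
          have h2 : 2 ≤ d := by omega
          nlinarith [mul_nonneg (sub_nonneg.2 h2) (by linarith : (0:ℤ) ≤ a - 1)]
        subst hd1
        have ha1 : a = 1 := by linarith
        subst ha1
        have hrq0 : r * q = 0 := by
          have h1 : r * q ≤ 0 := by linarith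
          have h2 : 0 ≤ r * q := by linarith
          exact le_antisymm h1 h2
        have hq0 : q = 0 := by
          rcases mul_eq_zero.mp hrq0 with h | h
          · omega
          · exact h
        exact hexc ⟨rfl, rfl, rfl, by rw [hq0]; ring⟩
      · have hrq1 : r * q = 1 := by
          have h1 : r * q ≤ 1 := by linarith
          have h2' : 1 ≤ r * q := by linarith
          exact le_antisymm h1 h2'
        rcases le_or_gt q 0 with hq | hq
        · nlinarith [mul_nonneg hr0.le (neg_nonneg.2 hq)]
        · nlinarith [mul_nonneg (sub_nonneg.2 hr) (by linarith : (0:ℤ) ≤ q - 1)]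
  · intro hC
    by_contra hA
    push Not at hA
    have ha : 0 < a := by
      by_contra ha
      push Not at ha
      nlinarith [mul_nonneg hr0.le (neg_nonneg.2 ha),
        (by positivity : (0:ℤ) ≤ 2 * n * d * p)]
    have hq : q < 0 := by
      by_contra hq
      push Not at hq
      nlinarith [mul_pos (neg_pos.2 hχ) ha, (by positivity : (0:ℤ) ≤ 2 * n * d * q)]
    have hda1 : 1 ≤ d * a := by nlinarith [mul_pos hd ha]
    have hrq : r * q ≤ -2 := by
      nlinarith [mul_nonneg (sub_nonneg.2 hr) (by linarith : (0:ℤ) ≤ -1 - q)]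
    have hχp : χ * p ≤ 0 := by nlinarith [mul_nonneg (neg_nonneg.2 hχ.le) hp]
    linarith

end Groth.Agent.H2.Mukai
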