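import Mathlib
import Groth.Prelude.Def_Models

set_option autoImplicit false

namespace Groth.Agent.H2
open Finset

/-- the basic identity for the quadratic form of a numerical type -/
theorem quad_identity {n : ℕ} (T : Models.NumericalType n) (x : Fin n → ℚ) :
    (∑ i, ∑ j, (T.a i j : ℚ) * x i * x j) =
      -(1/2) * ∑ i, ∑ j, (T.a i j : ℚ) * T.m i * T.m j * (x i / T.m i - x j / T.m j) ^ 2 := by
  have hm : ∀ i, (T.m i : ℚ) ≠ 0 := fun i => by
    have := T.m_pos i
    exact_mod_cast this.ne'
  have hrow : ∀ i, ∑ j, (T.a i j : ℚ) * T.m j = 0 := by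
    intro i
    have := congrFun T.mulVec_m i
    simp only [Matrix.mulVec, dotProduct, Pi.zero_apply] at this
    exact_mod_cast this
  have hcol : ∀ j, ∑ i, (T.a i j : ℚ) * T.m i = 0 := by
    intro j
    have := hrow j
    rw [← this]
    refine Finset.sum_congr rfl fun i _ => ?_
    rw [← T.symm.apply i j]
  have h1 : ∀ i j, (T.a i j : ℚ) * T.m i * T.m j * (x i / T.m i - x j / T.m j) ^ 2 =
      (x i ^ 2 / T.m i) * ((T.a i j : ℚ) * T.m j) - 2 * ((T.a i j : ℚ) * x i * x j) +
      (x j ^ 2 / T.m j) * ((T.a i j : ℚ) * T.m i) := by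
    intro i j
    have := hm i
    have := hm j
    field_simp
    ring
  simp_rw [h1, Finset.sum_add_distrib, Finset.sum_sub_distrib, ← Finset.mul_sum, hrow]
  rw [Finset.sum_comm (f := fun i j => x j ^ 2 / (T.m j : ℚ) * ((T.a i j : ℚ) * (T.m i : ℚ)))]
  simp_rw [← Finset.mul_sum, hcol]
  simp

/-- the quadratic form is negative on nonzero vectors with a zero coordinate -/
theorem quad_neg_rat {n : ℕ} (T : Models.NumericalType n) (x : Fin n → ℚ) (hx : x ≠ 0)
    (i1 : Fin n) (hx1 : x i1 = 0) :
    (∑ i, ∑ j, (T.a i j : ℚ) * x i * x j) < 0 := by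
  classical
  have hm : ∀ i, (0 : ℚ) < T.m i := fun i => by
    have := T.m_pos i
    exact_mod_cast this
  rw [quad_identity]
  have hnn : ∀ i j, 0 ≤ (T.a i j : ℚ) * T.m i * T.m j * (x i / T.m i - x j / T.m j) ^ 2 := by
    intro i j
    by_cases hij : i = j
    · subst hij; simp
    · have h0 : (0 : ℚ) ≤ T.a i j := by exact_mod_cast T.offDiag_nonneg i j hij
      have := hm i; have := hm j
      positivity
  have hsum : 0 ≤ ∑ i, ∑ j, (T.a i j : ℚ) * T.m i * T.m j * (x i / T.m i - x j / T.m j) ^ 2 :=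
    Finset.sum_nonneg fun i _ => Finset.sum_nonneg fun j _ => hnn i j
  by_contra hcon
  have hzero : ∑ i, ∑ j, (T.a i j : ℚ) * T.m i * T.m j * (x i / T.m i - x j / T.m j) ^ 2 = 0 := by
    nlinarith
  have hterm : ∀ i j, (T.a i j : ℚ) * T.m i * T.m j * (x i / T.m i - x j / T.m j) ^ 2 = 0 := by
    intro i j
    have h1 := (Finset.sum_eq_zero_iff_of_nonneg
      (fun i _ => Finset.sum_nonneg fun j _ => hnn i j)).mp hzero i (Finset.mem_univ i)
    exact (Finset.sum_eq_zero_iff_of_nonneg (fun j _ => hnn i j)).mp h1 j (Finset.mem_univ j)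
  have hadj : ∀ i j, T.a i j ≠ 0 → x i / T.m i = x j / T.m j := by
    intro i j hij
    have h := hterm i j
    have ha : (T.a i j : ℚ) ≠ 0 := by exact_mod_cast hij
    have h1 := (hm i).ne'
    have h2 := (hm j).ne'
    have h3 : (x i / T.m i - x j / T.m j) ^ 2 = 0 := by
      rcases mul_eq_zero.mp h with h | h
      · exact absurd h (by positivity)
      · exact h
    have := pow_eq_zero_iff (n := 2) (by norm_num) |>.mp h3
    linarith
  -- the set of indices where x/m vanishes
  let I : Finset (Fin n) := Finset.univ.filter fun i => x i = 0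
  have hI : I.Nonempty := ⟨i1, by simp [I, hx1]⟩
  have hIu : I = Finset.univ := by
    by_contra hne
    obtain ⟨i, hi, j, hj, hij⟩ := T.connected I hI hne
    have hxi : x i = 0 := by simpa [I] using hi
    have := hadj i j hij
    rw [hxi, zero_div] at this
    have hxj : x j = 0 := by
      have h2 := (hm j).ne'
      field_simp at this
      linarith
    exact hj (by simp [I, hxj])
  apply hx
  funext i
  have : i ∈ I := by rw [hIu]; exact Finset.mem_univ i
  simpa [I] using this

theorem sum_extend_eq {n k : ℕ} (v : Fin k ↪ Fin n) (g : Fin n → ℚ)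
    (hg : ∀ i, i ∉ Set.range v → g i = 0) : ∑ i, g i = ∑ p, g (v p) := by
  classical
  rw [← Finset.sum_map Finset.univ v g]
  symm
  apply Finset.sum_subset (Finset.subset_univ _)
  intro i _ hi
  apply hg
  rintro ⟨p, rfl⟩
  exact hi (Finset.mem_map_of_mem v (Finset.mem_univ p))

/-- negativity of the quadratic form on a proper subset of indices, given by an embedding -/
theorem quad_neg_emb {n k : ℕ} (T : Models.NumericalType n) (v : Fin k ↪ Fin n) (hk : k < n)
    (x : Fin k → ℤ) (hx : x ≠ 0) :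
    (∑ p, ∑ q, T.a (v p) (v q) * x p * x q) < 0 := by
  classical
  let X : Fin n → ℚ := Function.extend v (fun p => (x p : ℚ)) 0
  have hXv : ∀ p, X (v p) = x p := fun p => v.injective.extend_apply _ _ p
  have hX0 : ∀ i, i ∉ Set.range v → X i = 0 := by
    intro i hi
    have : ¬ ∃ p, v p = i := hi
    simp [X, Function.extend_apply' _ _ _ this]
  -- some index outside the range
  obtain ⟨i1, hi1⟩ : ∃ i1, i1 ∉ Set.range v := by
    by_contra hcon
    push Not at hcon
    have hsurj : Function.Surjective v := hcon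
    have := Fintype.card_le_of_surjective v hsurj
    simp at this
    omega
  have hXne : X ≠ 0 := by
    intro h
    apply hx
    funext p
    have := congrFun h (v p)
    rw [hXv, Pi.zero_apply] at this
    rw [Pi.zero_apply]
    exact_mod_cast this
  have hneg := quad_neg_rat T X hXne i1 (hX0 i1 hi1)
  have heq : (∑ i, ∑ j, (T.a i j : ℚ) * X i * X j) =
      ((∑ p, ∑ q, T.a (v p) (v q) * x p * x q : ℤ) : ℚ) := by
    rw [sum_extend_eq v]
    · push_cast
      refine Finset.sum_congr rfl fun p _ => ?_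
      rw [sum_extend_eq v]
      · refine Finset.sum_congr rfl fun q _ => ?_
        rw [hXv, hXv]
      · intro j hj
        rw [hX0 j hj, mul_zero]
    · intro i hi
      apply Finset.sum_eq_zero
      intro j _
      rw [hX0 i hi, mul_zero, zero_mul]
  rw [heq] at hneg
  exact_mod_cast hneg

/-- row inequality: partial sums of a row against `m` are bounded by the diagonal term -/
theorem row_le {n : ℕ} (T : Models.NumericalType n) (i : Fin n) (s : Finset (Fin n))
    (hs : i ∉ s) : ∑ j ∈ s, T.a i j * T.m j ≤ -(T.a i i * T.m i) := by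
  classical
  have hrow : ∑ l, T.a i l * T.m l = 0 := by
    have := congrFun T.mulVec_m i
    simpa [Matrix.mulVec, dotProduct] using this
  rw [← Finset.add_sum_erase _ _ (Finset.mem_univ i)] at hrow
  have hsub : s ⊆ Finset.univ.erase i := by
    intro j hj
    refine Finset.mem_erase.mpr ⟨?_, Finset.mem_univ j⟩
    rintro rfl
    exact hs hj
  have hle : ∑ j ∈ s, T.a i j * T.m j ≤ ∑ j ∈ Finset.univ.erase i, T.a i j * T.m j := by
    apply Finset.sum_le_sum_of_subset_of_nonneg hsub
    intro j hj _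
    exact mul_nonneg (T.offDiag_nonneg i j (Finset.ne_of_mem_erase hj).symm) (T.m_pos j).le
  linarith

/-- diagonal entries are negative multiples of `w i` when `n > 1` -/
theorem diag_neg {n : ℕ} (T : Models.NumericalType n) (hn : 1 < n) (i : Fin n) :
    ∃ k : ℤ, 1 ≤ k ∧ T.a i i = -(k * T.w i) := by
  classical
  have hne : ({i} : Finset (Fin n)) ≠ Finset.univ := by
    intro h
    have := congrArg Finset.card h
    simp at this
    omega
  obtain ⟨i', hi', j, hj, hij⟩ := T.connected {i} ⟨i, Finset.mem_singleton_self i⟩ hne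
  rw [Finset.mem_singleton] at hi'
  subst hi'
  have hji : j ≠ i' := by
    intro h; apply hj; rw [h]; exact Finset.mem_singleton_self _
  have hrow : ∑ l, T.a i' l * T.m l = 0 := by
    have := congrFun T.mulVec_m i'
    simpa [Matrix.mulVec, dotProduct] using this
  rw [← Finset.add_sum_erase _ _ (Finset.mem_univ i')] at hrow
  have hpos : 0 < ∑ l ∈ Finset.univ.erase i', T.a i' l * T.m l := by
    apply Finset.sum_pos'
    · intro l hl
      exact mul_nonneg (T.offDiag_nonneg i' l (Finset.ne_of_mem_erase hl).symm) (T.m_pos l).le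
    · refine ⟨j, Finset.mem_erase.mpr ⟨hji, Finset.mem_univ j⟩, ?_⟩
      have h0 : 0 ≤ T.a i' j := T.offDiag_nonneg i' j hji.symm
      exact mul_pos (lt_of_le_of_ne h0 (Ne.symm hij)) (T.m_pos j)
  have hneg : T.a i' i' * T.m i' < 0 := by linarith
  have hneg' : T.a i' i' < 0 := by
    by_contra hc
    push Not at hc
    have := mul_nonneg hc (T.m_pos i').le
    linarith
  obtain ⟨c, hc⟩ := T.w_dvd i' i'
  refine ⟨-c, ?_, ?_⟩
  · have hw := T.w_pos i'
    by_contra hlt
    push Not at hlt
    have hc0 : 0 ≤ c := by omega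
    have := mul_nonneg hw.le hc0
    rw [← hc] at this
    linarith
  · rw [hc]; ring

theorem pos_of_mul (a b : ℤ) (ha : 0 < a) (hab : 0 < a * b) : 1 ≤ b := by
  by_contra hb
  push Not at hb
  have : b ≤ 0 := by omega
  nlinarith

theorem one_of_mul (a b : ℤ) (ha : 1 ≤ a) (hb : 1 ≤ b) (hab : a * b ≤ 1) : a = 1 ∧ b = 1 := by
  have : a + b ≤ 2 := by nlinarith
  constructor <;> omega

theorem zero_of_mul (w c : ℤ) (hw : 0 < w) (h1 : 0 ≤ w * c) (h2 : w * c < w) : w * c = 0 := by
  have hc0 : 0 ≤ c := by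
    by_contra hc
    push Not at hc
    nlinarith
  have hc1 : c < 1 := by
    by_contra hc
    push Not at hc
    nlinarith
  have : c = 0 := by omega
  rw [this, mul_zero]

/-- an off-diagonal entry which is a nonnegative multiple of `w` and smaller than `w` vanishes -/
theorem entry_zero {n : ℕ} (T : Models.NumericalType n) (i j : Fin n) (hij : i ≠ j) (w : ℤ)
    (hw : T.w i = w) (hlt : T.a i j < w) : T.a i j = 0 := by
  obtain ⟨c, hc⟩ := T.w_dvd i j
  have h0 := T.offDiag_nonneg i j hij
  have hwpos := T.w_pos i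
  rw [hw] at hc hwpos
  rw [hc]
  exact zero_of_mul w c hwpos (hc ▸ h0) (hc ▸ hlt)

/-- an edge between two indices: the two quotients -/
theorem edge_pq {n : ℕ} (T : Models.NumericalType n) (i j : Fin n) (hij : i ≠ j)
    (h : T.a i j ≠ 0) : ∃ p q : ℤ, 1 ≤ p ∧ 1 ≤ q ∧ T.a i j = T.w i * p ∧ T.a i j = T.w j * q := by
  obtain ⟨p, hp⟩ := T.w_dvd i j
  obtain ⟨q, hq⟩ := T.w_dvd j i
  rw [T.symm.apply i j] at hq
  have hpos : 0 < T.a i j := lt_of_le_of_ne (T.offDiag_nonneg i j hij) (Ne.symm h)
  exact ⟨p, q, pos_of_mul _ _ (T.w_pos i) (hp ▸ hpos), pos_of_mul _ _ (T.w_pos j) (hq ▸ hpos), hp, hq⟩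

theorem mult1 {n : ℕ} (T : Models.NumericalType n) (w : ℤ) (i j : Fin n) (hw : 0 < w)
    (hd : T.a i i = -2 * w) (hij : i ≠ j) (hj : T.a i j = w) : T.m j ≤ 2 * T.m i := by
  classical
  have r := row_le T i {j} (by simp only [Finset.mem_singleton]; exact hij)
  rw [Finset.sum_singleton, hd, hj] at r
  have : w * T.m j ≤ w * (2 * T.m i) := by linarith
  exact le_of_mul_le_mul_left this hw

theorem mult2 {n : ℕ} (T : Models.NumericalType n) (w : ℤ) (i j k : Fin n) (hw : 0 < w)
    (hd : T.a i i = -2 * w) (hij : i ≠ j) (hik : i ≠ k) (hjk : j ≠ k)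
    (hj : T.a i j = w) (hk : T.a i k = w) : T.m j + T.m k ≤ 2 * T.m i := by
  classical
  have r := row_le T i {j, k} (by
    simp only [Finset.mem_insert, Finset.mem_singleton, not_or]; exact ⟨hij, hik⟩)
  rw [Finset.sum_insert (by simp only [Finset.mem_singleton]; exact hjk), Finset.sum_singleton,
    hd, hj, hk] at r
  have : w * (T.m j + T.m k) ≤ w * (2 * T.m i) := by linarith
  exact le_of_mul_le_mul_left this hw

theorem mult3 {n : ℕ} (T : Models.NumericalType n) (w : ℤ) (i j k l : Fin n) (hw : 0 < w)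
    (hd : T.a i i = -2 * w) (hij : i ≠ j) (hik : i ≠ k) (hil : i ≠ l) (hjk : j ≠ k) (hjl : j ≠ l)
    (hkl : k ≠ l) (hj : T.a i j = w) (hk : T.a i k = w) (hl : T.a i l = w) :
    T.m j + T.m k + T.m l ≤ 2 * T.m i := by
  classical
  have r := row_le T i {j, k, l} (by
    simp only [Finset.mem_insert, Finset.mem_singleton, not_or]; exact ⟨hij, hik, hil⟩)
  rw [Finset.sum_insert (by
      simp only [Finset.mem_insert, Finset.mem_singleton, not_or]; exact ⟨hjk, hjl⟩),
    Finset.sum_insert (by simp only [Finset.mem_singleton]; exact hkl), Finset.sum_singleton,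
    hd, hj, hk, hl] at r
  have : w * (T.m j + T.m k + T.m l) ≤ w * (2 * T.m i) := by linarith
  exact le_of_mul_le_mul_left this hw

end Groth.Agent.H2
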