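import Groth.Agent.H2.NumType

set_option autoImplicit false

namespace Groth.Agent.H2

theorem one_le_mul_int (p q : ℤ) (hp : 1 ≤ p) (hq : 1 ≤ q) : 1 ≤ p * q := by nlinarith

theorem nonneg_w_mul (w p q : ℤ) (hw : 0 < w) (hp : 1 ≤ p) (hq : 1 ≤ q) :
    0 ≤ w * (p * q - 1) := by
  have := one_le_mul_int p q hp hq
  have : 0 ≤ p * q - 1 := by linarith
  positivity

theorem mul_nonneg_int (a b : ℤ) (ha : 0 ≤ a) (hb : 1 ≤ b) : 0 ≤ a * b := by
  have : 0 ≤ b := by linarith
  positivity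

theorem lt_two_of (w p q S : ℤ) (hw : 0 < w) (hS : 0 ≤ S) (h : w * (p * q - 2) + S < 0) :
    p * q < 2 := by
  by_contra hcon
  push Not at hcon
  have : 0 ≤ w * (p * q - 2) := by
    have : 0 ≤ p * q - 2 := by linarith
    positivity
  linarith

end Groth.Agent.H2
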