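import Groth.Agent.H2.NumType2

set_option autoImplicit false

namespace Groth.Agent.H2
open Finset

/-- Exclusion of "affine" configurations: a proper subset of indices cannot carry a positive
vector `δ` with `a_S δ ≥ 0` componentwise. -/
theorem affine_excl {n k : ℕ} (T : Models.NumericalType n) (v : Fin k ↪ Fin n) (hk : k < n)
    (hk0 : 0 < k) (δ : Fin k → ℤ) (hδ : ∀ j, 0 < δ j)
    (hrow : ∀ i, 0 ≤ ∑ j, T.a (v i) (v j) * δ j) : False := by
  classical
  -- the image of v
  let S : Finset (Fin n) := Finset.univ.map v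
  have hSne : S.Nonempty := ⟨v ⟨0, hk0⟩, Finset.mem_map_of_mem v (Finset.mem_univ _)⟩
  have hSu : S ≠ Finset.univ := by
    intro h
    have := congrArg Finset.card h
    simp [S] at this
    omega
  obtain ⟨i0, hi0, j0, hj0, hij0⟩ := T.connected S hSne hSu
  obtain ⟨p0, -, rfl⟩ := Finset.mem_map.mp hi0
  -- for each p : the restricted row sum against m is ≤ 0, and < 0 for p0
  have hrowm : ∀ p, ∑ q, T.a (v p) (v q) * T.m (v q) = -∑ j ∈ Sᶜ, T.a (v p) j * T.m j := by
    intro p
    have h0 : ∑ l, T.a (v p) l * T.m l = 0 := by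
      have := congrFun T.mulVec_m (v p)
      simpa [Matrix.mulVec, dotProduct] using this
    have h1 : ∑ l ∈ S, T.a (v p) l * T.m l = ∑ q, T.a (v p) (v q) * T.m (v q) := by
      simp only [S]
      rw [Finset.sum_map]
    have h2 := Finset.sum_add_sum_compl S (fun l => T.a (v p) l * T.m l)
    linarith
  have hout_nonneg : ∀ p, 0 ≤ ∑ j ∈ Sᶜ, T.a (v p) j * T.m j := by
    intro p
    apply Finset.sum_nonneg
    intro j hj
    have hj' : j ∉ S := Finset.mem_compl.mp hj
    have hne : v p ≠ j := by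
      rintro rfl
      exact hj' (Finset.mem_map_of_mem v (Finset.mem_univ _))
    exact mul_nonneg (T.offDiag_nonneg _ _ hne) (T.m_pos j).le
  have hout_pos : 0 < ∑ j ∈ Sᶜ, T.a (v p0) j * T.m j := by
    apply Finset.sum_pos'
    · intro j hj
      have hj' : j ∉ S := Finset.mem_compl.mp hj
      have hne : v p0 ≠ j := by
        rintro rfl
        exact hj' (Finset.mem_map_of_mem v (Finset.mem_univ _))
      exact mul_nonneg (T.offDiag_nonneg _ _ hne) (T.m_pos j).le
    · refine ⟨j0, Finset.mem_compl.mpr hj0, ?_⟩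
      have hne : v p0 ≠ j0 := by
        rintro rfl
        exact hj0 hi0
      exact mul_pos (lt_of_le_of_ne (T.offDiag_nonneg _ _ hne) (Ne.symm hij0)) (T.m_pos j0)
  -- double sum
  have h1 : 0 ≤ ∑ i, T.m (v i) * ∑ j, T.a (v i) (v j) * δ j :=
    Finset.sum_nonneg fun i _ => mul_nonneg (T.m_pos _).le (hrow i)
  have h2 : ∑ i, T.m (v i) * ∑ j, T.a (v i) (v j) * δ j =
      ∑ j, δ j * ∑ i, T.a (v j) (v i) * T.m (v i) := by
    simp_rw [Finset.mul_sum]
    rw [Finset.sum_comm]
    refine Finset.sum_congr rfl fun j _ => Finset.sum_congr rfl fun i _ => ?_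
    rw [← T.symm.apply (v i) (v j)]
    ring
  have h3 : ∑ j, δ j * ∑ i, T.a (v j) (v i) * T.m (v i) < 0 := by
    apply Finset.sum_neg'
    · intro j _
      rw [hrowm j]
      have := hout_nonneg j
      have := hδ j
      nlinarith
    · refine ⟨p0, Finset.mem_univ _, ?_⟩
      rw [hrowm p0]
      have := hδ p0
      nlinarith
  linarith

/-- lower bound of a row sum against `δ ≥ 0` in terms of a set of neighbours -/
theorem row_nonneg {n k : ℕ} (T : Models.NumericalType n) (v : Fin k ↪ Fin n)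
    (δ : Fin k → ℤ) (hδ : ∀ j, 0 ≤ δ j) (i : Fin k) (hi : T.IsMinusTwo (v i))
    (N : Finset (Fin k)) (hiN : i ∉ N) (hN : ∀ j ∈ N, T.a (v i) (v j) ≠ 0)
    (hsum : 2 * δ i ≤ ∑ j ∈ N, δ j) : 0 ≤ ∑ j, T.a (v i) (v j) * δ j := by
  classical
  have hw := T.w_pos (v i)
  rw [← Finset.add_sum_erase _ _ (Finset.mem_univ i), hi.2]
  have hsub : N ⊆ Finset.univ.erase i := by
    intro j hj
    refine Finset.mem_erase.mpr ⟨?_, Finset.mem_univ j⟩
    rintro rfl
    exact hiN hj
  have h1 : ∑ j ∈ N, T.a (v i) (v j) * δ j ≤ ∑ j ∈ Finset.univ.erase i, T.a (v i) (v j) * δ j := by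
    apply Finset.sum_le_sum_of_subset_of_nonneg hsub
    intro j hj _
    have hne : v i ≠ v j := fun h => (Finset.ne_of_mem_erase hj) (v.injective h).symm
    exact mul_nonneg (T.offDiag_nonneg _ _ hne) (hδ j)
  have h2 : ∑ j ∈ N, T.w (v i) * δ j ≤ ∑ j ∈ N, T.a (v i) (v j) * δ j := by
    apply Finset.sum_le_sum
    intro j hj
    have hne : v i ≠ v j := by
      intro h
      have : i = j := v.injective h
      exact hiN (this ▸ hj)
    obtain ⟨p, q, hp1, -, hp, -⟩ := edge_pq T (v i) (v j) hne (hN j hj)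
    have : T.w (v i) ≤ T.a (v i) (v j) := by
      rw [hp]
      nlinarith
    exact mul_le_mul_of_nonneg_right this (hδ j)
  rw [← Finset.mul_sum] at h2
  nlinarith

end Groth.Agent.H2
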