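import Mathlib

/-!
# Cancelling an injective ring map from an open immersion of spectra

If `B' → C → B` are ring maps with `C → B` injective and `Spec B → Spec B'` an open immersion,
then `Spec B → Spec C` is an open immersion: `B' → B` is a flat epimorphism, so
`B ⊗[B'] C → B` is an isomorphism, and `Spec (B ⊗[B'] C) → Spec C` is a base change of
`Spec B → Spec B'`.
-/

set_option autoImplicit false
set_option linter.style.haveILetI false
set_option linter.unusedSimpArgs false
set_option linter.unusedVariables false
set_option linter.unnecessarySeqFocus false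
set_option linter.unusedSectionVars false

open AlgebraicGeometry CategoryTheory TensorProduct

universe u

namespace Groth.Agent.H2.OpenImmFactor

theorem isOpenImmersion_of_comp_injective {B' C B : Type u} [CommRing B'] [CommRing C] [CommRing B]
    (φ : B' →+* C) (ψ : C →+* B) (hψ : Function.Injective ψ)
    (h : IsOpenImmersion (Spec.map (CommRingCat.ofHom (ψ.comp φ)))) :
    IsOpenImmersion (Spec.map (CommRingCat.ofHom ψ)) := by
  letI : Algebra B' C := φ.toAlgebra
  letI : Algebra C B := ψ.toAlgebra
  letI : Algebra B' B := (ψ.comp φ).toAlgebra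
  haveI : IsScalarTower B' C B := IsScalarTower.of_algebraMap_eq (fun _ => rfl)
  have h0 : IsOpenImmersion (Spec.map (CommRingCat.ofHom (algebraMap B' B))) := h
  haveI := h0
  have hfl : Flat (Spec.map (CommRingCat.ofHom (algebraMap B' B))) := inferInstance
  have hfl2 : (algebraMap B' B).Flat := Flat.SpecMap_iff.mp hfl
  haveI : Module.Flat B' B := RingHom.flat_algebraMap_iff.mp hfl2
  haveI : Mono (Spec.map (CommRingCat.ofHom (algebraMap B' B))) := inferInstance
  haveI : Epi (CommRingCat.ofHom (algebraMap B' B)) := ⟨fun g k hgk => by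
    apply Spec.map_injective
    rw [← cancel_mono (Spec.map (CommRingCat.ofHom (algebraMap B' B))), ← Spec.map_comp,
      ← Spec.map_comp, hgk]⟩
  haveI : Algebra.IsEpi B' B := CommRingCat.epi_iff_epi.mp inferInstance
  let ψa : C →ₐ[B'] B := IsScalarTower.toAlgHom B' C B
  let m : B ⊗[B'] C →ₐ[B'] B := Algebra.TensorProduct.productMap (AlgHom.id B' B) ψa
  have hm_tmul : ∀ (b : B) (c : C), m (b ⊗ₜ[B'] c) = b * ψ c := fun b c => by
    rw [show m = Algebra.TensorProduct.productMap (AlgHom.id B' B) ψa from rfl,
      Algebra.TensorProduct.productMap_apply_tmul]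
    rfl
  have hinj : Function.Injective m := by
    have h1 : Function.Injective (ψa.toLinearMap.lTensor B) :=
      Module.Flat.lTensor_preserves_injective_linearMap ψa.toLinearMap (fun a b hab => hψ hab)
    have h2 : Function.Injective (TensorProduct.lift (LinearMap.mul B' B)) :=
      Algebra.IsEpi.injective_lift_mul
    have h3 : (m.toLinearMap : B ⊗[B'] C →ₗ[B'] B) =
        (TensorProduct.lift (LinearMap.mul B' B)) ∘ₗ (ψa.toLinearMap.lTensor B) := by
      apply TensorProduct.ext'
      intro b c
      show m (b ⊗ₜ[B'] c) = _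
      rw [hm_tmul]
      rfl
    have h4 : (m : B ⊗[B'] C → B) =
        (TensorProduct.lift (LinearMap.mul B' B)) ∘ (ψa.toLinearMap.lTensor B) := by
      funext x
      exact LinearMap.congr_fun h3 x
    rw [h4]
    exact h2.comp h1
  have hsurj : Function.Surjective m := fun b => ⟨b ⊗ₜ[B'] 1, by rw [hm_tmul, map_one, mul_one]⟩
  let e : (B ⊗[B'] C) ≃+* B := RingEquiv.ofBijective (m : B ⊗[B'] C →+* B) ⟨hinj, hsurj⟩
  have hpo := CommRingCat.isPushout_tensorProduct B' B C
  have hpb := isPullback_SpecMap_of_isPushout _ _ _ _ hpo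
  have hoi := MorphismProperty.of_isPullback (P := @IsOpenImmersion) hpb h0
  haveI := hoi
  have hcomp : CommRingCat.ofHom ψ =
      CommRingCat.ofHom (S := B ⊗[B'] C)
        (Algebra.TensorProduct.includeRight (R := B') (A := B) (B := C)).toRingHom ≫
        e.toCommRingCatIso.hom := by
    apply CommRingCat.hom_ext
    apply RingHom.ext
    intro c
    show ψ c = m ((1 : B) ⊗ₜ[B'] c)
    rw [hm_tmul, one_mul]
  rw [hcomp, Spec.map_comp]
  infer_instance

end Groth.Agent.H2.OpenImmFactor
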