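import Mathlib

set_option autoImplicit false
set_option linter.style.haveILetI false

open Topology Filter Uniformity

namespace Groth.Agent.H2.OpenMapDich

variable {N M : Type*} [AddCommGroup N] [AddCommGroup M] [UniformSpace N] [IsUniformAddGroup N]
  [TopologicalSpace M] [IsTopologicalAddGroup M] [T2Space M] [CompleteSpace N]
  [NonarchimedeanAddGroup N] [FirstCountableTopology N]

/-- closure of the image of an open subgroup, as a subgroup -/
noncomputable def Hs (u : N →+ M) (V : OpenAddSubgroup N) : AddSubgroup M :=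
  ((V : AddSubgroup N).map u).topologicalClosure

theorem coe_Hs (u : N →+ M) (V : OpenAddSubgroup N) :
    (Hs u V : Set M) = closure (u '' (V : Set N)) := by
  simp [Hs, AddSubgroup.topologicalClosure_coe, AddSubgroup.coe_map]

theorem Hs_mono (u : N →+ M) {V W : OpenAddSubgroup N} (h : ∀ z, z ∈ V → z ∈ W) :
    ∀ m, m ∈ Hs u V → m ∈ Hs u W := by
  intro m hm
  have h1 : m ∈ (Hs u V : Set M) := hm
  rw [coe_Hs] at h1
  have h2 : m ∈ (Hs u W : Set M) := by
    rw [coe_Hs]; exact closure_mono (Set.image_mono (fun z hz => h z hz)) h1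
  exact h2

theorem Hs_isOpen (u : N →+ M) (V : OpenAddSubgroup N)
    (hne : (interior (closure (u '' (V : Set N)))).Nonempty) : IsOpen (Hs u V : Set M) := by
  obtain ⟨x, hx⟩ := hne
  apply AddSubgroup.isOpen_of_mem_nhds (Hs u V) (g := x)
  rw [coe_Hs]; exact mem_interior_iff_mem_nhds.mp hx

theorem closure_image_subset (u : N →+ M) (hu : Continuous u)
    (hne : ∀ V : OpenAddSubgroup N, (interior (closure (u '' (V : Set N)))).Nonempty)
    (V : OpenAddSubgroup N) : closure (u '' (V : Set N)) ⊆ u '' (V : Set N) := by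
  intro y hy
  obtain ⟨x, hx⟩ := (𝓝 (0 : N)).exists_antitone_basis
  have hW : ∀ n, ∃ W : OpenAddSubgroup N, (W : Set N) ⊆ x n := fun n =>
    NonarchimedeanAddGroup.is_nonarchimedean (x n) (hx.toHasBasis.mem_of_mem trivial)
  choose W hWx using hW
  obtain ⟨V', hV'0, hV'succ⟩ : ∃ V' : ℕ → OpenAddSubgroup N, V' 0 = V ∧
      ∀ n, V' (n+1) = V' n ⊓ W n :=
    ⟨fun n => Nat.rec V (fun k Vk => Vk ⊓ W k) n, rfl, fun n => rfl⟩
  have hV'anti : ∀ n z, z ∈ V' (n+1) → z ∈ V' n := by
    intro n z hz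
    have h2 : z ∈ V' n ⊓ W n := by rw [← hV'succ]; exact hz
    rw [OpenAddSubgroup.mem_inf] at h2
    exact h2.1
  have hV'W : ∀ n z, z ∈ V' (n+1) → z ∈ x n := by
    intro n z hz
    have h2 : z ∈ V' n ⊓ W n := by rw [← hV'succ]; exact hz
    rw [OpenAddSubgroup.mem_inf] at h2
    exact hWx n h2.2
  have hV'le : ∀ m n, n ≤ m → ∀ z, z ∈ V' m → z ∈ V' n := by
    intro m n hnm
    induction hnm with
    | refl => exact fun z hz => hz
    | step h ih => exact fun z hz => ih z (hV'anti _ z hz)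
  have hopen : ∀ n, IsOpen (Hs u (V' n) : Set M) := fun n => Hs_isOpen u _ (hne _)
  have step : ∀ n (z : N), y - u z ∈ Hs u (V' n) →
      ∃ t, t ∈ V' n ∧ y - u (z + t) ∈ Hs u (V' (n+1)) := by
    intro n z hz
    have hz' : y - u z ∈ closure (u '' (V' n : Set N)) := by rw [← coe_Hs]; exact hz
    have hnhds : (fun m : M => y - u z - m) ⁻¹' (Hs u (V' (n+1)) : Set M) ∈ 𝓝 (y - u z) := by
      have hcont : Continuous fun m : M => y - u z - m := continuous_const.sub continuous_id
      apply (hcont.isOpen_preimage _ (hopen (n+1))).mem_nhds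
      show y - u z - (y - u z) ∈ Hs u (V' (n+1))
      rw [sub_self]; exact (Hs u (V' (n+1))).zero_mem
    obtain ⟨m, hm1, t, ht, rfl⟩ := mem_closure_iff_nhds.mp hz' _ hnhds
    refine ⟨t, ht, ?_⟩
    have : y - u (z + t) = y - u z - u t := by rw [map_add]; abel
    rw [this]; exact hm1
  have hy0 : y - u 0 ∈ Hs u (V' 0) := by
    rw [map_zero, sub_zero, hV'0]
    show y ∈ (Hs u V : Set M)
    rw [coe_Hs]; exact hy
  obtain ⟨s, hs0, hsstep, hsH⟩ : ∃ s : ℕ → N, s 0 = 0 ∧ (∀ n, s (n+1) - s n ∈ V' n) ∧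
      ∀ n, y - u (s n) ∈ Hs u (V' n) := by
    let T : (n : ℕ) → {z : N // y - u z ∈ Hs u (V' n)} := fun n =>
      Nat.rec (motive := fun n => {z : N // y - u z ∈ Hs u (V' n)}) ⟨0, hy0⟩
        (fun k Tk => ⟨Tk.1 + Classical.choose (step k Tk.1 Tk.2),
          (Classical.choose_spec (step k Tk.1 Tk.2)).2⟩) n
    refine ⟨fun n => (T n).1, rfl, ?_, fun n => (T n).2⟩
    intro n
    have : (T (n+1)).1 = (T n).1 + Classical.choose (step n (T n).1 (T n).2) := rfl
    show (T (n+1)).1 - (T n).1 ∈ V' n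
    rw [this, add_sub_cancel_left]
    exact (Classical.choose_spec (step n (T n).1 (T n).2)).1
  have hsdiff : ∀ n m, n ≤ m → s m - s n ∈ V' n := by
    intro n m hnm
    induction hnm with
    | refl => rw [sub_self]; exact zero_mem _
    | @step m h ih =>
      have : s (m+1) - s n = (s (m+1) - s m) + (s m - s n) := by abel
      rw [this]
      exact add_mem (hV'le m n h _ (hsstep m)) ih
  have hB : (𝓤 N).HasBasis (fun _ : ℕ => True) (fun i => {p : N × N | p.2 - p.1 ∈ x i}) := by
    rw [uniformity_eq_comap_nhds_zero N]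
    exact hx.toHasBasis.comap _
  have hcau : CauchySeq s := by
    rw [hB.cauchySeq_iff]
    intro i _
    refine ⟨i+1, fun m hm n hn => ?_⟩
    show s n - s m ∈ x i
    apply hV'W i _
    have h1 : s n - s (i+1) ∈ V' (i+1) := hsdiff _ _ hn
    have h2 : s m - s (i+1) ∈ V' (i+1) := hsdiff _ _ hm
    have : s n - s m = (s n - s (i+1)) - (s m - s (i+1)) := by abel
    rw [this]
    exact sub_mem h1 h2
  obtain ⟨sl, hsl⟩ := cauchySeq_tendsto_of_complete hcau
  have hslV : sl ∈ (V : Set N) := by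
    apply (OpenAddSubgroup.isClosed V).mem_of_tendsto hsl
    apply Filter.Eventually.of_forall
    intro n
    have := hsdiff 0 n (Nat.zero_le n)
    rw [hs0, sub_zero, hV'0] at this
    exact this
  have hlim1 : Tendsto (fun n => u (s n)) atTop (𝓝 (u sl)) := (hu.tendsto sl).comp hsl
  have hlim0 : Tendsto (fun n => y - u (s n)) atTop (𝓝 0) := by
    rw [tendsto_def]
    intro Wm hWm
    obtain ⟨W', hW'n, hW'c, hW'sub⟩ := exists_mem_nhds_isClosed_subset hWm
    have hpre : u ⁻¹' W' ∈ 𝓝 (0 : N) := hu.continuousAt.preimage_mem_nhds (by rwa [map_zero])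
    obtain ⟨i, -, hi⟩ := hx.toHasBasis.mem_iff.mp hpre
    rw [Filter.mem_atTop_sets]
    refine ⟨i+1, fun n hn => ?_⟩
    apply hW'sub
    have h1 : (Hs u (V' (i+1)) : Set M) ⊆ W' := by
      rw [coe_Hs]
      apply closure_minimal _ hW'c
      rintro _ ⟨z, hz, rfl⟩
      exact hi (hV'W i z hz)
    exact h1 (Hs_mono u (hV'le n (i+1) hn) _ (hsH n))
  have hlim2 : Tendsto (fun n => u (s n)) atTop (𝓝 y) := by
    have := (tendsto_const_nhds (x := y)).sub hlim0
    simpa using this
  have : u sl = y := tendsto_nhds_unique hlim1 hlim2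
  exact ⟨sl, hslV, this⟩

theorem isOpenMap_of (u : N →+ M) (hu : Continuous u)
    (hne : ∀ V : OpenAddSubgroup N, (interior (closure (u '' (V : Set N)))).Nonempty) :
    IsOpenMap u := by
  have himg : ∀ V : OpenAddSubgroup N, IsOpen (u '' (V : Set N)) := by
    intro V
    have h1 : closure (u '' (V : Set N)) = u '' (V : Set N) :=
      Set.Subset.antisymm (closure_image_subset u hu hne V) subset_closure
    rw [← h1, ← coe_Hs]
    exact Hs_isOpen u V (hne V)
  intro U hU
  rw [isOpen_iff_mem_nhds]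
  rintro _ ⟨a, ha, rfl⟩
  have hpre : (fun z => a + z) ⁻¹' U ∈ 𝓝 (0 : N) := by
    apply (continuous_const_add a).continuousAt.preimage_mem_nhds
    simpa using hU.mem_nhds ha
  obtain ⟨V, hV⟩ := NonarchimedeanAddGroup.is_nonarchimedean _ hpre
  have hopen' : IsOpen ((fun m => u a + m) '' (u '' (V : Set N))) :=
    (Homeomorph.addLeft (u a)).isOpenMap _ (himg V)
  have hmem : u a ∈ (fun m => u a + m) '' (u '' (V : Set N)) :=
    ⟨0, ⟨0, zero_mem _, map_zero u⟩, add_zero _⟩
  refine Filter.mem_of_superset (hopen'.mem_nhds hmem) ?_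
  rintro _ ⟨_, ⟨v, hv, rfl⟩, rfl⟩
  exact ⟨a + v, hV hv, map_add u a v⟩

end Groth.Agent.H2.OpenMapDich
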