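import Mathlib
import Groth.Prelude.Def_RegImm

set_option autoImplicit false
set_option linter.style.haveILetI false
universe u

namespace Groth.Agent.H2.PowPrime

open MvPolynomial TensorProduct

/-- Global complete intersection criterion: a finite `κ`-algebra with basis the reduced monomials in
`ξ_i`, where `ξ_i ^ p = t_i`. -/
theorem ci_aux_mv {κ : Type u} [Field κ] {F F' : Type u} [CommRing F] [Algebra κ F] [CommRing F']
    [Algebra κ F'] (e : F ≃ₐ[κ] F') (m p : ℕ) (hp : 0 < p) (ξ : Fin m → F) (t : Fin m → κ)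
    (hξ : ∀ i, ξ i ^ p = algebraMap κ F (t i))
    (b : Module.Basis (Fin m → Fin p) κ F)
    (hb : ∀ r, b r = ∏ i, ξ i ^ (r i : ℕ)) : Synt.IsGlobalCI κ F' := by
  classical
  right
  refine ⟨m, m, le_refl _, e.toAlgHom.comp (MvPolynomial.aeval ξ),
    fun i => X i ^ p - C (t i), ?_, ?_, ?_⟩
  · intro y
    obtain ⟨x, rfl⟩ := e.surjective y
    refine ⟨∑ r, C (b.repr x r) * ∏ i, X i ^ (r i : ℕ), ?_⟩
    have hx : MvPolynomial.aeval ξ (∑ r, C (b.repr x r) * ∏ i, X i ^ (r i : ℕ)) = x := by
      conv_rhs => rw [← b.sum_repr x]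
      simp only [map_sum, map_mul, map_prod, map_pow, aeval_C, aeval_X, hb, Algebra.smul_def]
    show e (MvPolynomial.aeval ξ _) = e x
    rw [hx]
  · set I : Ideal (MvPolynomial (Fin m) κ) :=
      Ideal.span (Set.range fun i : Fin m => (X i ^ p - C (t i) : MvPolynomial (Fin m) κ)) with hI
    have hker : ∀ Q ∈ I, MvPolynomial.aeval ξ Q = 0 := by
      have hle : I ≤ RingHom.ker (MvPolynomial.aeval ξ : MvPolynomial (Fin m) κ →ₐ[κ] F).toRingHom := by
        rw [hI, Ideal.span_le]
        rintro _ ⟨i, rfl⟩
        rw [SetLike.mem_coe, RingHom.mem_ker]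
        show MvPolynomial.aeval ξ (X i ^ p - C (t i)) = 0
        rw [map_sub, map_pow, aeval_X, aeval_C, hξ, sub_self]
      intro Q hQ
      exact RingHom.mem_ker.mp (hle hQ)
    have key : ∀ i, (Ideal.Quotient.mk I (X i)) ^ p = Ideal.Quotient.mk I (C (t i)) := by
      intro i
      rw [← map_pow, Ideal.Quotient.eq]
      exact Ideal.subset_span ⟨i, rfl⟩
    have red : ∀ P : MvPolynomial (Fin m) κ, ∃ c : (Fin m → Fin p) → κ,
        P - ∑ r, C (c r) * ∏ i, X i ^ (r i : ℕ) ∈ I := by
      intro P
      induction P using MvPolynomial.induction_on' with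
      | monomial u a =>
        let r₀ : Fin m → Fin p := fun i => ⟨u i % p, Nat.mod_lt _ hp⟩
        refine ⟨fun r => if r = r₀ then a * ∏ i, t i ^ (u i / p) else 0, ?_⟩
        rw [Finset.sum_eq_single r₀ (by intro r _ hr; simp [hr])
          (by intro h; exact absurd (Finset.mem_univ _) h)]
        dsimp only
        rw [if_pos rfl, ← Ideal.Quotient.eq]
        rw [monomial_eq, Finsupp.prod_fintype _ _ (fun i => pow_zero _)]
        simp only [map_mul, map_prod, map_pow]
        rw [mul_assoc, ← Finset.prod_mul_distrib]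
        congr 1
        refine Finset.prod_congr rfl (fun i _ => ?_)
        rw [← key i, ← pow_mul, ← pow_add]
        congr 1
        exact (Nat.div_add_mod (u i) p).symm
      | add P Q hP hQ =>
        obtain ⟨c₁, h₁⟩ := hP
        obtain ⟨c₂, h₂⟩ := hQ
        refine ⟨fun r => c₁ r + c₂ r, ?_⟩
        have : (P + Q) - ∑ r, C (c₁ r + c₂ r) * ∏ i, X i ^ (r i : ℕ)
            = (P - ∑ r, C (c₁ r) * ∏ i, X i ^ (r i : ℕ))
              + (Q - ∑ r, C (c₂ r) * ∏ i, X i ^ (r i : ℕ)) := by
          simp only [C_add, add_mul, Finset.sum_add_distrib]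
          ring
        rw [this]
        exact I.add_mem h₁ h₂
    ext P
    rw [RingHom.mem_ker]
    constructor
    · intro hP
      have h0 : e (MvPolynomial.aeval ξ P) = 0 := hP
      have hP' : MvPolynomial.aeval ξ P = 0 := (map_eq_zero_iff e e.injective).mp h0
      obtain ⟨c, hc⟩ := red P
      have h2 : ∑ r, c r • b r = 0 := by
        have h3 := hker _ hc
        rw [map_sub, hP', zero_sub, neg_eq_zero] at h3
        rw [← h3]
        simp only [map_sum, map_mul, map_prod, map_pow, aeval_C, aeval_X, hb, Algebra.smul_def]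
      have hc0 := Fintype.linearIndependent_iff.mp b.linearIndependent c h2
      have hPe : P = P - ∑ r, C (c r) * ∏ i, X i ^ (r i : ℕ) := by simp [hc0]
      rw [hPe]
      exact hc
    · intro hP
      show e (MvPolynomial.aeval ξ P) = 0
      rw [hker P hP, map_zero]
  · haveI : Module.Finite κ F := Module.Finite.of_basis b
    haveI : Module.Finite κ F' := Module.Finite.equiv e.toLinearEquiv
    haveI : IsArtinianRing F' := IsArtinianRing.of_finite κ F'
    haveI : Nontrivial F := ⟨⟨b (fun _ => ⟨0, hp⟩), 0, b.ne_zero _⟩⟩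
    haveI : Nontrivial F' := e.symm.surjective.nontrivial
    have h0 : ringKrullDim F' = 0 :=
      ringKrullDimZero_iff_ringKrullDim_eq_zero.mp inferInstance
    rw [h0]; simp

theorem syn_aux_mv {R S : Type u} [CommRing R] [CommRing S] [Algebra R S]
    [Algebra.FinitePresentation R S] (m p : ℕ) (hp : 0 < p)
    (x : Fin m → S) (T : Fin m → R) (hx : ∀ i, x i ^ p = algebraMap R S (T i))
    (b : Module.Basis (Fin m → Fin p) R S) (hb : ∀ r, b r = ∏ i, x i ^ (r i : ℕ)) :
    Synt.IsSyntomic R S ∧ Module.FaithfullyFlat R S := by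
  haveI : Module.Free R S := Module.Free.of_basis b
  haveI : Module.Finite R S := Module.Finite.of_basis b
  refine ⟨⟨inferInstance, inferInstance, ?_⟩, ?_⟩
  · intro P
    refine ⟨inferInstance, fun q => ⟨1, ?_, ?_⟩⟩
    · intro h1
      exact q.isPrime.ne_top ((Ideal.eq_top_iff_one _).mpr h1)
    · have e0 := IsLocalization.atOne (P.asIdeal.Fiber S)
        (Localization.Away (1 : P.asIdeal.Fiber S))
      have hinc : ∀ s : S, (1 : P.asIdeal.ResidueField) ⊗ₜ[R] s
          = (Algebra.TensorProduct.includeRight :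
              S →ₐ[R] P.asIdeal.ResidueField ⊗[R] S) s := fun _ => rfl
      refine ci_aux_mv (e0.restrictScalars P.asIdeal.ResidueField) m p hp
        (fun i => (1 : P.asIdeal.ResidueField) ⊗ₜ[R] x i)
        (fun i => algebraMap R P.asIdeal.ResidueField (T i)) ?_
        (Algebra.TensorProduct.basis P.asIdeal.ResidueField b) ?_
      · intro i
        show ((1 : P.asIdeal.ResidueField) ⊗ₜ[R] x i) ^ p
          = algebraMap P.asIdeal.ResidueField (P.asIdeal.ResidueField ⊗[R] S)
              (algebraMap R P.asIdeal.ResidueField (T i))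
        rw [Algebra.TensorProduct.tmul_pow, one_pow, hx, Algebra.TensorProduct.algebraMap_apply,
          Algebra.algebraMap_self, RingHom.id_apply]
        rw [Algebra.algebraMap_eq_smul_one (T i), Algebra.algebraMap_eq_smul_one (T i),
          TensorProduct.smul_tmul]
      · intro r
        show (Algebra.TensorProduct.basis P.asIdeal.ResidueField b) r
          = ∏ i, ((1 : P.asIdeal.ResidueField) ⊗ₜ[R] x i) ^ (r i : ℕ)
        rw [Algebra.TensorProduct.basis_apply, hb, hinc (∏ i, x i ^ (r i : ℕ)), map_prod]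
        refine Finset.prod_congr rfl (fun i _ => ?_)
        rw [map_pow, hinc]
  · by_cases hR : Nontrivial R
    · haveI : Nontrivial S := ⟨⟨b (fun _ => ⟨0, hp⟩), 0, b.ne_zero _⟩⟩
      infer_instance
    · haveI : Subsingleton R := not_nontrivial_iff_subsingleton.mp hR
      refine ⟨fun M hM => ?_⟩
      exfalso
      refine hM.ne_top ((Ideal.eq_top_iff_one _).mpr ?_)
      rw [Subsingleton.elim (1 : R) 0]
      exact M.zero_mem

/-- The basis of reduced monomials for the `p`-th power endomorphism of a polynomial ring. -/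
theorem key (p : ℕ) (hp : 0 < p) (A : Type u) [CommRing A] (m : ℕ) (S : Type u) [CommRing S]
    [Algebra (MvPolynomial (Fin m) A) S] (e : MvPolynomial (Fin m) A ≃+* S)
    (h : ∀ i, algebraMap (MvPolynomial (Fin m) A) S (X i) = e (X i) ^ p)
    (hC : ∀ a, algebraMap (MvPolynomial (Fin m) A) S (C a) = e (C a)) :
    ∃ b : Module.Basis (Fin m → Fin p) (MvPolynomial (Fin m) A) S,
      ∀ r, b r = ∏ i, e (X i) ^ (r i : ℕ) := by
  classical
  have halg : ∀ P : MvPolynomial (Fin m) A,
      algebraMap (MvPolynomial (Fin m) A) S P = e (expand p P) := by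
    have h1 : (algebraMap (MvPolynomial (Fin m) A) S)
        = (e : MvPolynomial (Fin m) A →+* S).comp
            (expand p : MvPolynomial (Fin m) A →ₐ[A] MvPolynomial (Fin m) A).toRingHom := by
      apply MvPolynomial.ringHom_ext
      · intro a
        show _ = e (expand p (C a))
        rw [expand_C, hC]
      · intro i
        show _ = e (expand p (X i))
        rw [expand_X, map_pow, h]
    intro P
    rw [h1]
    rfl
  let toF : (Fin m → Fin p) → (Fin m →₀ ℕ) :=
    fun r => Finsupp.equivFunOnFinite.symm (fun i => (r i : ℕ))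
  have htoF : ∀ r i, toF r i = (r i : ℕ) := fun r i => rfl
  let v : (Fin m → Fin p) → S := fun r => ∏ i, e (X i) ^ (r i : ℕ)
  let g : ((Fin m → Fin p) →₀ MvPolynomial (Fin m) A) →ₗ[MvPolynomial (Fin m) A] S :=
    Finsupp.linearCombination (MvPolynomial (Fin m) A) v
  have hv : ∀ r : Fin m → Fin p,
      ∏ i, (X i : MvPolynomial (Fin m) A) ^ (r i : ℕ) = monomial (toF r) 1 := by
    intro r
    rw [monomial_eq, C_1, one_mul, Finsupp.prod_fintype _ _ (fun i => pow_zero _)]
    rfl
  let G : ((Fin m → Fin p) →₀ MvPolynomial (Fin m) A) →ₗ[A] MvPolynomial (Fin m) A :=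
    { toFun := fun f => e.symm (g f)
      map_add' := fun f₁ f₂ => by rw [map_add, map_add]
      map_smul' := fun a f => by
        have h1 : a • f = (C a : MvPolynomial (Fin m) A) • f := by
          refine Finsupp.ext (fun r => ?_)
          rw [Finsupp.smul_apply, Finsupp.smul_apply, smul_eq_mul, MvPolynomial.smul_eq_C_mul]
        rw [h1, map_smul, Algebra.smul_def, halg, expand_C, map_mul, RingEquiv.symm_apply_apply,
          RingHom.id_apply, MvPolynomial.smul_eq_C_mul] }
  have hG : ∀ (r : Fin m → Fin p) (q : Fin m →₀ ℕ),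
      G (Finsupp.single r (monomial q 1)) = monomial (p • q + toF r) 1 := by
    intro r q
    show e.symm (g (Finsupp.single r (monomial q 1))) = _
    rw [show g (Finsupp.single r (monomial q 1)) = (monomial q (1 : A)) • v r from
      Finsupp.linearCombination_single _ _ _]
    rw [Algebra.smul_def, halg, expand_monomial, map_mul, RingEquiv.symm_apply_apply]
    show _ * e.symm (∏ i, e (X i) ^ (r i : ℕ)) = _
    rw [map_prod]
    simp only [map_pow, RingEquiv.symm_apply_apply]
    rw [hv, monomial_mul, mul_one]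
  let σ : (Σ _ : (Fin m → Fin p), (Fin m →₀ ℕ)) ≃ (Fin m →₀ ℕ) :=
    Equiv.ofBijective (fun ix => p • ix.2 + toF ix.1) (by
      constructor
      · rintro ⟨r, q⟩ ⟨r', q'⟩ hh
        have hi : ∀ i, p * q i + (r i : ℕ) = p * q' i + (r' i : ℕ) := by
          intro i
          have := DFunLike.congr_fun hh i
          simpa [Finsupp.add_apply, Finsupp.smul_apply, htoF] using this
        have hq : q = q' := by
          refine Finsupp.ext (fun i => ?_)
          have h1 : (p * q i + (r i : ℕ)) / p = q i := by
            rw [Nat.mul_add_div hp, Nat.div_eq_of_lt (r i).2, add_zero]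
          have h2 : (p * q' i + (r' i : ℕ)) / p = q' i := by
            rw [Nat.mul_add_div hp, Nat.div_eq_of_lt (r' i).2, add_zero]
          rw [← h1, ← h2, hi i]
        have hr : r = r' := by
          funext i
          apply Fin.ext
          have := hi i
          rw [hq] at this
          exact Nat.add_left_cancel this
        subst hq; subst hr; rfl
      · intro u
        refine ⟨⟨fun i => ⟨u i % p, Nat.mod_lt _ hp⟩,
          Finsupp.equivFunOnFinite.symm (fun i => u i / p)⟩, ?_⟩
        refine Finsupp.ext (fun i => ?_)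
        show p • (u i / p) + u i % p = u i
        rw [smul_eq_mul]
        exact Nat.div_add_mod (u i) p)
  have hσ : ∀ ix, σ ix = p • ix.2 + toF ix.1 := fun _ => rfl
  let bM : Module.Basis (Σ _ : (Fin m → Fin p), (Fin m →₀ ℕ)) A
      ((Fin m → Fin p) →₀ MvPolynomial (Fin m) A) :=
    Finsupp.basis (fun _ => MvPolynomial.basisMonomials (Fin m) A)
  let E := bM.equiv (MvPolynomial.basisMonomials (Fin m) A) σ
  have hGE : G = E.toLinearMap := by
    refine bM.ext (fun ix => ?_)
    obtain ⟨r, q⟩ := ix
    rw [LinearEquiv.coe_coe, Module.Basis.equiv_apply]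
    show G (bM ⟨r, q⟩) = _
    rw [show bM ⟨r, q⟩ = Finsupp.single r (monomial q 1) by
      simp only [bM, Finsupp.coe_basis, coe_basisMonomials]]
    rw [hG, coe_basisMonomials, hσ]
  have hbij : Function.Bijective g := by
    have h1 : (g : _ → S) = e ∘ E := by
      funext f
      have h2 : G f = E f := by rw [hGE]; rfl
      show g f = e (E f)
      rw [← h2]
      exact (e.apply_symm_apply _).symm
    rw [h1]
    exact e.bijective.comp E.bijective
  refine ⟨Module.Basis.ofRepr (LinearEquiv.ofBijective g hbij).symm, fun r => ?_⟩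
  rw [Module.Basis.coe_ofRepr]
  show (LinearEquiv.ofBijective g hbij).symm.symm (Finsupp.single r 1) = _
  rw [LinearEquiv.symm_symm, LinearEquiv.ofBijective_apply]
  show Finsupp.linearCombination (MvPolynomial (Fin m) A) v (Finsupp.single r 1) = _
  rw [Finsupp.linearCombination_single, one_smul]

theorem main (p : ℕ) (hp : 0 < p) (A : Type u) [CommRing A] [IsNoetherianRing A] (m : ℕ)
    (S : Type u) [CommRing S]
    [Algebra (MvPolynomial (Fin m) A) S] (e : MvPolynomial (Fin m) A ≃+* S)
    (h : ∀ i, algebraMap (MvPolynomial (Fin m) A) S (X i) = e (X i) ^ p)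
    (hC : ∀ a, algebraMap (MvPolynomial (Fin m) A) S (C a) = e (C a)) :
    Synt.IsSyntomic (MvPolynomial (Fin m) A) S ∧ Module.FaithfullyFlat (MvPolynomial (Fin m) A) S := by
  obtain ⟨b, hb⟩ := key p hp A m S e h hC
  haveI : Module.Finite (MvPolynomial (Fin m) A) S := Module.Finite.of_basis b
  haveI : Algebra.FinitePresentation (MvPolynomial (Fin m) A) S :=
    Algebra.FinitePresentation.of_finiteType.mp inferInstance
  exact syn_aux_mv m p hp (fun i => e (X i)) (fun i => X i) (fun i => (h i).symm) b hb

end Groth.Agent.H2.PowPrime
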