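import Mathlib
import Groth.Agent.H2.PowPrime

set_option autoImplicit false
set_option linter.style.haveILetI false
universe u

open CategoryTheory AlgebraicGeometry

namespace Groth.Agent.H2.PRootCover

theorem preimage_eq_top {X : Scheme.{u}} {V : X.Opens} (hV : IsAffineOpen V) (C : CommRingCat.{u})
    (ψ : Γ(X, V) ⟶ C) : (Spec.map ψ ≫ hV.fromSpec) ⁻¹ᵁ V = ⊤ := by
  rw [Scheme.Hom.comp_preimage, hV.fromSpec_preimage_self]
  rfl

theorem appLE_eq {X : Scheme.{u}} {V : X.Opens} (hV : IsAffineOpen V) (C : CommRingCat.{u})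
    (ψ : Γ(X, V) ⟶ C) (e : ⊤ ≤ (Spec.map ψ ≫ hV.fromSpec) ⁻¹ᵁ V) :
    (Spec.map ψ ≫ hV.fromSpec).appLE V ⊤ e = ψ ≫ (Scheme.ΓSpecIso C).inv := by
  rw [Scheme.Hom.comp_appLE, hV.fromSpec_app_self, Category.assoc, Scheme.Hom.map_appLE,
    Scheme.ΓSpecIso_inv_naturality]
  congr 1

open Polynomial in
theorem syn_root {R S' : Type u} [CommRing R] [CommRing S'] [Algebra R S'] (p : ℕ) (hp : 0 < p)
    (a : R) (ε : AdjoinRoot (X ^ p - C a : R[X]) ≃ₐ[R] S') :
    Synt.IsSyntomic R S' ∧ Module.FaithfullyFlat R S' := by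
  have hm : (X ^ p - C a : R[X]).Monic := Polynomial.monic_X_pow_sub_C a hp.ne'
  obtain ⟨pb, hpb⟩ : ∃ pb : PowerBasis R (AdjoinRoot (X ^ p - C a : R[X])),
      pb = AdjoinRoot.powerBasis' hm := ⟨_, rfl⟩
  haveI : Algebra.FinitePresentation R S' := Algebra.FinitePresentation.equiv ε
  haveI : Module.Free R S' := Module.Free.of_basis (pb.basis.map ε.toLinearEquiv)
  by_cases hR : Nontrivial R
  swap
  · haveI : Subsingleton R := not_nontrivial_iff_subsingleton.mp hR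
    have hno : ∀ M : Ideal R, M ≠ ⊤ → False := by
      intro M hM
      refine hM ((Ideal.eq_top_iff_one _).mpr ?_)
      rw [Subsingleton.elim (1 : R) 0]
      exact M.zero_mem
    refine ⟨⟨inferInstance, inferInstance, fun P => ?_⟩, ⟨fun M hM => ?_⟩⟩
    · exact (hno _ P.isPrime.ne_top).elim
    · exact (hno _ hM.ne_top).elim
  have hdim : pb.dim = p := by
    rw [hpb, AdjoinRoot.powerBasis'_dim, Polynomial.natDegree_X_pow_sub_C]
  have hgen : pb.gen = AdjoinRoot.root _ := by rw [hpb]; exact AdjoinRoot.powerBasis'_gen hm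
  let eq : Fin pb.dim ≃ (Fin 1 → Fin p) :=
    (finCongr hdim).trans (Equiv.funUnique (Fin 1) (Fin p)).symm
  let b : Module.Basis (Fin 1 → Fin p) R S' := (pb.basis.map ε.toLinearEquiv).reindex eq
  refine PowPrime.syn_aux_mv 1 p hp (fun _ => ε (AdjoinRoot.root _)) (fun _ => a) ?_ b ?_
  · intro i
    show ε (AdjoinRoot.root _) ^ p = algebraMap R S' a
    rw [← map_pow, ← ε.commutes a]
    congr 1
    have h0 : AdjoinRoot.mk (X ^ p - C a : R[X]) (X ^ p - C a) = 0 := AdjoinRoot.mk_self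
    rw [map_sub, map_pow, AdjoinRoot.mk_X, AdjoinRoot.mk_C, sub_eq_zero] at h0
    exact h0
  · intro r
    rw [Fin.prod_univ_one]
    show (pb.basis.map ε.toLinearEquiv).reindex eq r = _
    rw [Module.Basis.reindex_apply, Module.Basis.map_apply, pb.basis_eq_pow, hgen]
    show ε (AdjoinRoot.root _ ^ ((eq.symm r : Fin pb.dim) : ℕ))
      = ε (AdjoinRoot.root _) ^ ((r 0 : Fin p) : ℕ)
    rw [map_pow]
    rfl

open Polynomial in
theorem syn_transport {R : Type u} [CommRing R] (p : ℕ) (hp : 0 < p) (a : R) {C' : Type u}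
    [CommRing C'] (ε : AdjoinRoot (X ^ p - C a : R[X]) ≃+* C') (g : R →+* C')
    (hg : ∀ r, g r = ε (algebraMap R _ r)) : @Synt.IsSyntomic R _ C' _ g.toAlgebra := by
  letI := g.toAlgebra
  exact (syn_root p hp a (AlgEquiv.ofRingEquiv (f := ε) (fun r => (hg r).symm))).1

theorem cover_exists (p : ℕ) (hp : 0 < p) (X : Scheme.{u}) (a : Γ(X, ⊤)) :
    ∃ 𝒰 : Scheme.Cover.{u} (Scheme.precoverage @Synt.IsSyntomicMor) X,
      ∀ i : 𝒰.I₀, ∃ b : Γ(𝒰.X i, ⊤), b ^ p = (𝒰.f i).appTop a := by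
  classical
  let aV : ∀ V : X.affineOpens, Γ(X, V.1) := fun V => X.presheaf.map (homOfLE le_top).op a
  let Cc : X.affineOpens → Type u := fun V =>
    AdjoinRoot (Polynomial.X ^ p - Polynomial.C (aV V) : Polynomial Γ(X, V.1))
  let ψ : ∀ V : X.affineOpens, Γ(X, V.1) ⟶ CommRingCat.of (Cc V) :=
    fun V => CommRingCat.ofHom (algebraMap Γ(X, V.1) (Cc V))
  let obj : X.affineOpens → Scheme.{u} := fun V => Spec (CommRingCat.of (Cc V))
  let map : ∀ V : X.affineOpens, obj V ⟶ X := fun V => Spec.map (ψ V) ≫ V.2.fromSpec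
  have hsyn : ∀ V : X.affineOpens, Synt.IsSyntomic Γ(X, V.1) (Cc V) ∧
      Module.FaithfullyFlat Γ(X, V.1) (Cc V) := fun V => syn_root p hp (aV V) AlgEquiv.refl
  have hroot : ∀ V : X.affineOpens, (AdjoinRoot.root _ : Cc V) ^ p
      = algebraMap Γ(X, V.1) (Cc V) (aV V) := by
    intro V
    have h0 : AdjoinRoot.mk (Polynomial.X ^ p - Polynomial.C (aV V) : Polynomial Γ(X, V.1))
        (Polynomial.X ^ p - Polynomial.C (aV V)) = 0 := AdjoinRoot.mk_self
    rw [map_sub, map_pow, AdjoinRoot.mk_X, AdjoinRoot.mk_C, sub_eq_zero] at h0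
    exact h0
  have hle : ∀ V : X.affineOpens, ⊤ ≤ (map V) ⁻¹ᵁ V.1 :=
    fun V => (preimage_eq_top V.2 _ (ψ V)).ge
  refine ⟨Scheme.Cover.mkOfCovers X.affineOpens obj map ?_ ?_, ?_⟩
  · intro x
    let V : X.affineOpens := ⟨(X.affineCover.f (X.affineCover.idx x)).opensRange,
      isAffineOpen_opensRange _⟩
    have hxV : x ∈ (V.1 : Set X) := X.affineCover.covers x
    rw [← V.2.range_fromSpec] at hxV
    obtain ⟨z, hz⟩ := hxV
    haveI := (hsyn V).2
    obtain ⟨y, hy⟩ := PrimeSpectrum.comap_surjective_of_faithfullyFlat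
      (A := Γ(X, V.1)) (B := Cc V) z
    refine ⟨V, y, ?_⟩
    refine Eq.trans ?_ hz
    show (Spec.map (ψ V) ≫ V.2.fromSpec) y = V.2.fromSpec z
    rw [Scheme.Hom.comp_apply]
    congr 1
  · intro V
    show Synt.IsSyntomicMor (map V)
    intro y
    refine ⟨⟨⊤, isAffineOpen_top _⟩, V, hle V, trivial, ?_⟩
    refine syn_transport p hp (aV V)
      (Scheme.ΓSpecIso (CommRingCat.of (Cc V))).symm.commRingCatIsoToRingEquiv
      ((map V).appLE V.1 ⊤ (hle V)).hom ?_
    intro r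
    exact congrArg (fun f => f.hom r) (appLE_eq V.2 _ (ψ V) (hle V))
  · intro V
    show ∃ b : Γ(obj V, ⊤), b ^ p = (map V).appTop a
    refine ⟨(Scheme.ΓSpecIso (CommRingCat.of (Cc V))).inv.hom (AdjoinRoot.root _), ?_⟩
    rw [← map_pow, hroot V]
    have h1 : (ψ V ≫ (Scheme.ΓSpecIso (CommRingCat.of (Cc V))).inv).hom (aV V)
        = ((map V).appLE V.1 ⊤ (hle V)).hom (aV V) :=
      (congrArg (fun f => f.hom (aV V)) (appLE_eq V.2 _ (ψ V) (hle V))).symm
    have h2 : X.presheaf.map (homOfLE (le_top : V.1 ≤ ⊤)).op ≫ (map V).appLE V.1 ⊤ (hle V)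
        = (map V).appTop := by
      rw [Scheme.Hom.map_appLE]
      exact (map V).appLE_eq_app
    have h3 : ((map V).appLE V.1 ⊤ (hle V)).hom (aV V) = (map V).appTop a :=
      congrArg (fun f => f.hom a) h2
    exact h1.trans h3

end Groth.Agent.H2.PRootCover
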