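import Groth.Agent.H2.WeylRefl

/-! Parabolic (closed, `Q ∪ -Q = everything`) subsets of a root system over `ℤ` contain a
positive system. -/

set_option autoImplicit false
set_option linter.style.haveILetI false
set_option linter.unusedSimpArgs false
set_option linter.unusedVariables false
set_option linter.unnecessarySeqFocus false
set_option linter.unusedSectionVars false

namespace Groth.Agent.H2.Parab

open RootPairing Set Groth.Agent.H2 Groth.Agent.H2.WeylRefl

variable {ι M N : Type} [AddCommGroup M] [AddCommGroup N] {P : RootPairing ι ℤ M N}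

lemma refl_mem_closure (α : ι) (S : Set ι) {x : M}
    (hx : x ∈ AddSubmonoid.closure (P.root '' S)) :
    P.reflection α x ∈ AddSubmonoid.closure (P.root '' (P.reflectionPerm α '' S)) := by
  refine AddSubmonoid.closure_induction ?_ ?_ ?_ hx
  · rintro - ⟨j, hj, rfl⟩
    apply AddSubmonoid.subset_closure
    exact ⟨P.reflectionPerm α j, ⟨j, hj, rfl⟩, P.root_reflectionPerm α j⟩
  · rw [map_zero]; exact zero_mem _
  · intro x y _ _ hx hy
    rw [map_add]; exact add_mem hx hy

lemma corefl_mem_closure (α : ι) (S : Set ι) {x : N}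
    (hx : x ∈ AddSubmonoid.closure (P.coroot '' S)) :
    P.coreflection α x ∈ AddSubmonoid.closure (P.coroot '' (P.reflectionPerm α '' S)) := by
  refine AddSubmonoid.closure_induction ?_ ?_ ?_ hx
  · rintro - ⟨j, hj, rfl⟩
    apply AddSubmonoid.subset_closure
    exact ⟨P.reflectionPerm α j, ⟨j, hj, rfl⟩, P.coroot_reflectionPerm α j⟩
  · rw [map_zero]; exact zero_mem _
  · intro x y _ _ hx hy
    rw [map_add]; exact add_mem hx hy

lemma image_image_refl (α : ι) (S : Set ι) :
    P.reflectionPerm α '' (P.reflectionPerm α '' S) = S := by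
  rw [Set.image_image]; simp

/-- The base obtained by reflecting a base. -/
def reflBase (b : P.Base) (α : ι) : P.Base where
  support := b.support.map (P.reflectionPerm α).toEmbedding
  linearIndepOn_root := by
    rw [Finset.coe_map]
    refine LinearIndepOn.image_of_comp _ _ ?_
    have h := LinearIndependent.map' (v := fun x : (b.support : Set ι) => P.root x)
      b.linearIndepOn_root (P.reflection α).toLinearMap (LinearEquiv.ker _)
    have e : (fun x : (b.support : Set ι) => (P.root ∘ (P.reflectionPerm α).toEmbedding) x)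
        = (P.reflection α).toLinearMap ∘ fun x : (b.support : Set ι) => P.root x := by
      ext x
      exact P.root_reflectionPerm α x
    show LinearIndependent ℤ
      (fun x : (b.support : Set ι) => (P.root ∘ (P.reflectionPerm α).toEmbedding) x)
    rw [e]; exact h
  linearIndepOn_coroot := by
    rw [Finset.coe_map]
    refine LinearIndepOn.image_of_comp _ _ ?_
    have h := LinearIndependent.map' (v := fun x : (b.support : Set ι) => P.coroot x)
      b.linearIndepOn_coroot (P.coreflection α).toLinearMap (LinearEquiv.ker _)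
    have e : (fun x : (b.support : Set ι) => (P.coroot ∘ (P.reflectionPerm α).toEmbedding) x)
        = (P.coreflection α).toLinearMap ∘ fun x : (b.support : Set ι) => P.coroot x := by
      ext x
      exact P.coroot_reflectionPerm α x
    show LinearIndependent ℤ
      (fun x : (b.support : Set ι) => (P.coroot ∘ (P.reflectionPerm α).toEmbedding) x)
    rw [e]; exact h
  root_mem_or_neg_mem i := by
    simp only [Finset.coe_map, Equiv.coe_toEmbedding]
    rcases b.root_mem_or_neg_mem (P.reflectionPerm α i) with h | h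
    · left
      have := refl_mem_closure α _ h
      rw [← P.root_reflectionPerm, P.reflectionPerm_self] at this
      exact this
    · right
      have := refl_mem_closure α _ h
      rw [map_neg, ← P.root_reflectionPerm, P.reflectionPerm_self] at this
      exact this
  coroot_mem_or_neg_mem i := by
    simp only [Finset.coe_map, Equiv.coe_toEmbedding]
    rcases b.coroot_mem_or_neg_mem (P.reflectionPerm α i) with h | h
    · left
      have := corefl_mem_closure α _ h
      rw [← P.coroot_reflectionPerm, P.reflectionPerm_self] at this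
      exact this
    · right
      have := corefl_mem_closure α _ h
      rw [map_neg, ← P.coroot_reflectionPerm, P.reflectionPerm_self] at this
      exact this

lemma mem_posRoots_reflBase (b : P.Base) (α a : ι) :
    a ∈ RedSub.posRoots P (reflBase b α) ↔ P.reflectionPerm α a ∈ RedSub.posRoots P b := by
  have hsupp : ((reflBase b α).support : Set ι) = P.reflectionPerm α '' (b.support : Set ι) := by
    simp [reflBase]
  constructor
  · intro h
    have h1 : P.root a ∈ AddSubmonoid.closure
        (P.root '' (P.reflectionPerm α '' (b.support : Set ι))) := by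
      rw [← hsupp]; exact h
    have h2 := refl_mem_closure α _ h1
    rw [image_image_refl, ← P.root_reflectionPerm] at h2
    exact h2
  · intro h
    have h1 : P.root (P.reflectionPerm α a) ∈
        AddSubmonoid.closure (P.root '' (b.support : Set ι)) := h
    have h2 := refl_mem_closure α _ h1
    rw [← P.root_reflectionPerm, P.reflectionPerm_self] at h2
    show P.root a ∈ AddSubmonoid.closure (P.root '' ((reflBase b α).support : Set ι))
    rw [hsupp]; exact h2

lemma height_neg (b : P.Base) (a : ι) : b.height (P.reflectionPerm a a) = - b.height a := by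
  rw [height_refl b a a, P.pairing_same]; ring

lemma height_refl_neg (b : P.Base) (α a : ι) :
    b.height (P.reflectionPerm α (P.reflectionPerm a a)) = - b.height (P.reflectionPerm α a) := by
  rw [height_refl b (P.reflectionPerm a a) α, height_refl b a α, height_neg,
    P.pairing_reflectionPerm_self_left]
  ring

lemma pairing_of_root_eq_smul {β α : ι} {k : ℤ} (h : P.root β = k • P.root α) :
    P.pairing β α = k * 2 := by
  rw [← P.root_coroot_eq_pairing, h, map_zsmul, LinearMap.smul_apply, P.root_coroot_two,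
    smul_eq_mul]

lemma mult_mem [Finite ι] (Q : Set ι)
    (hQ : ∀ a a' e : ι, a ∈ Q → a' ∈ Q → P.root a + P.root a' = P.root e → e ∈ Q)
    (α : ι) (hnα : P.reflectionPerm α α ∈ Q) :
    ∀ k : ℕ, ∀ β : ι, P.root β = ((k : ℤ) + 1) • P.root α → β ∈ Q → α ∈ Q := by
  intro k
  induction k with
  | zero =>
    intro β hβ hβQ
    have : β = α := P.root.injective (by rw [hβ]; simp)
    rw [← this]; exact hβQ
  | succ k ih =>
    intro β hβ hβQ
    have hp : P.pairing β α = (((k + 1 : ℕ) : ℤ) + 1) * 2 := pairing_of_root_eq_smul hβ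
    have hne : β ≠ α := by
      intro hEq
      rw [hEq, P.pairing_same] at hp
      push_cast at hp; omega
    have hpos : 0 < P.pairingIn ℤ β α := by
      have : P.pairingIn ℤ β α = P.pairing β α := by
        have := P.algebraMap_pairingIn ℤ β α; simpa using this
      rw [this, hp]; positivity
    obtain ⟨β', hβ'⟩ := P.root_sub_root_mem_of_pairingIn_pos hpos hne
    have hβ'2 : P.root β' = ((k : ℤ) + 1) • P.root α := by
      rw [hβ', hβ]; push_cast; module
    have hβ'Q : β' ∈ Q := by
      refine hQ β (P.reflectionPerm α α) β' hβQ hnα ?_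
      rw [hβ', P.root_reflectionPerm, P.reflection_apply_self]; abel
    exact ih β' hβ'2 hβ'Q

lemma pos_refl_of_mem [Finite ι] (b : P.Base) (Q : Set ι)
    (hQ : ∀ a a' e : ι, a ∈ Q → a' ∈ Q → P.root a + P.root a' = P.root e → e ∈ Q)
    {α : ι} (hα : α ∈ b.support) (hαQ : α ∉ Q) (hnα : P.reflectionPerm α α ∈ Q)
    {β : ι} (hβ : 0 < b.height β) (hβQ : β ∈ Q) : 0 < b.height (P.reflectionPerm α β) := by
  classical
  by_contra hcon
  have hneg : b.height (P.reflectionPerm α β) < 0 := by
    have := b.height_ne_zero (P.reflectionPerm α β); omega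
  obtain ⟨f, hf₀, hf₁, hf₂⟩ := b.exists_root_eq_sum_int β
  have hht : b.height β = ∑ j ∈ b.support, f j := RootPairing.Base.height_eq_sum hf₂
  have hfnn : ∀ j, 0 ≤ f j := by
    rcases hf₁ with h | h
    · exact fun j => h.le j
    · exfalso
      have : ∑ j ∈ b.support, f j ≤ 0 := Finset.sum_nonpos fun j _ => h.le j
      omega
  let f' : ι → ℤ := fun j => f j - (if j = α then P.pairing β α else 0)
  have hsum : ∑ j ∈ b.support, f' j • P.root j = P.root (P.reflectionPerm α β) := by
    have e1 : ∑ j ∈ b.support, (if j = α then P.pairing β α else 0) • P.root j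
        = P.pairing β α • P.root α := by
      rw [Finset.sum_eq_single_of_mem α hα (fun j _ hj => by rw [if_neg hj, zero_smul]),
        if_pos rfl]
    calc ∑ j ∈ b.support, f' j • P.root j
        = ∑ j ∈ b.support,
            (f j • P.root j - (if j = α then P.pairing β α else 0) • P.root j) :=
          Finset.sum_congr rfl fun j _ => sub_smul _ _ _
      _ = P.root β - P.pairing β α • P.root α := by rw [Finset.sum_sub_distrib, ← hf₂, e1]
      _ = P.root (P.reflectionPerm α β) := by rw [root_refl β α, neg_smul, sub_eq_add_neg]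
  have hsupp : Function.support f' ⊆ (b.support : Set ι) := by
    intro j hj
    by_cases hjα : j = α
    · rw [hjα]; exact Finset.mem_coe.2 hα
    · apply hf₀
      simp only [Function.mem_support, f', if_neg hjα, sub_zero] at hj ⊢
      exact hj
  have hsign := b.pos_or_neg_of_sum_smul_root_mem f' ⟨_, hsum.symm⟩ hsupp
  have hht' : b.height (P.reflectionPerm α β) = ∑ j ∈ b.support, f' j :=
    RootPairing.Base.height_eq_sum hsum.symm
  have hf'np : ∀ j, f' j ≤ 0 := by
    rcases hsign with h | h
    · exfalso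
      have : 0 ≤ ∑ j ∈ b.support, f' j := Finset.sum_nonneg fun j _ => h.le j
      omega
    · exact fun j => h.le j
  have hzero : ∀ j, j ≠ α → f j = 0 := by
    intro j hj
    have h1 := hf'np j
    have h2 := hfnn j
    simp only [f', if_neg hj, sub_zero] at h1
    omega
  have hroot : P.root β = f α • P.root α :=
    hf₂.trans (Finset.sum_eq_single_of_mem α hα (fun j _ hj => by rw [hzero j hj, zero_smul]))
  have hfα : 0 < f α := by
    have : ∑ j ∈ b.support, f j = f α :=
      Finset.sum_eq_single_of_mem α hα (fun j _ hj => hzero j hj)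
    omega
  obtain ⟨k, hk⟩ : ∃ k : ℕ, f α = (k : ℤ) + 1 := ⟨(f α - 1).toNat, by omega⟩
  rw [hk] at hroot
  exact hαQ (mult_mem Q hQ α hnα k β hroot hβQ)

lemma exists_simple_notMem [Finite ι] (b : P.Base) (Q : Set ι)
    (hQ : ∀ a a' e : ι, a ∈ Q → a' ∈ Q → P.root a + P.root a' = P.root e → e ∈ Q)
    (h : ¬ RedSub.posRoots P b ⊆ Q) : ∃ α ∈ b.support, α ∉ Q := by
  by_contra hcon
  push Not at hcon
  apply h
  intro a ha
  have hpos : b.IsPos a := (mem_posRoots_iff b a).1 ha
  exact hpos.induction_on_add (p := fun i => i ∈ Q) hcon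
    (fun i j k hk hi hj => hQ i j k hi (hcon j hj) hk.symm)

theorem exists_base_subset [Finite ι] (Q : Set ι)
    (hQ : ∀ a a' e : ι, a ∈ Q → a' ∈ Q → P.root a + P.root a' = P.root e → e ∈ Q)
    (hpar : ∀ a, a ∈ Q ∨ P.reflectionPerm a a ∈ Q) :
    ∀ n : ℕ, ∀ b : P.Base, (RedSub.posRoots P b \ Q).ncard = n →
      ∃ b' : P.Base, RedSub.posRoots P b' ⊆ Q := by
  intro n
  induction n using Nat.strong_induction_on with
  | _ n ih =>
    intro b hn
    by_cases hsub : RedSub.posRoots P b ⊆ Q
    · exact ⟨b, hsub⟩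
    obtain ⟨α, hα, hαQ⟩ := exists_simple_notMem b Q hQ hsub
    have hnα : P.reflectionPerm α α ∈ Q := (hpar α).resolve_left hαQ
    have hα1 : b.height α = 1 := RootPairing.Base.height_one_of_mem_support hα
    have hαpos : α ∈ RedSub.posRoots P b := (mem_posRoots_iff b α).2 (by rw [hα1]; exact one_pos)
    have hss : RedSub.posRoots P (reflBase b α) \ Q ⊆ (RedSub.posRoots P b \ Q) \ {α} := by
      rintro a ⟨ha, haQ⟩
      have ha' : 0 < b.height (P.reflectionPerm α a) :=
        (mem_posRoots_iff b _).1 ((mem_posRoots_reflBase b α a).1 ha)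
      have hnaQ : P.reflectionPerm a a ∈ Q := (hpar a).resolve_left haQ
      refine ⟨⟨?_, haQ⟩, ?_⟩
      · rw [mem_posRoots_iff]
        by_contra hneg
        have h1 : 0 < b.height (P.reflectionPerm a a) := by
          have e1 := height_neg b a
          have e2 := b.height_ne_zero a
          omega
        have h2 := pos_refl_of_mem b Q hQ hα hαQ hnα h1 hnaQ
        rw [height_refl_neg] at h2
        omega
      · intro hEq
        have hEq' : a = α := hEq
        rw [hEq', height_neg, hα1] at ha'
        omega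
    have hlt : (RedSub.posRoots P (reflBase b α) \ Q).ncard < n := by
      rw [← hn]
      calc (RedSub.posRoots P (reflBase b α) \ Q).ncard
          ≤ ((RedSub.posRoots P b \ Q) \ {α}).ncard := Set.ncard_le_ncard hss (Set.toFinite _)
        _ < (RedSub.posRoots P b \ Q).ncard :=
          Set.ncard_sdiff_singleton_lt_of_mem ⟨hαpos, hαQ⟩ (Set.toFinite _)
    exact ih _ hlt (reflBase b α) rfl

theorem main [Finite ι] (R₁ R₂ : Set ι)
    (h₁ : ∀ a b c : ι, a ∈ R₁ → b ∈ R₁ → P.root a + P.root b = P.root c → c ∈ R₁)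
    (h₂ : ∀ a b c : ι, a ∈ R₂ → b ∈ R₂ → P.root a + P.root b = P.root c → c ∈ R₂)
    (hb₁ : ∃ b : P.Base, RedSub.posRoots P b ⊆ R₁) (hb₂ : ∃ b : P.Base, RedSub.posRoots P b ⊆ R₂)
    (hunion : R₁ ∪ R₂ = Set.univ) :
    ∃ b : P.Base, RedSub.posRoots P b ⊆ {a | a ∈ R₁ ∧ ∃ c ∈ R₂, P.root a = -P.root c} := by
  obtain ⟨b₁, hb₁⟩ := hb₁
  obtain ⟨b₂, hb₂⟩ := hb₂
  have hneg : ∀ a, P.root (P.reflectionPerm a a) = - P.root a := fun a => by
    rw [P.root_reflectionPerm, P.reflection_apply_self]
  have hor : ∀ (b : P.Base) (R : Set ι), RedSub.posRoots P b ⊆ R →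
      ∀ a, a ∈ R ∨ P.reflectionPerm a a ∈ R := by
    intro b R hR a
    rcases b.root_mem_or_neg_mem a with h | h
    · exact Or.inl (hR h)
    · refine Or.inr (hR ?_)
      show P.root (P.reflectionPerm a a) ∈
        AddSubmonoid.closure (P.root '' (b.support : Set ι))
      rw [hneg]; exact h
  have hQ : ∀ a a' e : ι, a ∈ {a | a ∈ R₁ ∧ ∃ c ∈ R₂, P.root a = -P.root c} →
      a' ∈ {a | a ∈ R₁ ∧ ∃ c ∈ R₂, P.root a = -P.root c} →
      P.root a + P.root a' = P.root e → e ∈ {a | a ∈ R₁ ∧ ∃ c ∈ R₂, P.root a = -P.root c} := by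
    rintro a a' e ⟨ha, c, hc, hac⟩ ⟨ha', c', hc', hac'⟩ he
    refine ⟨h₁ a a' e ha ha' he, P.reflectionPerm e e, ?_, ?_⟩
    · refine h₂ c c' _ hc hc' ?_
      rw [hneg, ← he, hac, hac']; abel
    · rw [hneg, neg_neg]
  have hpar : ∀ a, a ∈ {a | a ∈ R₁ ∧ ∃ c ∈ R₂, P.root a = -P.root c} ∨
      P.reflectionPerm a a ∈ {a | a ∈ R₁ ∧ ∃ c ∈ R₂, P.root a = -P.root c} := by
    intro a
    have p1 := hor b₁ R₁ hb₁ a
    have p2 := hor b₂ R₂ hb₂ a
    have p3 : a ∈ R₁ ∨ a ∈ R₂ := by
      have : a ∈ R₁ ∪ R₂ := hunion ▸ Set.mem_univ a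
      exact this
    have p4 : P.reflectionPerm a a ∈ R₁ ∨ P.reflectionPerm a a ∈ R₂ := by
      have : P.reflectionPerm a a ∈ R₁ ∪ R₂ := hunion ▸ Set.mem_univ _
      exact this
    have q1 : a ∈ R₁ → P.reflectionPerm a a ∈ R₂ →
        a ∈ {a | a ∈ R₁ ∧ ∃ c ∈ R₂, P.root a = -P.root c} :=
      fun h h' => ⟨h, _, h', by rw [hneg, neg_neg]⟩
    have q2 : P.reflectionPerm a a ∈ R₁ → a ∈ R₂ →
        P.reflectionPerm a a ∈ {a | a ∈ R₁ ∧ ∃ c ∈ R₂, P.root a = -P.root c} :=
      fun h h' => ⟨h, a, h', hneg a⟩
    tauto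
  exact exists_base_subset _ hQ hpar _ b₁ rfl

end Groth.Agent.H2.Parab
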