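import Mathlib

namespace Groth.Agent.H2.PerfCore

lemma mem_range_of_prod_eq_zero {k : Type*} [Field k] {A : Type*} [CommRing A] [Algebra k A]
    [Nontrivial A]
    (hconn : ∀ e : A, IsIdempotentElem e → e = 0 ∨ e = 1) (x : A) :
    ∀ S : Finset k, ∏ s ∈ S, (x - algebraMap k A s) = 0 → x ∈ (algebraMap k A).range := by
  classical
  intro S
  induction S using Finset.induction_on with
  | empty =>
    intro h
    rw [Finset.prod_empty] at h
    exact absurd h one_ne_zero
  | insert c₁ S' hc ih =>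
    intro h
    rw [Finset.prod_insert hc] at h
    obtain ⟨G, hG⟩ : ∃ G : Polynomial k, G = ∏ s ∈ S', (Polynomial.X - Polynomial.C s) :=
      ⟨_, rfl⟩
    have hGx : Polynomial.aeval x G = ∏ s ∈ S', (x - algebraMap k A s) := by
      rw [hG, map_prod]
      apply Finset.prod_congr rfl
      intro s _
      rw [map_sub, Polynomial.aeval_X, Polynomial.aeval_C]
    obtain ⟨γ, hγ⟩ : ∃ γ : k, γ = G.eval c₁ := ⟨_, rfl⟩
    have hγ0 : γ ≠ 0 := by
      rw [hγ, hG, Polynomial.eval_prod, Finset.prod_ne_zero_iff]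
      intro s hs
      rw [Polynomial.eval_sub, Polynomial.eval_X, Polynomial.eval_C, sub_ne_zero]
      rintro rfl
      exact hc hs
    obtain ⟨H, hH⟩ : Polynomial.X - Polynomial.C c₁ ∣ G - Polynomial.C (G.eval c₁) :=
      Polynomial.X_sub_C_dvd_sub_C_eval
    have hH' := congrArg (Polynomial.aeval x) hH
    rw [map_sub, map_mul, map_sub, Polynomial.aeval_X, Polynomial.aeval_C, Polynomial.aeval_C,
      hGx, ← hγ] at hH'
    obtain ⟨g, hg⟩ : ∃ g : A, g = ∏ s ∈ S', (x - algebraMap k A s) := ⟨_, rfl⟩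
    rw [← hg] at h hH'
    have hγγ : algebraMap k A γ⁻¹ * algebraMap k A γ = 1 := by
      rw [← map_mul, inv_mul_cancel₀ hγ0, map_one]
    obtain ⟨e, he⟩ : ∃ e : A, e = algebraMap k A γ⁻¹ * g := ⟨_, rfl⟩
    have hge : g = algebraMap k A γ * e := by
      rw [he, ← mul_assoc, mul_comm (algebraMap k A γ), hγγ, one_mul]
    have hid : IsIdempotentElem e := by
      show e * e = e
      have h1 : e * e - e = algebraMap k A γ⁻¹ * algebraMap k A γ⁻¹ * Polynomial.aeval x H *
          ((x - algebraMap k A c₁) * g) := by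
        rw [he]
        linear_combination (algebraMap k A γ⁻¹ * algebraMap k A γ⁻¹ * g) * hH' +
          (algebraMap k A γ⁻¹ * g) * hγγ
      rw [h, mul_zero] at h1
      exact sub_eq_zero.mp h1
    rcases hconn e hid with h0 | h1e
    · apply ih
      rw [← hg, hge, h0, mul_zero]
    · have h2 : (x - algebraMap k A c₁) * algebraMap k A γ = 0 := by
        rw [hge, h1e, mul_one] at h
        exact h
      have h3 : x - algebraMap k A c₁ = 0 := by
        calc x - algebraMap k A c₁
            = (x - algebraMap k A c₁) * algebraMap k A γ * algebraMap k A γ⁻¹ := by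
              rw [mul_assoc, mul_comm (algebraMap k A γ), hγγ, mul_one]
          _ = 0 := by rw [h2, zero_mul]
      exact RingHom.mem_range.mpr ⟨c₁, (sub_eq_zero.mp h3).symm⟩

theorem main
    (p : ℕ) [Fact p.Prime] (k : Type*) [Field k] [IsAlgClosed k] [CharP k p]
    (A : Type*) [CommRing A] [Algebra k A] [Algebra.FiniteType k A] [IsReduced A] [Nontrivial A]
    (hconn : ∀ e : A, IsIdempotentElem e → e = 0 ∨ e = 1)
    (x : A) (hx : ∀ n : ℕ, ∃ a : A, a ^ p ^ n = x) :
    x ∈ (algebraMap k A).range := by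
  classical
  haveI : IsNoetherianRing A := Algebra.FiniteType.isNoetherianRing k A
  haveI : CharP A p := charP_of_injective_algebraMap (algebraMap k A).injective p
  have hp1 : 1 < p := (Fact.out : p.Prime).one_lt
  have hc : ∀ P : Ideal A, P.IsPrime → ∃ c : k, x - algebraMap k A c ∈ P := by
    intro P hP
    obtain ⟨m, hm, hPm⟩ := Ideal.exists_le_maximal P hP.ne_top
    letI := Ideal.Quotient.field m
    haveI : Module.Finite k (A ⧸ m) := finite_of_finite_type_of_isJacobsonRing k (A ⧸ m)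
    haveI : Algebra.IsIntegral k (A ⧸ m) := Algebra.IsIntegral.of_finite k (A ⧸ m)
    obtain ⟨c, hc⟩ := (IsAlgClosed.algebraMap_bijective_of_isIntegral (k := k)
      (K := A ⧸ m)).2 (Ideal.Quotient.mk m x)
    refine ⟨c, ?_⟩
    have hym : x - algebraMap k A c ∈ m := by
      rw [← Ideal.Quotient.eq_zero_iff_mem, map_sub, Ideal.Quotient.mk_algebraMap, hc, sub_self]
    obtain ⟨y, hy⟩ : ∃ y, y = x - algebraMap k A c := ⟨_, rfl⟩
    rw [← hy] at hym ⊢
    have hpow : ∀ n : ℕ, y ∈ m ^ (p ^ n) := by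
      intro n
      obtain ⟨a, ha⟩ := hx n
      obtain ⟨cn, hcn⟩ := IsAlgClosed.exists_pow_nat_eq c (pow_pos (Fact.out : p.Prime).pos n)
      have hb : (a - algebraMap k A cn) ^ p ^ n = y := by
        rw [sub_pow_char_pow, ha, ← map_pow, hcn, hy]
      have hbm : a - algebraMap k A cn ∈ m :=
        hm.isPrime.mem_of_pow_mem (p ^ n) (by rw [hb]; exact hym)
      rw [← hb]
      exact Ideal.pow_mem_pow hbm _
    have hinf : y ∈ (⨅ i : ℕ, m ^ i • ⊤ : Submodule A A) := by
      rw [Submodule.mem_iInf]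
      intro i
      have h1 : y ∈ m ^ i := Ideal.pow_le_pow_right (Nat.lt_pow_self hp1).le (hpow i)
      rw [smul_eq_mul, Ideal.mul_top]
      exact h1
    obtain ⟨r, hr⟩ := (Ideal.mem_iInf_smul_pow_eq_bot_iff m y).mp hinf
    have h1r : (1 - (r : A)) * y = 0 := by
      rw [sub_mul, one_mul, sub_eq_zero]
      exact hr.symm
    have hnr : 1 - (r : A) ∉ P := by
      intro h
      have h2 : 1 - (r : A) ∈ m := hPm h
      have h3 : (1 : A) ∈ m := by
        have h4 := m.add_mem h2 r.2
        rwa [sub_add_cancel] at h4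
      exact hm.ne_top ((Ideal.eq_top_iff_one m).mpr h3)
    exact (hP.mem_or_mem (by rw [h1r]; exact P.zero_mem)).resolve_left hnr
  choose! c hc' using hc
  have hfin := minimalPrimes.finite_of_isNoetherianRing A
  obtain ⟨S, hS⟩ : ∃ S : Finset k, S = hfin.toFinset.image c := ⟨_, rfl⟩
  apply mem_range_of_prod_eq_zero hconn x S
  have hnil : IsNilpotent (∏ s ∈ S, (x - algebraMap k A s)) := by
    rw [nilpotent_iff_mem_prime]
    intro J hJ
    haveI := hJ
    obtain ⟨P, hPmin, hPJ⟩ := Ideal.exists_minimalPrimes_le (bot_le : (⊥ : Ideal A) ≤ J)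
    have hPprime : P.IsPrime := hPmin.1.1
    apply hPJ
    have hmem : c P ∈ S := by
      rw [hS]
      exact Finset.mem_image.mpr ⟨P, hfin.mem_toFinset.mpr hPmin, rfl⟩
    exact Ideal.mem_of_dvd P (Finset.dvd_prod_of_mem _ hmem) (hc' P hPprime)
  exact hnil.eq_zero

end Groth.Agent.H2.PerfCore
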