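import Mathlib

set_option autoImplicit false

/-!
Collinearity-preserving maps from the projective plane over `ZMod p` to the projective plane
over a local ring: helper lemmas for S13149.
-/

namespace Groth.Agent.H2.ProjPlane

open Matrix

section alg

variable {A : Type*} [CommRing A]

theorem det3 (x y z : Fin 3 → A) :
    Matrix.det (Matrix.of ![x, y, z]) =
      x 0 * y 1 * z 2 - x 0 * y 2 * z 1 - x 1 * y 0 * z 2 + x 1 * y 2 * z 0
        + x 2 * y 0 * z 1 - x 2 * y 1 * z 0 :=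
  Matrix.det_fin_three _

theorem det3' (a0 a1 a2 b0 b1 b2 c0 c1 c2 : A) :
    Matrix.det (Matrix.of ![![a0, a1, a2], ![b0, b1, b2], ![c0, c1, c2]]) =
      a0 * b1 * c2 - a0 * b2 * c1 - a1 * b0 * c2 + a1 * b2 * c0 + a2 * b0 * c1 - a2 * b1 * c0 :=
  Matrix.det_fin_three _

theorem det_eq_zero_of_dot (x y z n : Fin 3 → A) (i : Fin 3) (hi : IsUnit (n i))
    (h1 : dotProduct x n = 0) (h2 : dotProduct y n = 0) (h3 : dotProduct z n = 0) :
    Matrix.det (Matrix.of ![x, y, z]) = 0 := by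
  have hMn : (Matrix.of ![x, y, z]).mulVec n = 0 := by
    funext j
    have hj : j = 0 ∨ j = 1 ∨ j = 2 := by fin_cases j <;> simp
    rcases hj with rfl | rfl | rfl
    · exact h1
    · exact h2
    · exact h3
  have h4 : (Matrix.of ![x, y, z]).det • n = 0 := by
    have h5 := congrArg ((Matrix.of ![x, y, z]).adjugate.mulVec) hMn
    rw [Matrix.mulVec_mulVec, Matrix.adjugate_mul, Matrix.smul_mulVec, Matrix.one_mulVec,
      Matrix.mulVec_zero] at h5
    exact h5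
  have h6 := congrFun h4 i
  simp only [Pi.smul_apply, smul_eq_mul, Pi.zero_apply] at h6
  exact hi.mul_left_eq_zero.mp h6

theorem det_transform (r0 r1 r2 y0 y1 y2 : Fin 3 → A) (d0 d1 d2 : A) :
    Matrix.det (Matrix.of ![
      ![Matrix.det (Matrix.of ![y0, r1, r2]) * d0, Matrix.det (Matrix.of ![r0, y0, r2]) * d1,
        Matrix.det (Matrix.of ![r0, r1, y0]) * d2],
      ![Matrix.det (Matrix.of ![y1, r1, r2]) * d0, Matrix.det (Matrix.of ![r0, y1, r2]) * d1,
        Matrix.det (Matrix.of ![r0, r1, y1]) * d2],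
      ![Matrix.det (Matrix.of ![y2, r1, r2]) * d0, Matrix.det (Matrix.of ![r0, y2, r2]) * d1,
        Matrix.det (Matrix.of ![r0, r1, y2]) * d2]]) =
    d0 * d1 * d2 * Matrix.det (Matrix.of ![r0, r1, r2]) ^ 2 *
      Matrix.det (Matrix.of ![y0, y1, y2]) := by
  rw [det3']
  simp only [det3]
  ring

theorem cramer3 (r0 r1 r2 y : Fin 3 → A) (j : Fin 3) :
    Matrix.det (Matrix.of ![r0, r1, r2]) * y j =
      Matrix.det (Matrix.of ![y, r1, r2]) * r0 j + Matrix.det (Matrix.of ![r0, y, r2]) * r1 j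
        + Matrix.det (Matrix.of ![r0, r1, y]) * r2 j := by
  simp only [det3]
  have hj : j = 0 ∨ j = 1 ∨ j = 2 := by fin_cases j <;> simp
  rcases hj with rfl | rfl | rfl <;> ring

end alg

theorem chain (p : ℕ) [Fact p.Prime] {A : Type*} [CommRing A] [Nontrivial A]
    (σ : (Fin 3 → ZMod p) → (Fin 3 → A))
    (hunit : ∀ v : Fin 3 → ZMod p, v ≠ 0 → ∃ i, IsUnit (σ v i))
    (hdet : ∀ u v w : Fin 3 → ZMod p, u ≠ 0 → v ≠ 0 → w ≠ 0 →
      Matrix.det (Matrix.of ![u, v, w]) = 0 → Matrix.det (Matrix.of ![σ u, σ v, σ w]) = 0)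
    (l0 l1 l2 : A) (hl0 : IsUnit l0) (hl1 : IsUnit l1) (hl2 : IsUnit l2)
    (he0 : σ ![1, 0, 0] = ![l0, 0, 0]) (he1 : σ ![0, 1, 0] = ![0, l1, 0])
    (he2 : σ ![0, 0, 1] = ![0, 0, l2]) (hU : σ ![1, 1, 1] = ![1, 1, 1]) :
    (p : A) = 0 := by
  have e00 : σ ![1, 0, 0] 0 = l0 := congrFun he0 0
  have e01 : σ ![1, 0, 0] 1 = 0 := congrFun he0 1
  have e02 : σ ![1, 0, 0] 2 = 0 := congrFun he0 2
  have e10 : σ ![0, 1, 0] 0 = 0 := congrFun he1 0
  have e11 : σ ![0, 1, 0] 1 = l1 := congrFun he1 1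
  have e12 : σ ![0, 1, 0] 2 = 0 := congrFun he1 2
  have e20 : σ ![0, 0, 1] 0 = 0 := congrFun he2 0
  have e21 : σ ![0, 0, 1] 1 = 0 := congrFun he2 1
  have e22 : σ ![0, 0, 1] 2 = l2 := congrFun he2 2
  have u0 : σ ![1, 1, 1] 0 = 1 := congrFun hU 0
  have u1 : σ ![1, 1, 1] 1 = 1 := congrFun hU 1
  have u2 : σ ![1, 1, 1] 2 = 1 := congrFun hU 2
  have ne0 : ∀ x y : ZMod p, (![1, x, y] : Fin 3 → ZMod p) ≠ 0 := by
    intro x y h
    have h' : (1 : ZMod p) = 0 := congrFun h 0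
    exact one_ne_zero h'
  have ne1 : ∀ x y : ZMod p, (![x, 1, y] : Fin 3 → ZMod p) ≠ 0 := by
    intro x y h
    have h' : (1 : ZMod p) = 0 := congrFun h 1
    exact one_ne_zero h'
  have ne2 : ∀ x y : ZMod p, (![x, y, 1] : Fin 3 → ZMod p) ≠ 0 := by
    intro x y h
    have h' : (1 : ZMod p) = 0 := congrFun h 2
    exact one_ne_zero h'
  have fin3 : ∀ i : Fin 3, i = 0 ∨ i = 1 ∨ i = 2 := by
    intro i; fin_cases i <;> simp
  have cancel : ∀ {l X : A}, IsUnit l → l * X = 0 → X = 0 :=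
    fun hl h => hl.mul_right_eq_zero.mp h
  -- the point a = (1,1,0)
  have a2 : σ ![1, 1, 0] 2 = 0 := by
    have h := hdet ![1, 0, 0] ![0, 1, 0] ![1, 1, 0] (ne0 _ _) (ne1 _ _) (ne0 _ _)
      (by rw [det3']; ring)
    rw [det3] at h
    simp only [e00, e01, e02, e10, e11, e12] at h
    have h' : l0 * (l1 * σ ![1, 1, 0] 2) = 0 := by
      first | linear_combination h | linear_combination (-1 : A) * h
    exact cancel hl1 (cancel hl0 h')
  have a1 : σ ![1, 1, 0] 1 = σ ![1, 1, 0] 0 := by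
    have h := hdet ![0, 0, 1] ![1, 1, 1] ![1, 1, 0] (ne2 _ _) (ne0 _ _) (ne0 _ _)
      (by rw [det3']; ring)
    rw [det3] at h
    simp only [e20, e21, e22, u0, u1, u2] at h
    have h' : l2 * (σ ![1, 1, 0] 1 - σ ![1, 1, 0] 0) = 0 := by
      first | linear_combination h | linear_combination (-1 : A) * h
    exact sub_eq_zero.mp (cancel hl2 h')
  have au : IsUnit (σ ![1, 1, 0] 0) := by
    obtain ⟨i, hi⟩ := hunit ![1, 1, 0] (ne0 _ _)
    rcases fin3 i with rfl | rfl | rfl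
    · exact hi
    · rwa [a1] at hi
    · rw [a2] at hi; exact absurd hi not_isUnit_zero
  -- the point b = (1,0,1)
  have b1 : σ ![1, 0, 1] 1 = 0 := by
    have h := hdet ![1, 0, 0] ![0, 0, 1] ![1, 0, 1] (ne0 _ _) (ne2 _ _) (ne0 _ _)
      (by rw [det3']; ring)
    rw [det3] at h
    simp only [e00, e01, e02, e20, e21, e22] at h
    have h' : l0 * (l2 * σ ![1, 0, 1] 1) = 0 := by
      first | linear_combination h | linear_combination (-1 : A) * h
    exact cancel hl2 (cancel hl0 h')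
  have b2 : σ ![1, 0, 1] 2 = σ ![1, 0, 1] 0 := by
    have h := hdet ![0, 1, 0] ![1, 1, 1] ![1, 0, 1] (ne1 _ _) (ne0 _ _) (ne0 _ _)
      (by rw [det3']; ring)
    rw [det3] at h
    simp only [e10, e11, e12, u0, u1, u2] at h
    have h' : l1 * (σ ![1, 0, 1] 2 - σ ![1, 0, 1] 0) = 0 := by
      first | linear_combination h | linear_combination (-1 : A) * h
    exact sub_eq_zero.mp (cancel hl1 h')
  have bu : IsUnit (σ ![1, 0, 1] 0) := by
    obtain ⟨i, hi⟩ := hunit ![1, 0, 1] (ne0 _ _)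
    rcases fin3 i with rfl | rfl | rfl
    · exact hi
    · rw [b1] at hi; exact absurd hi not_isUnit_zero
    · rwa [b2] at hi
  -- the point d = (0,1,-1)
  have d0 : σ ![0, 1, -1] 0 = 0 := by
    have h := hdet ![0, 1, 0] ![0, 0, 1] ![0, 1, -1] (ne1 _ _) (ne2 _ _) (ne1 _ _)
      (by rw [det3']; ring)
    rw [det3] at h
    simp only [e10, e11, e12, e20, e21, e22] at h
    have h' : l1 * (l2 * σ ![0, 1, -1] 0) = 0 := by
      first | linear_combination h | linear_combination (-1 : A) * h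
    exact cancel hl2 (cancel hl1 h')
  have d2 : σ ![0, 1, -1] 2 = -σ ![0, 1, -1] 1 := by
    have h := hdet ![1, 1, 0] ![1, 0, 1] ![0, 1, -1] (ne0 _ _) (ne0 _ _) (ne1 _ _)
      (by rw [det3']; ring)
    rw [det3] at h
    simp only [a1, a2, b1, b2, d0] at h
    have h' : σ ![1, 1, 0] 0 * (σ ![1, 0, 1] 0 * (σ ![0, 1, -1] 2 + σ ![0, 1, -1] 1)) = 0 := by
      first | linear_combination h | linear_combination (-1 : A) * h
    exact eq_neg_of_add_eq_zero_left (cancel bu (cancel au h'))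
  have du : IsUnit (σ ![0, 1, -1] 1) := by
    obtain ⟨i, hi⟩ := hunit ![0, 1, -1] (ne1 _ _)
    rcases fin3 i with rfl | rfl | rfl
    · rw [d0] at hi; exact absurd hi not_isUnit_zero
    · exact hi
    · rw [d2] at hi; exact (IsUnit.neg_iff _).mp hi
  have claim : ∀ k : ℕ,
      σ ![1, (k : ZMod p), 0] 1 = (k : A) * σ ![1, (k : ZMod p), 0] 0 ∧
      σ ![1, (k : ZMod p), 0] 2 = 0 ∧
      σ ![1, (k : ZMod p), 1] 1 = (k : A) * σ ![1, (k : ZMod p), 1] 0 ∧
      σ ![1, (k : ZMod p), 1] 2 = σ ![1, (k : ZMod p), 1] 0 := by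
    intro k
    induction k with
    | zero =>
      simp only [Nat.cast_zero, zero_mul]
      exact ⟨e01, e02, b1, b2⟩
    | succ k ih =>
      obtain ⟨-, -, q1, q2⟩ := ih
      simp only [Nat.cast_add, Nat.cast_one]
      -- R_k is a unit vector in first coordinate
      have ru : IsUnit (σ ![1, (k : ZMod p), 1] 0) := by
        obtain ⟨i, hi⟩ := hunit ![1, (k : ZMod p), 1] (ne0 _ _)
        rcases fin3 i with rfl | rfl | rfl
        · exact hi
        · rw [q1] at hi; exact isUnit_of_mul_isUnit_right hi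
        · rwa [q2] at hi
      have z' : σ ![1, (k : ZMod p) + 1, 0] 2 = 0 := by
        have h := hdet ![1, 0, 0] ![0, 1, 0] ![1, (k : ZMod p) + 1, 0] (ne0 _ _) (ne1 _ _)
          (ne0 _ _) (by rw [det3']; ring)
        rw [det3] at h
        simp only [e00, e01, e02, e10, e11, e12] at h
        have h' : l0 * (l1 * σ ![1, (k : ZMod p) + 1, 0] 2) = 0 := by
          first | linear_combination h | linear_combination (-1 : A) * h
        exact cancel hl1 (cancel hl0 h')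
      have y' : σ ![1, (k : ZMod p) + 1, 0] 1 = ((k : A) + 1) * σ ![1, (k : ZMod p) + 1, 0] 0 := by
        have h := hdet ![1, (k : ZMod p), 1] ![0, 1, -1] ![1, (k : ZMod p) + 1, 0] (ne0 _ _)
          (ne1 _ _) (ne0 _ _) (by rw [det3']; ring)
        rw [det3] at h
        simp only [q1, q2, d0, d2, z'] at h
        have h' : σ ![1, (k : ZMod p), 1] 0 * (σ ![0, 1, -1] 1 *
            (σ ![1, (k : ZMod p) + 1, 0] 1 - ((k : A) + 1) * σ ![1, (k : ZMod p) + 1, 0] 0)) = 0 := by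
          first | linear_combination h | linear_combination (-1 : A) * h
        exact sub_eq_zero.mp (cancel du (cancel ru h'))
      have pu : IsUnit (σ ![1, (k : ZMod p) + 1, 0] 0) := by
        obtain ⟨i, hi⟩ := hunit ![1, (k : ZMod p) + 1, 0] (ne0 _ _)
        rcases fin3 i with rfl | rfl | rfl
        · exact hi
        · rw [y'] at hi; exact isUnit_of_mul_isUnit_right hi
        · rw [z'] at hi; exact absurd hi not_isUnit_zero
      have y'' : σ ![1, (k : ZMod p) + 1, 1] 1 = ((k : A) + 1) * σ ![1, (k : ZMod p) + 1, 1] 0 := by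
        have h := hdet ![0, 0, 1] ![1, (k : ZMod p) + 1, 0] ![1, (k : ZMod p) + 1, 1] (ne2 _ _)
          (ne0 _ _) (ne0 _ _) (by rw [det3']; ring)
        rw [det3] at h
        simp only [e20, e21, e22, y', z'] at h
        have h' : l2 * (σ ![1, (k : ZMod p) + 1, 0] 0 *
            (σ ![1, (k : ZMod p) + 1, 1] 1 - ((k : A) + 1) * σ ![1, (k : ZMod p) + 1, 1] 0)) = 0 := by
          first | linear_combination h | linear_combination (-1 : A) * h
        exact sub_eq_zero.mp (cancel pu (cancel hl2 h'))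
      have z'' : σ ![1, (k : ZMod p) + 1, 1] 2 = σ ![1, (k : ZMod p) + 1, 1] 0 := by
        have h := hdet ![0, 1, 0] ![1, 0, 1] ![1, (k : ZMod p) + 1, 1] (ne1 _ _)
          (ne0 _ _) (ne0 _ _) (by rw [det3']; ring)
        rw [det3] at h
        simp only [e10, e11, e12, b1, b2] at h
        have h' : l1 * (σ ![1, 0, 1] 0 *
            (σ ![1, (k : ZMod p) + 1, 1] 2 - σ ![1, (k : ZMod p) + 1, 1] 0)) = 0 := by
          first | linear_combination h | linear_combination (-1 : A) * h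
        exact sub_eq_zero.mp (cancel bu (cancel hl1 h'))
      exact ⟨y', z', y'', z''⟩
  obtain ⟨p1, -, -, -⟩ := claim p
  have hp0 : ((p : ℕ) : ZMod p) = 0 := ZMod.natCast_self p
  rw [hp0, e01, e00] at p1
  exact hl0.mul_left_eq_zero.mp p1.symm

theorem main (p : ℕ) [Fact p.Prime] (A : Type*) [CommRing A] [IsLocalRing A]
    (ρ : (Fin 3 → ZMod p) → (Fin 3 → A))
    (hpt : ∀ v : Fin 3 → ZMod p, v ≠ 0 → ∃ i, IsUnit (ρ v i))
    (hcol : ∀ u v w : Fin 3 → ZMod p, u ≠ 0 → v ≠ 0 → w ≠ 0 →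
      Matrix.det (Matrix.of ![u, v, w]) = 0 →
      ∃ n : Fin 3 → A, (∃ i, IsUnit (n i)) ∧
        dotProduct (ρ u) n = 0 ∧ dotProduct (ρ v) n = 0 ∧ dotProduct (ρ w) n = 0)
    (hE : IsUnit (Matrix.det (Matrix.of ![ρ ![1, 0, 0], ρ ![0, 1, 0], ρ ![0, 0, 1]])))
    (hg2 : IsUnit (Matrix.det (Matrix.of ![ρ ![1, 0, 0], ρ ![0, 1, 0], ρ ![1, 1, 1]])))
    (hg3 : IsUnit (Matrix.det (Matrix.of ![ρ ![1, 0, 0], ρ ![0, 0, 1], ρ ![1, 1, 1]])))
    (hg4 : IsUnit (Matrix.det (Matrix.of ![ρ ![0, 1, 0], ρ ![0, 0, 1], ρ ![1, 1, 1]]))) :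
    (p : A) = 0 := by
  have hdetρ : ∀ u v w : Fin 3 → ZMod p, u ≠ 0 → v ≠ 0 → w ≠ 0 →
      Matrix.det (Matrix.of ![u, v, w]) = 0 →
      Matrix.det (Matrix.of ![ρ u, ρ v, ρ w]) = 0 := by
    intro u v w hu hv hw h
    obtain ⟨n, ⟨i, hi⟩, h1, h2, h3⟩ := hcol u v w hu hv hw h
    exact det_eq_zero_of_dot _ _ _ n i hi h1 h2 h3
  generalize hr0 : ρ ![1, 0, 0] = r0 at *
  generalize hr1 : ρ ![0, 1, 0] = r1 at *
  generalize hr2 : ρ ![0, 0, 1] = r2 at *
  generalize ha : ρ ![1, 1, 1] = a at *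
  have hc0 : IsUnit (Matrix.det (Matrix.of ![a, r1, r2])) := by
    have h : Matrix.det (Matrix.of ![a, r1, r2]) = Matrix.det (Matrix.of ![r1, r2, a]) := by
      simp only [det3]; ring
    rw [h]; exact hg4
  have hc1 : IsUnit (Matrix.det (Matrix.of ![r0, a, r2])) := by
    have h : Matrix.det (Matrix.of ![r0, a, r2]) = -Matrix.det (Matrix.of ![r0, r2, a]) := by
      simp only [det3]; ring
    rw [h]; exact hg3.neg
  obtain ⟨d0, hd0⟩ := hc0.exists_right_inv
  obtain ⟨d1, hd1⟩ := hc1.exists_right_inv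
  obtain ⟨d2, hd2⟩ := hg2.exists_right_inv
  have hd0u : IsUnit d0 := IsUnit.of_mul_eq_one_right _ hd0
  have hd1u : IsUnit d1 := IsUnit.of_mul_eq_one_right _ hd1
  have hd2u : IsUnit d2 := IsUnit.of_mul_eq_one_right _ hd2
  obtain ⟨σ, hσ⟩ : ∃ σ : (Fin 3 → ZMod p) → (Fin 3 → A), ∀ v, σ v =
      ![Matrix.det (Matrix.of ![ρ v, r1, r2]) * d0, Matrix.det (Matrix.of ![r0, ρ v, r2]) * d1,
        Matrix.det (Matrix.of ![r0, r1, ρ v]) * d2] := ⟨_, fun _ => rfl⟩
  have z1 : Matrix.det (Matrix.of ![r0, r0, r2]) = 0 := by rw [det3]; ring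
  have z2 : Matrix.det (Matrix.of ![r0, r1, r0]) = 0 := by rw [det3]; ring
  have z3 : Matrix.det (Matrix.of ![r1, r1, r2]) = 0 := by rw [det3]; ring
  have z4 : Matrix.det (Matrix.of ![r0, r1, r1]) = 0 := by rw [det3]; ring
  have z5 : Matrix.det (Matrix.of ![r2, r1, r2]) = 0 := by rw [det3]; ring
  have z6 : Matrix.det (Matrix.of ![r0, r2, r2]) = 0 := by rw [det3]; ring
  refine chain p σ ?_ ?_ (Matrix.det (Matrix.of ![r0, r1, r2]) * d0)
    (Matrix.det (Matrix.of ![r0, r1, r2]) * d1) (Matrix.det (Matrix.of ![r0, r1, r2]) * d2)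
    (hE.mul hd0u) (hE.mul hd1u) (hE.mul hd2u) ?_ ?_ ?_ ?_
  · intro v hv
    by_contra hcon
    push Not at hcon
    obtain ⟨j, hj⟩ := hpt v hv
    have h0 : ¬ IsUnit (Matrix.det (Matrix.of ![ρ v, r1, r2]) * d0) := by
      have h := hcon 0; rw [hσ] at h; exact h
    have h1 : ¬ IsUnit (Matrix.det (Matrix.of ![r0, ρ v, r2]) * d1) := by
      have h := hcon 1; rw [hσ] at h; exact h
    have h2 : ¬ IsUnit (Matrix.det (Matrix.of ![r0, r1, ρ v]) * d2) := by
      have h := hcon 2; rw [hσ] at h; exact h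
    have m0 : Matrix.det (Matrix.of ![ρ v, r1, r2]) ∈ IsLocalRing.maximalIdeal A :=
      (IsLocalRing.mem_maximalIdeal _).mpr (mem_nonunits_iff.mpr fun hx => h0 (hx.mul hd0u))
    have m1 : Matrix.det (Matrix.of ![r0, ρ v, r2]) ∈ IsLocalRing.maximalIdeal A :=
      (IsLocalRing.mem_maximalIdeal _).mpr (mem_nonunits_iff.mpr fun hx => h1 (hx.mul hd1u))
    have m2 : Matrix.det (Matrix.of ![r0, r1, ρ v]) ∈ IsLocalRing.maximalIdeal A :=
      (IsLocalRing.mem_maximalIdeal _).mpr (mem_nonunits_iff.mpr fun hx => h2 (hx.mul hd2u))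
    have hmem : Matrix.det (Matrix.of ![r0, r1, r2]) * ρ v j ∈ IsLocalRing.maximalIdeal A := by
      rw [cramer3]
      exact Ideal.add_mem _ (Ideal.add_mem _ (Ideal.mul_mem_right _ _ m0)
        (Ideal.mul_mem_right _ _ m1)) (Ideal.mul_mem_right _ _ m2)
    exact mem_nonunits_iff.mp ((IsLocalRing.mem_maximalIdeal _).mp hmem) (hE.mul hj)
  · intro u v w hu hv hw h
    rw [hσ u, hσ v, hσ w, det_transform, hdetρ u v w hu hv hw h, mul_zero]
  · rw [hσ, hr0, z1, z2, zero_mul, zero_mul]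
  · rw [hσ, hr1, z3, z4, zero_mul, zero_mul]
  · rw [hσ, hr2, z5, z6, zero_mul, zero_mul]
  · rw [hσ, ha, hd0, hd1, hd2]

end Groth.Agent.H2.ProjPlane
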