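import Mathlib

set_option autoImplicit false

/-!
Trace map on differentials of a `p`-th root extension (helper for S7340).
-/

universe u

open Polynomial

namespace Groth.Agent.H2.PthRoot

/-- evaluation of an integer polynomial in two variables -/
noncomputable def ev2 {S : Type*} [CommRing S] (u v : S) : MvPolynomial (Fin 2) ℤ →+* S :=
  MvPolynomial.eval₂Hom (Int.castRingHom S) ![u, v]

@[simp] theorem ev2_X0 {S : Type*} [CommRing S] (u v : S) :
    ev2 u v (MvPolynomial.X 0) = u := by simp [ev2]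

@[simp] theorem ev2_X1 {S : Type*} [CommRing S] (u v : S) :
    ev2 u v (MvPolynomial.X 1) = v := by simp [ev2]

theorem ev2_C {S : Type*} [CommRing S] (u v : S) (n : ℤ) :
    ev2 u v (MvPolynomial.C n) = (n : S) := by simp [ev2]

theorem D_pow {R S M : Type*} [CommRing R] [CommRing S] [Algebra R S] [AddCommGroup M]
    [Module R M] [Module S M] (D : Derivation R S M) (s : S) (n : ℕ) :
    D (s ^ n) = ((n : S) * s ^ (n - 1)) • D s := by
  rw [Derivation.leibniz_pow, mul_smul, Nat.cast_smul_eq_nsmul]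

theorem chain2 {R S M : Type*} [CommRing R] [CommRing S] [Algebra R S] [AddCommGroup M]
    [Module R M] [Module S M] (D : Derivation R S M) (u v : S) (q : MvPolynomial (Fin 2) ℤ) :
    D (ev2 u v q) = ev2 u v (MvPolynomial.pderiv 0 q) • D u +
      ev2 u v (MvPolynomial.pderiv 1 q) • D v := by
  induction q using MvPolynomial.induction_on with
  | C n =>
    rw [ev2_C, MvPolynomial.pderiv_C, MvPolynomial.pderiv_C, map_zero, zero_smul, zero_smul,
      add_zero, ← zsmul_one, map_zsmul, Derivation.map_one_eq_zero, smul_zero]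
  | add q₁ q₂ h₁ h₂ =>
    simp only [map_add, add_smul, h₁, h₂]
    abel
  | mul_X q i ih =>
    have hi : i = 0 ∨ i = 1 := by fin_cases i <;> simp
    rw [map_mul, Derivation.leibniz, ih, Derivation.leibniz, Derivation.leibniz]
    rcases hi with rfl | rfl
    · rw [MvPolynomial.pderiv_X_self,
        MvPolynomial.pderiv_X_of_ne (show (0 : Fin 2) ≠ 1 by decide)]
      simp only [smul_eq_mul, mul_one, mul_zero, zero_add, map_add, map_mul, ev2_X0, add_smul,
        mul_smul, smul_add]
      abel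
    · rw [MvPolynomial.pderiv_X_self,
        MvPolynomial.pderiv_X_of_ne (show (1 : Fin 2) ≠ 0 by decide)]
      simp only [smul_eq_mul, mul_one, mul_zero, zero_add, map_add, map_mul, ev2_X1, add_smul,
        mul_smul, smul_add]
      abel

theorem exists_witness (p : ℕ) (hp : p.Prime) {R S M : Type*} [CommRing R] [CommRing S]
    [Algebra R S] [AddCommGroup M] [Module R M] [Module S M] (D : Derivation R S M) (u v : S) :
    ∃ w : S, (u + v) ^ p = u ^ p + v ^ p + (p : S) * w ∧
      D w = (u + v) ^ (p - 1) • (D u + D v) - u ^ (p - 1) • D u - v ^ (p - 1) • D v := by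
  obtain ⟨r, hr⟩ := exists_add_pow_prime_eq hp
    (MvPolynomial.X 0 : MvPolynomial (Fin 2) ℤ) (MvPolynomial.X 1)
  obtain ⟨Q, hQ⟩ : ∃ Q : MvPolynomial (Fin 2) ℤ,
    Q = MvPolynomial.X 0 * MvPolynomial.X 1 * r := ⟨_, rfl⟩
  have hr' : (MvPolynomial.X 0 + MvPolynomial.X 1 : MvPolynomial (Fin 2) ℤ) ^ p =
      MvPolynomial.X 0 ^ p + MvPolynomial.X 1 ^ p + (p : MvPolynomial (Fin 2) ℤ) * Q := by
    rw [hr, hQ]; ring
  have hp0 : (p : MvPolynomial (Fin 2) ℤ) ≠ 0 := Nat.cast_ne_zero.mpr hp.ne_zero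
  have d4 : ∀ i, MvPolynomial.pderiv i ((p : MvPolynomial (Fin 2) ℤ) * Q) =
      (p : MvPolynomial (Fin 2) ℤ) * MvPolynomial.pderiv i Q := by
    intro i
    rw [Derivation.leibniz, Derivation.map_natCast, smul_zero, add_zero, smul_eq_mul]
  have hQ0 : MvPolynomial.pderiv 0 Q =
      (MvPolynomial.X 0 + MvPolynomial.X 1) ^ (p - 1) - MvPolynomial.X 0 ^ (p - 1) := by
    have h := congrArg (MvPolynomial.pderiv 0) hr'
    simp only [map_add, d4, Derivation.leibniz_pow, MvPolynomial.pderiv_X_self,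
      MvPolynomial.pderiv_X_of_ne (show (1 : Fin 2) ≠ 0 by decide), smul_eq_mul, mul_one,
      mul_zero, add_zero, smul_zero, nsmul_eq_mul] at h
    apply mul_left_cancel₀ hp0
    linear_combination (-1 : MvPolynomial (Fin 2) ℤ) * h
  have hQ1 : MvPolynomial.pderiv 1 Q =
      (MvPolynomial.X 0 + MvPolynomial.X 1) ^ (p - 1) - MvPolynomial.X 1 ^ (p - 1) := by
    have h := congrArg (MvPolynomial.pderiv 1) hr'
    simp only [map_add, d4, Derivation.leibniz_pow, MvPolynomial.pderiv_X_self,
      MvPolynomial.pderiv_X_of_ne (show (0 : Fin 2) ≠ 1 by decide), smul_eq_mul, mul_one,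
      mul_zero, zero_add, smul_zero, nsmul_eq_mul] at h
    apply mul_left_cancel₀ hp0
    linear_combination (-1 : MvPolynomial (Fin 2) ℤ) * h
  refine ⟨ev2 u v Q, ?_, ?_⟩
  · have h := congrArg (ev2 u v) hr'
    simpa only [map_add, map_pow, map_mul, map_natCast, ev2_X0, ev2_X1] using h
  · rw [chain2, hQ0, hQ1]
    simp only [map_sub, map_pow, map_add, ev2_X0, ev2_X1, sub_smul, smul_add]
    abel

section main

variable (p : ℕ) [Fact p.Prime] (R : Type u) [CommRing R] [CharP R p] (c : R)

theorem root_pow :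
    AdjoinRoot.root (X ^ p - C c : R[X]) ^ p = algebraMap R (AdjoinRoot (X ^ p - C c : R[X])) c := by
  have h0 := AdjoinRoot.eval₂_root (X ^ p - C c : R[X])
  rw [eval₂_sub, eval₂_X_pow, eval₂_C, sub_eq_zero] at h0
  exact h0

theorem mk_monomial (n : ℕ) (r : R) :
    AdjoinRoot.mk (X ^ p - C c : R[X]) (monomial n r) =
      r • AdjoinRoot.root (X ^ p - C c : R[X]) ^ n := by
  rw [← C_mul_X_pow_eq_monomial, map_mul, map_pow, AdjoinRoot.mk_C, AdjoinRoot.mk_X,
    Algebra.smul_def, AdjoinRoot.algebraMap_eq]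

theorem algebraMap_injective :
    Function.Injective (algebraMap R (AdjoinRoot (X ^ p - C c : R[X]))) := by
  have hp : p.Prime := Fact.out
  have : Nontrivial R := CharP.nontrivial_of_char_ne_one (R := R) hp.ne_one
  have hmon : (X ^ p - C c : R[X]).Monic := monic_X_pow_sub_C c hp.ne_zero
  have e : ∀ r : R, AdjoinRoot.modByMonicHom hmon
      (algebraMap R (AdjoinRoot (X ^ p - C c : R[X])) r) = C r := by
    intro r
    have h1 : algebraMap R (AdjoinRoot (X ^ p - C c : R[X])) r = AdjoinRoot.mk _ (C r) := rfl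
    rw [h1, AdjoinRoot.modByMonicHom_mk, (modByMonic_eq_self_iff hmon).2]
    refine lt_of_le_of_lt degree_C_le ?_
    rw [degree_X_pow_sub_C hp.pos]
    exact_mod_cast hp.pos
  intro r₁ r₂ h
  have h2 := congrArg (AdjoinRoot.modByMonicHom hmon) h
  rw [e, e] at h2
  exact C_injective h2

variable (T : Ω[AdjoinRoot (X ^ p - C c : R[X])⁄R] →ₗ[R] Ω[R⁄ℤ])
  (hT : ∀ i : ℕ, i + 2 ≤ p →
    T (AdjoinRoot.root (X ^ p - C c) ^ i •
      KaehlerDifferential.D R _ (AdjoinRoot.root (X ^ p - C c))) = 0)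

include hT

theorem T_D_pow_root (m : ℕ) :
    T (KaehlerDifferential.D R _ (AdjoinRoot.root (X ^ p - C c : R[X]) ^ m)) = 0 := by
  have hp : p.Prime := Fact.out
  induction m using Nat.strong_induction_on with
  | _ m ih =>
    by_cases hm : m < p
    · rcases Nat.eq_zero_or_pos m with rfl | hpos
      · rw [pow_zero, Derivation.map_one_eq_zero, map_zero]
      · rw [Derivation.leibniz_pow, map_nsmul, hT (m - 1) (by omega), smul_zero]
    · obtain ⟨m', rfl⟩ : ∃ m', m = m' + p := ⟨m - p, by omega⟩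
      have ex : AdjoinRoot.root (X ^ p - C c : R[X]) ^ (m' + p) =
          c • AdjoinRoot.root (X ^ p - C c : R[X]) ^ m' := by
        rw [pow_add, root_pow, Algebra.smul_def, mul_comm]
      rw [ex, Derivation.map_smul, map_smul, ih m' (by have := hp.pos; omega), smul_zero]

theorem T_D (h : AdjoinRoot (X ^ p - C c : R[X])) :
    T (KaehlerDifferential.D R _ h) = 0 := by
  obtain ⟨q, rfl⟩ := AdjoinRoot.mk_surjective h
  induction q using Polynomial.induction_on' with
  | add q₁ q₂ h₁ h₂ => rw [map_add, map_add, map_add, h₁, h₂, add_zero]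
  | monomial n r =>
    rw [mk_monomial, Derivation.map_smul, map_smul, T_D_pow_root p R c T hT, smul_zero]

theorem T_pow_D
    (hT' : T (AdjoinRoot.root (X ^ p - C c) ^ (p - 1) •
      KaehlerDifferential.D R _ (AdjoinRoot.root (X ^ p - C c))) = KaehlerDifferential.D ℤ R c)
    (h : AdjoinRoot (X ^ p - C c : R[X])) :
    ∃ r : R, h ^ p = algebraMap R (AdjoinRoot (X ^ p - C c : R[X])) r ∧
      T (h ^ (p - 1) • KaehlerDifferential.D R _ h) = KaehlerDifferential.D ℤ R r := by
  have hp : p.Prime := Fact.out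
  obtain ⟨k, hk⟩ : ∃ k, p = k + 1 := ⟨p - 1, by have := hp.pos; omega⟩
  have hk1 : p - 1 = k := by omega
  have hpow : ∀ z : AdjoinRoot (X ^ p - C c : R[X]), z ^ p = z ^ (k + 1) :=
    fun z => congrArg (fun e : ℕ => z ^ e) hk
  have hpS : (p : AdjoinRoot (X ^ p - C c : R[X])) = 0 := by
    rw [← map_natCast (algebraMap R (AdjoinRoot (X ^ p - C c : R[X]))), CharP.cast_eq_zero,
      map_zero]
  have hpΩ : ∀ ω : Ω[R⁄ℤ], p • ω = 0 := fun ω => by
    rw [← Nat.cast_smul_eq_nsmul R, CharP.cast_eq_zero, zero_smul]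
  obtain ⟨q, rfl⟩ := AdjoinRoot.mk_surjective h
  induction q using Polynomial.induction_on' with
  | add q₁ q₂ h₁ h₂ =>
    obtain ⟨r₁, e₁, t₁⟩ := h₁
    obtain ⟨r₂, e₂, t₂⟩ := h₂
    obtain ⟨w, hw, hDw⟩ := exists_witness p hp
      (KaehlerDifferential.D R (AdjoinRoot (X ^ p - C c : R[X])))
      (AdjoinRoot.mk _ q₁) (AdjoinRoot.mk _ q₂)
    refine ⟨r₁ + r₂, ?_, ?_⟩
    · simp only [map_add]
      rw [hw, hpS, zero_mul, add_zero, e₁, e₂]
    · have e : (AdjoinRoot.mk (X ^ p - C c : R[X]) q₁ + AdjoinRoot.mk _ q₂) ^ (p - 1) •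
          (KaehlerDifferential.D R _ (AdjoinRoot.mk (X ^ p - C c : R[X]) q₁) +
            KaehlerDifferential.D R _ (AdjoinRoot.mk (X ^ p - C c : R[X]) q₂)) =
          KaehlerDifferential.D R _ w +
            AdjoinRoot.mk (X ^ p - C c : R[X]) q₁ ^ (p - 1) •
              KaehlerDifferential.D R _ (AdjoinRoot.mk (X ^ p - C c : R[X]) q₁) +
            AdjoinRoot.mk (X ^ p - C c : R[X]) q₂ ^ (p - 1) •
              KaehlerDifferential.D R _ (AdjoinRoot.mk (X ^ p - C c : R[X]) q₂) := by
        rw [hDw]; abel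
      simp only [map_add]
      rw [e, map_add, map_add, T_D p R c T hT, t₁, t₂, zero_add]
  | monomial n r =>
    rw [mk_monomial]
    refine ⟨r ^ p * c ^ n, ?_, ?_⟩
    · rw [_root_.smul_pow, ← pow_mul, mul_comm n p, pow_mul, root_pow, Algebra.smul_def, map_mul,
        map_pow, map_pow]
    · rcases Nat.eq_zero_or_pos n with rfl | hn
      · rw [pow_zero, Derivation.map_smul, Derivation.map_one_eq_zero, smul_zero, smul_zero,
          map_zero, pow_zero, mul_one, Derivation.leibniz_pow, hpΩ]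
      · obtain ⟨n', rfl⟩ : ∃ n', n = n' + 1 := ⟨n - 1, by omega⟩
        have hAc : algebraMap R (AdjoinRoot (X ^ p - C c : R[X])) c =
            AdjoinRoot.root (X ^ p - C c : R[X]) ^ (k + 1) := by
          rw [← hpow, root_pow]
        have key : (r • AdjoinRoot.root (X ^ p - C c : R[X]) ^ (n' + 1)) ^ (p - 1) •
            KaehlerDifferential.D R _ (r • AdjoinRoot.root (X ^ p - C c : R[X]) ^ (n' + 1)) =
            (r ^ p * ((n' + 1 : ℕ) : R) * c ^ n') •
              (AdjoinRoot.root (X ^ p - C c : R[X]) ^ (p - 1) •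
                KaehlerDifferential.D R _ (AdjoinRoot.root (X ^ p - C c : R[X]))) := by
          have e1 : KaehlerDifferential.D R _
              (r • AdjoinRoot.root (X ^ p - C c : R[X]) ^ (n' + 1)) =
              (r • (((n' + 1 : ℕ) : AdjoinRoot (X ^ p - C c : R[X])) *
                AdjoinRoot.root (X ^ p - C c : R[X]) ^ n')) •
                KaehlerDifferential.D R _ (AdjoinRoot.root (X ^ p - C c : R[X])) := by
            rw [Derivation.map_smul, D_pow, Nat.add_sub_cancel, smul_assoc]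
          rw [e1, ← smul_assoc (r ^ p * ((n' + 1 : ℕ) : R) * c ^ n'), smul_smul]
          congr 1
          simp only [Algebra.smul_def, map_mul, map_pow, map_natCast]
          rw [hk1, hpow, hAc]
          ring
        rw [key, map_smul, hT', Derivation.leibniz, D_pow, D_pow, CharP.cast_eq_zero R p, zero_mul,
          zero_smul, smul_zero, add_zero, Nat.add_sub_cancel, smul_smul, mul_assoc]

end main

section final

variable (p : ℕ) [Fact p.Prime] (R : Type u) [CommRing R] [CharP R p]

theorem main (a b : R)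
    (φ : AdjoinRoot (X ^ p - C a : R[X]) →ₐ[R] AdjoinRoot (X ^ p - C b : R[X]))
    (Tx : Ω[AdjoinRoot (X ^ p - C a : R[X])⁄R] →ₗ[R] Ω[R⁄ℤ])
    (Ty : Ω[AdjoinRoot (X ^ p - C b : R[X])⁄R] →ₗ[R] Ω[R⁄ℤ])
    (hTx : ∀ i : ℕ, i + 2 ≤ p →
      Tx (AdjoinRoot.root (X ^ p - C a) ^ i • KaehlerDifferential.D R _ (AdjoinRoot.root (X ^ p - C a))) = 0)
    (hTx' : Tx (AdjoinRoot.root (X ^ p - C a) ^ (p - 1) • KaehlerDifferential.D R _ (AdjoinRoot.root (X ^ p - C a))) =
      KaehlerDifferential.D ℤ R a)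
    (hTy : ∀ i : ℕ, i + 2 ≤ p →
      Ty (AdjoinRoot.root (X ^ p - C b) ^ i • KaehlerDifferential.D R _ (AdjoinRoot.root (X ^ p - C b))) = 0)
    (hTy' : Ty (AdjoinRoot.root (X ^ p - C b) ^ (p - 1) • KaehlerDifferential.D R _ (AdjoinRoot.root (X ^ p - C b))) =
      KaehlerDifferential.D ℤ R b)
    (s t : AdjoinRoot (X ^ p - C a : R[X])) :
    Tx (s • KaehlerDifferential.D R _ t) = Ty (φ s • KaehlerDifferential.D R _ (φ t)) := by
  have hp : p.Prime := Fact.out
  have hpΩ : ∀ ω : Ω[R⁄ℤ], p • ω = 0 := fun ω => by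
    rw [← Nat.cast_smul_eq_nsmul R, CharP.cast_eq_zero, zero_smul]
  obtain ⟨g, hg⟩ : ∃ g, g = φ (AdjoinRoot.root (X ^ p - C a : R[X])) := ⟨_, rfl⟩
  have hgp : g ^ p = algebraMap R _ a := by rw [hg, ← map_pow, root_pow, AlgHom.commutes]
  have M' : ∀ n : ℕ, Tx (AdjoinRoot.root (X ^ p - C a : R[X]) ^ n •
      KaehlerDifferential.D R _ (AdjoinRoot.root (X ^ p - C a : R[X]))) =
      Ty (g ^ n • KaehlerDifferential.D R _ g) := by
    intro n
    induction n using Nat.strong_induction_on with
    | _ n ih =>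
      by_cases hn : n < p
      · by_cases hn2 : n + 2 ≤ p
        · rw [hTx n hn2]
          symm
          have h1 : Ty (KaehlerDifferential.D R _ (g ^ (n + 1))) = 0 := T_D p R b Ty hTy _
          rw [Derivation.leibniz_pow, map_nsmul, Nat.add_sub_cancel] at h1
          have hcop : Nat.Coprime (n + 1) p := by
            refine ((Nat.Prime.coprime_iff_not_dvd hp).2 fun hdvd => ?_).symm
            have := Nat.le_of_dvd (Nat.succ_pos n) hdvd
            omega
          obtain ⟨m, -, hm⟩ := Nat.exists_mul_mod_eq_one_of_coprime hcop hp.one_lt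
          have h2 : ((n + 1) * m) • Ty (g ^ n • KaehlerDifferential.D R _ g) = 0 := by
            rw [mul_comm, mul_smul, h1, smul_zero]
          have h3 := Nat.div_add_mod ((n + 1) * m) p
          rw [hm] at h3
          rw [← h3, add_smul, mul_smul, one_smul, hpΩ, zero_add] at h2
          exact h2
        · have hn' : n = p - 1 := by omega
          subst hn'
          rw [hTx']
          obtain ⟨r, hr1, hr2⟩ := T_pow_D p R b Ty hTy hTy' g
          rw [hr2]
          have : r = a := algebraMap_injective p R b (by rw [← hr1, hgp])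
          rw [this]
      · obtain ⟨m, rfl⟩ : ∃ m, n = m + p := ⟨n - p, by omega⟩
        have ex : AdjoinRoot.root (X ^ p - C a : R[X]) ^ (m + p) =
            a • AdjoinRoot.root (X ^ p - C a : R[X]) ^ m := by
          rw [pow_add, root_pow, Algebra.smul_def, mul_comm]
        have eg : g ^ (m + p) = a • g ^ m := by
          rw [pow_add, hgp, Algebra.smul_def, mul_comm]
        rw [ex, eg, smul_assoc, smul_assoc, Tx.map_smul, Ty.map_smul,
          ih m (by have := hp.pos; omega)]
  have M : ∀ u : AdjoinRoot (X ^ p - C a : R[X]),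
      Tx (u • KaehlerDifferential.D R _ (AdjoinRoot.root (X ^ p - C a : R[X]))) =
      Ty (φ u • KaehlerDifferential.D R _ g) := by
    intro u
    obtain ⟨q, rfl⟩ := AdjoinRoot.mk_surjective u
    induction q using Polynomial.induction_on' with
    | add q₁ q₂ h₁ h₂ =>
      simp only [map_add, add_smul]
      rw [h₁, h₂]
    | monomial n r =>
      have eφ : φ (r • AdjoinRoot.root (X ^ p - C a : R[X]) ^ n) = r • g ^ n := by
        rw [map_smul, map_pow, hg]
      rw [mk_monomial, eφ, smul_assoc, smul_assoc, Tx.map_smul, Ty.map_smul, M' n]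
  obtain ⟨qt, rfl⟩ := AdjoinRoot.mk_surjective t
  have e1 : KaehlerDifferential.D R _ (AdjoinRoot.mk (X ^ p - C a : R[X]) qt) =
      (aeval (AdjoinRoot.root (X ^ p - C a : R[X])) (derivative qt)) •
        KaehlerDifferential.D R _ (AdjoinRoot.root (X ^ p - C a : R[X])) := by
    rw [← AdjoinRoot.aeval_eq, Derivation.map_aeval]
  have e3 : aeval g (derivative qt) =
      φ (aeval (AdjoinRoot.root (X ^ p - C a : R[X])) (derivative qt)) := by
    rw [hg, Polynomial.aeval_algHom_apply]
  have e2 : KaehlerDifferential.D R _ (φ (AdjoinRoot.mk (X ^ p - C a : R[X]) qt)) =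
      φ (aeval (AdjoinRoot.root (X ^ p - C a : R[X])) (derivative qt)) •
        KaehlerDifferential.D R _ g := by
    rw [← e3, ← AdjoinRoot.aeval_eq, ← Polynomial.aeval_algHom_apply, ← hg,
      Derivation.map_aeval]
  rw [e1, e2, smul_smul, smul_smul, ← map_mul]
  exact M _

end final

end Groth.Agent.H2.PthRoot
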