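import Mathlib
import Groth.Prelude.Def_CAlgX
import Groth.Agent.H2.P11.PureFP
import Groth.Agent.H2.P11.Pure

set_option autoImplicit false
universe u

namespace Groth.Agent.H2.Pure

open TensorProduct

variable {R : Type u} [CommRing R]

/-- every tensor is a sum over a generating family on the right. -/
lemma exists_sum_tmul {K Q : Type u} [AddCommGroup K] [Module R K] [AddCommGroup Q] [Module R Q]
    {n : ℕ} (u : Fin n → Q) (hu : Submodule.span R (Set.range u) = ⊤) (z : K ⊗[R] Q) :
    ∃ x : Fin n → K, z = ∑ j, x j ⊗ₜ[R] u j := by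
  induction z using TensorProduct.induction_on with
  | zero => exact ⟨0, by simp⟩
  | tmul k q =>
    have hq : q ∈ Submodule.span R (Set.range u) := by rw [hu]; trivial
    obtain ⟨c, rfl⟩ := (Submodule.mem_span_range_iff_exists_fun R).mp hq
    refine ⟨fun j => c j • k, ?_⟩
    rw [TensorProduct.tmul_sum]
    apply Finset.sum_congr rfl
    intro j _
    rw [TensorProduct.tmul_smul, TensorProduct.smul_tmul']
  | add z w hz hw =>
    obtain ⟨x, rfl⟩ := hz
    obtain ⟨y, rfl⟩ := hw
    refine ⟨x + y, ?_⟩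
    rw [← Finset.sum_add_distrib]
    apply Finset.sum_congr rfl
    intro j _
    rw [Pi.add_apply, TensorProduct.add_tmul]

/-- Lemma A: a surjection along which all finitely presented quotients of finite free modules
lift has universally injective kernel inclusion. -/
theorem univInj_ker_of_lift {L N : Type u} [AddCommGroup L] [Module R L] [AddCommGroup N]
    [Module R N] (g : L →ₗ[R] N)
    (hlift : ∀ (k : ℕ) (S : Submodule R (Fin k → R)), S.FG → ∀ φ : ((Fin k → R) ⧸ S) →ₗ[R] N,
      ∃ ψ : ((Fin k → R) ⧸ S) →ₗ[R] L, g ∘ₗ ψ = φ) :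
    CAlgX.UniversallyInjective R (LinearMap.ker g).subtype := by
  classical
  apply Groth.Agent.H2.P11.universallyInjective_of_fp
  intro Q _ _ hQ
  haveI := hQ
  rw [injective_iff_map_eq_zero]
  intro z hz
  obtain ⟨n, u, hu⟩ := Module.Finite.exists_fin (R := R) (M := Q)
  obtain ⟨x, rfl⟩ := exists_sum_tmul u hu z
  rw [map_sum] at hz
  simp only [LinearMap.rTensor_tmul, Submodule.subtype_apply] at hz
  have hz' : ∑ j, u j ⊗ₜ[R] ((x j : L)) = (0 : Q ⊗[R] L) := by
    have := congrArg (TensorProduct.comm R L Q) hz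
    simpa [map_sum] using this
  obtain ⟨k, a, y, hxy, hrel⟩ := TensorProduct.vanishesTrivially_of_sum_tmul_eq_zero R hu hz'
  let S : Submodule R (Fin k → R) :=
    Submodule.span R (Set.range (fun j : Fin n => (fun l => a j l)))
  have hS : S.FG := Submodule.fg_span (Set.finite_range _)
  have hle : S ≤ LinearMap.ker (g ∘ₗ Fintype.linearCombination R y) := by
    rw [Submodule.span_le]
    rintro _ ⟨j, rfl⟩
    have e : Fintype.linearCombination R y (fun l => a j l) = ((x j : LinearMap.ker g) : L) := by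
      rw [Fintype.linearCombination_apply]; exact (hxy j).symm
    rw [SetLike.mem_coe, LinearMap.mem_ker, LinearMap.comp_apply, e]
    exact LinearMap.mem_ker.mp (x j).2
  obtain ⟨ψ, hψ⟩ := hlift k S hS (S.liftQ (g ∘ₗ Fintype.linearCombination R y) hle)
  have hgy' : ∀ l, g (ψ (S.mkQ (Pi.single l 1))) = g (y l) := by
    intro l
    have := LinearMap.congr_fun hψ (S.mkQ (Pi.single l 1))
    rw [LinearMap.comp_apply, Submodule.mkQ_apply, Submodule.liftQ_apply, LinearMap.comp_apply,
      Fintype.linearCombination_apply_single, one_smul] at this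
    exact this
  have hrel' : ∀ j, ∑ l, a j l • ψ (S.mkQ (Pi.single l 1)) = 0 := by
    intro j
    have h1 : ∑ l, a j l • ψ (S.mkQ (Pi.single l 1)) = ψ (S.mkQ (fun l => a j l)) := by
      simp only [← map_smul, ← map_sum]
      congr 2
      ext l'
      simp [Finset.sum_apply, Pi.single_apply]
    rw [h1]
    have : S.mkQ (fun l => a j l) = 0 := by
      rw [Submodule.mkQ_apply, Submodule.Quotient.mk_eq_zero]
      exact Submodule.subset_span ⟨j, rfl⟩
    rw [this, map_zero]
  let w : Fin k → LinearMap.ker g := fun l =>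
    ⟨y l - ψ (S.mkQ (Pi.single l 1)), by rw [LinearMap.mem_ker, map_sub, hgy', sub_self]⟩
  have hxw : ∀ j, x j = ∑ l, a j l • w l := by
    intro j
    apply Subtype.ext
    rw [Submodule.coe_sum]
    simp only [Submodule.coe_smul, w]
    have hxyj : ((x j : LinearMap.ker g) : L) = ∑ l, a j l • y l := hxy j
    rw [hxyj]
    have := hrel' j
    simp only [smul_sub, Finset.sum_sub_distrib, this, sub_zero]
  have hv : TensorProduct.VanishesTrivially R u x := ⟨k, a, w, hxw, hrel⟩
  have h0 := TensorProduct.sum_tmul_eq_zero_of_vanishesTrivially R hv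
  have := congrArg (TensorProduct.comm R Q (LinearMap.ker g)) h0
  simpa [map_sum] using this

/-- Lemma B: finitely presented quotients of finite free modules lift along a surjection with
universally injective kernel inclusion. -/
theorem exists_lift_quot {L N : Type u} [AddCommGroup L] [Module R L] [AddCommGroup N]
    [Module R N] (g : L →ₗ[R] N) (hg : Function.Surjective g)
    (hpure : CAlgX.UniversallyInjective R (LinearMap.ker g).subtype)
    (k : ℕ) (S : Submodule R (Fin k → R)) (hS : S.FG) (φ : ((Fin k → R) ⧸ S) →ₗ[R] N) :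
    ∃ ψ : ((Fin k → R) ⧸ S) →ₗ[R] L, g ∘ₗ ψ = φ := by
  classical
  obtain ⟨m, a, ha⟩ := Submodule.fg_iff_exists_fin_generating_family.mp hS
  choose l hl using fun j : Fin k => hg (φ (S.mkQ (Pi.single j 1)))
  have hφ : ∀ v : Fin k → R, φ (S.mkQ v) = ∑ j, v j • g (l j) := by
    intro v
    have hv : v = ∑ j, v j • (Pi.single j 1 : Fin k → R) := by
      ext j'; simp [Finset.sum_apply, Pi.single_apply]
    conv_lhs => rw [hv]
    simp only [map_sum, map_smul, hl]
  have hz : ∀ i, ∑ j, a i j • l j ∈ LinearMap.ker g := by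
    intro i
    rw [LinearMap.mem_ker, map_sum]
    simp only [map_smul]
    rw [← hφ (a i)]
    have : S.mkQ (a i) = 0 := by
      rw [Submodule.mkQ_apply, Submodule.Quotient.mk_eq_zero, ← ha]
      exact Submodule.subset_span ⟨i, rfl⟩
    rw [this, map_zero]
  obtain ⟨w, hw⟩ := Groth.Agent.H2.P11.pure_solve (LinearMap.ker g).subtype hpure
    (fun i j => a i j) (fun i => ⟨_, hz i⟩) l (fun i => rfl)
  have hle : S ≤ LinearMap.ker (Fintype.linearCombination R (fun j => l j - (w j : L))) := by
    rw [← ha, Submodule.span_le]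
    rintro _ ⟨i, rfl⟩
    rw [SetLike.mem_coe, LinearMap.mem_ker, Fintype.linearCombination_apply]
    have h1 := congrArg (Subtype.val) (hw i)
    simp only [Submodule.coe_sum, Submodule.coe_smul] at h1
    simp only [smul_sub, Finset.sum_sub_distrib]
    rw [h1, sub_self]
  refine ⟨S.liftQ (Fintype.linearCombination R (fun j => l j - (w j : L))) hle, ?_⟩
  apply Submodule.linearMap_qext
  apply (Pi.basisFun R (Fin k)).ext
  intro j
  show g (S.liftQ (Fintype.linearCombination R (fun j => l j - (w j : L))) hle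
    (S.mkQ (Pi.basisFun R (Fin k) j))) = φ (S.mkQ (Pi.basisFun R (Fin k) j))
  rw [Pi.basisFun_apply, Submodule.mkQ_apply, Submodule.liftQ_apply,
    Fintype.linearCombination_apply_single, one_smul, ← Submodule.mkQ_apply, ← hl j]
  rw [map_sub, LinearMap.mem_ker.mp (w j).2, sub_zero]

theorem exists_lift_fp {L N Q : Type u} [AddCommGroup L] [Module R L] [AddCommGroup N]
    [Module R N] [AddCommGroup Q] [Module R Q] [Module.FinitePresentation R Q]
    (g : L →ₗ[R] N) (hg : Function.Surjective g)
    (hpure : CAlgX.UniversallyInjective R (LinearMap.ker g).subtype) (φ : Q →ₗ[R] N) :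
    ∃ ψ : Q →ₗ[R] L, g ∘ₗ ψ = φ := by
  obtain ⟨k, S, e, hS⟩ := Module.FinitePresentation.exists_fin R Q
  obtain ⟨ψ, hψ⟩ := exists_lift_quot g hg hpure k S hS (φ ∘ₗ e.symm.toLinearMap)
  refine ⟨ψ ∘ₗ e.toLinearMap, ?_⟩
  rw [← LinearMap.comp_assoc, hψ, LinearMap.comp_assoc]
  ext q
  simp

section cover

variable (R) (M : Type u) [AddCommGroup M] [Module R M]

/-- index type for the canonical cover by finitely presented modules. -/
def Idx : Type u :=
  Σ (k : ℕ) (S : {S : Submodule R (Fin k → R) // S.FG}), (((Fin k → R) ⧸ S.1) →ₗ[R] M)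

noncomputable instance : DecidableEq (Idx R M) := Classical.decEq _

/-- the modules of the cover -/
abbrev QI (i : Idx R M) : Type u := (Fin i.1 → R) ⧸ i.2.1.1

instance (i : Idx R M) : Module.FinitePresentation R (QI R M i) :=
  Module.finitePresentation_of_free_of_surjective (i.2.1.1.mkQ) (i.2.1.1.mkQ_surjective)
    (by rw [Submodule.ker_mkQ]; exact i.2.1.2)

/-- the canonical cover -/
noncomputable def cover : (Π₀ i : Idx R M, QI R M i) →ₗ[R] M :=
  DFinsupp.lsum ℕ (fun i => i.2.2)

theorem cover_surjective : Function.Surjective (cover R M) := by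
  intro m
  let i : Idx R M := ⟨1, ⟨⊥, Submodule.fg_bot⟩,
    (⊥ : Submodule R (Fin 1 → R)).liftQ (LinearMap.toSpanSingleton R M m ∘ₗ LinearMap.proj 0) bot_le⟩
  refine ⟨DFinsupp.single i ((⊥ : Submodule R (Fin 1 → R)).mkQ (fun _ => 1)), ?_⟩
  rw [cover, DFinsupp.lsum_single]
  show ((⊥ : Submodule R (Fin 1 → R)).liftQ (LinearMap.toSpanSingleton R M m ∘ₗ LinearMap.proj 0)
    bot_le) ((⊥ : Submodule R (Fin 1 → R)).mkQ (fun _ => 1)) = m
  rw [Submodule.mkQ_apply, Submodule.liftQ_apply]
  simp

theorem cover_lift (k : ℕ) (S : Submodule R (Fin k → R)) (hS : S.FG)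
    (φ : ((Fin k → R) ⧸ S) →ₗ[R] M) :
    ∃ ψ : ((Fin k → R) ⧸ S) →ₗ[R] (Π₀ i : Idx R M, QI R M i), cover R M ∘ₗ ψ = φ := by
  let i : Idx R M := ⟨k, ⟨S, hS⟩, φ⟩
  refine ⟨(DFinsupp.lsingle i : QI R M i →ₗ[R] (Π₀ i : Idx R M, QI R M i)), ?_⟩
  ext q
  simp only [LinearMap.comp_apply, DFinsupp.lsingle_apply, cover, DFinsupp.lsum_single]
  rfl

end cover

end Groth.Agent.H2.Pure
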