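import Mathlib
import Groth.Prelude.Def_CAlgX

/-! Comparison theorems for pure projective / pure injective resolutions. -/

set_option autoImplicit false
universe u
open CategoryTheory MonoidalCategory TensorProduct

namespace Groth.Agent.H2.PureCx

variable {R : Type u} [CommRing R]

section Algebra

lemma rid_rTensor {X Y : Type u} [AddCommGroup X] [Module R X] [AddCommGroup Y] [Module R Y]
    (g : X →ₗ[R] Y) (z : X ⊗[R] R) :
    TensorProduct.rid R Y (g.rTensor R z) = g (TensorProduct.rid R X z) := by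
  induction z using TensorProduct.induction_on with
  | zero => simp
  | tmul x r => simp
  | add a b ha hb => simp only [map_add, ha, hb]

lemma surj_of_tensor {X Y : Type u} [AddCommGroup X] [Module R X] [AddCommGroup Y] [Module R Y]
    (g : X →ₗ[R] Y) (h : Function.Surjective (g.rTensor R)) : Function.Surjective g := by
  intro y
  obtain ⟨z, hz⟩ := h (y ⊗ₜ[R] (1 : R))
  refine ⟨TensorProduct.rid R X z, ?_⟩
  rw [← rid_rTensor, hz, TensorProduct.rid_tmul, one_smul]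

lemma exact_of_tensor {W X Y : Type u} [AddCommGroup W] [Module R W] [AddCommGroup X]
    [Module R X] [AddCommGroup Y] [Module R Y] (f : W →ₗ[R] X) (g : X →ₗ[R] Y)
    (h : ∀ z : X ⊗[R] R, g.rTensor R z = 0 → ∃ y : W ⊗[R] R, f.rTensor R y = z)
    (x : X) (hx : g x = 0) : ∃ w, f w = x := by
  obtain ⟨y, hy⟩ := h (x ⊗ₜ[R] (1 : R)) (by rw [LinearMap.rTensor_tmul, hx, zero_tmul])
  refine ⟨TensorProduct.rid R W y, ?_⟩
  rw [← rid_rTensor, hy, TensorProduct.rid_tmul, one_smul]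

/-- the key universal injectivity statement -/
theorem univInj_ker {W'' W' W X : Type u} [AddCommGroup W''] [Module R W''] [AddCommGroup W']
    [Module R W'] [AddCommGroup W] [Module R W] [AddCommGroup X] [Module R X]
    (a'' : W'' →ₗ[R] W') (a' : W' →ₗ[R] W) (a : W →ₗ[R] X)
    (h0 : ∀ w', a (a' w') = 0) (h0' : ∀ w'', a' (a'' w'') = 0)
    (h1 : ∀ w, a w = 0 → ∃ w', a' w' = w)
    (hT : ∀ (T : Type u) [AddCommGroup T] [Module R T] (z : W' ⊗[R] T),
      a'.rTensor T z = 0 → ∃ y : W'' ⊗[R] T, a''.rTensor T y = z) :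
    CAlgX.UniversallyInjective R (LinearMap.ker a).subtype := by
  intro T _ _
  rw [injective_iff_map_eq_zero]
  intro x hx
  let ar : W' →ₗ[R] LinearMap.ker a := a'.codRestrict (LinearMap.ker a) (fun w' => h0 w')
  have har : Function.Surjective ar := by
    rintro ⟨w, hw⟩
    obtain ⟨w', hw'⟩ := h1 w hw
    exact ⟨w', Subtype.ext hw'⟩
  obtain ⟨xt, rfl⟩ := LinearMap.rTensor_surjective T har x
  have e1 : (LinearMap.ker a).subtype.rTensor T (ar.rTensor T xt) = a'.rTensor T xt := by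
    rw [← LinearMap.comp_apply, ← LinearMap.rTensor_comp]
    rfl
  rw [e1] at hx
  obtain ⟨y, rfl⟩ := hT T xt hx
  rw [← LinearMap.comp_apply, ← LinearMap.rTensor_comp]
  have e2 : ar ∘ₗ a'' = 0 := by
    apply LinearMap.ext; intro w''; exact Subtype.ext (h0' w'')
  rw [e2, LinearMap.rTensor_zero, LinearMap.zero_apply]

/-- the lifting property defining pure projectivity (as in the statements) -/
def PP (X : Type u) [AddCommGroup X] [Module R X] : Prop :=
  ∀ ⦃L T : Type u⦄ [AddCommGroup L] [Module R L] [AddCommGroup T] [Module R T]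
    (g : L →ₗ[R] T), Function.Surjective g →
    CAlgX.UniversallyInjective R (LinearMap.ker g).subtype →
    ∀ φ : X →ₗ[R] T, ∃ ψ : X →ₗ[R] L, g ∘ₗ ψ = φ

theorem lift_lin {X W' W Y : Type u} [AddCommGroup X] [Module R X] [AddCommGroup W']
    [Module R W'] [AddCommGroup W] [Module R W] [AddCommGroup Y] [Module R Y]
    (hX : PP (R := R) X) (a' : W' →ₗ[R] W) (a : W →ₗ[R] Y)
    (h0 : ∀ w', a (a' w') = 0) (h1 : ∀ w, a w = 0 → ∃ w', a' w' = w)
    (hui : CAlgX.UniversallyInjective R (LinearMap.ker a').subtype)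
    (θ : X →ₗ[R] W) (hθ : ∀ x, a (θ x) = 0) : ∃ s : X →ₗ[R] W', a' ∘ₗ s = θ := by
  let g : W' →ₗ[R] LinearMap.ker a := a'.codRestrict (LinearMap.ker a) (fun w' => h0 w')
  have hg : Function.Surjective g := by
    rintro ⟨w, hw⟩
    obtain ⟨w', hw'⟩ := h1 w hw
    exact ⟨w', Subtype.ext hw'⟩
  have hk : LinearMap.ker g = LinearMap.ker a' := LinearMap.ker_codRestrict _ _ _
  have hui' : CAlgX.UniversallyInjective R (LinearMap.ker g).subtype := by
    rw [hk]; exact hui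
  let θ' : X →ₗ[R] LinearMap.ker a := θ.codRestrict (LinearMap.ker a) (fun x => hθ x)
  obtain ⟨ψ, hψ⟩ := hX g hg hui' θ'
  refine ⟨ψ, ?_⟩
  apply LinearMap.ext
  intro x
  have := congrArg (fun k => ((k x : LinearMap.ker a) : W)) hψ
  exact this

end Algebra

section ChainFacts

variable (K : ChainComplex (ModuleCat.{u} R) ℕ) (M : ModuleCat.{u} R)
  (π : K ⟶ (ChainComplex.single₀ (ModuleCat.{u} R)).obj M)

theorem chain_aug (T : ModuleCat.{u} R)
    (h : QuasiIso (((tensorRight T).mapHomologicalComplex (ComplexShape.down ℕ)).map π)) :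
    Function.Surjective ((π.f 0).hom.rTensor T) ∧
      ∀ z : (K.X 0) ⊗[R] T, (π.f 0).hom.rTensor T z = 0 →
        ∃ y : (K.X 1) ⊗[R] T, (K.d 1 0).hom.rTensor T y = z := by
  have h0 := h.quasiIsoAt 0
  rw [ChainComplex.quasiIsoAt₀_iff, ShortComplex.quasiIso_iff_of_zeros'] at h0
  · constructor
    · exact (ModuleCat.epi_iff_surjective _).mp h0.2
    · intro z hz
      exact (ShortComplex.moduleCat_exact_iff _).mp h0.1 z hz
  · exact (((tensorRight T).mapHomologicalComplex (ComplexShape.down ℕ)).obj K).shape 0 0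
      (by simp)
  · show (tensorRight T).map (((ChainComplex.single₀ (ModuleCat.{u} R)).obj M).d 1 0) = 0
    rw [HomologicalComplex.single_obj_d, Functor.map_zero]
  · exact (((tensorRight T).mapHomologicalComplex (ComplexShape.down ℕ)).obj
      ((ChainComplex.single₀ (ModuleCat.{u} R)).obj M)).shape 0 0 (by simp)

theorem chain_exact (T : ModuleCat.{u} R)
    (h : QuasiIso (((tensorRight T).mapHomologicalComplex (ComplexShape.down ℕ)).map π))
    (n : ℕ) (z : (K.X (n + 1)) ⊗[R] T) (hz : (K.d (n + 1) n).hom.rTensor T z = 0) :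
    ∃ y : (K.X (n + 2)) ⊗[R] T, (K.d (n + 2) (n + 1)).hom.rTensor T y = z := by
  have h1 := h.quasiIsoAt (n + 1)
  rw [quasiIsoAt_iff_exactAt'] at h1
  · rw [HomologicalComplex.exactAt_iff' _ (n + 2) (n + 1) n (by simp) (by simp)] at h1
    exact (ShortComplex.moduleCat_exact_iff _).mp h1 z hz
  · rw [HomologicalComplex.exactAt_iff]
    apply ShortComplex.exact_of_isZero_X₂
    exact Functor.map_isZero (tensorRight T)
      (HomologicalComplex.isZero_single_obj_X _ _ _ _ (by simp))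

end ChainFacts

section ChainMain

lemma comp_apply' {X Y Z : ModuleCat.{u} R} (f : X ⟶ Y) (g : Y ⟶ Z) (h : f ≫ g = 0) (x : X) :
    g.hom (f.hom x) = 0 := by
  have := congrArg (fun k => k.hom x) h
  exact this

variable (Q : ChainComplex (ModuleCat.{u} R) ℕ) (N : ModuleCat.{u} R)
  (ε : Q ⟶ (ChainComplex.single₀ (ModuleCat.{u} R)).obj N)

lemma d_aug : Q.d 1 0 ≫ ε.f 0 = 0 := by
  rw [← ε.comm 1 0, HomologicalComplex.single_obj_d, Limits.comp_zero]

variable (hQ : ∀ T : ModuleCat.{u} R,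
  QuasiIso (((tensorRight T).mapHomologicalComplex (ComplexShape.down ℕ)).map ε))

include hQ

lemma aug_surj : Function.Surjective (ε.f 0).hom :=
  surj_of_tensor _ (chain_aug Q N ε (ModuleCat.of R R) (hQ _)).1

lemma aug_exact (x : Q.X 0) (hx : (ε.f 0).hom x = 0) : ∃ y : Q.X 1, (Q.d 1 0).hom y = x :=
  exact_of_tensor _ _ (chain_aug Q N ε (ModuleCat.of R R) (hQ _)).2 x hx

lemma cx_exact (n : ℕ) (x : Q.X (n + 1)) (hx : (Q.d (n + 1) n).hom x = 0) :
    ∃ y : Q.X (n + 2), (Q.d (n + 2) (n + 1)).hom y = x :=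
  exact_of_tensor _ _
    (fun z hz => chain_exact Q N ε (ModuleCat.of R R) (hQ _) n z hz) x hx

lemma ui_aug : CAlgX.UniversallyInjective R (LinearMap.ker (ε.f 0).hom).subtype :=
  univInj_ker (Q.d 2 1).hom (Q.d 1 0).hom (ε.f 0).hom
    (fun w => comp_apply' _ _ (d_aug Q N ε) w)
    (fun w => comp_apply' _ _ (Q.d_comp_d 2 1 0) w)
    (aug_exact Q N ε hQ)
    (fun T _ _ z hz => chain_exact Q N ε (ModuleCat.of R T) (hQ _) 0 z hz)

lemma ui_d (n : ℕ) : CAlgX.UniversallyInjective R (LinearMap.ker (Q.d (n + 1) n).hom).subtype :=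
  univInj_ker (Q.d (n + 3) (n + 2)).hom (Q.d (n + 2) (n + 1)).hom (Q.d (n + 1) n).hom
    (fun w => comp_apply' _ _ (Q.d_comp_d _ _ _) w)
    (fun w => comp_apply' _ _ (Q.d_comp_d _ _ _) w)
    (cx_exact Q N ε hQ n)
    (fun T _ _ z hz => chain_exact Q N ε (ModuleCat.of R T) (hQ _) (n + 1) z hz)

lemma lift_aug {X : ModuleCat.{u} R} (hX : PP (R := R) X)
    (θ : X ⟶ ((ChainComplex.single₀ (ModuleCat.{u} R)).obj N).X 0) :
    ∃ s : X ⟶ Q.X 0, s ≫ ε.f 0 = θ := by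
  obtain ⟨ψ, hψ⟩ := hX (ε.f 0).hom (aug_surj Q N ε hQ) (ui_aug Q N ε hQ) θ.hom
  exact ⟨ModuleCat.ofHom ψ, ModuleCat.hom_ext hψ⟩

lemma lift_zero {X : ModuleCat.{u} R} (hX : PP (R := R) X) (θ : X ⟶ Q.X 0)
    (h : θ ≫ ε.f 0 = 0) : ∃ s : X ⟶ Q.X 1, s ≫ Q.d 1 0 = θ := by
  obtain ⟨s, hs⟩ := lift_lin hX (Q.d 1 0).hom (ε.f 0).hom
    (fun w => comp_apply' _ _ (d_aug Q N ε) w) (aug_exact Q N ε hQ) (ui_d Q N ε hQ 0) θ.hom
    (fun x => comp_apply' _ _ h x)
  exact ⟨ModuleCat.ofHom s, ModuleCat.hom_ext hs⟩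

lemma lift_succ {X : ModuleCat.{u} R} (hX : PP (R := R) X) (n : ℕ) (θ : X ⟶ Q.X (n + 1))
    (h : θ ≫ Q.d (n + 1) n = 0) : ∃ s : X ⟶ Q.X (n + 2), s ≫ Q.d (n + 2) (n + 1) = θ := by
  obtain ⟨s, hs⟩ := lift_lin hX (Q.d (n + 2) (n + 1)).hom (Q.d (n + 1) n).hom
    (fun w => comp_apply' _ _ (Q.d_comp_d _ _ _) w) (cx_exact Q N ε hQ n)
    (ui_d Q N ε hQ (n + 1)) θ.hom (fun x => comp_apply' _ _ h x)
  exact ⟨ModuleCat.ofHom s, ModuleCat.hom_ext hs⟩

end ChainMain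

section ChainTheorems

variable {M N : ModuleCat.{u} R} (f : M ⟶ N) (P Q : ChainComplex (ModuleCat.{u} R) ℕ)
  (π : P ⟶ (ChainComplex.single₀ (ModuleCat.{u} R)).obj M)
  (ε : Q ⟶ (ChainComplex.single₀ (ModuleCat.{u} R)).obj N)
  (hP : ∀ n : ℕ, PP (R := R) (P.X n))
  (hQ : ∀ T : ModuleCat.{u} R,
    QuasiIso (((tensorRight T).mapHomologicalComplex (ComplexShape.down ℕ)).map ε))

include hP hQ

theorem exists_chainMap :
    ∃ φ : P ⟶ Q, φ ≫ ε = π ≫ (ChainComplex.single₀ (ModuleCat.{u} R)).map f := by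
  obtain ⟨φ0, h0⟩ := lift_aug Q N ε hQ (hP 0)
    (π.f 0 ≫ ((ChainComplex.single₀ (ModuleCat.{u} R)).map f).f 0)
  have hπ : P.d 1 0 ≫ π.f 0 = 0 := d_aug P M π
  obtain ⟨φ1, h1⟩ := lift_zero Q N ε hQ (hP 1) (P.d 1 0 ≫ φ0)
    (by rw [Category.assoc, h0, ← Category.assoc, hπ, Limits.zero_comp])
  have hs : ∀ (n : ℕ) (p : Σ' (g : P.X n ⟶ Q.X n) (g' : P.X (n + 1) ⟶ Q.X (n + 1)),
      g' ≫ Q.d (n + 1) n = P.d (n + 1) n ≫ g),
      ∃ g'' : P.X (n + 2) ⟶ Q.X (n + 2),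
        g'' ≫ Q.d (n + 2) (n + 1) = P.d (n + 2) (n + 1) ≫ p.2.1 := by
    intro n p
    apply lift_succ Q N ε hQ (hP (n + 2)) n (P.d (n + 2) (n + 1) ≫ p.2.1)
    rw [Category.assoc, p.2.2, ← Category.assoc, P.d_comp_d, Limits.zero_comp]
  let φ : P ⟶ Q := ChainComplex.mkHom P Q φ0 φ1 h1
    (fun n p => ⟨(hs n p).choose, (hs n p).choose_spec⟩)
  refine ⟨φ, ?_⟩
  apply HomologicalComplex.to_single_hom_ext
  rw [HomologicalComplex.comp_f, HomologicalComplex.comp_f]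
  exact h0

theorem exists_homotopy (α β : P ⟶ Q)
    (hα : α ≫ ε = π ≫ (ChainComplex.single₀ (ModuleCat.{u} R)).map f)
    (hβ : β ≫ ε = π ≫ (ChainComplex.single₀ (ModuleCat.{u} R)).map f) :
    Nonempty (Homotopy α β) := by
  have hδ : (α - β) ≫ ε = 0 := by rw [Preadditive.sub_comp, hα, hβ, sub_self]
  have hδ0 : (α - β).f 0 ≫ ε.f 0 = 0 := by
    have := congrArg (fun k => k.f 0) hδ
    exact this
  obtain ⟨s0, h0⟩ := lift_zero Q N ε hQ (hP 0) ((α - β).f 0) hδ0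
  obtain ⟨s1, h1⟩ := lift_succ Q N ε hQ (hP 1) 0 ((α - β).f 1 - P.d 1 0 ≫ s0) (by
    rw [Preadditive.sub_comp, Category.assoc, h0, (α - β).comm 1 0, sub_self])
  have hs : ∀ (n : ℕ) (p : Σ' (g : P.X n ⟶ Q.X (n + 1)) (g' : P.X (n + 1) ⟶ Q.X (n + 2)),
      (α - β).f (n + 1) = P.d (n + 1) n ≫ g + g' ≫ Q.d (n + 2) (n + 1)),
      ∃ g'' : P.X (n + 2) ⟶ Q.X (n + 3),
        (α - β).f (n + 2) = P.d (n + 2) (n + 1) ≫ p.2.1 + g'' ≫ Q.d (n + 3) (n + 2) := by
    rintro n ⟨g, g', hp⟩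
    have key : ∀ θ : P.X (n + 2) ⟶ Q.X (n + 2), θ ≫ Q.d (n + 2) (n + 1) = 0 →
        ∃ s : P.X (n + 2) ⟶ Q.X (n + 3), s ≫ Q.d (n + 3) (n + 2) = θ :=
      fun θ h => lift_succ Q N ε hQ (hP (n + 2)) (n + 1) θ h
    obtain ⟨s, hs⟩ := key ((α - β).f (n + 2) - P.d (n + 2) (n + 1) ≫ g') (by
      rw [Preadditive.sub_comp, Category.assoc, (α - β).comm (n + 2) (n + 1), hp,
        Preadditive.comp_add, ← Category.assoc, P.d_comp_d, Limits.zero_comp, zero_add,
        sub_self])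
    exact ⟨s, by rw [hs]; abel⟩
  exact ⟨(Homotopy.equivSubZero).symm (Homotopy.mkInductive (α - β) s0 h0.symm s1
    (by rw [h1]; abel) (fun n p => ⟨(hs n p).choose, (hs n p).choose_spec⟩))⟩

end ChainTheorems

section CoAlgebra

/-- the induced map from the coimage is universally injective -/
theorem univInj_quot {Y' Y Z : Type u} [AddCommGroup Y'] [Module R Y'] [AddCommGroup Y]
    [Module R Y] [AddCommGroup Z] [Module R Z] (b' : Y' →ₗ[R] Y) (b : Y →ₗ[R] Z)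
    (h0 : ∀ y', b (b' y') = 0)
    (hT : ∀ (T : Type u) [AddCommGroup T] [Module R T] (z : Y ⊗[R] T),
      b.rTensor T z = 0 → ∃ y : Y' ⊗[R] T, b'.rTensor T y = z) :
    CAlgX.UniversallyInjective R ((LinearMap.ker b).liftQ b le_rfl) := by
  intro T _ _
  rw [injective_iff_map_eq_zero]
  intro x hx
  obtain ⟨xt, rfl⟩ := LinearMap.rTensor_surjective T (LinearMap.ker b).mkQ_surjective x
  have e1 : ((LinearMap.ker b).liftQ b le_rfl).rTensor T ((LinearMap.ker b).mkQ.rTensor T xt) =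
      b.rTensor T xt := by
    rw [← LinearMap.comp_apply, ← LinearMap.rTensor_comp, Submodule.liftQ_mkQ]
  rw [e1] at hx
  obtain ⟨y, rfl⟩ := hT T xt hx
  rw [← LinearMap.comp_apply, ← LinearMap.rTensor_comp]
  have e2 : (LinearMap.ker b).mkQ ∘ₗ b' = 0 := by
    apply LinearMap.ext; intro y'
    exact (Submodule.Quotient.mk_eq_zero _).mpr (h0 y')
  rw [e2, LinearMap.rTensor_zero, LinearMap.zero_apply]

/-- the extension property defining pure injectivity (as in the statements) -/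
def PI (J : Type u) [AddCommGroup J] [Module R J] : Prop :=
  ∀ ⦃K L : Type u⦄ [AddCommGroup K] [Module R K] [AddCommGroup L] [Module R L]
    (g : K →ₗ[R] L), CAlgX.UniversallyInjective R g →
    ∀ φ : K →ₗ[R] J, ∃ ψ : L →ₗ[R] J, ψ ∘ₗ g = φ

theorem ext_lin {J Y' Y Z : Type u} [AddCommGroup J] [Module R J] [AddCommGroup Y']
    [Module R Y'] [AddCommGroup Y] [Module R Y] [AddCommGroup Z] [Module R Z]
    (hJ : PI (R := R) J) (b' : Y' →ₗ[R] Y) (b : Y →ₗ[R] Z)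
    (h1 : ∀ y, b y = 0 → ∃ y', b' y' = y)
    (hui : CAlgX.UniversallyInjective R ((LinearMap.ker b).liftQ b le_rfl))
    (θ : Y →ₗ[R] J) (hθ : ∀ y', θ (b' y') = 0) : ∃ s : Z →ₗ[R] J, s ∘ₗ b = θ := by
  have hle : LinearMap.ker b ≤ LinearMap.ker θ := by
    intro y hy
    obtain ⟨y', rfl⟩ := h1 y hy
    exact hθ y'
  obtain ⟨ψ, hψ⟩ := hJ ((LinearMap.ker b).liftQ b le_rfl) hui ((LinearMap.ker b).liftQ θ hle)
  refine ⟨ψ, ?_⟩
  apply LinearMap.ext
  intro y
  have := congrArg (fun k => k ((LinearMap.ker b).mkQ y)) hψ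
  simpa using this

end CoAlgebra

section CochainFacts

variable (K : CochainComplex (ModuleCat.{u} R) ℕ) (M : ModuleCat.{u} R)
  (η : (CochainComplex.single₀ (ModuleCat.{u} R)).obj M ⟶ K)

theorem cochain_aug (T : ModuleCat.{u} R)
    (h : QuasiIso (((tensorRight T).mapHomologicalComplex (ComplexShape.up ℕ)).map η)) :
    Function.Injective ((η.f 0).hom.rTensor T) ∧
      ∀ z : (K.X 0) ⊗[R] T, (K.d 0 1).hom.rTensor T z = 0 →
        ∃ y : (((CochainComplex.single₀ (ModuleCat.{u} R)).obj M).X 0) ⊗[R] T,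
          (η.f 0).hom.rTensor T y = z := by
  have h0 := h.quasiIsoAt 0
  rw [CochainComplex.quasiIsoAt₀_iff, ShortComplex.quasiIso_iff_of_zeros] at h0
  · constructor
    · exact (ModuleCat.mono_iff_injective _).mp h0.2
    · intro z hz
      exact (ShortComplex.moduleCat_exact_iff _).mp h0.1 z hz
  · exact (((tensorRight T).mapHomologicalComplex (ComplexShape.up ℕ)).obj
      ((CochainComplex.single₀ (ModuleCat.{u} R)).obj M)).shape 0 0 (by simp)
  · show (tensorRight T).map (((CochainComplex.single₀ (ModuleCat.{u} R)).obj M).d 0 1) = 0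
    rw [HomologicalComplex.single_obj_d, Functor.map_zero]
  · exact (((tensorRight T).mapHomologicalComplex (ComplexShape.up ℕ)).obj K).shape 0 0
      (by simp)

theorem cochain_exact (T : ModuleCat.{u} R)
    (h : QuasiIso (((tensorRight T).mapHomologicalComplex (ComplexShape.up ℕ)).map η))
    (n : ℕ) (z : (K.X (n + 1)) ⊗[R] T) (hz : (K.d (n + 1) (n + 2)).hom.rTensor T z = 0) :
    ∃ y : (K.X n) ⊗[R] T, (K.d n (n + 1)).hom.rTensor T y = z := by
  have h1 := h.quasiIsoAt (n + 1)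
  rw [quasiIsoAt_iff_exactAt] at h1
  · rw [HomologicalComplex.exactAt_iff' _ n (n + 1) (n + 2) (by simp) (by simp)] at h1
    exact (ShortComplex.moduleCat_exact_iff _).mp h1 z hz
  · rw [HomologicalComplex.exactAt_iff]
    apply ShortComplex.exact_of_isZero_X₂
    exact Functor.map_isZero (tensorRight T)
      (HomologicalComplex.isZero_single_obj_X _ _ _ _ (by simp))

end CochainFacts

section CochainMain

variable (K : CochainComplex (ModuleCat.{u} R) ℕ) (M : ModuleCat.{u} R)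
  (η : (CochainComplex.single₀ (ModuleCat.{u} R)).obj M ⟶ K)

lemma aug_d : η.f 0 ≫ K.d 0 1 = 0 := by
  rw [η.comm 0 1, HomologicalComplex.single_obj_d, Limits.zero_comp]

variable (hK : ∀ T : ModuleCat.{u} R,
  QuasiIso (((tensorRight T).mapHomologicalComplex (ComplexShape.up ℕ)).map η))

include hK

lemma caug_ui : CAlgX.UniversallyInjective R (η.f 0).hom := by
  intro T _ _
  exact (cochain_aug K M η (ModuleCat.of R T) (hK _)).1

lemma caug_exact (x : K.X 0) (hx : (K.d 0 1).hom x = 0) :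
    ∃ m : ((CochainComplex.single₀ (ModuleCat.{u} R)).obj M).X 0, (η.f 0).hom m = x :=
  exact_of_tensor _ _ (cochain_aug K M η (ModuleCat.of R R) (hK _)).2 x hx

lemma ccx_exact (n : ℕ) (x : K.X (n + 1)) (hx : (K.d (n + 1) (n + 2)).hom x = 0) :
    ∃ y : K.X n, (K.d n (n + 1)).hom y = x :=
  exact_of_tensor _ _
    (fun z hz => cochain_exact K M η (ModuleCat.of R R) (hK _) n z hz) x hx

lemma cui_zero : CAlgX.UniversallyInjective R
    ((LinearMap.ker (K.d 0 1).hom).liftQ (K.d 0 1).hom le_rfl) :=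
  univInj_quot (η.f 0).hom (K.d 0 1).hom
    (fun w => comp_apply' _ _ (aug_d K M η) w)
    (fun T _ _ z hz => (cochain_aug K M η (ModuleCat.of R T) (hK _)).2 z hz)

lemma cui_succ (n : ℕ) : CAlgX.UniversallyInjective R
    ((LinearMap.ker (K.d (n + 1) (n + 2)).hom).liftQ (K.d (n + 1) (n + 2)).hom le_rfl) :=
  univInj_quot (K.d n (n + 1)).hom (K.d (n + 1) (n + 2)).hom
    (fun w => comp_apply' _ _ (K.d_comp_d _ _ _) w)
    (fun T _ _ z hz => cochain_exact K M η (ModuleCat.of R T) (hK _) n z hz)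

lemma ext_aug {J : ModuleCat.{u} R} (hJ : PI (R := R) J)
    (θ : ((CochainComplex.single₀ (ModuleCat.{u} R)).obj M).X 0 ⟶ J) :
    ∃ s : K.X 0 ⟶ J, η.f 0 ≫ s = θ := by
  obtain ⟨ψ, hψ⟩ := hJ (η.f 0).hom (caug_ui K M η hK) θ.hom
  exact ⟨ModuleCat.ofHom ψ, ModuleCat.hom_ext hψ⟩

lemma ext_zero {J : ModuleCat.{u} R} (hJ : PI (R := R) J) (θ : K.X 0 ⟶ J)
    (h : η.f 0 ≫ θ = 0) : ∃ s : K.X 1 ⟶ J, K.d 0 1 ≫ s = θ := by
  obtain ⟨s, hs⟩ := ext_lin hJ (η.f 0).hom (K.d 0 1).hom (caug_exact K M η hK)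
    (cui_zero K M η hK) θ.hom (fun x => comp_apply' _ _ h x)
  exact ⟨ModuleCat.ofHom s, ModuleCat.hom_ext hs⟩

lemma ext_succ {J : ModuleCat.{u} R} (hJ : PI (R := R) J) (n : ℕ) (θ : K.X (n + 1) ⟶ J)
    (h : K.d n (n + 1) ≫ θ = 0) : ∃ s : K.X (n + 2) ⟶ J, K.d (n + 1) (n + 2) ≫ s = θ := by
  obtain ⟨s, hs⟩ := ext_lin hJ (K.d n (n + 1)).hom (K.d (n + 1) (n + 2)).hom
    (ccx_exact K M η hK n) (cui_succ K M η hK n) θ.hom (fun x => comp_apply' _ _ h x)
  exact ⟨ModuleCat.ofHom s, ModuleCat.hom_ext hs⟩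

end CochainMain

section CochainTheorems

variable {M N : ModuleCat.{u} R} (f : M ⟶ N) (K I : CochainComplex (ModuleCat.{u} R) ℕ)
  (η : (CochainComplex.single₀ (ModuleCat.{u} R)).obj M ⟶ K)
  (ε : (CochainComplex.single₀ (ModuleCat.{u} R)).obj N ⟶ I)
  (hK : ∀ T : ModuleCat.{u} R,
    QuasiIso (((tensorRight T).mapHomologicalComplex (ComplexShape.up ℕ)).map η))
  (hI : ∀ n : ℕ, PI (R := R) (I.X n))

include hK hI

theorem exists_cochainMap :
    ∃ φ : K ⟶ I, η ≫ φ = (CochainComplex.single₀ (ModuleCat.{u} R)).map f ≫ ε := by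
  obtain ⟨φ0, h0⟩ := ext_aug K M η hK (hI 0)
    (((CochainComplex.single₀ (ModuleCat.{u} R)).map f).f 0 ≫ ε.f 0)
  have hε : ε.f 0 ≫ I.d 0 1 = 0 := aug_d I N ε
  obtain ⟨φ1, h1⟩ := ext_zero K M η hK (hI 1) (φ0 ≫ I.d 0 1)
    (by rw [← Category.assoc, h0, Category.assoc, hε, Limits.comp_zero])
  have hs : ∀ (n : ℕ) (p : Σ' (g : K.X n ⟶ I.X n) (g' : K.X (n + 1) ⟶ I.X (n + 1)),
      g ≫ I.d n (n + 1) = K.d n (n + 1) ≫ g'),
      ∃ g'' : K.X (n + 2) ⟶ I.X (n + 2),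
        p.2.1 ≫ I.d (n + 1) (n + 2) = K.d (n + 1) (n + 2) ≫ g'' := by
    rintro n ⟨g, g', hp⟩
    obtain ⟨s, hs⟩ := ext_succ K M η hK (hI (n + 2)) n (g' ≫ I.d (n + 1) (n + 2))
      (by rw [← Category.assoc, ← hp, Category.assoc, I.d_comp_d, Limits.comp_zero])
    exact ⟨s, hs.symm⟩
  let φ : K ⟶ I := CochainComplex.mkHom K I φ0 φ1 h1.symm
    (fun n p => ⟨(hs n p).choose, (hs n p).choose_spec⟩)
  refine ⟨φ, ?_⟩
  apply HomologicalComplex.from_single_hom_ext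
  rw [HomologicalComplex.comp_f, HomologicalComplex.comp_f]
  exact h0

theorem exists_cohomotopy (α β : K ⟶ I)
    (hα : η ≫ α = (CochainComplex.single₀ (ModuleCat.{u} R)).map f ≫ ε)
    (hβ : η ≫ β = (CochainComplex.single₀ (ModuleCat.{u} R)).map f ≫ ε) :
    Nonempty (Homotopy α β) := by
  have hδ : η ≫ (α - β) = 0 := by rw [Preadditive.comp_sub, hα, hβ, sub_self]
  have hδ0 : η.f 0 ≫ (α - β).f 0 = 0 := by
    have := congrArg (fun k => k.f 0) hδ
    exact this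
  obtain ⟨s0, h0⟩ := ext_zero K M η hK (hI 0) ((α - β).f 0) hδ0
  obtain ⟨s1, h1⟩ := ext_succ K M η hK (hI 1) 0 ((α - β).f 1 - s0 ≫ I.d 0 1) (by
    rw [Preadditive.comp_sub, ← Category.assoc, h0, ← (α - β).comm 0 1, sub_self])
  have hs : ∀ (n : ℕ) (p : Σ' (g : K.X (n + 1) ⟶ I.X n) (g' : K.X (n + 2) ⟶ I.X (n + 1)),
      (α - β).f (n + 1) = g ≫ I.d n (n + 1) + K.d (n + 1) (n + 2) ≫ g'),
      ∃ g'' : K.X (n + 3) ⟶ I.X (n + 2),
        (α - β).f (n + 2) = p.2.1 ≫ I.d (n + 1) (n + 2) + K.d (n + 2) (n + 3) ≫ g'' := by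
    rintro n ⟨g, g', hp⟩
    have key : ∀ θ : K.X (n + 2) ⟶ I.X (n + 2), K.d (n + 1) (n + 2) ≫ θ = 0 →
        ∃ s : K.X (n + 3) ⟶ I.X (n + 2), K.d (n + 2) (n + 3) ≫ s = θ :=
      fun θ h => ext_succ K M η hK (hI (n + 2)) (n + 1) θ h
    obtain ⟨s, hs⟩ := key ((α - β).f (n + 2) - g' ≫ I.d (n + 1) (n + 2)) (by
      rw [Preadditive.comp_sub, ← (α - β).comm (n + 1) (n + 2), hp, Preadditive.add_comp,
        Category.assoc, I.d_comp_d, Limits.comp_zero, zero_add, Category.assoc, sub_self])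
    exact ⟨s, by rw [hs]; abel⟩
  exact ⟨(Homotopy.equivSubZero).symm (Homotopy.mkCoinductive (α - β) s0 h0.symm s1
    (by rw [h1]; abel) (fun n p => ⟨(hs n p).choose, (hs n p).choose_spec⟩))⟩

end CochainTheorems

end Groth.Agent.H2.PureCx
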