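import Mathlib
import Groth.Agent.H2.PureCx
import Groth.Agent.S8771
import Groth.Agent.S8772

/-! Existence of pure injective resolutions. -/

set_option autoImplicit false
universe u
open CategoryTheory MonoidalCategory TensorProduct

namespace Groth.Agent.H2.PureCx

section CoReverse

variable {R : Type u} [CommRing R]
variable (K : CochainComplex (ModuleCat.{u} R) ℕ) (M : ModuleCat.{u} R)
  (η : (CochainComplex.single₀ (ModuleCat.{u} R)).obj M ⟶ K)

theorem cquasiIso_of_facts (T : ModuleCat.{u} R)
    (h1 : Function.Injective ((η.f 0).hom.rTensor T))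
    (h2 : ∀ z : (K.X 0) ⊗[R] T, (K.d 0 1).hom.rTensor T z = 0 →
        ∃ y : (((CochainComplex.single₀ (ModuleCat.{u} R)).obj M).X 0) ⊗[R] T,
          (η.f 0).hom.rTensor T y = z)
    (h3 : ∀ (n : ℕ) (z : (K.X (n + 1)) ⊗[R] T), (K.d (n + 1) (n + 2)).hom.rTensor T z = 0 →
        ∃ y : (K.X n) ⊗[R] T, (K.d n (n + 1)).hom.rTensor T y = z) :
    QuasiIso (((tensorRight T).mapHomologicalComplex (ComplexShape.up ℕ)).map η) := by
  refine ⟨fun n => ?_⟩
  cases n with
  | zero =>
    have hf1 : ((HomologicalComplex.shortComplexFunctor' (ModuleCat.{u} R) (ComplexShape.up ℕ)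
        0 0 1).obj (((tensorRight T).mapHomologicalComplex (ComplexShape.up ℕ)).obj
          ((CochainComplex.single₀ (ModuleCat.{u} R)).obj M))).f = 0 :=
      (((tensorRight T).mapHomologicalComplex (ComplexShape.up ℕ)).obj
        ((CochainComplex.single₀ (ModuleCat.{u} R)).obj M)).shape 0 0 (by simp)
    have hg1 : ((HomologicalComplex.shortComplexFunctor' (ModuleCat.{u} R) (ComplexShape.up ℕ)
        0 0 1).obj (((tensorRight T).mapHomologicalComplex (ComplexShape.up ℕ)).obj
          ((CochainComplex.single₀ (ModuleCat.{u} R)).obj M))).g = 0 := by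
      show (tensorRight T).map (((CochainComplex.single₀ (ModuleCat.{u} R)).obj M).d 0 1) = 0
      rw [HomologicalComplex.single_obj_d, Functor.map_zero]
    have hf2 : ((HomologicalComplex.shortComplexFunctor' (ModuleCat.{u} R) (ComplexShape.up ℕ)
        0 0 1).obj (((tensorRight T).mapHomologicalComplex (ComplexShape.up ℕ)).obj K)).f =
        0 :=
      (((tensorRight T).mapHomologicalComplex (ComplexShape.up ℕ)).obj K).shape 0 0 (by simp)
    rw [CochainComplex.quasiIsoAt₀_iff, ShortComplex.quasiIso_iff_of_zeros _ hf1 hg1 hf2]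
    constructor
    · apply (ShortComplex.moduleCat_exact_iff _).mpr
      intro z hz
      exact h2 z hz
    · apply (ModuleCat.mono_iff_injective _).mpr
      exact h1
  | succ n =>
    rw [quasiIsoAt_iff_exactAt]
    · rw [HomologicalComplex.exactAt_iff' _ n (n + 1) (n + 2) (by simp) (by simp)]
      apply (ShortComplex.moduleCat_exact_iff _).mpr
      intro z hz
      exact h3 n z hz
    · rw [HomologicalComplex.exactAt_iff]
      apply ShortComplex.exact_of_isZero_X₂
      exact Functor.map_isZero (tensorRight T)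
        (HomologicalComplex.isZero_single_obj_X _ _ _ _ (by simp))

end CoReverse

section CoResolution

variable {R : Type u} [CommRing R]

/-- character modules are pure injective -/
lemma pi_char (X : Type u) [AddCommGroup X] [Module R X] :
    PI (R := R) (CharacterModule X) := by
  apply (Groth.Agent.S8771.result R (CharacterModule X)).mpr
  refine ⟨CharacterModule.dual (PureExt.charEval R X), ?_⟩
  apply LinearMap.ext
  intro χ
  apply DFunLike.ext
  intro x
  rfl

noncomputable def dd (M : Type u) [AddCommGroup M] [Module R M] : ModuleCat.{u} R :=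
  ModuleCat.of R (CharacterModule (CharacterModule M))

noncomputable def coaug (M : ModuleCat.{u} R) : M ⟶ dd (R := R) M :=
  ModuleCat.ofHom (PureExt.charEval R M)

noncomputable def cnextObj {X₀ X₁ : ModuleCat.{u} R} (f : X₀ ⟶ X₁) : ModuleCat.{u} R :=
  dd (R := R) (X₁ ⧸ LinearMap.range f.hom)

noncomputable def cnextD {X₀ X₁ : ModuleCat.{u} R} (f : X₀ ⟶ X₁) : X₁ ⟶ cnextObj f :=
  ModuleCat.ofHom (PureExt.charEval R (X₁ ⧸ LinearMap.range f.hom) ∘ₗ
    (LinearMap.range f.hom).mkQ)

lemma comp_cnextD {X₀ X₁ : ModuleCat.{u} R} (f : X₀ ⟶ X₁) : f ≫ cnextD f = 0 := by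
  apply ModuleCat.hom_ext
  apply LinearMap.ext
  intro x
  have h : (LinearMap.range f.hom).mkQ (f.hom x) = 0 :=
    (Submodule.Quotient.mk_eq_zero _).mpr ⟨x, rfl⟩
  exact (congrArg (PureExt.charEval R (X₁ ⧸ LinearMap.range f.hom)) h).trans (map_zero _)

noncomputable def cstage (M : ModuleCat.{u} R) :
    ℕ → Σ (X₀ X₁ : ModuleCat.{u} R), (X₀ ⟶ X₁)
  | 0 => ⟨M, dd (R := R) M, coaug M⟩
  | n + 1 => ⟨(cstage M n).2.1, cnextObj (cstage M n).2.2, cnextD (cstage M n).2.2⟩

noncomputable def cresX (M : ModuleCat.{u} R) (n : ℕ) : ModuleCat.{u} R := (cstage M n).2.1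

noncomputable def cresD (M : ModuleCat.{u} R) (n : ℕ) : cresX M n ⟶ cresX M (n + 1) :=
  (cstage M (n + 1)).2.2

lemma cresD_sq (M : ModuleCat.{u} R) (n : ℕ) : cresD M n ≫ cresD M (n + 1) = 0 :=
  comp_cnextD (cresD M n)

lemma CE_next {X₀ X₁ : ModuleCat.{u} R} (f : X₀ ⟶ X₁)
    (T : Type u) [AddCommGroup T] [Module R T] (z : X₁ ⊗[R] T)
    (hz : (cnextD f).hom.rTensor T z = 0) :
    ∃ y : X₀ ⊗[R] T, f.hom.rTensor T y = z := by
  have hz' : (LinearMap.range f.hom).mkQ.rTensor T z = 0 := by
    apply Groth.Agent.S8772.result R (X₁ ⧸ LinearMap.range f.hom) T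
    rw [map_zero, ← LinearMap.comp_apply, ← LinearMap.rTensor_comp]
    exact hz
  exact (rTensor_exact T f.hom.exact_map_mkQ_range (Submodule.mkQ_surjective _) z).mp hz'

theorem exists_pi_resolution (M : ModuleCat.{u} R) :
    ∃ (I : CochainComplex (ModuleCat.{u} R) ℕ)
      (η : (CochainComplex.single₀ (ModuleCat.{u} R)).obj M ⟶ I),
      (∀ n : ℕ, PI (R := R) (I.X n)) ∧
      ∀ T : ModuleCat.{u} R,
        QuasiIso (((MonoidalCategory.tensorRight T).mapHomologicalComplex
          (ComplexShape.up ℕ)).map η) := by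
  let I : CochainComplex (ModuleCat.{u} R) ℕ :=
    CochainComplex.of (cresX M) (cresD M) (cresD_sq M)
  have hd : ∀ n, I.d n (n + 1) = cresD M n := fun n => CochainComplex.of_d (cresX M) (cresD M) n
  have h01 : coaug M ≫ I.d 0 1 = 0 := by
    rw [hd 0]; exact comp_cnextD (coaug M)
  let η : (CochainComplex.single₀ (ModuleCat.{u} R)).obj M ⟶ I :=
    (CochainComplex.fromSingle₀Equiv I M).symm ⟨coaug M, h01⟩
  have hη0 : η.f 0 = coaug M := CochainComplex.fromSingle₀Equiv_symm_apply_f_zero _ _
  refine ⟨I, η, ?_, ?_⟩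
  · intro n
    cases n with
    | zero => exact pi_char (CharacterModule M)
    | succ n => exact pi_char (CharacterModule ((cstage M n).2.1 ⧸
        LinearMap.range ((cstage M n).2.2).hom))
  · intro T
    apply cquasiIso_of_facts I M η T
    · rw [hη0]
      exact Groth.Agent.S8772.result R M T
    · intro z hz
      rw [hd 0] at hz
      rw [hη0]
      exact CE_next (coaug M) T z hz
    · intro n z hz
      rw [hd (n + 1)] at hz
      rw [hd n]
      exact CE_next (cresD M n) T z hz

end CoResolution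

end Groth.Agent.H2.PureCx
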