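import Mathlib
import Groth.Agent.H2.PureCx
import Groth.Agent.S8770

/-! Existence of pure projective resolutions. -/

set_option autoImplicit false
universe u
open CategoryTheory MonoidalCategory TensorProduct

namespace Groth.Agent.H2.PureCx

section Reverse

variable {R : Type u} [CommRing R]
variable (K : ChainComplex (ModuleCat.{u} R) ℕ) (M : ModuleCat.{u} R)
  (π : K ⟶ (ChainComplex.single₀ (ModuleCat.{u} R)).obj M)

theorem quasiIso_of_facts (T : ModuleCat.{u} R)
    (h1 : Function.Surjective ((π.f 0).hom.rTensor T))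
    (h2 : ∀ z : (K.X 0) ⊗[R] T, (π.f 0).hom.rTensor T z = 0 →
        ∃ y : (K.X 1) ⊗[R] T, (K.d 1 0).hom.rTensor T y = z)
    (h3 : ∀ (n : ℕ) (z : (K.X (n + 1)) ⊗[R] T), (K.d (n + 1) n).hom.rTensor T z = 0 →
        ∃ y : (K.X (n + 2)) ⊗[R] T, (K.d (n + 2) (n + 1)).hom.rTensor T y = z) :
    QuasiIso (((tensorRight T).mapHomologicalComplex (ComplexShape.down ℕ)).map π) := by
  refine ⟨fun n => ?_⟩
  cases n with
  | zero =>
    have hg1 : ((HomologicalComplex.shortComplexFunctor' (ModuleCat.{u} R) (ComplexShape.down ℕ)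
        1 0 0).obj (((tensorRight T).mapHomologicalComplex (ComplexShape.down ℕ)).obj K)).g =
        0 :=
      (((tensorRight T).mapHomologicalComplex (ComplexShape.down ℕ)).obj K).shape 0 0 (by simp)
    have hf2 : ((HomologicalComplex.shortComplexFunctor' (ModuleCat.{u} R) (ComplexShape.down ℕ)
        1 0 0).obj (((tensorRight T).mapHomologicalComplex (ComplexShape.down ℕ)).obj
          ((ChainComplex.single₀ (ModuleCat.{u} R)).obj M))).f = 0 := by
      show (tensorRight T).map (((ChainComplex.single₀ (ModuleCat.{u} R)).obj M).d 1 0) = 0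
      rw [HomologicalComplex.single_obj_d, Functor.map_zero]
    have hg2 : ((HomologicalComplex.shortComplexFunctor' (ModuleCat.{u} R) (ComplexShape.down ℕ)
        1 0 0).obj (((tensorRight T).mapHomologicalComplex (ComplexShape.down ℕ)).obj
          ((ChainComplex.single₀ (ModuleCat.{u} R)).obj M))).g = 0 :=
      (((tensorRight T).mapHomologicalComplex (ComplexShape.down ℕ)).obj
        ((ChainComplex.single₀ (ModuleCat.{u} R)).obj M)).shape 0 0 (by simp)
    rw [ChainComplex.quasiIsoAt₀_iff, ShortComplex.quasiIso_iff_of_zeros' _ hg1 hf2 hg2]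
    constructor
    · apply (ShortComplex.moduleCat_exact_iff _).mpr
      intro z hz
      exact h2 z hz
    · apply (ModuleCat.epi_iff_surjective _).mpr
      exact h1
  | succ n =>
    rw [quasiIsoAt_iff_exactAt']
    · rw [HomologicalComplex.exactAt_iff' _ (n + 2) (n + 1) n (by simp) (by simp)]
      apply (ShortComplex.moduleCat_exact_iff _).mpr
      intro z hz
      exact h3 n z hz
    · rw [HomologicalComplex.exactAt_iff]
      apply ShortComplex.exact_of_isZero_X₂
      exact Functor.map_isZero (tensorRight T)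
        (HomologicalComplex.isZero_single_obj_X _ _ _ _ (by simp))

end Reverse

section Resolution

variable (R : Type u) [CommRing R]

/-- a pure cover by a direct sum of finitely presented modules -/
structure Cover (M : Type u) [AddCommGroup M] [Module R M] where
  ι : Type u
  Q : ι → Type u
  [acg : ∀ i, AddCommGroup (Q i)]
  [mod : ∀ i, Module R (Q i)]
  fp : ∀ i, Module.FinitePresentation R (Q i)
  g : (Π₀ i, Q i) →ₗ[R] M
  surj : Function.Surjective g
  ui : CAlgX.UniversallyInjective R (LinearMap.ker g).subtype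

attribute [instance] Cover.acg Cover.mod

theorem cover_nonempty (M : Type u) [AddCommGroup M] [Module R M] : Nonempty (Cover R M) := by
  obtain ⟨ι, Q, acg, mod, fp, g, hs, hu⟩ := Groth.Agent.S8770.result R M
  exact ⟨@Cover.mk R _ M _ _ ι Q acg mod fp g hs hu⟩

noncomputable def theCover (M : Type u) [AddCommGroup M] [Module R M] : Cover R M :=
  Classical.choice (cover_nonempty R M)

variable {R}

noncomputable def coverObj {M : Type u} [AddCommGroup M] [Module R M] (c : Cover R M) :
    ModuleCat.{u} R :=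
  ModuleCat.of R (Π₀ i, c.Q i)

noncomputable def nextObj {X₁ X₀ : ModuleCat.{u} R} (f : X₁ ⟶ X₀) : ModuleCat.{u} R :=
  coverObj (theCover R (LinearMap.ker f.hom))

noncomputable def nextD {X₁ X₀ : ModuleCat.{u} R} (f : X₁ ⟶ X₀) : nextObj f ⟶ X₁ :=
  ModuleCat.ofHom ((LinearMap.ker f.hom).subtype ∘ₗ (theCover R (LinearMap.ker f.hom)).g)

lemma nextD_comp {X₁ X₀ : ModuleCat.{u} R} (f : X₁ ⟶ X₀) : nextD f ≫ f = 0 := by
  apply ModuleCat.hom_ext
  apply LinearMap.ext
  intro x
  exact ((theCover R (LinearMap.ker f.hom)).g x).2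

noncomputable def aug (M : ModuleCat.{u} R) : coverObj (theCover R M) ⟶ M :=
  ModuleCat.ofHom (theCover R M).g

noncomputable def stage (M : ModuleCat.{u} R) :
    ℕ → Σ (X₁ X₀ : ModuleCat.{u} R), (X₁ ⟶ X₀)
  | 0 => ⟨nextObj (aug M), coverObj (theCover R M), nextD (aug M)⟩
  | n + 1 => ⟨nextObj (stage M n).2.2, (stage M n).1, nextD (stage M n).2.2⟩

noncomputable def resX (M : ModuleCat.{u} R) (n : ℕ) : ModuleCat.{u} R := (stage M n).2.1

noncomputable def resD (M : ModuleCat.{u} R) (n : ℕ) : resX M (n + 1) ⟶ resX M n :=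
  (stage M n).2.2

lemma resD_sq (M : ModuleCat.{u} R) (n : ℕ) : resD M (n + 1) ≫ resD M n = 0 :=
  nextD_comp (resD M n)

/-- universal injectivity of kernel and range inclusions -/
def Good {X₁ X₀ : ModuleCat.{u} R} (f : X₁ ⟶ X₀) : Prop :=
  CAlgX.UniversallyInjective R (LinearMap.ker f.hom).subtype ∧
    CAlgX.UniversallyInjective R (LinearMap.range f.hom).subtype

lemma good_nextD {X₁ X₀ : ModuleCat.{u} R} (f : X₁ ⟶ X₀)
    (h : CAlgX.UniversallyInjective R (LinearMap.ker f.hom).subtype) : Good (nextD f) := by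
  have hk : LinearMap.ker (nextD f).hom =
      LinearMap.ker (theCover R (LinearMap.ker f.hom)).g := by
    show LinearMap.ker ((LinearMap.ker f.hom).subtype ∘ₗ _) = _
    exact LinearMap.ker_comp_of_ker_eq_bot _ (Submodule.ker_subtype _)
  have hr : LinearMap.range (nextD f).hom = LinearMap.ker f.hom := by
    apply le_antisymm
    · rintro _ ⟨y, rfl⟩
      exact ((theCover R (LinearMap.ker f.hom)).g y).2
    · intro x hx
      obtain ⟨y, hy⟩ := (theCover R (LinearMap.ker f.hom)).surj ⟨x, hx⟩
      exact ⟨y, congrArg Subtype.val hy⟩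
  constructor
  · rw [hk]; exact (theCover R _).ui
  · rw [hr]; exact h

lemma good_resD (M : ModuleCat.{u} R) (n : ℕ) : Good (resD M n) := by
  induction n with
  | zero => exact good_nextD (aug M) (theCover R M).ui
  | succ n ih => exact good_nextD (resD M n) ih.1

lemma E_core {X₁ Y W : Type u} [AddCommGroup X₁] [Module R X₁] [AddCommGroup Y] [Module R Y]
    [AddCommGroup W] [Module R W] (S : Submodule R X₁) (g' : X₁ →ₗ[R] Y)
    (hex : Function.Exact S.subtype g') (hg' : Function.Surjective g')
    (c : W →ₗ[R] S) (hc : Function.Surjective c) (T : Type u) [AddCommGroup T] [Module R T]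
    (z : X₁ ⊗[R] T) (hz : g'.rTensor T z = 0) :
    ∃ y : W ⊗[R] T, (S.subtype ∘ₗ c).rTensor T y = z := by
  have h1 := rTensor_exact T hex hg'
  obtain ⟨w, hw⟩ := (h1 z).mp hz
  obtain ⟨y, hy⟩ := LinearMap.rTensor_surjective T hc w
  refine ⟨y, ?_⟩
  rw [LinearMap.rTensor_comp, LinearMap.comp_apply, hy, hw]

lemma E_next {X₁ X₀ : ModuleCat.{u} R} (f : X₁ ⟶ X₀)
    (hf : CAlgX.UniversallyInjective R (LinearMap.range f.hom).subtype)
    (T : Type u) [AddCommGroup T] [Module R T] (z : X₁ ⊗[R] T) (hz : f.hom.rTensor T z = 0) :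
    ∃ y : (nextObj f) ⊗[R] T, (nextD f).hom.rTensor T y = z := by
  have e : (LinearMap.range f.hom).subtype ∘ₗ f.hom.rangeRestrict = f.hom :=
    LinearMap.ext fun _ => rfl
  have hz' : f.hom.rangeRestrict.rTensor T z = 0 := by
    apply hf T
    rw [map_zero, ← LinearMap.comp_apply, ← LinearMap.rTensor_comp, e]
    exact hz
  have hex : Function.Exact (LinearMap.ker f.hom).subtype f.hom.rangeRestrict := by
    intro x
    constructor
    · intro hx
      refine ⟨⟨x, ?_⟩, rfl⟩
      have := congrArg Subtype.val hx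
      exact this
    · rintro ⟨y, rfl⟩
      exact Subtype.ext y.2
  exact E_core (LinearMap.ker f.hom) f.hom.rangeRestrict hex f.hom.surjective_rangeRestrict
    (theCover R _).g (theCover R _).surj T z hz'

theorem exists_pp_resolution (M : ModuleCat.{u} R) :
    ∃ (P : ChainComplex (ModuleCat.{u} R) ℕ)
      (π : P ⟶ (ChainComplex.single₀ (ModuleCat.{u} R)).obj M),
      (∀ n : ℕ, ∃ (ι : Type u) (Q : ι → Type u) (_ : ∀ i, AddCommGroup (Q i))
        (_ : ∀ i, Module R (Q i)), (∀ i, Module.FinitePresentation R (Q i)) ∧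
        ∃ (s : P.X n →ₗ[R] (Π₀ i, Q i)) (r : (Π₀ i, Q i) →ₗ[R] P.X n),
          r ∘ₗ s = LinearMap.id) ∧
      ∀ N : ModuleCat.{u} R,
        QuasiIso (((MonoidalCategory.tensorRight N).mapHomologicalComplex
          (ComplexShape.down ℕ)).map π) := by
  let P : ChainComplex (ModuleCat.{u} R) ℕ := ChainComplex.of (resX M) (resD M) (resD_sq M)
  have hd : ∀ n, P.d (n + 1) n = resD M n := fun n => ChainComplex.of_d (resX M) (resD M) n
  have h10 : P.d 1 0 ≫ aug M = 0 := by
    rw [hd 0]; exact nextD_comp (aug M)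
  let π : P ⟶ (ChainComplex.single₀ (ModuleCat.{u} R)).obj M :=
    (ChainComplex.toSingle₀Equiv P M).symm ⟨aug M, h10⟩
  have hπ0 : π.f 0 = aug M := ChainComplex.toSingle₀Equiv_symm_apply_f_zero _ _
  refine ⟨P, π, ?_, ?_⟩
  · intro n
    cases n with
    | zero =>
      exact ⟨(theCover R M).ι, (theCover R M).Q, (theCover R M).acg, (theCover R M).mod,
        (theCover R M).fp, LinearMap.id, LinearMap.id, rfl⟩
    | succ n =>
      cases n with
      | zero =>
        exact ⟨(theCover R (LinearMap.ker (aug M).hom)).ι, (theCover R _).Q, (theCover R _).acg,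
          (theCover R _).mod, (theCover R _).fp, LinearMap.id, LinearMap.id, rfl⟩
      | succ n =>
        exact ⟨(theCover R (LinearMap.ker (resD M n).hom)).ι, (theCover R _).Q,
          (theCover R _).acg, (theCover R _).mod, (theCover R _).fp, LinearMap.id,
          LinearMap.id, rfl⟩
  · intro T
    apply quasiIso_of_facts P M π T
    · rw [hπ0]
      exact LinearMap.rTensor_surjective T (theCover R M).surj
    · intro z hz
      rw [hπ0] at hz
      rw [hd 0]
      exact E_core (LinearMap.ker (aug M).hom) (aug M).hom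
        (LinearMap.exact_subtype_ker_map _) (theCover R M).surj
        (theCover R (LinearMap.ker (aug M).hom)).g (theCover R _).surj T z hz
    · intro n z hz
      rw [hd n] at hz
      rw [hd (n + 1)]
      exact E_next (resD M n) (good_resD M n).2 T z hz

end Resolution

end Groth.Agent.H2.PureCx
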