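import Mathlib

set_option autoImplicit false
set_option linter.style.haveILetI false
set_option linter.unusedSimpArgs false
set_option linter.unusedVariables false

open MvPolynomial

namespace Groth.Agent.H2.Quad

variable {κ : Type*} [Field κ]

/-- derivative of an element of `I^2` lies in `I` -/
theorem pderiv_mem_of_mem_sq {σ : Type*} (I : Ideal (MvPolynomial σ κ)) (i : σ)
    {p : MvPolynomial σ κ} (hp : p ∈ I ^ 2) : pderiv i p ∈ I := by
  rw [pow_two] at hp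
  refine Submodule.mul_induction_on hp ?_ ?_
  · intro m hm n hn
    rw [Derivation.leibniz, smul_eq_mul, smul_eq_mul]
    exact I.add_mem (I.mul_mem_right _ hm) (I.mul_mem_right _ hn)
  · intro x y hx hy
    rw [map_add]; exact I.add_mem hx hy

/-- Taylor decomposition at a rational point -/
theorem exists_decomp (α β : κ) (z : MvPolynomial (Fin 2) κ) :
    ∃ A B : MvPolynomial (Fin 2) κ,
      z = C (eval ![α, β] z) + A * (X 0 - C α) + B * (X 1 - C β) := by
  induction z using MvPolynomial.induction_on with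
  | C r => exact ⟨0, 0, by simp⟩
  | add z₁ z₂ h₁ h₂ =>
    obtain ⟨A₁, B₁, h₁⟩ := h₁
    obtain ⟨A₂, B₂, h₂⟩ := h₂
    refine ⟨A₁ + A₂, B₁ + B₂, ?_⟩
    rw [map_add, C_add]
    linear_combination h₁ + h₂
  | mul_X z i h =>
    obtain ⟨A, B, h⟩ := h
    fin_cases i
    · refine ⟨A * X 0 + C (eval ![α, β] z), B * X 0, ?_⟩
      simp only [Fin.zero_eta, map_mul, eval_X, Matrix.cons_val_zero, C_mul]
      linear_combination (X 0) * h
    · refine ⟨A * X 1, B * X 1 + C (eval ![α, β] z), ?_⟩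
      simp only [Fin.mk_one, map_mul, eval_X, Matrix.cons_val_one, Matrix.cons_val_zero, C_mul]
      linear_combination (X 1) * h

theorem finite_of_span_one {V : Type*} [AddCommGroup V] [Module κ V] (v : V)
    (h : ∀ w : V, ∃ c : κ, c • v = w) : Module.Finite κ V ∧ Module.finrank κ V ≤ 1 := by
  refine ⟨?_, finrank_le_one v h⟩
  apply Module.Finite.of_surjective (LinearMap.toSpanSingleton κ V v)
  intro w
  obtain ⟨c, hc⟩ := h w
  exact ⟨c, by simpa using hc⟩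

theorem ne_top_of_hI (I : Ideal (MvPolynomial (Fin 2) κ))
    (hI : ¬ (Module.Finite κ (MvPolynomial (Fin 2) κ ⧸ I) ∧
      Module.finrank κ (MvPolynomial (Fin 2) κ ⧸ I) ≤ 1)) : I ≠ ⊤ := by
  intro h
  apply hI
  haveI : Subsingleton (MvPolynomial (Fin 2) κ ⧸ I) := Ideal.Quotient.subsingleton_iff.mpr h
  exact finite_of_span_one (1 : MvPolynomial (Fin 2) κ ⧸ I) (fun w => ⟨0, Subsingleton.elim _ _⟩)

theorem not_rational_of_hI (I : Ideal (MvPolynomial (Fin 2) κ))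
    (hI : ¬ (Module.Finite κ (MvPolynomial (Fin 2) κ ⧸ I) ∧
      Module.finrank κ (MvPolynomial (Fin 2) κ ⧸ I) ≤ 1)) (α β : κ) :
    ¬ (X 0 - C α ∈ I ∧ X 1 - C β ∈ I) := by
  rintro ⟨h0, h1⟩
  apply hI
  apply finite_of_span_one (1 : MvPolynomial (Fin 2) κ ⧸ I)
  intro w
  obtain ⟨z, rfl⟩ := Ideal.Quotient.mk_surjective w
  refine ⟨eval ![α, β] z, ?_⟩
  obtain ⟨A, B, hz⟩ := exists_decomp α β z
  have e : (eval ![α, β] z) • (1 : MvPolynomial (Fin 2) κ ⧸ I) =
      Ideal.Quotient.mk I (C (eval ![α, β] z)) := by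
    have := map_smul (Ideal.Quotient.mkₐ κ I) (eval ![α, β] z) (1 : MvPolynomial (Fin 2) κ)
    rw [map_one] at this
    rw [← this, MvPolynomial.smul_eq_C_mul, mul_one]
    rfl
  rw [e, Ideal.Quotient.eq]
  have h2 : C (eval ![α, β] z) - z = -(A * (X 0 - C α) + B * (X 1 - C β)) := by
    linear_combination -hz
  rw [h2]
  exact I.neg_mem (I.add_mem (I.mul_mem_left _ h0) (I.mul_mem_left _ h1))

theorem const_mem (I : Ideal (MvPolynomial (Fin 2) κ)) (H1 : I ≠ ⊤) (c : κ) (hc : C c ∈ I) :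
    c = 0 := by
  by_contra h
  apply H1
  rw [Ideal.eq_top_iff_one]
  have : C c⁻¹ * C c ∈ I := I.mul_mem_left _ hc
  rwa [← C_mul, inv_mul_cancel₀ h, C_1] at this

theorem aff_comb (s t u₀ u₁ u₂ w₀ w₁ w₂ : κ) :
    C s * (C u₀ + C u₁ * X 0 + C u₂ * X 1) - C t * (C w₀ + C w₁ * X 0 + C w₂ * X 1) =
      (C (s * u₀ - t * w₀) + C (s * u₁ - t * w₁) * X 0 + C (s * u₂ - t * w₂) * X 1 :
        MvPolynomial (Fin 2) κ) := by
  simp only [C_sub, C_mul]; ring

/-- two affine forms in a proper ideal which is not above a rational point are proportional -/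
theorem minors (I : Ideal (MvPolynomial (Fin 2) κ)) (H1 : I ≠ ⊤)
    (H2 : ∀ α β : κ, ¬ (X 0 - C α ∈ I ∧ X 1 - C β ∈ I))
    (u₀ u₁ u₂ w₀ w₁ w₂ : κ) (hu : C u₀ + C u₁ * X 0 + C u₂ * X 1 ∈ I)
    (hw : C w₀ + C w₁ * X 0 + C w₂ * X 1 ∈ I) :
    u₁ * w₂ - u₂ * w₁ = 0 ∧ u₀ * w₁ - u₁ * w₀ = 0 ∧ u₀ * w₂ - u₂ * w₀ = 0 := by
  have comb : ∀ s t : κ, C (s * u₀ - t * w₀) + C (s * u₁ - t * w₁) * X 0 +
      C (s * u₂ - t * w₂) * X 1 ∈ I := by
    intro s t
    rw [← aff_comb]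
    exact I.sub_mem (I.mul_mem_left _ hu) (I.mul_mem_left _ hw)
  have hΔ : u₁ * w₂ - u₂ * w₁ = 0 := by
    by_contra hΔ
    obtain ⟨Δ, hΔdef⟩ : ∃ Δ, Δ = u₁ * w₂ - u₂ * w₁ := ⟨_, rfl⟩
    have hΔ' : Δ ≠ 0 := by rw [hΔdef]; exact hΔ
    apply H2 (-((w₂ / Δ) * u₀ - (u₂ / Δ) * w₀)) (-((-w₁ / Δ) * u₀ - (-u₁ / Δ) * w₀))
    constructor
    · have h := comb (w₂ / Δ) (u₂ / Δ)
      have e1 : w₂ / Δ * u₁ - u₂ / Δ * w₁ = 1 := by
        field_simp
        rw [hΔdef]; ring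
      have e2 : w₂ / Δ * u₂ - u₂ / Δ * w₂ = 0 := by
        ring
      rw [e1, e2] at h
      convert h using 1
      simp only [C_neg, C_1, C_0, one_mul, zero_mul, add_zero]
      ring
    · have h := comb (-w₁ / Δ) (-u₁ / Δ)
      have e1 : -w₁ / Δ * u₁ - -u₁ / Δ * w₁ = 0 := by
        ring
      have e2 : -w₁ / Δ * u₂ - -u₁ / Δ * w₂ = 1 := by
        field_simp
        rw [hΔdef]; ring
      rw [e1, e2] at h
      convert h using 1
      simp only [C_neg, C_1, C_0, one_mul, zero_mul, add_zero]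
      ring
  refine ⟨hΔ, ?_, ?_⟩
  · have h := comb w₁ u₁
    have e1 : w₁ * u₁ - u₁ * w₁ = 0 := by ring
    have e2 : w₁ * u₂ - u₁ * w₂ = 0 := by linear_combination -hΔ
    rw [e1, e2] at h
    simp only [C_0, zero_mul, add_zero] at h
    have := const_mem I H1 _ h
    linear_combination this
  · have h := comb w₂ u₂
    have e1 : w₂ * u₁ - u₂ * w₁ = 0 := by linear_combination hΔ
    have e2 : w₂ * u₂ - u₂ * w₂ = 0 := by ring
    rw [e1, e2] at h
    simp only [C_0, zero_mul, add_zero] at h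
    have := const_mem I H1 _ h
    linear_combination this

end Groth.Agent.H2.Quad
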