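import Groth.Agent.H2.Quad1

set_option autoImplicit false
set_option linter.style.haveILetI false
set_option linter.unusedSimpArgs false
set_option linter.unusedVariables false

open MvPolynomial IntermediateField

namespace Groth.Agent.H2.Quad

variable {κ : Type*} [Field κ] {L : Type*} [Field L] [Algebra κ L]

/-- generic detection lemma -/
theorem sq_dvd_of_mem_sq {A : Type*} [CommRing A] {S : Type*} [CommRing S] (J : Ideal S)
    (ev : S →+* A) (P : A) (h : ∀ u ∈ J, P ∣ ev u) {z : S} (hz : z ∈ J ^ 2) : P ^ 2 ∣ ev z := by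
  rw [pow_two] at hz
  refine Submodule.mul_induction_on hz ?_ ?_
  · intro m hm n hn
    rw [map_mul, pow_two]
    exact mul_dvd_mul (h m hm) (h n hn)
  · intro x y hx hy
    rw [map_add]; exact dvd_add hx hy

theorem SQ (h2 : (2 : κ) = 0) (P B : Polynomial κ) (hP : P.Monic) (hn : 2 ≤ P.natDegree)
    (hB : B.natDegree < P.natDegree) (c₀ c₁ c₂ : κ) (hne : ¬ (c₀ = 0 ∧ c₁ = 0 ∧ c₂ = 0))
    (hdvd : P ^ 2 ∣ Polynomial.C c₀ + Polynomial.C c₁ * Polynomial.X ^ 2 + Polynomial.C c₂ * B ^ 2) :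
    c₂ ≠ 0 ∧ c₀ = c₂ * (B.coeff 0) ^ 2 ∧ c₁ = c₂ * (B.coeff 1) ^ 2 := by
  have hdeg : (Polynomial.C c₀ + Polynomial.C c₁ * Polynomial.X ^ 2 +
      Polynomial.C c₂ * B ^ 2).natDegree < (P ^ 2).natDegree := by
    rw [hP.natDegree_pow]
    have h1 : (Polynomial.C c₀ + Polynomial.C c₁ * Polynomial.X ^ 2 +
        Polynomial.C c₂ * B ^ 2).natDegree ≤ 2 * P.natDegree - 2 := by
      apply Polynomial.natDegree_add_le_of_degree_le
      · apply Polynomial.natDegree_add_le_of_degree_le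
        · rw [Polynomial.natDegree_C]; omega
        · calc (Polynomial.C c₁ * Polynomial.X ^ 2).natDegree
              ≤ (Polynomial.X ^ 2 : Polynomial κ).natDegree := Polynomial.natDegree_C_mul_le _ _
            _ ≤ 2 := Polynomial.natDegree_X_pow_le 2
            _ ≤ _ := by omega
      · calc (Polynomial.C c₂ * B ^ 2).natDegree ≤ (B ^ 2).natDegree :=
              Polynomial.natDegree_C_mul_le _ _
          _ ≤ 2 * B.natDegree := Polynomial.natDegree_pow_le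
          _ ≤ _ := by omega
    omega
  have hZ := Polynomial.eq_zero_of_dvd_of_natDegree_lt hdvd hdeg
  have hc0 := congrArg (fun p => Polynomial.coeff p 0) hZ
  have hc2 := congrArg (fun p => Polynomial.coeff p 2) hZ
  simp only [Polynomial.coeff_add, Polynomial.coeff_C_zero, Polynomial.coeff_C_mul,
    Polynomial.coeff_X_pow, pow_two B, Polynomial.mul_coeff_zero, Polynomial.coeff_zero] at hc0
  simp only [Polynomial.coeff_add, Polynomial.coeff_C_mul, Polynomial.coeff_X_pow, pow_two B,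
    Polynomial.coeff_zero, Polynomial.coeff_C] at hc2
  rw [Polynomial.coeff_mul, Finset.Nat.sum_antidiagonal_eq_sum_range_succ_mk] at hc2
  simp [Finset.sum_range_succ] at hc0 hc2
  have e0 : c₀ = c₂ * (B.coeff 0) ^ 2 := by
    linear_combination hc0 - (c₂ * (B.coeff 0) ^ 2) * h2
  have e1 : c₁ = c₂ * (B.coeff 1) ^ 2 := by
    linear_combination hc2 - (c₂ * B.coeff 0 * B.coeff 2 + c₂ * (B.coeff 1) ^ 2) * h2
  refine ⟨?_, e0, e1⟩
  intro h
  apply hne
  rw [h] at e0 e1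
  exact ⟨by simpa using e0, by simpa using e1, h⟩

theorem ker_sq_le (π : MvPolynomial (Fin 2) κ →ₐ[κ] L) :
    (RingHom.ker π.toRingHom) ^ 2 ≤ RingHom.ker π.toRingHom :=
  Ideal.pow_le_self two_ne_zero

theorem caseI (h2 : (2 : κ) = 0) (π : MvPolynomial (Fin 2) κ →ₐ[κ] L) (a d f : κ)
    (hne : ¬ (a = 0 ∧ d = 0 ∧ f = 0))
    (hq : C a + C d * X 0 ^ 2 + C f * X 1 ^ 2 ∈ (RingHom.ker π.toRingHom) ^ 2)
    (hα : IsIntegral κ (π (X 0))) (hα2 : π (X 0) ∉ (algebraMap κ L).range)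
    (B₀ : Polynomial κ) (hβ : π (X 1) = Polynomial.aeval (π (X 0)) B₀) :
    ∃ j g h i : κ, a = j * g ^ 2 ∧ d = j * h ^ 2 ∧ f = j * i ^ 2 := by
  have hP : (minpoly κ (π (X 0))).Monic := minpoly.monic hα
  have hn : 2 ≤ (minpoly κ (π (X 0))).natDegree := (minpoly.two_le_natDegree_iff hα).mpr hα2
  have hB1 : Polynomial.aeval (π (X 0)) (B₀ %ₘ minpoly κ (π (X 0))) = π (X 1) := by
    rw [Polynomial.aeval_modByMonic_eq_self_of_root (minpoly.aeval κ _), hβ]
  have hB2 : (B₀ %ₘ minpoly κ (π (X 0))).natDegree < (minpoly κ (π (X 0))).natDegree :=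
    Polynomial.natDegree_modByMonic_lt _ hP (minpoly.ne_one κ _)
  obtain ⟨B, hBdef⟩ : ∃ B, B = B₀ %ₘ minpoly κ (π (X 0)) := ⟨_, rfl⟩
  rw [← hBdef] at hB1 hB2
  have hcomp : (Polynomial.aeval (π (X 0)) : Polynomial κ →ₐ[κ] L).comp
      (aeval ![Polynomial.X, B] : MvPolynomial (Fin 2) κ →ₐ[κ] Polynomial κ) = π := by
    apply MvPolynomial.algHom_ext
    intro i
    fin_cases i
    · simp
    · simp [hB1]
  have hdvd : ∀ u ∈ RingHom.ker π.toRingHom, minpoly κ (π (X 0)) ∣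
      (aeval ![Polynomial.X, B] : MvPolynomial (Fin 2) κ →ₐ[κ] Polynomial κ).toRingHom u := by
    intro u hu
    apply minpoly.dvd
    have := AlgHom.congr_fun hcomp u
    rw [AlgHom.comp_apply] at this
    rw [AlgHom.toRingHom_eq_coe, RingHom.coe_coe, this]
    exact hu
  have hsq := sq_dvd_of_mem_sq _ _ _ hdvd hq
  have hev : (aeval ![Polynomial.X, B] : MvPolynomial (Fin 2) κ →ₐ[κ] Polynomial κ).toRingHom
      (C a + C d * X 0 ^ 2 + C f * X 1 ^ 2) =
      Polynomial.C a + Polynomial.C d * Polynomial.X ^ 2 + Polynomial.C f * B ^ 2 := by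
    simp [Polynomial.algebraMap_eq]
  rw [hev] at hsq
  obtain ⟨hf, ha, hd⟩ := SQ h2 _ B hP hn hB2 a d f hne hsq
  exact ⟨f, B.coeff 0, B.coeff 1, 1, ha, hd, by ring⟩

theorem caseII (h2 : (2 : κ) = 0) (π : MvPolynomial (Fin 2) κ →ₐ[κ] L) (a d f : κ)
    (hne : ¬ (a = 0 ∧ d = 0 ∧ f = 0))
    (hq : C a + C d * X 0 ^ 2 + C f * X 1 ^ 2 ∈ (RingHom.ker π.toRingHom) ^ 2)
    (hβ : IsIntegral κ (π (X 1))) (hβ2 : π (X 1) ∉ (algebraMap κ L).range)
    (A₀ : Polynomial κ) (hα : π (X 0) = Polynomial.aeval (π (X 1)) A₀) :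
    ∃ j g h i : κ, a = j * g ^ 2 ∧ d = j * h ^ 2 ∧ f = j * i ^ 2 := by
  have hP : (minpoly κ (π (X 1))).Monic := minpoly.monic hβ
  have hn : 2 ≤ (minpoly κ (π (X 1))).natDegree := (minpoly.two_le_natDegree_iff hβ).mpr hβ2
  have hB1 : Polynomial.aeval (π (X 1)) (A₀ %ₘ minpoly κ (π (X 1))) = π (X 0) := by
    rw [Polynomial.aeval_modByMonic_eq_self_of_root (minpoly.aeval κ _), hα]
  have hB2 : (A₀ %ₘ minpoly κ (π (X 1))).natDegree < (minpoly κ (π (X 1))).natDegree :=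
    Polynomial.natDegree_modByMonic_lt _ hP (minpoly.ne_one κ _)
  obtain ⟨B, hBdef⟩ : ∃ B, B = A₀ %ₘ minpoly κ (π (X 1)) := ⟨_, rfl⟩
  rw [← hBdef] at hB1 hB2
  have hcomp : (Polynomial.aeval (π (X 1)) : Polynomial κ →ₐ[κ] L).comp
      (aeval ![B, Polynomial.X] : MvPolynomial (Fin 2) κ →ₐ[κ] Polynomial κ) = π := by
    apply MvPolynomial.algHom_ext
    intro i
    fin_cases i
    · simp [hB1]
    · simp
  have hdvd : ∀ u ∈ RingHom.ker π.toRingHom, minpoly κ (π (X 1)) ∣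
      (aeval ![B, Polynomial.X] : MvPolynomial (Fin 2) κ →ₐ[κ] Polynomial κ).toRingHom u := by
    intro u hu
    apply minpoly.dvd
    have := AlgHom.congr_fun hcomp u
    rw [AlgHom.comp_apply] at this
    rw [AlgHom.toRingHom_eq_coe, RingHom.coe_coe, this]
    exact hu
  have hsq := sq_dvd_of_mem_sq _ _ _ hdvd hq
  have hev : (aeval ![B, Polynomial.X] : MvPolynomial (Fin 2) κ →ₐ[κ] Polynomial κ).toRingHom
      (C a + C d * X 0 ^ 2 + C f * X 1 ^ 2) =
      Polynomial.C a + Polynomial.C f * Polynomial.X ^ 2 + Polynomial.C d * B ^ 2 := by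
    simp [Polynomial.algebraMap_eq]
    ring
  rw [hev] at hsq
  have hne' : ¬ (a = 0 ∧ f = 0 ∧ d = 0) := fun h => hne ⟨h.1, h.2.2, h.2.1⟩
  obtain ⟨hd, ha, hf⟩ := SQ h2 _ B hP hn hB2 a f d hne' hsq
  exact ⟨d, B.coeff 0, 1, B.coeff 1, ha, by ring, hf⟩

theorem caseIII_aux (K : IntermediateField κ L) (γ : L) (hγ : IsIntegral κ γ) (hγK : γ ∉ K)
    {S : Type*} [CommRing S] (J : Ideal S) (ev : S →+* Polynomial K)
    (hev : ∀ u ∈ J, Polynomial.aeval γ (ev u) = 0) {z : S} (hz : z ∈ J ^ 2)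
    (hdeg : (ev z).natDegree ≤ 2) : ev z = 0 := by
  have hγ' : IsIntegral K γ := hγ.tower_top
  have hQ : (minpoly K γ).Monic := minpoly.monic hγ'
  have hn : 2 ≤ (minpoly K γ).natDegree := by
    rw [minpoly.two_le_natDegree_iff hγ']
    rintro ⟨k, rfl⟩
    exact hγK k.2
  have hdvd : ∀ u ∈ J, minpoly K γ ∣ ev u := fun u hu => minpoly.dvd K γ (hev u hu)
  have hsq := sq_dvd_of_mem_sq J ev _ hdvd hz
  apply Polynomial.eq_zero_of_dvd_of_natDegree_lt hsq
  rw [hQ.natDegree_pow]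
  omega

end Groth.Agent.H2.Quad
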