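import Groth.Agent.H2.Quad2

set_option autoImplicit false
set_option linter.style.haveILetI false
set_option linter.unusedSimpArgs false
set_option linter.unusedVariables false

open MvPolynomial IntermediateField

namespace Groth.Agent.H2.Quad

variable {κ : Type*} [Field κ] {L : Type*} [Field L] [Algebra κ L]

theorem caseIII_1 (π : MvPolynomial (Fin 2) κ →ₐ[κ] L) (a d f : κ)
    (hq : C a + C d * X 0 ^ 2 + C f * X 1 ^ 2 ∈ (RingHom.ker π.toRingHom) ^ 2)
    (hβ : IsIntegral κ (π (X 1))) (h : π (X 1) ∉ κ⟮π (X 0)⟯) : f = 0 := by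
  obtain ⟨K, hK⟩ : ∃ K : IntermediateField κ L, K = κ⟮π (X 0)⟯ := ⟨_, rfl⟩
  have hαK : π (X 0) ∈ K := by rw [hK]; exact mem_adjoin_simple_self κ _
  rw [← hK] at h
  obtain ⟨αK, hαKdef⟩ : ∃ αK : K, (αK : L) = π (X 0) := ⟨⟨_, hαK⟩, rfl⟩
  obtain ⟨ev, hevdef⟩ : ∃ ev : MvPolynomial (Fin 2) κ →ₐ[κ] Polynomial K,
      ev = aeval ![Polynomial.C αK, Polynomial.X] := ⟨_, rfl⟩
  have hcomp : ((Polynomial.aeval (π (X 1)) : Polynomial K →ₐ[K] L).restrictScalars κ).comp ev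
      = π := by
    apply MvPolynomial.algHom_ext
    intro i
    fin_cases i
    · simp [hevdef, hαKdef]
    · simp [hevdef]
  have hev : ∀ u ∈ RingHom.ker π.toRingHom,
      Polynomial.aeval (π (X 1)) (ev.toRingHom u) = 0 := by
    intro u hu
    have := AlgHom.congr_fun hcomp u
    simp only [AlgHom.comp_apply, AlgHom.restrictScalars_apply] at this
    rw [AlgHom.toRingHom_eq_coe, RingHom.coe_coe, this]
    exact hu
  have hevq : ev.toRingHom (C a + C d * X 0 ^ 2 + C f * X 1 ^ 2) =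
      Polynomial.C (algebraMap κ K a + algebraMap κ K d * αK ^ 2) +
        Polynomial.C (algebraMap κ K f) * Polynomial.X ^ 2 := by
    simp [hevdef, Polynomial.algebraMap_apply]
  have hdeg : (ev.toRingHom (C a + C d * X 0 ^ 2 + C f * X 1 ^ 2)).natDegree ≤ 2 := by
    rw [hevq]
    apply Polynomial.natDegree_add_le_of_degree_le
    · rw [Polynomial.natDegree_C]; omega
    · exact (Polynomial.natDegree_C_mul_le _ _).trans (Polynomial.natDegree_X_pow_le 2)
  have hz := caseIII_aux K (π (X 1)) hβ h (RingHom.ker π.toRingHom) ev.toRingHom hev hq hdeg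
  rw [hevq] at hz
  have := congrArg (fun p => Polynomial.coeff p 2) hz
  simp only [Polynomial.coeff_add, Polynomial.coeff_C, Polynomial.coeff_C_mul,
    Polynomial.coeff_X_pow, Polynomial.coeff_zero] at this
  simpa using this

theorem caseIII_2 (π : MvPolynomial (Fin 2) κ →ₐ[κ] L) (a d f : κ)
    (hq : C a + C d * X 0 ^ 2 + C f * X 1 ^ 2 ∈ (RingHom.ker π.toRingHom) ^ 2)
    (hα : IsIntegral κ (π (X 0))) (h : π (X 0) ∉ κ⟮π (X 1)⟯) : d = 0 := by
  obtain ⟨K, hK⟩ : ∃ K : IntermediateField κ L, K = κ⟮π (X 1)⟯ := ⟨_, rfl⟩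
  have hβK : π (X 1) ∈ K := by rw [hK]; exact mem_adjoin_simple_self κ _
  rw [← hK] at h
  obtain ⟨βK, hβKdef⟩ : ∃ βK : K, (βK : L) = π (X 1) := ⟨⟨_, hβK⟩, rfl⟩
  obtain ⟨ev, hevdef⟩ : ∃ ev : MvPolynomial (Fin 2) κ →ₐ[κ] Polynomial K,
      ev = aeval ![Polynomial.X, Polynomial.C βK] := ⟨_, rfl⟩
  have hcomp : ((Polynomial.aeval (π (X 0)) : Polynomial K →ₐ[K] L).restrictScalars κ).comp ev
      = π := by
    apply MvPolynomial.algHom_ext
    intro i
    fin_cases i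
    · simp [hevdef]
    · simp [hevdef, hβKdef]
  have hev : ∀ u ∈ RingHom.ker π.toRingHom,
      Polynomial.aeval (π (X 0)) (ev.toRingHom u) = 0 := by
    intro u hu
    have := AlgHom.congr_fun hcomp u
    simp only [AlgHom.comp_apply, AlgHom.restrictScalars_apply] at this
    rw [AlgHom.toRingHom_eq_coe, RingHom.coe_coe, this]
    exact hu
  have hevq : ev.toRingHom (C a + C d * X 0 ^ 2 + C f * X 1 ^ 2) =
      Polynomial.C (algebraMap κ K a + algebraMap κ K f * βK ^ 2) +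
        Polynomial.C (algebraMap κ K d) * Polynomial.X ^ 2 := by
    simp [hevdef, Polynomial.algebraMap_apply]
    ring
  have hdeg : (ev.toRingHom (C a + C d * X 0 ^ 2 + C f * X 1 ^ 2)).natDegree ≤ 2 := by
    rw [hevq]
    apply Polynomial.natDegree_add_le_of_degree_le
    · rw [Polynomial.natDegree_C]; omega
    · exact (Polynomial.natDegree_C_mul_le _ _).trans (Polynomial.natDegree_X_pow_le 2)
  have hz := caseIII_aux K (π (X 0)) hα h (RingHom.ker π.toRingHom) ev.toRingHom hev hq hdeg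
  rw [hevq] at hz
  have := congrArg (fun p => Polynomial.coeff p 2) hz
  simp only [Polynomial.coeff_add, Polynomial.coeff_C, Polynomial.coeff_C_mul,
    Polynomial.coeff_X_pow, Polynomial.coeff_zero] at this
  simpa using this

theorem mem_range_aeval_of_mem_adjoin (x y : L) (hx : IsIntegral κ x) (h : y ∈ κ⟮x⟯) :
    ∃ B : Polynomial κ, Polynomial.aeval x B = y := by
  have h' : y ∈ (κ⟮x⟯).toSubalgebra := h
  rw [IntermediateField.adjoin_simple_toSubalgebra_of_isAlgebraic hx.isAlgebraic,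
    Algebra.adjoin_singleton_eq_range_aeval] at h'
  exact h'

theorem NR (h2 : (2 : κ) = 0) (π : MvPolynomial (Fin 2) κ →ₐ[κ] L)
    (hint : ∀ z : L, IsIntegral κ z) (a d f : κ) (hne : ¬ (a = 0 ∧ d = 0 ∧ f = 0))
    (hq : C a + C d * X 0 ^ 2 + C f * X 1 ^ 2 ∈ (RingHom.ker π.toRingHom) ^ 2)
    (hnr : ¬ (π (X 0) ∈ (algebraMap κ L).range ∧ π (X 1) ∈ (algebraMap κ L).range)) :
    ∃ j g h i : κ, a = j * g ^ 2 ∧ d = j * h ^ 2 ∧ f = j * i ^ 2 := by
  by_cases h1 : π (X 1) ∈ κ⟮π (X 0)⟯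
  · obtain ⟨B₀, hB₀⟩ := mem_range_aeval_of_mem_adjoin _ _ (hint _) h1
    have hα2 : π (X 0) ∉ (algebraMap κ L).range := by
      rintro ⟨α₀, hα₀⟩
      apply hnr
      refine ⟨⟨α₀, hα₀⟩, ⟨Polynomial.aeval α₀ B₀, ?_⟩⟩
      rw [← hB₀, ← hα₀, Polynomial.aeval_algebraMap_apply]
    exact caseI h2 π a d f hne hq (hint _) hα2 B₀ hB₀.symm
  · by_cases h1' : π (X 0) ∈ κ⟮π (X 1)⟯
    · obtain ⟨A₀, hA₀⟩ := mem_range_aeval_of_mem_adjoin _ _ (hint _) h1'
      have hβ2 : π (X 1) ∉ (algebraMap κ L).range := by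
        rintro ⟨β₀, hβ₀⟩
        apply hnr
        refine ⟨⟨Polynomial.aeval β₀ A₀, ?_⟩, ⟨β₀, hβ₀⟩⟩
        rw [← hA₀, ← hβ₀, Polynomial.aeval_algebraMap_apply]
      exact caseII h2 π a d f hne hq (hint _) hβ2 A₀ hA₀.symm
    · exfalso
      have hf := caseIII_1 π a d f hq (hint _) h1
      have hd := caseIII_2 π a d f hq (hint _) h1'
      have hker := ker_sq_le π hq
      rw [RingHom.mem_ker, hf, hd] at hker
      simp at hker
      exact hne ⟨hker, hd, hf⟩

/-- analysis of one maximal ideal above `I` -/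
theorem analyze (h2 : (2 : κ) = 0) (I : Ideal (MvPolynomial (Fin 2) κ)) (a d f : κ)
    (hne : ¬ (a = 0 ∧ d = 0 ∧ f = 0))
    (hq : C a + C d * X 0 ^ 2 + C f * X 1 ^ 2 ∈ I ^ 2)
    (m : Ideal (MvPolynomial (Fin 2) κ)) (hm : m.IsMaximal) (hIm : I ≤ m) :
    (∃ j g h i : κ, a = j * g ^ 2 ∧ d = j * h ^ 2 ∧ f = j * i ^ 2) ∨
      ∃ α₀ β₀ : κ, m = RingHom.ker (eval ![α₀, β₀] : MvPolynomial (Fin 2) κ →+* κ) := by
  letI : Field (MvPolynomial (Fin 2) κ ⧸ m) := Ideal.Quotient.field m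
  obtain ⟨π, hπ⟩ : ∃ π : MvPolynomial (Fin 2) κ →ₐ[κ] (MvPolynomial (Fin 2) κ ⧸ m),
      π = Ideal.Quotient.mkₐ κ m := ⟨_, rfl⟩
  have hker : RingHom.ker π.toRingHom = m := by
    rw [hπ]; exact Ideal.Quotient.mkₐ_ker κ m
  have hsurj : Function.Surjective π := by
    rw [hπ]; exact Ideal.Quotient.mkₐ_surjective κ m
  have hint : ∀ z : MvPolynomial (Fin 2) κ ⧸ m, IsIntegral κ z := by
    have := MvPolynomial.comp_C_integral_of_surjective_of_isJacobsonRing
      (π.toRingHom) hsurj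
    intro z
    have hz := this z
    have e : (π.toRingHom).comp C = algebraMap κ (MvPolynomial (Fin 2) κ ⧸ m) := by
      ext c
      simp [hπ]
      rfl
    rw [e] at hz
    exact hz
  have hq' : C a + C d * X 0 ^ 2 + C f * X 1 ^ 2 ∈ (RingHom.ker π.toRingHom) ^ 2 := by
    rw [hker]; exact Ideal.pow_right_mono hIm 2 hq
  by_cases hr : π (X 0) ∈ (algebraMap κ (MvPolynomial (Fin 2) κ ⧸ m)).range ∧
      π (X 1) ∈ (algebraMap κ (MvPolynomial (Fin 2) κ ⧸ m)).range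
  · right
    obtain ⟨⟨α₀, hα₀⟩, ⟨β₀, hβ₀⟩⟩ := hr
    refine ⟨α₀, β₀, ?_⟩
    have hcomp : (Algebra.ofId κ (MvPolynomial (Fin 2) κ ⧸ m)).comp
        (aeval ![α₀, β₀] : MvPolynomial (Fin 2) κ →ₐ[κ] κ) = π := by
      apply MvPolynomial.algHom_ext
      intro i
      fin_cases i
      · simp [Algebra.ofId_apply, hα₀]
      · simp [Algebra.ofId_apply, hβ₀]
    have hle : m ≤ RingHom.ker (eval ![α₀, β₀] : MvPolynomial (Fin 2) κ →+* κ) := by
      intro u hu
      rw [← hker, RingHom.mem_ker] at hu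
      have := AlgHom.congr_fun hcomp u
      rw [AlgHom.comp_apply, Algebra.ofId_apply, MvPolynomial.aeval_eq_eval] at this
      rw [RingHom.mem_ker]
      have h0 : algebraMap κ (MvPolynomial (Fin 2) κ ⧸ m) (eval ![α₀, β₀] u) = 0 := by
        rw [this]; exact hu
      exact (map_eq_zero _).mp h0
    apply hm.eq_of_le _ hle
    intro htop
    have : (1 : MvPolynomial (Fin 2) κ) ∈ RingHom.ker (eval ![α₀, β₀] :
        MvPolynomial (Fin 2) κ →+* κ) := by rw [htop]; trivial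
    rw [RingHom.mem_ker, map_one] at this
    exact one_ne_zero this
  · left
    exact NR h2 π hint a d f hne hq' hr

end Groth.Agent.H2.Quad
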