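import Groth.Agent.H2.Quad3

set_option autoImplicit false
set_option linter.style.haveILetI false
set_option linter.unusedSimpArgs false
set_option linter.unusedVariables false

open MvPolynomial

namespace Groth.Agent.H2.Quad

variable {κ : Type*} [Field κ]

noncomputable def rho (α₀ β₀ lam mu : κ) : MvPolynomial (Fin 2) κ →ₐ[κ] Polynomial κ :=
  aeval ![Polynomial.C α₀ + Polynomial.C lam * Polynomial.X,
    Polynomial.C β₀ + Polynomial.C mu * Polynomial.X]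

theorem rho_X0 (α₀ β₀ lam mu : κ) :
    rho α₀ β₀ lam mu (X 0) = Polynomial.C α₀ + Polynomial.C lam * Polynomial.X := by
  simp [rho]

theorem rho_X1 (α₀ β₀ lam mu : κ) :
    rho α₀ β₀ lam mu (X 1) = Polynomial.C β₀ + Polynomial.C mu * Polynomial.X := by
  simp [rho]

theorem rho_C (α₀ β₀ lam mu c : κ) : rho α₀ β₀ lam mu (C c) = Polynomial.C c := by
  simp [rho, Polynomial.algebraMap_eq]

theorem rho_decomp (α₀ β₀ lam mu : κ) (u A B : MvPolynomial (Fin 2) κ)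
    (h : u = C (eval ![α₀, β₀] u) + A * (X 0 - C α₀) + B * (X 1 - C β₀)) :
    rho α₀ β₀ lam mu u = Polynomial.C (eval ![α₀, β₀] u) +
      rho α₀ β₀ lam mu A * (Polynomial.C lam * Polynomial.X) +
      rho α₀ β₀ lam mu B * (Polynomial.C mu * Polynomial.X) := by
  conv_lhs => rw [h]
  simp only [map_add, map_mul, map_sub, rho_X0, rho_X1, rho_C]
  ring

theorem coeff_zero_mul_CX (p : Polynomial κ) (c : κ) :
    (p * (Polynomial.C c * Polynomial.X)).coeff 0 = 0 := by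
  rw [← mul_assoc, Polynomial.coeff_mul_X_zero]

theorem coeff_one_mul_CX (p : Polynomial κ) (c : κ) :
    (p * (Polynomial.C c * Polynomial.X)).coeff 1 = c * p.coeff 0 := by
  rw [← mul_assoc, show (1 : ℕ) = 0 + 1 from rfl, Polynomial.coeff_mul_X, Polynomial.coeff_mul_C,
    mul_comm]

theorem rho_coeff0 (α₀ β₀ lam mu : κ) (u : MvPolynomial (Fin 2) κ) :
    (rho α₀ β₀ lam mu u).coeff 0 = eval ![α₀, β₀] u := by
  obtain ⟨A, B, h⟩ := exists_decomp α₀ β₀ u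
  rw [rho_decomp α₀ β₀ lam mu u A B h]
  simp only [Polynomial.coeff_add, coeff_zero_mul_CX, Polynomial.coeff_C_zero, add_zero]

theorem rho_coeff1 (α₀ β₀ lam mu : κ) (u A B : MvPolynomial (Fin 2) κ)
    (h : u = C (eval ![α₀, β₀] u) + A * (X 0 - C α₀) + B * (X 1 - C β₀)) :
    (rho α₀ β₀ lam mu u).coeff 1 = lam * eval ![α₀, β₀] A + mu * eval ![α₀, β₀] B := by
  rw [rho_decomp α₀ β₀ lam mu u A B h]
  simp only [Polynomial.coeff_add, coeff_one_mul_CX, rho_coeff0, Polynomial.coeff_C]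
  simp

noncomputable def G0 (α₀ β₀ : κ) (u : MvPolynomial (Fin 2) κ) : κ := (rho α₀ β₀ 1 0 u).coeff 1
noncomputable def G1 (α₀ β₀ : κ) (u : MvPolynomial (Fin 2) κ) : κ := (rho α₀ β₀ 0 1 u).coeff 1

theorem G0_eq (α₀ β₀ : κ) (u A B : MvPolynomial (Fin 2) κ)
    (h : u = C (eval ![α₀, β₀] u) + A * (X 0 - C α₀) + B * (X 1 - C β₀)) :
    G0 α₀ β₀ u = eval ![α₀, β₀] A := by
  rw [G0, rho_coeff1 α₀ β₀ 1 0 u A B h]; ring

theorem G1_eq (α₀ β₀ : κ) (u A B : MvPolynomial (Fin 2) κ)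
    (h : u = C (eval ![α₀, β₀] u) + A * (X 0 - C α₀) + B * (X 1 - C β₀)) :
    G1 α₀ β₀ u = eval ![α₀, β₀] B := by
  rw [G1, rho_coeff1 α₀ β₀ 0 1 u A B h]; ring

theorem rho_coeff1' (α₀ β₀ lam mu : κ) (u : MvPolynomial (Fin 2) κ) :
    (rho α₀ β₀ lam mu u).coeff 1 = lam * G0 α₀ β₀ u + mu * G1 α₀ β₀ u := by
  obtain ⟨A, B, h⟩ := exists_decomp α₀ β₀ u
  rw [rho_coeff1 α₀ β₀ lam mu u A B h, G0_eq α₀ β₀ u A B h, G1_eq α₀ β₀ u A B h]

theorem G0_lin (α₀ β₀ c₁ c₂ : κ) (z u₁ u₂ : MvPolynomial (Fin 2) κ) :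
    G0 α₀ β₀ (z - C c₁ * u₁ - C c₂ * u₂) = G0 α₀ β₀ z - c₁ * G0 α₀ β₀ u₁ - c₂ * G0 α₀ β₀ u₂ := by
  simp only [G0, map_sub, map_mul, rho_C, Polynomial.coeff_sub, Polynomial.coeff_C_mul]

theorem G1_lin (α₀ β₀ c₁ c₂ : κ) (z u₁ u₂ : MvPolynomial (Fin 2) κ) :
    G1 α₀ β₀ (z - C c₁ * u₁ - C c₂ * u₂) = G1 α₀ β₀ z - c₁ * G1 α₀ β₀ u₁ - c₂ * G1 α₀ β₀ u₂ := by
  simp only [G1, map_sub, map_mul, rho_C, Polynomial.coeff_sub, Polynomial.coeff_C_mul]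

theorem coeff_two_sq (s t : κ) :
    ((Polynomial.C s + Polynomial.C t * Polynomial.X) ^ 2).coeff 2 = t ^ 2 := by
  have : (Polynomial.C s + Polynomial.C t * Polynomial.X) ^ 2 =
      Polynomial.C (s ^ 2) + Polynomial.C (2 * s * t) * Polynomial.X +
        Polynomial.C (t ^ 2) * Polynomial.X ^ 2 := by
    simp only [map_pow, map_mul, map_ofNat]; ring
  rw [this]
  rw [Polynomial.coeff_add, Polynomial.coeff_add, Polynomial.coeff_C_mul_X_pow,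
    Polynomial.coeff_C_mul_X, Polynomial.coeff_C]
  simp

theorem tangent (α₀ β₀ lam mu : κ) (I : Ideal (MvPolynomial (Fin 2) κ))
    (hI0 : ∀ u ∈ I, eval ![α₀, β₀] u = 0)
    (ht : ∀ u ∈ I, lam * G0 α₀ β₀ u + mu * G1 α₀ β₀ u = 0) (a d f : κ)
    (hq : C a + C d * X 0 ^ 2 + C f * X 1 ^ 2 ∈ I ^ 2) : d * lam ^ 2 + f * mu ^ 2 = 0 := by
  have hdvd : ∀ u ∈ I, (Polynomial.X : Polynomial κ) ^ 2 ∣ (rho α₀ β₀ lam mu).toRingHom u := by
    intro u hu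
    rw [Polynomial.X_pow_dvd_iff]
    intro k hk
    interval_cases k
    · show (rho α₀ β₀ lam mu u).coeff 0 = 0
      rw [rho_coeff0]; exact hI0 u hu
    · show (rho α₀ β₀ lam mu u).coeff 1 = 0
      rw [rho_coeff1']; exact ht u hu
  have hsq := sq_dvd_of_mem_sq I _ _ hdvd hq
  rw [← pow_mul, Polynomial.X_pow_dvd_iff] at hsq
  have h2 := hsq 2 (by norm_num)
  have hev : (rho α₀ β₀ lam mu).toRingHom (C a + C d * X 0 ^ 2 + C f * X 1 ^ 2) =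
      Polynomial.C a + Polynomial.C d * (Polynomial.C α₀ + Polynomial.C lam * Polynomial.X) ^ 2 +
        Polynomial.C f * (Polynomial.C β₀ + Polynomial.C mu * Polynomial.X) ^ 2 := by
    show rho α₀ β₀ lam mu (C a + C d * X 0 ^ 2 + C f * X 1 ^ 2) = _
    simp only [map_add, map_mul, map_pow, rho_X0, rho_X1, rho_C]
  rw [hev] at h2
  simp only [Polynomial.coeff_add, Polynomial.coeff_C_mul, coeff_two_sq, Polynomial.coeff_C] at h2
  simpa using h2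

theorem finish (h2 : (2 : κ) = 0) (a d f α₀ β₀ w₁ w₂ : κ) (hw : ¬ (w₁ = 0 ∧ w₂ = 0))
    (hq0 : a + d * α₀ ^ 2 + f * β₀ ^ 2 = 0) (htan : d * w₂ ^ 2 + f * w₁ ^ 2 = 0) :
    ∃ j g h i : κ, a = j * g ^ 2 ∧ d = j * h ^ 2 ∧ f = j * i ^ 2 := by
  by_cases h1 : w₁ = 0
  · have hw2 : w₂ ≠ 0 := fun h => hw ⟨h1, h⟩
    have hd : d = 0 := by
      rw [h1] at htan
      have : d * w₂ ^ 2 = 0 := by linear_combination htan
      rcases mul_eq_zero.mp this with h | h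
      · exact h
      · exact absurd ((pow_eq_zero_iff two_ne_zero).mp h) hw2
    refine ⟨f, β₀, 0, 1, ?_, ?_, ?_⟩
    · linear_combination hq0 - α₀ ^ 2 * hd - (f * β₀ ^ 2) * h2
    · rw [hd]; ring
    · ring
  · obtain ⟨j, hj⟩ : ∃ j, j = d / w₁ ^ 2 := ⟨_, rfl⟩
    have hd : d = j * w₁ ^ 2 := by rw [hj]; field_simp
    have hfw : f * w₁ ^ 2 = d * w₂ ^ 2 := by linear_combination htan - (d * w₂ ^ 2) * h2
    have hf : f = j * w₂ ^ 2 := by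
      rw [hj]; field_simp; linear_combination hfw
    refine ⟨j, w₁ * α₀ + w₂ * β₀, w₁, w₂, ?_, hd, hf⟩
    linear_combination hq0 - α₀ ^ 2 * hd - β₀ ^ 2 * hf -
      (j * w₁ ^ 2 * α₀ ^ 2 + j * w₂ ^ 2 * β₀ ^ 2 + j * w₁ * w₂ * α₀ * β₀) * h2

theorem rat2 (h2 : (2 : κ) = 0) (a d f α₀ β₀ α₁ β₁ : κ) (hne01 : ¬ (α₀ = α₁ ∧ β₀ = β₁))
    (h0 : a + d * α₀ ^ 2 + f * β₀ ^ 2 = 0) (h1 : a + d * α₁ ^ 2 + f * β₁ ^ 2 = 0) :
    ∃ j g h i : κ, a = j * g ^ 2 ∧ d = j * h ^ 2 ∧ f = j * i ^ 2 := by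
  apply finish h2 a d f α₀ β₀ (β₁ - β₀) (α₁ - α₀) ?_ h0 ?_
  · rintro ⟨hb, ha⟩
    exact hne01 ⟨by linear_combination -ha, by linear_combination -hb⟩
  · linear_combination h1 - h0 + (d * (α₀ ^ 2 - α₀ * α₁) + f * (β₀ ^ 2 - β₀ * β₁)) * h2

theorem rational_case (h2 : (2 : κ) = 0) (I : Ideal (MvPolynomial (Fin 2) κ)) (H1 : I ≠ ⊤)
    (H2 : ∀ α β : κ, ¬ (X 0 - C α ∈ I ∧ X 1 - C β ∈ I)) (a d f : κ)
    (hne : ¬ (a = 0 ∧ d = 0 ∧ f = 0))
    (hq : C a + C d * X 0 ^ 2 + C f * X 1 ^ 2 ∈ I ^ 2) (α₀ β₀ : κ)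
    (hI0 : ∀ u ∈ I, eval ![α₀, β₀] u = 0) :
    (∃ j g h i : κ, a = j * g ^ 2 ∧ d = j * h ^ 2 ∧ f = j * i ^ 2) ∨
      ∃ m' : Ideal (MvPolynomial (Fin 2) κ), m'.IsMaximal ∧ I ≤ m' ∧
        m' ≠ RingHom.ker (eval ![α₀, β₀] : MvPolynomial (Fin 2) κ →+* κ) := by
  have hq0 : a + d * α₀ ^ 2 + f * β₀ ^ 2 = 0 := by
    have := hI0 _ (Ideal.pow_le_self two_ne_zero hq)
    simpa using this
  by_cases hc : ∃ u₁ ∈ I, ∃ u₂ ∈ I,
      G0 α₀ β₀ u₁ * G1 α₀ β₀ u₂ - G1 α₀ β₀ u₁ * G0 α₀ β₀ u₂ ≠ 0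
  · right
    by_contra hno
    push Not at hno
    obtain ⟨m₀, hm₀⟩ : ∃ m₀, m₀ = RingHom.ker (eval ![α₀, β₀] :
      MvPolynomial (Fin 2) κ →+* κ) := ⟨_, rfl⟩
    rw [← hm₀] at hno
    have hmem₀ : ∀ z, z ∈ m₀ ↔ eval ![α₀, β₀] z = 0 := by
      intro z; rw [hm₀, RingHom.mem_ker]
    have hm₀max : m₀.IsMaximal := by
      rw [hm₀]
      exact RingHom.ker_isMaximal_of_surjective _ (fun c => ⟨C c, by simp⟩)
    have hIm₀ : I ≤ m₀ := fun u hu => (hmem₀ u).mpr (hI0 u hu)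
    have hjac : I.jacobson = m₀ := by
      apply le_antisymm
      · exact sInf_le ⟨hIm₀, hm₀max⟩
      · apply le_sInf
        rintro J ⟨hJ, hJm⟩
        rw [hno J hJm hJ]
    have hrad : I.radical = m₀ := by rw [Ideal.radical_eq_jacobson, hjac]
    obtain ⟨N, hN⟩ := Ideal.exists_radical_pow_le_of_fg I (IsNoetherian.noetherian _)
    rw [hrad] at hN
    have hsup : m₀ ≤ I ⊔ m₀ ^ 2 := by
      obtain ⟨u₁, hu₁, u₂, hu₂, hdet⟩ := hc
      intro z hz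
      rw [hmem₀] at hz
      obtain ⟨Δ, hΔ⟩ : ∃ Δ, Δ = G0 α₀ β₀ u₁ * G1 α₀ β₀ u₂ - G1 α₀ β₀ u₁ * G0 α₀ β₀ u₂ :=
        ⟨_, rfl⟩
      have hΔ0 : Δ ≠ 0 := by rw [hΔ]; exact hdet
      obtain ⟨c₁, hc₁⟩ : ∃ c₁, c₁ =
        (G0 α₀ β₀ z * G1 α₀ β₀ u₂ - G1 α₀ β₀ z * G0 α₀ β₀ u₂) / Δ := ⟨_, rfl⟩
      obtain ⟨c₂, hc₂⟩ : ∃ c₂, c₂ =
        (G0 α₀ β₀ u₁ * G1 α₀ β₀ z - G1 α₀ β₀ u₁ * G0 α₀ β₀ z) / Δ := ⟨_, rfl⟩
      obtain ⟨z', hz'⟩ : ∃ z', z' = z - C c₁ * u₁ - C c₂ * u₂ := ⟨_, rfl⟩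
      have hz'0 : eval ![α₀, β₀] z' = 0 := by
        rw [hz']; simp [hz, hI0 u₁ hu₁, hI0 u₂ hu₂]
      have hG0 : G0 α₀ β₀ z' = 0 := by
        rw [hz', G0_lin, hc₁, hc₂]
        field_simp
        rw [hΔ]; ring
      have hG1 : G1 α₀ β₀ z' = 0 := by
        rw [hz', G1_lin, hc₁, hc₂]
        field_simp
        rw [hΔ]; ring
      obtain ⟨A, B, hAB⟩ := exists_decomp α₀ β₀ z'
      have hA : eval ![α₀, β₀] A = 0 := by rw [← G0_eq α₀ β₀ z' A B hAB]; exact hG0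
      have hB : eval ![α₀, β₀] B = 0 := by rw [← G1_eq α₀ β₀ z' A B hAB]; exact hG1
      have hz'mem : z' ∈ m₀ ^ 2 := by
        rw [hAB, hz'0, C_0, zero_add, pow_two]
        apply Ideal.add_mem
        · apply Ideal.mul_mem_mul
          · exact (hmem₀ A).mpr hA
          · rw [hmem₀]; simp
        · apply Ideal.mul_mem_mul
          · exact (hmem₀ B).mpr hB
          · rw [hmem₀]; simp
      have : z = (C c₁ * u₁ + C c₂ * u₂) + z' := by rw [hz']; ring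
      rw [this]
      exact Submodule.add_mem_sup (I.add_mem (I.mul_mem_left _ hu₁) (I.mul_mem_left _ hu₂)) hz'mem
    have claim : ∀ k, m₀ ≤ I ⊔ m₀ ^ (k + 1) := by
      intro k
      induction k with
      | zero => rw [zero_add, pow_one]; exact le_sup_right
      | succ k ih =>
        calc m₀ ≤ I ⊔ m₀ ^ 2 := hsup
          _ = I ⊔ m₀ * m₀ := by rw [pow_two]
          _ ≤ I ⊔ m₀ * (I ⊔ m₀ ^ (k + 1)) := sup_le_sup_left (Ideal.mul_mono_right ih) _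
          _ = I ⊔ (m₀ * I ⊔ m₀ * m₀ ^ (k + 1)) := by rw [Ideal.mul_sup]
          _ ≤ I ⊔ m₀ ^ (k + 1 + 1) := by
              rw [← pow_succ']
              have h1 : m₀ * I ≤ I := Ideal.mul_le_right
              exact sup_le le_sup_left (sup_le (h1.trans le_sup_left) le_sup_right)
    have hm₀I : m₀ ≤ I :=
      (claim N).trans (sup_le le_rfl ((Ideal.pow_le_pow_right (Nat.le_succ N)).trans hN))
    apply H2 α₀ β₀
    exact ⟨hm₀I ((hmem₀ _).mpr (by simp)), hm₀I ((hmem₀ _).mpr (by simp))⟩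
  · left
    push Not at hc
    by_cases hb : ∃ u₁ ∈ I, ¬ (G0 α₀ β₀ u₁ = 0 ∧ G1 α₀ β₀ u₁ = 0)
    · obtain ⟨u₁, hu₁, hw⟩ := hb
      apply finish h2 a d f α₀ β₀ (G0 α₀ β₀ u₁) (G1 α₀ β₀ u₁) hw hq0
      have := tangent α₀ β₀ (G1 α₀ β₀ u₁) (-(G0 α₀ β₀ u₁)) I hI0 ?_ a d f hq
      · linear_combination this
      · intro u hu
        have := hc u₁ hu₁ u hu
        linear_combination -this
    · push Not at hb
      exfalso
      have hd := tangent α₀ β₀ 1 0 I hI0 (by intro u hu; rw [(hb u hu).1]; ring) a d f hq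
      have hf := tangent α₀ β₀ 0 1 I hI0 (by intro u hu; rw [(hb u hu).2]; ring) a d f hq
      have hd' : d = 0 := by linear_combination hd
      have hf' : f = 0 := by linear_combination hf
      apply hne
      refine ⟨?_, hd', hf'⟩
      rw [hd', hf'] at hq0
      linear_combination hq0

theorem char2_core (h2 : (2 : κ) = 0) (I : Ideal (MvPolynomial (Fin 2) κ)) (H1 : I ≠ ⊤)
    (H2 : ∀ α β : κ, ¬ (X 0 - C α ∈ I ∧ X 1 - C β ∈ I)) (a d f : κ)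
    (hne : ¬ (a = 0 ∧ d = 0 ∧ f = 0))
    (hq : C a + C d * X 0 ^ 2 + C f * X 1 ^ 2 ∈ I ^ 2) :
    ∃ j g h i : κ, a = j * g ^ 2 ∧ d = j * h ^ 2 ∧ f = j * i ^ 2 := by
  obtain ⟨m, hm, hIm⟩ := Ideal.exists_le_maximal I H1
  rcases analyze h2 I a d f hne hq m hm hIm with h | ⟨α₀, β₀, hm0⟩
  · exact h
  · have hI0 : ∀ u ∈ I, eval ![α₀, β₀] u = 0 := fun u hu => by
      have := hIm hu
      rw [hm0, RingHom.mem_ker] at this
      exact this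
    rcases rational_case h2 I H1 H2 a d f hne hq α₀ β₀ hI0 with h | ⟨m', hm', hIm', hne'⟩
    · exact h
    · rcases analyze h2 I a d f hne hq m' hm' hIm' with h | ⟨α₁, β₁, hm1⟩
      · exact h
      · have hI1 : ∀ u ∈ I, eval ![α₁, β₁] u = 0 := fun u hu => by
          have := hIm' hu
          rw [hm1, RingHom.mem_ker] at this
          exact this
        have hq0 : a + d * α₀ ^ 2 + f * β₀ ^ 2 = 0 := by
          simpa using hI0 _ (Ideal.pow_le_self two_ne_zero hq)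
        have hq1 : a + d * α₁ ^ 2 + f * β₁ ^ 2 = 0 := by
          simpa using hI1 _ (Ideal.pow_le_self two_ne_zero hq)
        apply rat2 h2 a d f α₀ β₀ α₁ β₁ ?_ hq0 hq1
        rintro ⟨rfl, rfl⟩
        exact hne' hm1

end Groth.Agent.H2.Quad
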