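import Groth.Agent.H2.Quad4

set_option autoImplicit false
set_option linter.style.haveILetI false
set_option linter.unusedSimpArgs false
set_option linter.unusedVariables false

open MvPolynomial

namespace Groth.Agent.H2.Quad

variable {κ : Type*} [Field κ]

theorem sq_of_row (j u₀ u₁ u₂ a b c d e f : κ)
    (ha : a = j * u₀ ^ 2) (hb : b = j * (2 * u₀ * u₁)) (hc : c = j * (2 * u₀ * u₂))
    (hd : d = j * u₁ ^ 2) (he : e = j * (2 * u₁ * u₂)) (hf : f = j * u₂ ^ 2) :
    (C a + C b * X 0 + C c * X 1 + C d * X 0 ^ 2 + C e * X 0 * X 1 + C f * X 1 ^ 2 :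
      MvPolynomial (Fin 2) κ) = C j * (C u₀ + C u₁ * X 0 + C u₂ * X 1) ^ 2 := by
  subst ha hb hc hd he hf
  have hC2 : (C (2 : κ) : MvPolynomial (Fin 2) κ) = 2 := map_ofNat C 2
  simp only [C_mul, C_pow, hC2]
  ring

theorem rows (I : Ideal (MvPolynomial (Fin 2) κ)) (a b c d e f : κ)
    (hmem : (C a + C b * X 0 + C c * X 1 + C d * X 0 ^ 2 + C e * X 0 * X 1 + C f * X 1 ^ 2 :
      MvPolynomial (Fin 2) κ) ∈ I ^ 2) :
    (C (2 * a) + C b * X 0 + C c * X 1 ∈ I) ∧ (C b + C (2 * d) * X 0 + C e * X 1 ∈ I) ∧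
      (C c + C e * X 0 + C (2 * f) * X 1 ∈ I) := by
  have hC2 : (C (2 : κ) : MvPolynomial (Fin 2) κ) = 2 := map_ofNat C 2
  have e1 : pderiv (0 : Fin 2) (C a + C b * X 0 + C c * X 1 + C d * X 0 ^ 2 + C e * X 0 * X 1 +
      C f * X 1 ^ 2 : MvPolynomial (Fin 2) κ) = C b + C (2 * d) * X 0 + C e * X 1 := by
    simp [pderiv_X, Derivation.leibniz, Derivation.leibniz_pow, hC2]
    ring
  have e2 : pderiv (1 : Fin 2) (C a + C b * X 0 + C c * X 1 + C d * X 0 ^ 2 + C e * X 0 * X 1 +
      C f * X 1 ^ 2 : MvPolynomial (Fin 2) κ) = C c + C e * X 0 + C (2 * f) * X 1 := by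
    simp [pderiv_X, Derivation.leibniz, Derivation.leibniz_pow, hC2]
    ring
  have hr1 : C b + C (2 * d) * X 0 + C e * X 1 ∈ I := by
    rw [← e1]; exact pderiv_mem_of_mem_sq I (0 : Fin 2) hmem
  have hr2 : C c + C e * X 0 + C (2 * f) * X 1 ∈ I := by
    rw [← e2]; exact pderiv_mem_of_mem_sq I (1 : Fin 2) hmem
  refine ⟨?_, hr1, hr2⟩
  have hq : (C a + C b * X 0 + C c * X 1 + C d * X 0 ^ 2 + C e * X 0 * X 1 + C f * X 1 ^ 2 :
      MvPolynomial (Fin 2) κ) ∈ I := Ideal.pow_le_self two_ne_zero hmem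
  have e0 : (C (2 * a) + C b * X 0 + C c * X 1 : MvPolynomial (Fin 2) κ) =
      2 * (C a + C b * X 0 + C c * X 1 + C d * X 0 ^ 2 + C e * X 0 * X 1 + C f * X 1 ^ 2) -
        X 0 * (C b + C (2 * d) * X 0 + C e * X 1) - X 1 * (C c + C e * X 0 + C (2 * f) * X 1) := by
    simp only [C_mul, hC2]
    ring
  rw [e0]
  exact I.sub_mem (I.sub_mem (I.mul_mem_left _ hq) (I.mul_mem_left _ hr1)) (I.mul_mem_left _ hr2)

theorem main (I : Ideal (MvPolynomial (Fin 2) κ))
    (hI : ¬ (Module.Finite κ (MvPolynomial (Fin 2) κ ⧸ I) ∧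
      Module.finrank κ (MvPolynomial (Fin 2) κ ⧸ I) ≤ 1))
    (a b c d e f : κ) (hne : ¬ (a = 0 ∧ b = 0 ∧ c = 0 ∧ d = 0 ∧ e = 0 ∧ f = 0))
    (hmem : (C a + C b * X 0 + C c * X 1 + C d * X 0 ^ 2 + C e * X 0 * X 1 + C f * X 1 ^ 2 :
      MvPolynomial (Fin 2) κ) ∈ I ^ 2) :
    ∃ j g h i : κ, (C a + C b * X 0 + C c * X 1 + C d * X 0 ^ 2 + C e * X 0 * X 1 +
      C f * X 1 ^ 2 : MvPolynomial (Fin 2) κ) = C j * (C g + C h * X 0 + C i * X 1) ^ 2 := by
  have H1 := ne_top_of_hI I hI
  have H2 := not_rational_of_hI I hI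
  have hC2 : (C (2 : κ) : MvPolynomial (Fin 2) κ) = 2 := map_ofNat C 2
  obtain ⟨hr0, hr1, hr2⟩ := rows I a b c d e f hmem
  obtain ⟨m01a, m01b, m01c⟩ := minors I H1 H2 (2 * a) b c b (2 * d) e hr0 hr1
  obtain ⟨m02a, m02b, m02c⟩ := minors I H1 H2 (2 * a) b c c e (2 * f) hr0 hr2
  obtain ⟨m12a, m12b, m12c⟩ := minors I H1 H2 b (2 * d) e c e (2 * f) hr1 hr2
  by_cases h2 : (2 : κ) = 0
  · have hb : b = 0 := by
      have : b * b = 0 := by linear_combination -m01b + (2 * a * d) * h2
      exact mul_self_eq_zero.mp this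
    have hc : c = 0 := by
      have : c * c = 0 := by linear_combination -m02c + (2 * a * f) * h2
      exact mul_self_eq_zero.mp this
    have he : e = 0 := by
      have : e * e = 0 := by linear_combination -m12a + (2 * d * f) * h2
      exact mul_self_eq_zero.mp this
    subst hb hc he
    have hq' : (C a + C d * X 0 ^ 2 + C f * X 1 ^ 2 : MvPolynomial (Fin 2) κ) ∈ I ^ 2 := by
      convert hmem using 1
      simp
    have hne' : ¬ (a = 0 ∧ d = 0 ∧ f = 0) := fun ⟨h1, h2, h3⟩ =>
      hne ⟨h1, rfl, rfl, h2, rfl, h3⟩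
    obtain ⟨j, g, h, i, ha, hd, hf⟩ := char2_core h2 I H1 H2 a d f hne' hq'
    refine ⟨j, g, h, i, ?_⟩
    have hC2' : (2 : MvPolynomial (Fin 2) κ) = 0 := by rw [← hC2, h2, C_0]
    rw [ha, hd, hf]
    simp only [C_mul, C_pow, C_0]
    linear_combination (-(C j * (C g * C h * X 0 + C g * C i * X 1 + C h * C i * X 0 * X 1))) * hC2'
  · by_cases hd0 : d = 0
    · by_cases ha0 : a = 0
      · by_cases hf0 : f = 0
        · exfalso
          apply hne
          subst hd0 ha0 hf0
          have hb : b = 0 := by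
            have : b * b = 0 := by linear_combination -m01b
            exact mul_self_eq_zero.mp this
          have hc : c = 0 := by
            have : c * c = 0 := by linear_combination -m02c
            exact mul_self_eq_zero.mp this
          have he : e = 0 := by
            have : e * e = 0 := by linear_combination -m12a
            exact mul_self_eq_zero.mp this
          exact ⟨rfl, hb, hc, rfl, he, rfl⟩
        · have h4 : (4 : κ) * f ≠ 0 := by
            apply mul_ne_zero _ hf0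
            have : (4 : κ) = 2 * 2 := by norm_num
            rw [this]; exact mul_ne_zero h2 h2
          obtain ⟨j, hj'⟩ : ∃ j, j = (4 * f)⁻¹ := ⟨_, rfl⟩
          have hj : j * (4 * f) = 1 := by rw [hj']; exact inv_mul_cancel₀ h4
          refine ⟨j, c, e, 2 * f, ?_⟩
          apply sq_of_row
          · linear_combination (-a) * hj + j * m02c
          · linear_combination (-b) * hj + j * 2 * m02a
          · linear_combination (-c) * hj
          · linear_combination (-d) * hj + j * m12a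
          · linear_combination (-e) * hj
          · linear_combination (-f) * hj
      · have h4 : (4 : κ) * a ≠ 0 := by
          apply mul_ne_zero _ ha0
          have : (4 : κ) = 2 * 2 := by norm_num
          rw [this]; exact mul_ne_zero h2 h2
        obtain ⟨j, hj'⟩ : ∃ j, j = (4 * a)⁻¹ := ⟨_, rfl⟩
        have hj : j * (4 * a) = 1 := by rw [hj']; exact inv_mul_cancel₀ h4
        refine ⟨j, 2 * a, b, c, ?_⟩
        apply sq_of_row
        · linear_combination (-a) * hj
        · linear_combination (-b) * hj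
        · linear_combination (-c) * hj
        · linear_combination (-d) * hj + j * m01b
        · linear_combination (-e) * hj + j * 2 * m02b
        · linear_combination (-f) * hj + j * m02c
    · have h4 : (4 : κ) * d ≠ 0 := by
        apply mul_ne_zero _ hd0
        have : (4 : κ) = 2 * 2 := by norm_num
        rw [this]; exact mul_ne_zero h2 h2
      obtain ⟨j, hj'⟩ : ∃ j, j = (4 * d)⁻¹ := ⟨_, rfl⟩
      have hj : j * (4 * d) = 1 := by rw [hj']; exact inv_mul_cancel₀ h4
      refine ⟨j, b, 2 * d, e, ?_⟩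
      apply sq_of_row
      · linear_combination (-a) * hj + j * m01b
      · linear_combination (-b) * hj
      · linear_combination (-c) * hj + j * (-2) * m01a
      · linear_combination (-d) * hj
      · linear_combination (-e) * hj
      · linear_combination (-f) * hj + j * m12a

end Groth.Agent.H2.Quad
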