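import Mathlib
import Groth.Prelude.Def_W4c6intromoduliQuartic

set_option autoImplicit false
set_option linter.style.haveILetI false
set_option linter.unusedSimpArgs false
set_option linter.unusedVariables false
set_option linter.unnecessarySeqFocus false

open MvPolynomial

namespace Groth.Agent.H2.Quartic

universe u

variable {k : Type u} [Field k]

/-- the linear form `b X0 - a X1` -/
noncomputable def lin (a b : k) : MvPolynomial (Fin 2) k := C b * X 0 - C a * X 1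

theorem subst_X0 (M : Matrix (Fin 2) (Fin 2) k) :
    W4c6intromoduli.subst M (X 0) = C (M 0 0) * X 0 + C (M 0 1) * X 1 := by
  simp [W4c6intromoduli.subst, Fin.sum_univ_two]

theorem subst_X1 (M : Matrix (Fin 2) (Fin 2) k) :
    W4c6intromoduli.subst M (X 1) = C (M 1 0) * X 0 + C (M 1 1) * X 1 := by
  simp [W4c6intromoduli.subst, Fin.sum_univ_two]

theorem subst_of_X0 (m00 m01 m10 m11 : k) :
    W4c6intromoduli.subst !![m00, m01; m10, m11] (X 0) = C m00 * X 0 + C m01 * X 1 := by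
  rw [subst_X0]; simp

theorem subst_of_X1 (m00 m01 m10 m11 : k) :
    W4c6intromoduli.subst !![m00, m01; m10, m11] (X 1) = C m10 * X 0 + C m11 * X 1 := by
  rw [subst_X1]; simp

theorem prop_scalar (a0 b0 a1 b1 : k) (h0 : a0 ≠ 0 ∨ b0 ≠ 0) (h1 : a1 ≠ 0 ∨ b1 ≠ 0)
    (h01 : a0 * b1 = a1 * b0) : ∃ s : k, s ≠ 0 ∧ a1 = s * a0 ∧ b1 = s * b0 := by
  rcases h0 with h0 | h0
  · refine ⟨a1 / a0, ?_, ?_, ?_⟩
    · intro hs
      have ha1 : a1 = 0 := by
        rcases div_eq_zero_iff.mp hs with h | h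
        · exact h
        · exact absurd h h0
      have hb1 : b1 = 0 := by
        have : a0 * b1 = 0 := by rw [h01, ha1, zero_mul]
        rcases mul_eq_zero.mp this with h | h
        · exact absurd h h0
        · exact h
      rcases h1 with h | h
      · exact h ha1
      · exact h hb1
    · field_simp
    · field_simp
      linear_combination h01
  · refine ⟨b1 / b0, ?_, ?_, ?_⟩
    · intro hs
      have hb1 : b1 = 0 := by
        rcases div_eq_zero_iff.mp hs with h | h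
        · exact h
        · exact absurd h h0
      have ha1 : a1 = 0 := by
        have : a1 * b0 = 0 := by rw [← h01, hb1, mul_zero]
        rcases mul_eq_zero.mp this with h | h
        · exact h
        · exact absurd h h0
      rcases h1 with h | h
      · exact h ha1
      · exact h hb1
    · field_simp
      linear_combination -h01
    · field_simp

theorem core (a0 b0 a1 b1 a2 b2 a3 b3 : k) (h0 : a0 ≠ 0 ∨ b0 ≠ 0) (h1 : a1 ≠ 0 ∨ b1 ≠ 0)
    (h01 : a0 * b1 = a1 * b0) (h02 : a0 * b2 ≠ a2 * b0) (h03 : a0 * b3 ≠ a3 * b0) :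
    (∃ (M : Matrix (Fin 2) (Fin 2) k) (c : k), IsUnit M.det ∧ c ≠ 0 ∧
      lin a0 b0 * lin a1 b1 * lin a2 b2 * lin a3 b3 =
        C c * W4c6intromoduli.subst M (X 0 ^ 2 * X 1 * (X 0 - X 1))) ∨
    (∃ (M : Matrix (Fin 2) (Fin 2) k) (c : k), IsUnit M.det ∧ c ≠ 0 ∧
      lin a0 b0 * lin a1 b1 * lin a2 b2 * lin a3 b3 =
        C c * W4c6intromoduli.subst M (X 0 ^ 2 * X 1 ^ 2)) := by
  obtain ⟨s, hs, ha1, hb1⟩ := prop_scalar a0 b0 a1 b1 h0 h1 h01
  have hD : a0 * b2 - a2 * b0 ≠ 0 := sub_ne_zero.mpr h02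
  obtain ⟨x, hx⟩ : ∃ x, x = (a3 * b2 - a2 * b3) / (a0 * b2 - a2 * b0) := ⟨_, rfl⟩
  obtain ⟨y, hy⟩ : ∃ y, y = (a0 * b3 - a3 * b0) / (a0 * b2 - a2 * b0) := ⟨_, rfl⟩
  have hxD : x * (a0 * b2 - a2 * b0) = a3 * b2 - a2 * b3 := by
    rw [hx]; exact div_mul_cancel₀ _ hD
  have hyD : y * (a0 * b2 - a2 * b0) = a0 * b3 - a3 * b0 := by
    rw [hy]; exact div_mul_cancel₀ _ hD
  have ha3 : a3 = x * a0 + y * a2 := by
    apply mul_right_cancel₀ hD
    linear_combination (-a0) * hxD - a2 * hyD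
  have hb3 : b3 = x * b0 + y * b2 := by
    apply mul_right_cancel₀ hD
    linear_combination (-b0) * hxD - b2 * hyD
  have hy0 : y ≠ 0 := by
    rw [hy]
    exact div_ne_zero (sub_ne_zero.mpr h03) hD
  by_cases hx0 : x = 0
  · right
    refine ⟨!![b0, -a0; b2, -a2], s * y, ?_, mul_ne_zero hs hy0, ?_⟩
    · rw [Matrix.det_fin_two_of]
      apply Ne.isUnit
      intro h
      apply hD
      linear_combination h
    · simp only [map_mul, map_pow, map_sub, subst_of_X0, subst_of_X1]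
      rw [ha1, hb1, ha3, hb3, hx0]
      simp only [lin, map_mul, map_add, map_neg, map_zero, zero_mul, zero_add]
      ring
  · left
    obtain ⟨c, hc⟩ : ∃ c, c = -s / (x ^ 2 * y) := ⟨_, rfl⟩
    have hc0 : c ≠ 0 := by
      rw [hc]
      exact div_ne_zero (neg_ne_zero.mpr hs) (mul_ne_zero (pow_ne_zero 2 hx0) hy0)
    have hcs : c * x ^ 2 * y = -s := by
      rw [hc]; field_simp
    refine ⟨!![x * b0, -(x * a0); -(y * b2), y * a2], c, ?_, hc0, ?_⟩
    · rw [Matrix.det_fin_two_of]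
      apply Ne.isUnit
      intro h
      have : x * y * (a0 * b2 - a2 * b0) = 0 := by linear_combination -h
      rcases mul_eq_zero.mp this with h' | h'
      · rcases mul_eq_zero.mp h' with h'' | h''
        · exact hx0 h''
        · exact hy0 h''
      · exact hD h'
    · simp only [map_mul, map_pow, map_sub, subst_of_X0, subst_of_X1]
      have hs' : s = -(c * x ^ 2 * y) := by rw [hcs, neg_neg]
      rw [ha1, hb1, ha3, hb3, hs']
      simp only [lin, map_mul, map_add, map_neg, map_pow]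
      ring

theorem two_vec (α β v0 v1 w0 w1 : k) (hαβ : α ≠ 0 ∨ β ≠ 0) (hv : α * v0 + β * v1 = 0)
    (hw : α * w0 + β * w1 = 0) : v0 * w1 - v1 * w0 = 0 := by
  rcases hαβ with h | h
  · apply mul_left_cancel₀ h
    linear_combination w1 * hv - v1 * hw
  · apply mul_left_cancel₀ h
    linear_combination v0 * hw - w0 * hv

theorem excl (F : MvPolynomial (Fin 2) k) (M M' : Matrix (Fin 2) (Fin 2) k) (c c' : k)
    (hM : IsUnit M.det) (hM' : IsUnit M'.det) (hc' : c' ≠ 0)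
    (hA : F = C c * W4c6intromoduli.subst M (X 0 ^ 2 * X 1 * (X 0 - X 1)))
    (hB : F = C c' * W4c6intromoduli.subst M' (X 0 ^ 2 * X 1 ^ 2)) : False := by
  have hd : M 0 0 * M 1 1 - M 0 1 * M 1 0 ≠ 0 := by
    have := hM.ne_zero
    rwa [Matrix.det_fin_two] at this
  have hd' : M' 0 0 * M' 1 1 - M' 0 1 * M' 1 0 ≠ 0 := by
    have := hM'.ne_zero
    rwa [Matrix.det_fin_two] at this
  have e : ∀ v0 v1 : k,
      c * ((M 0 0 * v0 + M 0 1 * v1) ^ 2 * (M 1 0 * v0 + M 1 1 * v1) *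
        ((M 0 0 * v0 + M 0 1 * v1) - (M 1 0 * v0 + M 1 1 * v1))) =
      c' * ((M' 0 0 * v0 + M' 0 1 * v1) ^ 2 * (M' 1 0 * v0 + M' 1 1 * v1) ^ 2) := by
    intro v0 v1
    have := congrArg (eval ![v0, v1]) (hA.symm.trans hB)
    simpa [subst_X0, subst_X1] using this
  -- rows of M' are nonzero
  have hr0 : M' 0 0 ≠ 0 ∨ M' 0 1 ≠ 0 := by
    by_contra h
    push Not at h
    apply hd'
    rw [h.1, h.2]; ring
  have hr1 : M' 1 0 ≠ 0 ∨ M' 1 1 ≠ 0 := by
    by_contra h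
    push Not at h
    apply hd'
    rw [h.1, h.2]; ring
  have key : ∀ v0 v1 : k, c * ((M 0 0 * v0 + M 0 1 * v1) ^ 2 * (M 1 0 * v0 + M 1 1 * v1) *
        ((M 0 0 * v0 + M 0 1 * v1) - (M 1 0 * v0 + M 1 1 * v1))) = 0 →
      (M' 0 0 * v0 + M' 0 1 * v1 = 0 ∨ M' 1 0 * v0 + M' 1 1 * v1 = 0) := by
    intro v0 v1 h0
    have h := e v0 v1
    rw [h0] at h
    have h' := h.symm
    rcases mul_eq_zero.mp h' with h1 | h1
    · exact absurd h1 hc'
    · rcases mul_eq_zero.mp h1 with h2 | h2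
      · left; exact pow_eq_zero_iff (two_ne_zero) |>.mp h2
      · right; exact pow_eq_zero_iff (two_ne_zero) |>.mp h2
  have h1 := key (-(M 0 1)) (M 0 0) (by ring)
  have h2 := key (-(M 1 1)) (M 1 0) (by ring)
  have h3 := key (-(M 0 1 - M 1 1)) (M 0 0 - M 1 0) (by ring)
  have N12 : (-(M 0 1)) * (M 1 0) - (M 0 0) * (-(M 1 1)) ≠ 0 := by
    intro h; apply hd; linear_combination h
  have N13 : (-(M 0 1)) * (M 0 0 - M 1 0) - (M 0 0) * (-(M 0 1 - M 1 1)) ≠ 0 := by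
    intro h; apply hd; linear_combination -h
  have N23 : (-(M 1 1)) * (M 0 0 - M 1 0) - (M 1 0) * (-(M 0 1 - M 1 1)) ≠ 0 := by
    intro h; apply hd; linear_combination -h
  rcases h1 with h1 | h1 <;> rcases h2 with h2 | h2 <;> rcases h3 with h3 | h3
  · exact N12 (two_vec _ _ _ _ _ _ hr0 h1 h2)
  · exact N12 (two_vec _ _ _ _ _ _ hr0 h1 h2)
  · exact N13 (two_vec _ _ _ _ _ _ hr0 h1 h3)
  · exact N23 (two_vec _ _ _ _ _ _ hr1 h2 h3)
  · exact N23 (two_vec _ _ _ _ _ _ hr0 h2 h3)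
  · exact N13 (two_vec _ _ _ _ _ _ hr1 h1 h3)
  · exact N12 (two_vec _ _ _ _ _ _ hr1 h1 h2)
  · exact N12 (two_vec _ _ _ _ _ _ hr1 h1 h2)

theorem binForm_eq (la mu : Fin 4 → k) :
    W4c6intromoduli.binForm la mu =
      lin (la 0) (mu 0) * lin (la 1) (mu 1) * lin (la 2) (mu 2) * lin (la 3) (mu 3) := by
  simp [W4c6intromoduli.binForm, Fin.prod_univ_four, lin]

theorem main_aux (la mu : Fin 4 → k) (hne : ∀ i, la i ≠ 0 ∨ mu i ≠ 0)
    (h3z : ∀ i j l : Fin 4, i ≠ j → j ≠ l → i ≠ l →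
      ¬ (la i * mu j = la j * mu i ∧ la j * mu l = la l * mu j))
    (i j a b : Fin 4)
    (hperm : W4c6intromoduli.binForm la mu =
      lin (la i) (mu i) * lin (la j) (mu j) * lin (la a) (mu a) * lin (la b) (mu b))
    (hij : i ≠ j) (hia : i ≠ a) (hja : j ≠ a) (hib : i ≠ b) (hjb : j ≠ b)
    (hz : la j * mu i = la i * mu j) :
    (∃ (M : Matrix (Fin 2) (Fin 2) k) (c : k), IsUnit M.det ∧ c ≠ 0 ∧
      W4c6intromoduli.binForm la mu =
        C c * W4c6intromoduli.subst M (X 0 ^ 2 * X 1 * (X 0 - X 1))) ∨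
    (∃ (M : Matrix (Fin 2) (Fin 2) k) (c : k), IsUnit M.det ∧ c ≠ 0 ∧
      W4c6intromoduli.binForm la mu =
        C c * W4c6intromoduli.subst M (X 0 ^ 2 * X 1 ^ 2)) := by
  rw [hperm]
  apply core _ _ _ _ _ _ _ _ (hne i) (hne j) hz.symm
  · intro h
    exact h3z j i a hij.symm hia hja ⟨hz, h⟩
  · intro h
    exact h3z j i b hij.symm hib hjb ⟨hz, h⟩

theorem pairs6 : ∀ i j : Fin 4, i < j → (i = 0 ∧ j = 1) ∨ (i = 0 ∧ j = 2) ∨ (i = 0 ∧ j = 3) ∨
    (i = 1 ∧ j = 2) ∨ (i = 1 ∧ j = 3) ∨ (i = 2 ∧ j = 3) := by decide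

theorem main_or (la mu : Fin 4 → k) (hne : ∀ i, la i ≠ 0 ∨ mu i ≠ 0)
    (hd : W4c6intromoduli.disc la mu = 0)
    (h3z : ∀ i j l : Fin 4, i ≠ j → j ≠ l → i ≠ l →
      ¬ (la i * mu j = la j * mu i ∧ la j * mu l = la l * mu j)) :
    (∃ (M : Matrix (Fin 2) (Fin 2) k) (c : k), IsUnit M.det ∧ c ≠ 0 ∧
      W4c6intromoduli.binForm la mu =
        C c * W4c6intromoduli.subst M (X 0 ^ 2 * X 1 * (X 0 - X 1))) ∨
    (∃ (M : Matrix (Fin 2) (Fin 2) k) (c : k), IsUnit M.det ∧ c ≠ 0 ∧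
      W4c6intromoduli.binForm la mu =
        C c * W4c6intromoduli.subst M (X 0 ^ 2 * X 1 ^ 2)) := by
  rw [W4c6intromoduli.disc, Finset.prod_eq_zero_iff] at hd
  obtain ⟨⟨i, j⟩, hmem, hz⟩ := hd
  have hlt : i < j := by simpa using hmem
  have hz' : la j * mu i = la i * mu j := by
    have := pow_eq_zero_iff (two_ne_zero) |>.mp hz
    exact sub_eq_zero.mp this
  have hb := binForm_eq la mu
  rcases pairs6 i j hlt with ⟨rfl, rfl⟩ | ⟨rfl, rfl⟩ | ⟨rfl, rfl⟩ | ⟨rfl, rfl⟩ | ⟨rfl, rfl⟩ |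
    ⟨rfl, rfl⟩
  · exact main_aux la mu hne h3z 0 1 2 3 (by rw [hb]) (by decide) (by decide) (by decide)
      (by decide) (by decide) hz'
  · exact main_aux la mu hne h3z 0 2 1 3 (by rw [hb]; ring) (by decide) (by decide) (by decide)
      (by decide) (by decide) hz'
  · exact main_aux la mu hne h3z 0 3 1 2 (by rw [hb]; ring) (by decide) (by decide) (by decide)
      (by decide) (by decide) hz'
  · exact main_aux la mu hne h3z 1 2 0 3 (by rw [hb]; ring) (by decide) (by decide) (by decide)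
      (by decide) (by decide) hz'
  · exact main_aux la mu hne h3z 1 3 0 2 (by rw [hb]; ring) (by decide) (by decide) (by decide)
      (by decide) (by decide) hz'
  · exact main_aux la mu hne h3z 2 3 0 1 (by rw [hb]; ring) (by decide) (by decide) (by decide)
      (by decide) (by decide) hz'

theorem main (la mu : Fin 4 → k) (hne : ∀ i, la i ≠ 0 ∨ mu i ≠ 0)
    (hd : W4c6intromoduli.disc la mu = 0)
    (h3z : ∀ i j l : Fin 4, i ≠ j → j ≠ l → i ≠ l →
      ¬ (la i * mu j = la j * mu i ∧ la j * mu l = la l * mu j)) :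
    Xor
      (∃ (M : Matrix (Fin 2) (Fin 2) k) (c : k), IsUnit M.det ∧ c ≠ 0 ∧
        W4c6intromoduli.binForm la mu =
          MvPolynomial.C c * W4c6intromoduli.subst M
            (MvPolynomial.X 0 ^ 2 * MvPolynomial.X 1 * (MvPolynomial.X 0 - MvPolynomial.X 1)))
      (∃ (M : Matrix (Fin 2) (Fin 2) k) (c : k), IsUnit M.det ∧ c ≠ 0 ∧
        W4c6intromoduli.binForm la mu =
          MvPolynomial.C c * W4c6intromoduli.subst M
            (MvPolynomial.X 0 ^ 2 * MvPolynomial.X 1 ^ 2)) := by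
  have hex : ∀ (M M' : Matrix (Fin 2) (Fin 2) k) (c c' : k), IsUnit M.det → IsUnit M'.det →
      c' ≠ 0 →
      W4c6intromoduli.binForm la mu =
        C c * W4c6intromoduli.subst M (X 0 ^ 2 * X 1 * (X 0 - X 1)) →
      W4c6intromoduli.binForm la mu = C c' * W4c6intromoduli.subst M' (X 0 ^ 2 * X 1 ^ 2) →
      False := fun M M' c c' hM hM' hc' hA hB => excl _ M M' c c' hM hM' hc' hA hB
  rcases main_or la mu hne hd h3z with hA | hB
  · left
    refine ⟨hA, ?_⟩
    rintro ⟨M', c', hM', hc', hB⟩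
    obtain ⟨M, c, hM, hc, hA⟩ := hA
    exact hex M M' c c' hM hM' hc' hA hB
  · right
    refine ⟨hB, ?_⟩
    rintro ⟨M, c, hM, hc, hA⟩
    obtain ⟨M', c', hM', hc', hB⟩ := hB
    exact hex M M' c c' hM hM' hc' hA hB

end Groth.Agent.H2.Quartic
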