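import Mathlib
import Groth.Prelude.Def_W4c6intromoduliQuartic
import Groth.Agent.H2.Quartic1

set_option autoImplicit false
set_option linter.style.haveILetI false
set_option linter.unusedSimpArgs false
set_option linter.unusedVariables false
set_option linter.unnecessarySeqFocus false

open MvPolynomial

namespace Groth.Agent.H2.Quartic

universe u

section brackets

open Polynomial W4c6intromoduli

variable {R : Type u} [CommRing R]

theorem rootPoly_eq (la mu : Fin 4 → R) :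
    rootPoly la mu =
      Polynomial.C (mu 0 * mu 1 * mu 2 * mu 3)
      + Polynomial.C (-(la 0 * mu 1 * mu 2 * mu 3 + mu 0 * la 1 * mu 2 * mu 3
          + mu 0 * mu 1 * la 2 * mu 3 + mu 0 * mu 1 * mu 2 * la 3)) * Polynomial.X
      + Polynomial.C (la 0 * la 1 * mu 2 * mu 3 + la 0 * mu 1 * la 2 * mu 3
          + la 0 * mu 1 * mu 2 * la 3 + mu 0 * la 1 * la 2 * mu 3 + mu 0 * la 1 * mu 2 * la 3
          + mu 0 * mu 1 * la 2 * la 3) * Polynomial.X ^ 2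
      + Polynomial.C (-(la 0 * la 1 * la 2 * mu 3 + la 0 * la 1 * mu 2 * la 3
          + la 0 * mu 1 * la 2 * la 3 + mu 0 * la 1 * la 2 * la 3)) * Polynomial.X ^ 3
      + Polynomial.C (la 0 * la 1 * la 2 * la 3) * Polynomial.X ^ 4 := by
  simp only [rootPoly, Fin.prod_univ_four, map_add, map_mul, map_neg]
  ring

theorem coef_zero (la mu : Fin 4 → R) : coef la mu 0 = mu 0 * mu 1 * mu 2 * mu 3 := by
  rw [coef, rootPoly_eq]
  simp only [Polynomial.coeff_add, Polynomial.coeff_C_mul_X_pow, Polynomial.coeff_C_mul_X,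
    Polynomial.coeff_C]
  norm_num

theorem coef_one (la mu : Fin 4 → R) : coef la mu 1 =
    -(la 0 * mu 1 * mu 2 * mu 3 + mu 0 * la 1 * mu 2 * mu 3 + mu 0 * mu 1 * la 2 * mu 3
          + mu 0 * mu 1 * mu 2 * la 3) := by
  rw [coef, rootPoly_eq]
  simp only [Polynomial.coeff_add, Polynomial.coeff_C_mul_X_pow, Polynomial.coeff_C_mul_X,
    Polynomial.coeff_C]
  norm_num

theorem coef_two (la mu : Fin 4 → R) : coef la mu 2 =
    la 0 * la 1 * mu 2 * mu 3 + la 0 * mu 1 * la 2 * mu 3 + la 0 * mu 1 * mu 2 * la 3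
          + mu 0 * la 1 * la 2 * mu 3 + mu 0 * la 1 * mu 2 * la 3 + mu 0 * mu 1 * la 2 * la 3 := by
  rw [coef, rootPoly_eq]
  simp only [Polynomial.coeff_add, Polynomial.coeff_C_mul_X_pow, Polynomial.coeff_C_mul_X,
    Polynomial.coeff_C]
  norm_num

theorem coef_three (la mu : Fin 4 → R) : coef la mu 3 =
    -(la 0 * la 1 * la 2 * mu 3 + la 0 * la 1 * mu 2 * la 3 + la 0 * mu 1 * la 2 * la 3
          + mu 0 * la 1 * la 2 * la 3) := by
  rw [coef, rootPoly_eq]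
  simp only [Polynomial.coeff_add, Polynomial.coeff_C_mul_X_pow, Polynomial.coeff_C_mul_X,
    Polynomial.coeff_C]
  norm_num

theorem coef_four (la mu : Fin 4 → R) : coef la mu 4 = la 0 * la 1 * la 2 * la 3 := by
  rw [coef, rootPoly_eq]
  simp only [Polynomial.coeff_add, Polynomial.coeff_C_mul_X_pow, Polynomial.coeff_C_mul_X,
    Polynomial.coeff_C]
  norm_num

/-- The three "cross-ratio" products of a quadruple of root points. -/
def qA (la mu : Fin 4 → R) : R := (la 0 * mu 1 - la 1 * mu 0) * (la 2 * mu 3 - la 3 * mu 2)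
/-- see `qA` -/
def qB (la mu : Fin 4 → R) : R := (la 0 * mu 2 - la 2 * mu 0) * (la 3 * mu 1 - la 1 * mu 3)
/-- see `qA` -/
def qC (la mu : Fin 4 → R) : R := (la 0 * mu 3 - la 3 * mu 0) * (la 1 * mu 2 - la 2 * mu 1)

theorem qA_add_qB_add_qC (la mu : Fin 4 → R) : qA la mu + qB la mu + qC la mu = 0 := by
  simp only [qA, qB, qC]
  ring

theorem two_mul_invI (la mu : Fin 4 → R) :
    2 * invI (coef la mu) = qA la mu ^ 2 + qB la mu ^ 2 + qC la mu ^ 2 := by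
  simp only [invI, coef_zero, coef_one, coef_two, coef_three, coef_four, qA, qB, qC]
  ring

theorem invJ_eq (la mu : Fin 4 → R) :
    invJ (coef la mu) = (qA la mu - qB la mu) * (qB la mu - qC la mu) * (qC la mu - qA la mu) := by
  simp only [invJ, coef_zero, coef_one, coef_two, coef_three, coef_four, qA, qB, qC]
  ring

end brackets

variable {k : Type u} [Field k]

theorem subst_C (M : Matrix (Fin 2) (Fin 2) k) (r : k) :
    W4c6intromoduli.subst M (C r) = C r := by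
  simp [W4c6intromoduli.subst]

theorem hfac (t00 t01 t10 t11 a b a' b' κ : k)
    (E1 : κ * a' = t00 * a + t01 * b) (E2 : κ * b' = t10 * a + t11 * b) :
    W4c6intromoduli.subst !![t11, -t01; -t10, t00] (lin a b) = C κ * lin a' b' := by
  have h1 : C κ * lin a' b' = C (κ * b') * X 0 - C (κ * a') * X 1 := by
    simp only [lin, map_mul]; ring
  rw [h1, E1, E2]
  simp only [lin, map_sub, map_mul, subst_of_X0, subst_of_X1, subst_C, map_add, map_neg]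
  ring

theorem assemble (t00 t01 t10 t11 a0 b0 a1 b1 a2 b2 a3 b3 c0 e0 c1 e1 c2 e2 c3 e3 κ0 κ1 κ2 κ3 : k)
    (hdet : t00 * t11 - t01 * t10 ≠ 0) (h0 : κ0 ≠ 0) (h1 : κ1 ≠ 0) (h2 : κ2 ≠ 0) (h3 : κ3 ≠ 0)
    (E10 : κ0 * c0 = t00 * a0 + t01 * b0) (E20 : κ0 * e0 = t10 * a0 + t11 * b0)
    (E11 : κ1 * c1 = t00 * a1 + t01 * b1) (E21 : κ1 * e1 = t10 * a1 + t11 * b1)
    (E12 : κ2 * c2 = t00 * a2 + t01 * b2) (E22 : κ2 * e2 = t10 * a2 + t11 * b2)
    (E13 : κ3 * c3 = t00 * a3 + t01 * b3) (E23 : κ3 * e3 = t10 * a3 + t11 * b3) :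
    ∃ (M : Matrix (Fin 2) (Fin 2) k) (c : k), IsUnit M.det ∧ c ≠ 0 ∧
      lin c0 e0 * lin c1 e1 * lin c2 e2 * lin c3 e3 =
        C c * W4c6intromoduli.subst M (lin a0 b0 * lin a1 b1 * lin a2 b2 * lin a3 b3) := by
  have hκ : κ0 * κ1 * κ2 * κ3 ≠ 0 := mul_ne_zero (mul_ne_zero (mul_ne_zero h0 h1) h2) h3
  refine ⟨!![t11, -t01; -t10, t00], (κ0 * κ1 * κ2 * κ3)⁻¹, ?_, inv_ne_zero hκ, ?_⟩
  · rw [Matrix.det_fin_two_of]
    apply Ne.isUnit
    intro h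
    apply hdet
    linear_combination h
  · rw [map_mul, map_mul, map_mul, hfac _ _ _ _ _ _ _ _ _ E10 E20, hfac _ _ _ _ _ _ _ _ _ E11 E21,
      hfac _ _ _ _ _ _ _ _ _ E12 E22, hfac _ _ _ _ _ _ _ _ _ E13 E23]
    have hc : C ((κ0 * κ1 * κ2 * κ3)⁻¹) * (C κ0 * C κ1 * C κ2 * C κ3) =
        (1 : MvPolynomial (Fin 2) k) := by
      rw [← C_mul, ← C_mul, ← C_mul, ← C_mul, inv_mul_cancel₀ hκ, C_1]
    linear_combination (-(lin c0 e0 * lin c1 e1 * lin c2 e2 * lin c3 e3)) * hc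

theorem proj (a0 b0 a1 b1 a2 b2 a3 b3 c0 e0 c1 e1 c2 e2 c3 e3 : k)
    (hd01 : a0 * b1 - a1 * b0 ≠ 0) (hd02 : a0 * b2 - a2 * b0 ≠ 0) (hd21 : a2 * b1 - a1 * b2 ≠ 0)
    (hd31 : a3 * b1 - a1 * b3 ≠ 0)
    (hD01 : c0 * e1 - c1 * e0 ≠ 0) (hD02 : c0 * e2 - c2 * e0 ≠ 0) (hD21 : c2 * e1 - c1 * e2 ≠ 0)
    (hD31 : c3 * e1 - c1 * e3 ≠ 0)
    (H : (a0 * b2 - a2 * b0) * (a3 * b1 - a1 * b3) * ((c0 * e3 - c3 * e0) * (c1 * e2 - c2 * e1)) =
      (a0 * b3 - a3 * b0) * (a1 * b2 - a2 * b1) * ((c0 * e2 - c2 * e0) * (c3 * e1 - c1 * e3))) :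
    ∃ (M : Matrix (Fin 2) (Fin 2) k) (c : k), IsUnit M.det ∧ c ≠ 0 ∧
      lin c0 e0 * lin c1 e1 * lin c2 e2 * lin c3 e3 =
        C c * W4c6intromoduli.subst M (lin a0 b0 * lin a1 b1 * lin a2 b2 * lin a3 b3) := by
  obtain ⟨u, hu⟩ : ∃ u, u = (a0 * b2 - a2 * b0) * (c2 * e1 - c1 * e2) := ⟨_, rfl⟩
  obtain ⟨v, hv⟩ : ∃ v, v = (a2 * b1 - a1 * b2) * (c0 * e2 - c2 * e0) := ⟨_, rfl⟩
  have hu0 : u ≠ 0 := by rw [hu]; exact mul_ne_zero hd02 hD21
  have hv0 : v ≠ 0 := by rw [hv]; exact mul_ne_zero hd21 hD02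
  obtain ⟨κ3, hκ3⟩ : ∃ κ3, κ3 = (a3 * b1 - a1 * b3) * (a0 * b2 - a2 * b0) * (c2 * e1 - c1 * e2) *
      (c0 * e1 - c1 * e0) / (c3 * e1 - c1 * e3) := ⟨_, rfl⟩
  have hκ3' : κ3 * (c3 * e1 - c1 * e3) = (a3 * b1 - a1 * b3) * (a0 * b2 - a2 * b0) *
      (c2 * e1 - c1 * e2) * (c0 * e1 - c1 * e0) := by
    rw [hκ3]; exact div_mul_cancel₀ _ hD31
  have hκ30 : κ3 ≠ 0 := by
    rw [hκ3]
    exact div_ne_zero (mul_ne_zero (mul_ne_zero (mul_ne_zero hd31 hd02) hD21) hD01) hD31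
  refine assemble (u * c0 * b1 - v * c1 * b0) (-(u * c0 * a1) + v * c1 * a0)
    (u * e0 * b1 - v * e1 * b0) (-(u * e0 * a1) + v * e1 * a0)
    a0 b0 a1 b1 a2 b2 a3 b3 c0 e0 c1 e1 c2 e2 c3 e3
    ((a0 * b1 - a1 * b0) * u) ((a0 * b1 - a1 * b0) * v)
    ((a2 * b1 - a1 * b2) * (a0 * b2 - a2 * b0) * (c0 * e1 - c1 * e0)) κ3
    ?_ (mul_ne_zero hd01 hu0) (mul_ne_zero hd01 hv0) (mul_ne_zero (mul_ne_zero hd21 hd02) hD01)
    hκ30 ?_ ?_ ?_ ?_ ?_ ?_ ?_ ?_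
  · have : (u * c0 * b1 - v * c1 * b0) * (-(u * e0 * a1) + v * e1 * a0) -
        (-(u * c0 * a1) + v * c1 * a0) * (u * e0 * b1 - v * e1 * b0) =
        u * v * (c0 * e1 - c1 * e0) * (a0 * b1 - a1 * b0) := by ring
    rw [this]
    exact mul_ne_zero (mul_ne_zero (mul_ne_zero hu0 hv0) hD01) hd01
  · ring
  · ring
  · ring
  · ring
  · rw [hu, hv]; ring
  · rw [hu, hv]; ring
  · apply mul_right_cancel₀ hD31
    rw [hu, hv]
    linear_combination c3 * hκ3' - c1 * H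
  · apply mul_right_cancel₀ hD31
    rw [hu, hv]
    linear_combination e3 * hκ3' - e1 * H

end Groth.Agent.H2.Quartic
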