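import Mathlib
import Groth.Prelude.Def_W4c6intromoduliQuartic
import Groth.Agent.H2.Quartic1
import Groth.Agent.H2.Quartic2

set_option autoImplicit false
set_option linter.style.haveILetI false
set_option linter.unusedSimpArgs false
set_option linter.unusedVariables false
set_option linter.unnecessarySeqFocus false

open MvPolynomial

namespace Groth.Agent.H2.Quartic

universe u

variable {k : Type u} [Field k]

theorem nz (la mu : Fin 4 → k) (hd : W4c6intromoduli.disc la mu ≠ 0) :
    ∀ i j : Fin 4, i ≠ j → la i * mu j - la j * mu i ≠ 0 := by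
  intro i j hij h0
  apply hd
  rw [W4c6intromoduli.disc]
  rcases lt_or_gt_of_ne hij with hlt | hlt
  · apply Finset.prod_eq_zero (i := ((i, j) : Fin 4 × Fin 4)) (by simp [hlt])
    have : la j * mu i - la i * mu j = 0 := by linear_combination -h0
    simp [this]
  · apply Finset.prod_eq_zero (i := ((j, i) : Fin 4 × Fin 4)) (by simp [hlt])
    simp [h0]

theorem case_apply (la mu la' mu' : Fin 4 → k)
    (hnz : ∀ i j : Fin 4, i ≠ j → la i * mu j - la j * mu i ≠ 0)
    (hnz' : ∀ i j : Fin 4, i ≠ j → la' i * mu' j - la' j * mu' i ≠ 0)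
    (q1 q2 q3 : Fin 4)
    (hq : W4c6intromoduli.binForm la mu =
      lin (la 0) (mu 0) * lin (la q1) (mu q1) * lin (la q2) (mu q2) * lin (la q3) (mu q3))
    (h01 : (0 : Fin 4) ≠ q1) (h02 : (0 : Fin 4) ≠ q2) (h21 : q2 ≠ q1) (h31 : q3 ≠ q1)
    (H : (la 0 * mu q2 - la q2 * mu 0) * (la q3 * mu q1 - la q1 * mu q3) * qC la' mu' =
      (la 0 * mu q3 - la q3 * mu 0) * (la q1 * mu q2 - la q2 * mu q1) * qB la' mu') :
    ∃ (M : Matrix (Fin 2) (Fin 2) k) (c : k), IsUnit M.det ∧ c ≠ 0 ∧
      W4c6intromoduli.binForm la' mu' =
        C c * W4c6intromoduli.subst M (W4c6intromoduli.binForm la mu) := by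
  rw [binForm_eq la' mu', hq]
  simp only [qB, qC] at H
  exact proj _ _ _ _ _ _ _ _ _ _ _ _ _ _ _ _ (hnz 0 q1 h01) (hnz 0 q2 h02) (hnz q2 q1 h21)
    (hnz q3 q1 h31) (hnz' 0 1 (by decide)) (hnz' 0 2 (by decide)) (hnz' 2 1 (by decide))
    (hnz' 3 1 (by decide)) H

theorem main19393 (h2 : (2 : k) ≠ 0) (h3 : (3 : k) ≠ 0) (la mu la' mu' : Fin 4 → k)
    (hd : W4c6intromoduli.disc la mu ≠ 0) (hd' : W4c6intromoduli.disc la' mu' ≠ 0)
    (h : W4c6intromoduli.invI (W4c6intromoduli.coef la mu) ^ 3
          * W4c6intromoduli.invJ (W4c6intromoduli.coef la' mu') ^ 2 =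
        W4c6intromoduli.invI (W4c6intromoduli.coef la' mu') ^ 3
          * W4c6intromoduli.invJ (W4c6intromoduli.coef la mu) ^ 2) :
    ∃ (M : Matrix (Fin 2) (Fin 2) k) (c : k), IsUnit M.det ∧ c ≠ 0 ∧
      W4c6intromoduli.binForm la' mu' =
        MvPolynomial.C c * W4c6intromoduli.subst M (W4c6intromoduli.binForm la mu) := by
  have hnz := nz la mu hd
  have hnz' := nz la' mu' hd'
  have hs := qA_add_qB_add_qC la mu
  have hs' := qA_add_qB_add_qC la' mu'
  have hI := two_mul_invI la mu
  have hI' := two_mul_invI la' mu'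
  have hJ := invJ_eq la mu
  have hJ' := invJ_eq la' mu'
  have h8 : (2 * W4c6intromoduli.invI (W4c6intromoduli.coef la mu)) ^ 3
      * W4c6intromoduli.invJ (W4c6intromoduli.coef la' mu') ^ 2 =
      (2 * W4c6intromoduli.invI (W4c6intromoduli.coef la' mu')) ^ 3
      * W4c6intromoduli.invJ (W4c6intromoduli.coef la mu) ^ 2 := by
    linear_combination 8 * h
  rw [hI, hI', hJ, hJ'] at h8
  have hA : qA la mu = -qB la mu - qC la mu := by linear_combination hs
  have hA' : qA la' mu' = -qB la' mu' - qC la' mu' := by linear_combination hs'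
  rw [hA, hA'] at h8
  have h216 : (216 : k) ≠ 0 := by
    have : (216 : k) = 2 ^ 3 * 3 ^ 3 := by norm_num
    rw [this]
    exact mul_ne_zero (pow_ne_zero 3 h2) (pow_ne_zero 3 h3)
  have hP : (qB la mu * qC la' mu' - qC la mu * qB la' mu') *
      (qC la mu * qC la' mu' - qB la mu * qB la' mu') *
      ((-qB la mu - qC la mu) * qC la' mu' - qC la mu * qB la' mu') *
      (qC la mu * qC la' mu' - (-qB la mu - qC la mu) * qB la' mu') *
      (qB la mu * qC la' mu' - (-qB la mu - qC la mu) * qB la' mu') *
      ((-qB la mu - qC la mu) * qC la' mu' - qB la mu * qB la' mu') = 0 := by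
    apply mul_left_cancel₀ h216
    rw [mul_zero]
    linear_combination h8
  have hb := binForm_eq la mu
  rcases mul_eq_zero.mp hP with hP | hc6
  · rcases mul_eq_zero.mp hP with hP | hc5
    · rcases mul_eq_zero.mp hP with hP | hc4
      · rcases mul_eq_zero.mp hP with hP | hc3
        · rcases mul_eq_zero.mp hP with hc1 | hc2
          · -- (B, C): identity order
            refine case_apply la mu la' mu' hnz hnz' 1 2 3 (by rw [hb]) (by decide) (by decide)
              (by decide) (by decide) ?_
            simp only [qB, qC] at hc1 ⊢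
            first | linear_combination hc1 | linear_combination -hc1
          · -- (C, B): order 0 1 3 2
            refine case_apply la mu la' mu' hnz hnz' 1 3 2 (by rw [hb]; ring) (by decide)
              (by decide) (by decide) (by decide) ?_
            simp only [qB, qC] at hc2 ⊢
            first | linear_combination hc2 | linear_combination -hc2
        · -- (A, C): order 0 2 1 3
          refine case_apply la mu la' mu' hnz hnz' 2 1 3 (by rw [hb]; ring) (by decide)
            (by decide) (by decide) (by decide) ?_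
          simp only [qB, qC] at hc3 ⊢
          first | linear_combination hc3 | linear_combination -hc3
      · -- (C, A): order 0 2 3 1
        refine case_apply la mu la' mu' hnz hnz' 2 3 1 (by rw [hb]; ring) (by decide)
          (by decide) (by decide) (by decide) ?_
        simp only [qB, qC] at hc4 ⊢
        first | linear_combination hc4 | linear_combination -hc4
    · -- (B, A): order 0 3 2 1
      refine case_apply la mu la' mu' hnz hnz' 3 2 1 (by rw [hb]; ring) (by decide)
        (by decide) (by decide) (by decide) ?_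
      simp only [qB, qC] at hc5 ⊢
      first | linear_combination hc5 | linear_combination -hc5
  · -- (A, B): order 0 3 1 2
    refine case_apply la mu la' mu' hnz hnz' 3 1 2 (by rw [hb]; ring) (by decide)
      (by decide) (by decide) (by decide) ?_
    simp only [qB, qC] at hc6 ⊢
    first | linear_combination hc6 | linear_combination -hc6

end Groth.Agent.H2.Quartic
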