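import Mathlib

set_option autoImplicit false
universe u
open TensorProduct

namespace Groth.Agent.H2

theorem quasiFinite_codescends :
    RingHom.CodescendsAlong (fun {R S : Type u} [CommRing R] [CommRing S] (f : R →+* S) => f.QuasiFinite)
      RingHom.FaithfullyFlat := by
  refine RingHom.CodescendsAlong.mk _ RingHom.QuasiFinite.respectsIso fun R A S _ _ _ _ _ h h' => ?_
  rw [RingHom.faithfullyFlat_algebraMap_iff] at h
  rw [RingHom.quasiFinite_algebraMap] at h' ⊢
  refine ⟨fun p hp => ?_⟩
  -- choose a prime of `A` above `p`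
  obtain ⟨P, hP⟩ := PrimeSpectrum.comap_surjective_of_faithfullyFlat (A := R) (B := A) ⟨p, hp⟩
  obtain ⟨P, hPp⟩ := P
  have hpP : p = P.under R := by
    have := congrArg PrimeSpectrum.asIdeal hP
    exact this.symm
  subst hpP
  let := Localization.AtPrime.algebraOfLiesOver (P.under R) P
  let e : P.Fiber (A ⊗[R] S) ≃ₐ[P.ResidueField]
      P.ResidueField ⊗[(P.under R).ResidueField] ((P.under R).Fiber S) :=
    (Algebra.TensorProduct.cancelBaseChange _ _ _ _ _).trans
      (Algebra.TensorProduct.cancelBaseChange _ _ _ _ _).symm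
  have h1 : Module.Finite P.ResidueField (P.Fiber (A ⊗[R] S)) := inferInstance
  have h2 : Module.Finite P.ResidueField
      (P.ResidueField ⊗[(P.under R).ResidueField] ((P.under R).Fiber S)) :=
    .of_surjective e.toLinearMap e.surjective
  exact Module.Finite.of_finite_tensorProduct_of_faithfullyFlat P.ResidueField

end Groth.Agent.H2
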