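import Mathlib

namespace Groth.Agent.H2.RadPtL

lemma pi_top {F E K : Type*} [Field F] [Field E] [Field K] (f : F →+* E) (g : E →+* K)
    (h : (g.comp f).IsPurelyInseparable) : g.IsPurelyInseparable := by
  algebraize [f, g, g.comp f]
  exact IsPurelyInseparable.tower_top F E K

lemma pi_bot {F E K : Type*} [Field F] [Field E] [Field K] (f : F →+* E) (g : E →+* K)
    (h : (g.comp f).IsPurelyInseparable) : f.IsPurelyInseparable := by
  algebraize [f, g, g.comp f]
  exact IsPurelyInseparable.tower_bot F E K

end Groth.Agent.H2.RadPtL
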