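import Mathlib

set_option autoImplicit false
set_option linter.style.haveILetI false

open Polynomial

namespace Groth.Agent.H2.ResCount

universe u

/-! ### generic counting lemmas -/

theorem fib {V W : Type*} [AddCommGroup V] [AddCommGroup W] [Finite V] [Finite W]
    (L : V → W) (hadd : ∀ x y, L (x + y) = L x + L y) (hsurj : Function.Surjective L)
    (P : W → Prop) :
    Nat.card W * Nat.card {v : V // P (L v)} = Nat.card V * Nat.card {w : W // P w} := by
  classical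
  have hsub : ∀ x y, L (x - y) = L x - L y := by
    intro x y
    have h := hadd (x - y) y
    rw [sub_add_cancel] at h
    exact eq_sub_of_add_eq h.symm
  let s : W → V := Function.surjInv hsurj
  have hs : ∀ w, L (s w) = w := Function.surjInv_eq hsurj
  have hK : ∀ v, L (v - s (L v)) = 0 := by
    intro v
    rw [hsub, hs, sub_self]
  have hR : ∀ (w : W) (k : V), L k = 0 → L (s w + k) = w := by
    intro w k hk
    rw [hadd, hs, hk, add_zero]
  let e1 : V ≃ W × {v : V // L v = 0} :=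
    { toFun := fun v => (L v, ⟨v - s (L v), hK v⟩)
      invFun := fun p => s p.1 + p.2.1
      left_inv := fun v => by
        show s (L v) + (v - s (L v)) = v
        abel
      right_inv := fun p => by
        rcases p with ⟨w, k, hk⟩
        have h1 := hR w k hk
        refine Prod.ext h1 (Subtype.ext ?_)
        show (s w + k) - s (L (s w + k)) = k
        rw [h1, add_sub_cancel_left] }
  let e2 : {v : V // P (L v)} ≃ {w : W // P w} × {v : V // L v = 0} :=
    { toFun := fun v => (⟨L v.1, v.2⟩, ⟨v.1 - s (L v.1), hK v.1⟩)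
      invFun := fun p => ⟨s p.1.1 + p.2.1, by rw [hR _ _ p.2.2]; exact p.1.2⟩
      left_inv := fun v => by
        apply Subtype.ext
        show s (L v.1) + (v.1 - s (L v.1)) = v.1
        abel
      right_inv := fun p => by
        rcases p with ⟨⟨w, hw⟩, k, hk⟩
        have h1 := hR w k hk
        refine Prod.ext (Subtype.ext h1) (Subtype.ext ?_)
        show (s w + k) - s (L (s w + k)) = k
        rw [h1, add_sub_cancel_left] }
  have c1 := Nat.card_congr e1
  have c2 := Nat.card_congr e2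
  rw [Nat.card_prod] at c1 c2
  rw [c1, c2]; ring

theorem card_pair {A B : Type*} [Fintype A] [Finite B] (R : A → B → Prop) :
    Nat.card {p : A × B // R p.1 p.2} = ∑ a : A, Nat.card {b : B // R a b} := by
  rw [Nat.card_congr (Equiv.subtypeProdEquivSigmaSubtype R), Nat.card_sigma]

theorem card_swap {A B : Type*} (R : A → B → Prop) :
    Nat.card {p : A × B // R p.1 p.2} = Nat.card {p : B × A // R p.2 p.1} :=
  Nat.card_congr ((Equiv.prodComm A B).subtypeEquiv (fun _ => Iff.rfl))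

theorem card_scale {F X : Type*} [Field F] [Finite F] [Finite X] (R : X → F) (φ : F → X → X)
    (hR : ∀ c x, c ≠ 0 → R (φ c x) = c * R x)
    (hφ : ∀ c x, c ≠ 0 → φ c⁻¹ (φ c x) = x) :
    Nat.card {x : X // R x ≠ 0} = Nat.card {c : F // c ≠ 0} * Nat.card {x : X // R x = 1} := by
  rw [← Nat.card_prod]
  symm
  apply Nat.card_congr
  exact
    { toFun := fun p => ⟨φ p.1.1 p.2.1, by rw [hR _ _ p.1.2, p.2.2, mul_one]; exact p.1.2⟩
      invFun := fun y => (⟨R y.1, y.2⟩, ⟨φ (R y.1)⁻¹ y.1, by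
        rw [hR _ _ (inv_ne_zero y.2)]; exact inv_mul_cancel₀ y.2⟩)
      left_inv := by
        rintro ⟨⟨c, hc⟩, ⟨x, hx⟩⟩
        have h1 : R (φ c x) = c := by rw [hR c x hc, hx, mul_one]
        refine Prod.ext (Subtype.ext h1) (Subtype.ext ?_)
        show φ (R (φ c x))⁻¹ (φ c x) = x
        rw [h1, hφ c x hc]
      right_inv := by
        rintro ⟨y, hy⟩
        apply Subtype.ext
        show φ (R y) (φ (R y)⁻¹ y) = y
        have h := hφ (R y)⁻¹ (φ (R y)⁻¹ y) (inv_ne_zero hy)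
        have h' := hφ (R y)⁻¹ y (inv_ne_zero hy)
        rw [inv_inv] at h'
        exact h' }

theorem card_ne_zero (F : Type*) [Field F] [Finite F] :
    Nat.card {x : F // x ≠ 0} + 1 = Nat.card F := by
  have h1 : Nat.card {x : F // x ≠ 0} = Nat.card Fˣ := Nat.card_congr unitsEquivNeZero.symm
  have h2 := Nat.card_units F
  haveI : Nonempty F := ⟨0⟩
  have h3 : 0 < Nat.card F := Nat.card_pos
  omega

theorem card_nz_pos (F : Type*) [Field F] [Finite F] : 1 ≤ Nat.card {x : F // x ≠ 0} := by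
  haveI : Nonempty {x : F // x ≠ 0} := ⟨⟨1, one_ne_zero⟩⟩
  exact Nat.card_pos

theorem card_nz_nz (F : Type*) [Field F] [Finite F] :
    Nat.card {w : F × F // w.1 ≠ 0 ∧ w.2 ≠ 0} =
      Nat.card {x : F // x ≠ 0} * Nat.card {x : F // x ≠ 0} := by
  rw [Nat.card_congr (Equiv.subtypeProdEquivProd (p := fun x : F => x ≠ 0) (q := fun x : F => x ≠ 0)),
    Nat.card_prod]

theorem sum_trick {ι : Type*} [Fintype ι] [DecidableEq ι] (i0 : ι) (d : ι → ℕ) (q c : ℕ)
    (h : ∀ i, q * d i + (if i = i0 then c else 0) = c) :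
    q * ∑ i, d i + c = Fintype.card ι * c := by
  have h' := Finset.sum_congr (s₁ := Finset.univ) rfl (fun i _ => h i)
  rw [Finset.sum_add_distrib, ← Finset.mul_sum, Finset.sum_ite_eq', if_pos (Finset.mem_univ _),
    Finset.sum_const, Finset.card_univ, smul_eq_mul] at h'
  exact h'

theorem arith3 (q N c u A : ℕ) (hq : 0 < q) (hN : q * N = A * u) (hc : q * c = q ^ 2 * u) :
    q ^ 2 * N = A * c := by
  apply Nat.eq_of_mul_eq_mul_left hq
  calc q * (q ^ 2 * N) = q ^ 2 * (q * N) := by ring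
    _ = q ^ 2 * (A * u) := by rw [hN]
    _ = A * (q ^ 2 * u) := by ring
    _ = A * (q * c) := by rw [hc]
    _ = q * (A * c) := by ring

theorem arith_M (q u M : ℕ) (hq : u + 1 = q) (h : q * M + q ^ 3 * u = q ^ 5 * u) :
    M = q ^ 2 * u ^ 2 * (u + 2) := by
  subst hq
  apply Nat.eq_of_mul_eq_mul_left (by omega : 0 < u + 1)
  apply Nat.add_right_cancel (m := (u + 1) ^ 3 * u)
  rw [h]; ring

theorem arith_T (q u M T A : ℕ) (hq : u + 1 = q) (hM : M = q ^ 2 * u ^ 2 * (u + 2))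
    (h : q ^ 2 * T = A * M) : T = A * u ^ 2 * (u + 2) := by
  subst hq
  apply Nat.eq_of_mul_eq_mul_left (pow_pos (by omega : 0 < u + 1) 2)
  rw [h, hM]; ring

theorem arith_T1 (u T1 B : ℕ) (hu : 1 ≤ u) (h : u * T1 = B * u ^ 2 * (u + 2)) :
    T1 = B * u * (u + 2) := by
  apply Nat.eq_of_mul_eq_mul_left hu
  rw [h]; ring

theorem final_arith (q u n T : ℕ) (hq : u + 1 = q) (hu : 1 ≤ u)
    (hT : T = q ^ (n + 1) * u ^ 2 * (u + 2)) :
    q ^ (n + 4) - q ^ (n + 3) - q ^ (n + 2) + q ^ (n + 1) = T := by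
  obtain ⟨v, rfl⟩ : ∃ v, u = v + 1 := ⟨u - 1, by omega⟩
  subst hq
  have e4 : (v + 1 + 1) ^ (n + 4) = (v + 1 + 1) ^ (n + 3) + (v + 1 + 1) ^ (n + 2) +
      ((v + 1 + 1) ^ (n + 1) * ((v + 2) * (v ^ 2 + 3 * v + 1))) := by ring
  have e5 : T = (v + 1 + 1) ^ (n + 1) * ((v + 2) * (v ^ 2 + 3 * v + 1)) + (v + 1 + 1) ^ (n + 1) := by
    rw [hT]; ring
  rw [e4, e5]
  omega

theorem final_arith1 (q u n T1 : ℕ) (hq : u + 1 = q) (hT : T1 = q ^ (n + 1) * u * (u + 2)) :
    q ^ (n + 3) - q ^ (n + 1) = T1 := by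
  subst hq
  apply Nat.sub_eq_of_eq_add
  rw [hT]; ring

/-! ### the coefficient-vector polynomial -/

variable {F : Type u} [Field F]

noncomputable def G (n : ℕ) (b : Fin (n + 1) → F) : F[X] :=
  ∑ j : Fin (n + 1), C (b j) * X ^ (j : ℕ)

theorem G_coeff (n : ℕ) (b : Fin (n + 1) → F) (k : ℕ) :
    (G n b).coeff k = if h : k < n + 1 then b ⟨k, h⟩ else 0 := by
  classical
  unfold G
  rw [finsetSum_coeff]
  simp only [coeff_C_mul, coeff_X_pow]
  by_cases h : k < n + 1
  · rw [dif_pos h, Finset.sum_eq_single (⟨k, h⟩ : Fin (n + 1))]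
    · simp
    · intro j _ hj
      have : k ≠ (j : ℕ) := fun e => hj (Fin.ext e.symm)
      simp [this]
    · intro h'; exact absurd (Finset.mem_univ _) h'
  · rw [dif_neg h]
    apply Finset.sum_eq_zero
    intro j _
    have : k ≠ (j : ℕ) := fun e => h (by have := j.2; omega)
    simp [this]

theorem G_natDegree_le (n : ℕ) (b : Fin (n + 1) → F) : (G n b).natDegree ≤ n := by
  unfold G
  apply natDegree_sum_le_of_forall_le
  intro j _
  exact (natDegree_C_mul_X_pow_le _ _).trans (Nat.lt_succ_iff.mp j.2)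

theorem G_of_coeff (n : ℕ) (p : F[X]) (hp : p.natDegree ≤ n) :
    G n (fun j => p.coeff j) = p := by
  ext k
  rw [G_coeff]
  by_cases h : k < n + 1
  · rw [dif_pos h]
  · rw [dif_neg h]; exact (coeff_eq_zero_of_natDegree_lt (by omega)).symm

theorem G_add (n : ℕ) (x y : Fin (n + 1) → F) : G n (x + y) = G n x + G n y := by
  simp only [G, Pi.add_apply, C_add, add_mul, Finset.sum_add_distrib]

theorem G_smul (n : ℕ) (c : F) (b : Fin (n + 1) → F) : G n (c • b) = C c * G n b := by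
  simp only [G, Pi.smul_apply, smul_eq_mul, C_mul, Finset.mul_sum, mul_assoc]

theorem G_two (a : Fin 3 → F) : G 2 a = C (a 0) + C (a 1) * X + C (a 2) * X ^ 2 := by
  show ∑ j : Fin 3, C (a j) * X ^ (j : ℕ) = _
  rw [Fin.sum_univ_three]; simp

theorem fibG [Finite F] {W : Type*} [AddCommGroup W] [Finite W] (n : ℕ) (Λ : F[X] → W)
    (hadd : ∀ p q, Λ (p + q) = Λ p + Λ q)
    (hsurj : ∀ w, ∃ p : F[X], p.natDegree ≤ n ∧ Λ p = w) (P : W → Prop) :
    Nat.card W * Nat.card {b : Fin (n + 1) → F // P (Λ (G n b))} =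
      Nat.card F ^ (n + 1) * Nat.card {w : W // P w} := by
  have h := fib (fun b : Fin (n + 1) → F => Λ (G n b))
    (fun x y => by simp only [G_add, hadd])
    (fun w => by
      obtain ⟨p, hp, rfl⟩ := hsurj w
      refine ⟨fun j => p.coeff j, ?_⟩
      show Λ (G n fun j => p.coeff j) = Λ p
      rw [G_of_coeff n p hp]) P
  rw [Nat.card_fun, Nat.card_fin] at h
  exact h

/-! ### resultant computations -/

def Q (a0 a1 a2 s0 s1 : F) : F := a2 * s0 ^ 2 - a1 * s0 * s1 + a0 * s1 ^ 2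

theorem res_two_one (a0 a1 a2 s0 s1 : F) :
    resultant (C a0 + C a1 * X + C a2 * X ^ 2) (C s0 + C s1 * X) 2 1 = Q a0 a1 a2 s0 s1 := by
  simp [resultant, sylvester, Matrix.det_fin_three, Fin.addCases, coeff_X, coeff_C, Q]
  ring

theorem fprime_facts (a : Fin 3 → F) (h : a 2 ≠ 0) :
    (G 2 a).coeff 2 = a 2 ∧ (C (a 2)⁻¹ * G 2 a).Monic ∧ (C (a 2)⁻¹ * G 2 a).natDegree = 2 := by
  have hc2 : (G 2 a).coeff 2 = a 2 := by
    rw [G_coeff, dif_pos (by norm_num : (2 : ℕ) < 2 + 1)]; rfl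
  have hnd : (G 2 a).natDegree = 2 :=
    natDegree_eq_of_le_of_coeff_ne_zero (G_natDegree_le 2 a) (by rw [hc2]; exact h)
  refine ⟨hc2, ?_, ?_⟩
  · apply monic_C_mul_of_mul_leadingCoeff_eq_one
    rw [leadingCoeff, hnd, hc2]; exact inv_mul_cancel₀ h
  · rw [natDegree_C_mul (inv_ne_zero h), hnd]

theorem res_reduce (f g f' : F[X]) (k : ℕ) (hk : 1 ≤ k) (hf : f.natDegree ≤ 2) (c : F)
    (hf' : f' = C c * f) (hmonic : f'.Monic) (hdeg' : f'.natDegree = 2)
    (hg : g.natDegree ≤ 1 + k) :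
    (g %ₘ f').natDegree ≤ 1 ∧
      resultant f g 2 (1 + k) = f.coeff 2 ^ k * resultant f (g %ₘ f') 2 1 := by
  have hne1 : f' ≠ 1 := by
    intro h; rw [h, natDegree_one] at hdeg'; omega
  have hr : (g %ₘ f').natDegree ≤ 1 := by
    have := natDegree_modByMonic_lt g hmonic hne1
    omega
  refine ⟨hr, ?_⟩
  have hq : (g /ₘ f').natDegree + 2 ≤ 1 + k := by
    rw [natDegree_divByMonic g hmonic, hdeg']; omega
  have hp : (C c * (g /ₘ f')).natDegree + 2 ≤ 1 + k := by
    have := natDegree_C_mul_le c (g /ₘ f'); omega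
  have hdecomp : g %ₘ f' + f * (C c * (g /ₘ f')) = g := by
    have h := modByMonic_add_div g f'
    have e : f * (C c * (g /ₘ f')) = f' * (g /ₘ f') := by rw [hf']; ring
    rw [e]; exact h
  have h1 := resultant_add_mul_right f (g %ₘ f') (C c * (g /ₘ f')) 2 (1 + k) hp hf
  rw [hdecomp] at h1
  rw [h1, resultant_add_right_deg f (g %ₘ f') 2 1 k hr]

theorem res_case1 (a : Fin 3 → F) (h : a 2 ≠ 0) (k : ℕ) (hk : 1 ≤ k) (g : F[X])
    (hg : g.natDegree ≤ 1 + k) :
    resultant (G 2 a) g 2 (1 + k) = a 2 ^ k *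
      Q (a 0) (a 1) (a 2) ((g %ₘ (C (a 2)⁻¹ * G 2 a)).coeff 0)
        ((g %ₘ (C (a 2)⁻¹ * G 2 a)).coeff 1) := by
  obtain ⟨hc2, hmonic, hdeg'⟩ := fprime_facts a h
  obtain ⟨hr, hres⟩ := res_reduce (G 2 a) g (C (a 2)⁻¹ * G 2 a) k hk (G_natDegree_le 2 a)
    (a 2)⁻¹ rfl hmonic hdeg' hg
  rw [hres, hc2]
  congr 1
  obtain ⟨s0, s1, hs⟩ : ∃ s0 s1, g %ₘ (C (a 2)⁻¹ * G 2 a) = C s0 + C s1 * X :=
    ⟨_, _, (eq_X_add_C_of_natDegree_le_one hr).trans (add_comm _ _)⟩
  have e0 : (C s0 + C s1 * X : F[X]).coeff 0 = s0 := by simp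
  have e1 : (C s0 + C s1 * X : F[X]).coeff 1 = s1 := by simp [coeff_C]
  rw [hs, e0, e1, G_two, res_two_one]

theorem res_case2 (a : Fin 3 → F) (h2 : a 2 = 0) (h1 : a 1 ≠ 0) (n : ℕ) (g : F[X])
    (hg : g.natDegree ≤ n) :
    resultant (G 2 a) g 2 n ≠ 0 ↔ (g.coeff n ≠ 0 ∧ eval (-(a 0 / a 1)) g ≠ 0) := by
  have hf1 : G 2 a = C (a 1) * (X + C (a 0 / a 1)) := by
    have e : a 1 * (a 0 / a 1) = a 0 := by field_simp
    rw [G_two, h2, mul_add, ← C_mul, e, C_0, zero_mul, add_zero, add_comm]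
  have hdeg1 : (C (a 1) * (X + C (a 0 / a 1))).natDegree ≤ 1 :=
    (natDegree_C_mul_le _ _).trans (natDegree_X_add_C _).le
  have e1 : resultant (G 2 a) g 2 n =
      (-1) ^ n * g.coeff n * (a 1 ^ n * eval (-(a 0 / a 1)) g) := by
    rw [hf1]
    have h := resultant_succ_left_deg (C (a 1) * (X + C (a 0 / a 1))) g 1 n hdeg1
    rw [resultant_C_mul_left (X + C (a 0 / a 1)) g 1 n (a 1), resultant_X_add_C_left g n _ hg] at h
    exact h
  rw [e1]
  have hm : ((-1 : F)) ^ n ≠ 0 := pow_ne_zero _ (neg_ne_zero.mpr one_ne_zero)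
  have ha : a 1 ^ n ≠ 0 := pow_ne_zero _ h1
  constructor
  · intro h
    exact ⟨fun h0 => h (by rw [h0]; ring), fun h0 => h (by rw [h0]; ring)⟩
  · rintro ⟨h3, h4⟩
    exact mul_ne_zero (mul_ne_zero hm h3) (mul_ne_zero ha h4)

/-! ### the fibrewise count (L1) -/

theorem L1 [Finite F] (a : Fin 3 → F) (n : ℕ) (hn : 2 ≤ n) :
    Nat.card F ^ 2 *
      Nat.card {b : Fin (n + 1) → F // resultant (G 2 a) (G n b) 2 n ≠ 0} =
    Nat.card F ^ (n + 1) *
      Nat.card {w : F × F // Q (a 0) (a 1) (a 2) w.1 w.2 ≠ 0} := by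
  classical
  obtain ⟨k, rfl⟩ : ∃ k, n = 1 + k := ⟨n - 1, by omega⟩
  have hk : 1 ≤ k := by omega
  haveI : Nonempty F := ⟨0⟩
  have hqpos : 0 < Nat.card F := Nat.card_pos
  by_cases h2 : a 2 = 0
  · by_cases h1 : a 1 = 0
    · by_cases h0 : a 0 = 0
      · -- a = 0
        have hG : G 2 a = 0 := by rw [G_two, h2, h1, h0]; simp
        have hz : (0 : F) ^ (1 + k) = 0 := zero_pow (by omega)
        have e1 : IsEmpty {b : Fin (1 + k + 1) → F //
            resultant (G 2 a) (G (1 + k) b) 2 (1 + k) ≠ 0} :=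
          Subtype.isEmpty_of_false (fun b hb => hb (by
            rw [hG, resultant_zero_left, hz, zero_mul]))
        have e2 : IsEmpty {w : F × F // Q (a 0) (a 1) (a 2) w.1 w.2 ≠ 0} :=
          Subtype.isEmpty_of_false (fun w hw => hw (by rw [h2, h1, h0]; simp [Q]))
        rw [@Nat.card_of_isEmpty _ e1, @Nat.card_of_isEmpty _ e2, mul_zero, mul_zero]
      · -- a = (a0, 0, 0), a0 ≠ 0
        have hG : G 2 a = C (a 0) := by rw [G_two, h2, h1]; simp
        have hres : ∀ g : F[X], (resultant (G 2 a) g 2 (1 + k) ≠ 0 ↔ g.coeff (1 + k) ≠ 0) := by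
          intro g
          rw [hG, resultant_C_left]
          constructor
          · intro h h'; apply h; rw [h']; simp
          · intro h
            exact mul_ne_zero (mul_ne_zero (pow_ne_zero _ (neg_ne_zero.mpr one_ne_zero))
              (pow_ne_zero _ h)) (pow_ne_zero _ h0)
        have hfib := fibG (F := F) (W := F) (1 + k) (fun p => p.coeff (1 + k))
          (fun p q => coeff_add p q _)
          (fun s => ⟨C s * X ^ (1 + k), natDegree_C_mul_X_pow_le _ _, by simp⟩)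
          (fun t => t ≠ 0)
        have hN : Nat.card F * Nat.card {b : Fin (1 + k + 1) → F //
            resultant (G 2 a) (G (1 + k) b) 2 (1 + k) ≠ 0} =
            Nat.card F ^ (1 + k + 1) * Nat.card {x : F // x ≠ 0} := by
          rw [Nat.card_congr (Equiv.subtypeEquivRight (fun b => hres (G (1 + k) b)))]
          exact hfib
        have hfc := fib (V := F × F) (W := F) (fun w => w.2) (fun x y => rfl)
          (fun s => ⟨(0, s), rfl⟩) (fun t => t ≠ 0)
        have hc : Nat.card F * Nat.card {w : F × F // Q (a 0) (a 1) (a 2) w.1 w.2 ≠ 0} =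
            Nat.card F ^ 2 * Nat.card {x : F // x ≠ 0} := by
          have hiff : ∀ w : F × F, (Q (a 0) (a 1) (a 2) w.1 w.2 ≠ 0 ↔ w.2 ≠ 0) := by
            intro w
            have : Q (a 0) (a 1) (a 2) w.1 w.2 = a 0 * w.2 ^ 2 := by
              rw [h2, h1]; unfold Q; ring
            rw [this]
            exact ⟨fun h h' => h (by rw [h']; ring), fun h => mul_ne_zero h0 (pow_ne_zero _ h)⟩
          rw [Nat.card_congr (Equiv.subtypeEquivRight hiff)]
          rw [Nat.card_prod] at hfc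
          rw [pow_two]; exact hfc
        exact arith3 _ _ _ _ _ hqpos hN hc
    · -- a2 = 0, a1 ≠ 0
      have h1' : a 1 ≠ 0 := h1
      have hfib := fibG (F := F) (W := F × F) (1 + k)
        (fun p => (p.coeff (1 + k), eval (-(a 0 / a 1)) p))
        (fun p q => by simp only [coeff_add, eval_add, Prod.mk_add_mk])
        (fun w => by
          obtain ⟨s, t⟩ := w
          refine ⟨C s * X ^ (1 + k) + C (t - s * (-(a 0 / a 1)) ^ (1 + k)), ?_, ?_⟩
          · exact natDegree_add_le_of_degree_le (natDegree_C_mul_X_pow_le _ _)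
              (by rw [natDegree_C]; omega)
          · refine Prod.ext ?_ ?_
            · show (C s * X ^ (1 + k) + C (t - s * (-(a 0 / a 1)) ^ (1 + k))).coeff (1 + k) = s
              rw [coeff_add, coeff_C_mul, coeff_X_pow, if_pos rfl, mul_one,
                coeff_C_of_ne_zero (by omega), add_zero]
            · simp)
        (fun w => w.1 ≠ 0 ∧ w.2 ≠ 0)
      have hN : Nat.card F ^ 2 * Nat.card {b : Fin (1 + k + 1) → F //
          resultant (G 2 a) (G (1 + k) b) 2 (1 + k) ≠ 0} =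
          Nat.card F ^ (1 + k + 1) *
            (Nat.card {x : F // x ≠ 0} * Nat.card {x : F // x ≠ 0}) := by
        rw [Nat.card_congr (Equiv.subtypeEquivRight
          (fun b => res_case2 a h2 h1' (1 + k) (G (1 + k) b) (G_natDegree_le _ _)))]
        simp only [Nat.card_prod] at hfib
        rw [pow_two, ← card_nz_nz]
        exact hfib
      have hc : Nat.card {w : F × F // Q (a 0) (a 1) (a 2) w.1 w.2 ≠ 0} =
          Nat.card {x : F // x ≠ 0} * Nat.card {x : F // x ≠ 0} := by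
        have hf := fib (V := F × F) (W := F × F) (fun w => (w.2, a 0 * w.2 - a 1 * w.1))
          (fun x y => Prod.ext (by simp) (by simp only [Prod.fst_add, Prod.snd_add]; ring))
          (fun w => ⟨((a 0 * w.1 - w.2) / a 1, w.1), Prod.ext rfl (by
            have e : a 1 * ((a 0 * w.1 - w.2) / a 1) = a 0 * w.1 - w.2 := by field_simp
            show a 0 * w.1 - a 1 * ((a 0 * w.1 - w.2) / a 1) = w.2
            rw [e]; ring)⟩)
          (fun w => w.1 ≠ 0 ∧ w.2 ≠ 0)
        have hiff : ∀ w : F × F, (Q (a 0) (a 1) (a 2) w.1 w.2 ≠ 0 ↔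
            (w.2 ≠ 0 ∧ a 0 * w.2 - a 1 * w.1 ≠ 0)) := by
          intro w
          have : Q (a 0) (a 1) (a 2) w.1 w.2 = w.2 * (a 0 * w.2 - a 1 * w.1) := by
            rw [h2]; unfold Q; ring
          rw [this, Ne, mul_eq_zero, not_or]
        rw [Nat.card_congr (Equiv.subtypeEquivRight hiff), ← card_nz_nz]
        haveI : Nonempty (F × F) := ⟨0⟩
        exact Nat.eq_of_mul_eq_mul_left (Nat.card_pos (α := F × F)) hf
      rw [hN, hc]
  · -- a2 ≠ 0
    obtain ⟨hc2, hmonic, hdeg'⟩ := fprime_facts a h2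
    have hfib := fibG (F := F) (W := F × F) (1 + k)
      (fun p => ((p %ₘ (C (a 2)⁻¹ * G 2 a)).coeff 0, (p %ₘ (C (a 2)⁻¹ * G 2 a)).coeff 1))
      (fun p q => by simp only [add_modByMonic, coeff_add, Prod.mk_add_mk])
      (fun w => by
        obtain ⟨s0, s1⟩ := w
        have hle : (C s0 + C s1 * X : F[X]).natDegree ≤ 1 :=
          natDegree_add_le_of_degree_le (by rw [natDegree_C]; omega)
            ((natDegree_C_mul_le _ _).trans natDegree_X_le)
        refine ⟨C s0 + C s1 * X, by omega, ?_⟩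
        have hlt : (C s0 + C s1 * X : F[X]).degree < (C (a 2)⁻¹ * G 2 a).degree := by
          apply degree_lt_degree
          rw [hdeg']; omega
        show (((C s0 + C s1 * X) %ₘ (C (a 2)⁻¹ * G 2 a)).coeff 0,
          ((C s0 + C s1 * X) %ₘ (C (a 2)⁻¹ * G 2 a)).coeff 1) = (s0, s1)
        rw [(modByMonic_eq_self_iff hmonic).2 hlt]
        refine Prod.ext ?_ ?_
        · simp
        · simp [coeff_C])
      (fun w => Q (a 0) (a 1) (a 2) w.1 w.2 ≠ 0)
    have hcongr : ∀ b : Fin (1 + k + 1) → F,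
        (resultant (G 2 a) (G (1 + k) b) 2 (1 + k) ≠ 0 ↔
          Q (a 0) (a 1) (a 2) ((G (1 + k) b %ₘ (C (a 2)⁻¹ * G 2 a)).coeff 0)
            ((G (1 + k) b %ₘ (C (a 2)⁻¹ * G 2 a)).coeff 1) ≠ 0) := by
      intro b
      rw [res_case1 a h2 k hk (G (1 + k) b) (G_natDegree_le _ _)]
      exact ⟨fun h => right_ne_zero_of_mul h, fun h => mul_ne_zero (pow_ne_zero _ h2) h⟩
    rw [Nat.card_congr (Equiv.subtypeEquivRight hcongr)]
    simp only [Nat.card_prod] at hfib
    rw [pow_two]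
    exact hfib

/-! ### summing over the quadratic form (L2) -/

theorem L2 [Fintype F] :
    Nat.card F *
      Nat.card {p : (Fin 3 → F) × (F × F) // Q (p.1 0) (p.1 1) (p.1 2) p.2.1 p.2.2 ≠ 0}
      + Nat.card F ^ 3 * Nat.card {x : F // x ≠ 0} =
      Nat.card F ^ 5 * Nat.card {x : F // x ≠ 0} := by
  classical
  have hsw : Nat.card {p : (Fin 3 → F) × (F × F) // Q (p.1 0) (p.1 1) (p.1 2) p.2.1 p.2.2 ≠ 0} =
      Nat.card {p : (F × F) × (Fin 3 → F) // Q (p.2 0) (p.2 1) (p.2 2) p.1.1 p.1.2 ≠ 0} :=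
    card_swap (fun (a : Fin 3 → F) (w : F × F) => Q (a 0) (a 1) (a 2) w.1 w.2 ≠ 0)
  have hsum : Nat.card {p : (F × F) × (Fin 3 → F) //
      Q (p.2 0) (p.2 1) (p.2 2) p.1.1 p.1.2 ≠ 0} =
      ∑ w : F × F, Nat.card {a : Fin 3 → F // Q (a 0) (a 1) (a 2) w.1 w.2 ≠ 0} :=
    card_pair (fun (w : F × F) (a : Fin 3 → F) => Q (a 0) (a 1) (a 2) w.1 w.2 ≠ 0)
  have hpt : ∀ w : F × F,
      Nat.card F * Nat.card {a : Fin 3 → F // Q (a 0) (a 1) (a 2) w.1 w.2 ≠ 0}
      + (if w = 0 then Nat.card F ^ 3 * Nat.card {x : F // x ≠ 0} else 0) =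
      Nat.card F ^ 3 * Nat.card {x : F // x ≠ 0} := by
    intro w
    by_cases hw : w = 0
    · subst hw
      have hE : IsEmpty {a : Fin 3 → F //
          Q (a 0) (a 1) (a 2) (0 : F × F).1 (0 : F × F).2 ≠ 0} :=
        Subtype.isEmpty_of_false (fun a ha => ha (by simp [Q]))
      rw [@Nat.card_of_isEmpty _ hE, if_pos rfl, mul_zero, zero_add]
    · rw [if_neg hw, add_zero]
      have hsurj : Function.Surjective
          (fun a : Fin 3 → F => Q (a 0) (a 1) (a 2) w.1 w.2) := by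
        intro t
        by_cases h1 : w.1 = 0
        · have h2 : w.2 ≠ 0 := fun h2 => hw (Prod.ext h1 h2)
          refine ⟨![t * (w.2 ^ 2)⁻¹, 0, 0], ?_⟩
          show Q (t * (w.2 ^ 2)⁻¹) 0 0 w.1 w.2 = t
          unfold Q
          rw [zero_mul, zero_mul, zero_mul, sub_zero, zero_add, mul_assoc,
            inv_mul_cancel₀ (pow_ne_zero 2 h2), mul_one]
        · refine ⟨![0, 0, t * (w.1 ^ 2)⁻¹], ?_⟩
          show Q 0 0 (t * (w.1 ^ 2)⁻¹) w.1 w.2 = t
          unfold Q
          rw [zero_mul, zero_mul, zero_mul, sub_zero, add_zero, mul_assoc,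
            inv_mul_cancel₀ (pow_ne_zero 2 h1), mul_one]
      have hf := fib (V := Fin 3 → F) (W := F) (fun a => Q (a 0) (a 1) (a 2) w.1 w.2)
        (fun x y => by simp only [Q, Pi.add_apply]; ring) hsurj (fun t => t ≠ 0)
      rw [Nat.card_fun, Nat.card_fin] at hf
      exact hf
  have hst : Nat.card F * ∑ w : F × F,
      Nat.card {a : Fin 3 → F // Q (a 0) (a 1) (a 2) w.1 w.2 ≠ 0}
      + Nat.card F ^ 3 * Nat.card {x : F // x ≠ 0} =
      Fintype.card (F × F) * (Nat.card F ^ 3 * Nat.card {x : F // x ≠ 0}) :=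
    sum_trick (0 : F × F)
      (fun w => Nat.card {a : Fin 3 → F // Q (a 0) (a 1) (a 2) w.1 w.2 ≠ 0})
      (Nat.card F) (Nat.card F ^ 3 * Nat.card {x : F // x ≠ 0}) hpt
  rw [Fintype.card_prod, ← Nat.card_eq_fintype_card] at hst
  rw [hsw, hsum, hst]; ring

theorem total_count [Fintype F] (n : ℕ) (hn : 2 ≤ n) :
    Nat.card {p : (Fin 3 → F) × (Fin (n + 1) → F) //
        resultant (G 2 p.1) (G n p.2) 2 n ≠ 0} =
      Nat.card F ^ (n + 1) * Nat.card {x : F // x ≠ 0} ^ 2 *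
        (Nat.card {x : F // x ≠ 0} + 2) := by
  classical
  have hT : Nat.card {p : (Fin 3 → F) × (Fin (n + 1) → F) //
        resultant (G 2 p.1) (G n p.2) 2 n ≠ 0} =
      ∑ a : Fin 3 → F, Nat.card {b : Fin (n + 1) → F // resultant (G 2 a) (G n b) 2 n ≠ 0} :=
    card_pair (fun (a : Fin 3 → F) (b : Fin (n + 1) → F) => resultant (G 2 a) (G n b) 2 n ≠ 0)
  have hM : Nat.card {p : (Fin 3 → F) × (F × F) //
        Q (p.1 0) (p.1 1) (p.1 2) p.2.1 p.2.2 ≠ 0} =
      ∑ a : Fin 3 → F, Nat.card {w : F × F // Q (a 0) (a 1) (a 2) w.1 w.2 ≠ 0} :=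
    card_pair (fun (a : Fin 3 → F) (w : F × F) => Q (a 0) (a 1) (a 2) w.1 w.2 ≠ 0)
  have h1 : Nat.card F ^ 2 * Nat.card {p : (Fin 3 → F) × (Fin (n + 1) → F) //
        resultant (G 2 p.1) (G n p.2) 2 n ≠ 0} =
      Nat.card F ^ (n + 1) * Nat.card {p : (Fin 3 → F) × (F × F) //
        Q (p.1 0) (p.1 1) (p.1 2) p.2.1 p.2.2 ≠ 0} := by
    rw [hT, hM, Finset.mul_sum, Finset.mul_sum]
    exact Finset.sum_congr rfl (fun a _ => L1 a n hn)
  exact arith_T _ _ _ _ _ (card_ne_zero F) (arith_M _ _ _ (card_ne_zero F) L2) h1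

/-! ### the two statements -/

theorem main925 (F : Type u) [Field F] [Fintype F] (n : ℕ) (h2 : 2 ≤ n) :
    Nat.card {p : (Fin 3 → F) × (Fin (n + 1) → F) //
      Polynomial.resultant (∑ i : Fin 3, Polynomial.C (p.1 i) * Polynomial.X ^ (i : ℕ))
        (∑ j : Fin (n + 1), Polynomial.C (p.2 j) * Polynomial.X ^ (j : ℕ)) 2 n ≠ 0} =
      Fintype.card F ^ (n + 4) - Fintype.card F ^ (n + 3) - Fintype.card F ^ (n + 2) +
        Fintype.card F ^ (n + 1) := by
  have hT := total_count (F := F) n h2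
  rw [← Nat.card_eq_fintype_card]
  exact (final_arith _ _ _ _ (card_ne_zero F) (card_nz_pos F) hT).symm

theorem main924 (F : Type u) [Field F] [Fintype F] (n : ℕ) (hn : Odd n) (h3 : 3 ≤ n) :
    Nat.card {p : (Fin 3 → F) × (Fin (n + 1) → F) //
      Polynomial.resultant (∑ i : Fin 3, Polynomial.C (p.1 i) * Polynomial.X ^ (i : ℕ))
        (∑ j : Fin (n + 1), Polynomial.C (p.2 j) * Polynomial.X ^ (j : ℕ)) 2 n = 1} =
      Fintype.card F ^ (n + 3) - Fintype.card F ^ (n + 1) := by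
  classical
  obtain ⟨k', hk'⟩ := hn
  have hT := total_count (F := F) n (by omega)
  have hsc := card_scale (F := F) (X := (Fin 3 → F) × (Fin (n + 1) → F))
    (fun p => resultant (G 2 p.1) (G n p.2) 2 n)
    (fun c p => (c • p.1, (c⁻¹) ^ k' • p.2))
    (by
      intro c p hc
      show resultant (G 2 (c • p.1)) (G n ((c⁻¹) ^ k' • p.2)) 2 n =
        c * resultant (G 2 p.1) (G n p.2) 2 n
      rw [G_smul, G_smul, resultant_C_mul_left, resultant_C_mul_right, ← mul_assoc]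
      congr 1
      rw [hk', ← pow_mul, pow_succ, mul_comm k' 2, mul_right_comm, ← mul_pow,
        mul_inv_cancel₀ hc, one_pow, one_mul])
    (by
      intro c p hc
      show ((c⁻¹) • (c • p.1), ((c⁻¹)⁻¹) ^ k' • ((c⁻¹) ^ k' • p.2)) = p
      rw [smul_smul, smul_smul, inv_mul_cancel₀ hc, one_smul, ← mul_pow,
        inv_mul_cancel₀ (inv_ne_zero hc), one_pow, one_smul])
  have h5 : Nat.card {c : F // c ≠ 0} *
      Nat.card {p : (Fin 3 → F) × (Fin (n + 1) → F) // resultant (G 2 p.1) (G n p.2) 2 n = 1} =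
      Nat.card F ^ (n + 1) * Nat.card {x : F // x ≠ 0} ^ 2 *
        (Nat.card {x : F // x ≠ 0} + 2) := hsc.symm.trans hT
  have h6 := arith_T1 _ _ _ (card_nz_pos F) h5
  rw [← Nat.card_eq_fintype_card]
  exact (final_arith1 _ _ _ _ (card_ne_zero F) h6).symm

end Groth.Agent.H2.ResCount
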