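import Mathlib

set_option autoImplicit false

/-!
Trace of `h²` on a direct sum of irreducible `sl₂`-modules (helper for S17468).
-/

universe u v w

namespace Groth.Agent.H2.Sl2Trace

open LieModule

theorem sum_sq_gen (N : ℕ) (a : ℤ) :
    3 * ∑ j ∈ Finset.range N, (a - 2 * (j : ℤ)) ^ 2 =
      3 * N * a ^ 2 - 6 * a * N * ((N : ℤ) - 1) + 2 * N * ((N : ℤ) - 1) * (2 * N - 1) := by
  induction N with
  | zero => simp
  | succ N ih =>
    rw [Finset.sum_range_succ, mul_add, ih]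
    push_cast
    ring

theorem six_choose (n : ℕ) : (6 : ℤ) * ((n + 2).choose 3 : ℤ) = n * (n + 1) * (n + 2) := by
  have h1 := Nat.add_one_mul_choose_eq (n + 1) 2
  have h2 := Nat.add_one_mul_choose_eq n 1
  rw [Nat.choose_one_right] at h2
  have h1' : ((n : ℤ) + 1 + 1) * ((n + 1).choose 2 : ℤ) = ((n + 1 + 1).choose 3 : ℤ) * 3 := by
    exact_mod_cast h1
  have h2' : ((n : ℤ) + 1) * n = ((n + 1).choose 2 : ℤ) * 2 := by exact_mod_cast h2
  have e : n + 2 = n + 1 + 1 := rfl
  rw [e]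
  linear_combination (-2 : ℤ) * h1' - ((n : ℤ) + 2) * h2'

theorem sum_sq (k : Type u) [Field k] [CharZero k] (n : ℕ) :
    ∑ j ∈ Finset.range (n + 1), ((n : k) - 2 * (j : k)) ^ 2 = 2 * (((n + 1 + 1).choose 3 : ℕ) : k) := by
  have h1 := sum_sq_gen (n + 1) (n : ℤ)
  have h2 := six_choose n
  have h3 : ∑ j ∈ Finset.range (n + 1), ((n : ℤ) - 2 * (j : ℤ)) ^ 2 =
      2 * ((n + 1 + 1).choose 3 : ℤ) := by
    have e : n + 2 = n + 1 + 1 := rfl
    rw [e] at h2
    push_cast at h1
    linarith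
  have h4 := congrArg (Int.cast : ℤ → k) h3
  push_cast at h4
  exact h4

section irr

variable (k : Type u) [Field k] [IsAlgClosed k] [CharZero k]
  (L : Type v) [LieRing L] [LieAlgebra k L]
  (h e f : L) (t : IsSl2Triple h e f) (hspan : t.toLieSubalgebra k = ⊤)

include hspan

theorem trace_sq_irreducible
    (M : Type w) [AddCommGroup M] [Module k M] [LieRingModule L M] [LieModule k L M]
    [FiniteDimensional k M] [LieModule.IsIrreducible k L M] :
    LinearMap.trace k M ((LieModule.toEnd k L M h) ^ 2) =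
      2 * (((Module.finrank k M + 1).choose 3 : ℕ) : k) := by
  have : Nontrivial M := (LieSubmodule.nontrivial_iff k L M).mp inferInstance
  obtain ⟨μ, m, hm0, P⟩ := t.exists_hasPrimitiveVectorWith (R := k) (M := M)
  obtain ⟨n, rfl⟩ := P.exists_nat
  obtain ⟨ψ, hψ⟩ : ∃ ψ : ℕ → M, ψ = fun j => ((LieModule.toEnd k L M f) ^ j) m := ⟨_, rfl⟩
  have hh : ∀ j : ℕ, ⁅h, ψ j⁆ = ((n : k) - 2 * (j : k)) • ψ j := by
    intro j; rw [hψ]; exact P.lie_h_pow_toEnd_f j
  have hf' : ∀ j : ℕ, ⁅f, ψ j⁆ = ψ (j + 1) := by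
    intro j; rw [hψ]; exact P.lie_f_pow_toEnd_f j
  have he0 : ⁅e, ψ 0⁆ = 0 := by
    rw [hψ]; simpa using P.lie_e
  have he' : ∀ j : ℕ, ⁅e, ψ (j + 1)⁆ = (((j : k) + 1) * ((n : k) - j)) • ψ j := by
    intro j; rw [hψ]; exact P.lie_e_pow_succ_toEnd_f j
  have hz : ψ (n + 1) = 0 := by
    rw [hψ]; exact P.pow_toEnd_f_eq_zero_of_eq_nat rfl
  have hne : ∀ j : ℕ, j ≤ n → ψ j ≠ 0 := by
    intro j hj; rw [hψ]; exact P.pow_toEnd_f_ne_zero_of_eq_nat rfl hj
  obtain ⟨S, hSdef⟩ : ∃ S : Submodule k M,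
      S = Submodule.span k (Set.range (fun j : Fin (n + 1) => ψ j)) := ⟨_, rfl⟩
  have hmem : ∀ j : ℕ, j ≤ n → ψ j ∈ S := fun j hj => by
    rw [hSdef]; exact Submodule.subset_span ⟨⟨j, Nat.lt_succ_of_le hj⟩, rfl⟩
  have hmemS : ∀ j : ℕ, j ≤ n + 1 → ψ j ∈ S := by
    intro j hj
    rcases Nat.lt_or_ge j (n + 1) with h1 | h1
    · exact hmem j (by omega)
    · have : j = n + 1 := by omega
      rw [this, hz]; exact S.zero_mem
  have hstab : ∀ y : L, (∀ j : Fin (n + 1), ⁅y, ψ j⁆ ∈ S) → ∀ x ∈ S, ⁅y, x⁆ ∈ S := by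
    intro y hy x hx
    have hle : S ≤ S.comap (LieModule.toEnd k L M y) := by
      conv_lhs => rw [hSdef]
      refine Submodule.span_le.2 ?_
      rintro _ ⟨j, rfl⟩
      exact hy j
    exact hle hx
  have hE : ∀ j : Fin (n + 1), ⁅e, ψ j⁆ ∈ S := by
    intro j
    obtain ⟨j, hj⟩ := j
    show ⁅e, ψ j⁆ ∈ S
    cases j with
    | zero => rw [he0]; exact S.zero_mem
    | succ j => rw [he' j]; exact S.smul_mem _ (hmem j (by omega))
  have hF : ∀ j : Fin (n + 1), ⁅f, ψ j⁆ ∈ S := fun j => by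
    rw [hf']; exact hmemS _ (by have := j.2; omega)
  have hH : ∀ j : Fin (n + 1), ⁅h, ψ j⁆ ∈ S := fun j => by
    rw [hh]; exact S.smul_mem _ (hmem j (by have := j.2; omega))
  let N : LieSubmodule k L M :=
    { S with
      lie_mem := by
        intro x m' hm'
        show ⁅x, m'⁆ ∈ S
        have hx : x ∈ t.toLieSubalgebra k := by rw [hspan]; exact LieSubalgebra.mem_top x
        obtain ⟨c₁, c₂, c₃, rfl⟩ := IsSl2Triple.mem_toLieSubalgebra_iff.mp hx
        rw [add_lie, add_lie, smul_lie, smul_lie, smul_lie, t.lie_e_f]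
        exact S.add_mem (S.add_mem (S.smul_mem _ (hstab e hE _ hm'))
          (S.smul_mem _ (hstab f hF _ hm'))) (S.smul_mem _ (hstab h hH _ hm')) }
  have hN : N = ⊤ := by
    refine (IsSimpleOrder.eq_bot_or_eq_top N).resolve_left fun hbot => ?_
    have h0 : ψ 0 ∈ N := hmem 0 (Nat.zero_le n)
    rw [hbot, LieSubmodule.mem_bot] at h0
    exact hne 0 (Nat.zero_le _) h0
  have hS : S = ⊤ := by
    have h1 := congrArg LieSubmodule.toSubmodule hN
    rw [LieSubmodule.top_toSubmodule] at h1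
    exact h1
  have hli : LinearIndependent k (fun j : Fin (n + 1) => ψ j) := by
    apply Module.End.eigenvectors_linearIndependent' (LieModule.toEnd k L M h)
      (fun j : Fin (n + 1) => (n : k) - 2 * ((j : ℕ) : k))
    · intro a b hab
      have hab' : (n : k) - 2 * ((a : ℕ) : k) = (n : k) - 2 * ((b : ℕ) : k) := hab
      have : ((a : ℕ) : k) = ((b : ℕ) : k) := by linear_combination (-1 / 2 : k) * hab'
      exact Fin.ext (Nat.cast_injective this)
    · intro j
      rw [Module.End.hasEigenvector_iff, Module.End.mem_eigenspace_iff]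
      exact ⟨hh j, hne j (by have := j.2; omega)⟩
  have hsp : ⊤ ≤ Submodule.span k (Set.range (fun j : Fin (n + 1) => ψ j)) := by
    rw [← hSdef, hS]
  obtain ⟨b, hb⟩ : ∃ b : Module.Basis (Fin (n + 1)) k M, ∀ j, b j = ψ j :=
    ⟨Module.Basis.mk hli hsp, fun j => Module.Basis.mk_apply hli hsp j⟩
  have hfr : Module.finrank k M = n + 1 := by
    rw [Module.finrank_eq_card_basis b, Fintype.card_fin]
  have hdiag : ∀ j : Fin (n + 1),
      (LinearMap.toMatrix b b ((LieModule.toEnd k L M h) ^ 2)).diag j =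
        ((n : k) - 2 * ((j : ℕ) : k)) ^ 2 := by
    intro j
    rw [Matrix.diag_apply, LinearMap.toMatrix_apply, hb, pow_two (LieModule.toEnd k L M h),
      Module.End.mul_apply, LieModule.toEnd_apply_apply, LieModule.toEnd_apply_apply, hh, lie_smul,
      hh, smul_smul, ← hb j, map_smul, Module.Basis.repr_self, Finsupp.smul_apply,
      Finsupp.single_eq_same, smul_eq_mul, mul_one, pow_two]
  rw [LinearMap.trace_eq_matrix_trace k b, Matrix.trace, Finset.sum_congr rfl (fun j _ => hdiag j),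
    Fin.sum_univ_eq_sum_range (fun j => ((n : k) - 2 * (j : k)) ^ 2) (n + 1), sum_sq, hfr]

end irr

theorem main
    (k : Type u) [Field k] [IsAlgClosed k] [CharZero k]
    (L : Type v) [LieRing L] [LieAlgebra k L]
    (h e f : L) (t : IsSl2Triple h e f) (hspan : t.toLieSubalgebra k = ⊤)
    (V : Type w) [AddCommGroup V] [Module k V] [LieRingModule L V] [LieModule k L V]
    [FiniteDimensional k V]
    (ι : Type) [Fintype ι] [DecidableEq ι] (W : ι → LieSubmodule k L V)
    (hW : DirectSum.IsInternal fun i => (W i).toSubmodule)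
    (hirr : ∀ i, LieModule.IsIrreducible k L (W i)) :
    LinearMap.trace k V ((LieModule.toEnd k L V h) ^ 2) =
      2 * ∑ i, (((Module.finrank k (W i) + 1).choose 3 : ℕ) : k) := by
  have hf0 : ∀ i, ∀ x ∈ (W i).toSubmodule, (LieModule.toEnd k L V h) x ∈ (W i).toSubmodule :=
    fun i x hx => (W i).lie_mem hx
  have hf : ∀ i, Set.MapsTo (⇑((LieModule.toEnd k L V h) ^ 2))
      (((W i).toSubmodule : Submodule k V) : Set V) (((W i).toSubmodule : Submodule k V) : Set V) :=
    fun i => Module.End.pow_apply_mem_of_forall_mem 2 (hf0 i)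
  rw [LinearMap.trace_eq_sum_trace_restrict hW hf, Finset.mul_sum]
  refine Finset.sum_congr rfl fun i _ => ?_
  have hres : ((LieModule.toEnd k L V h) ^ 2).restrict (hf i) =
      ((LieModule.toEnd k L V h).restrict (hf0 i)) ^ 2 :=
    (Module.End.pow_restrict 2 (hf0 i) (hf i)).symm
  rw [hres]
  haveI := hirr i
  exact trace_sq_irreducible k L h e f t hspan (W i)

end Groth.Agent.H2.Sl2Trace
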