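import Mathlib

/-! Diagonalisation of matrices over the fraction field of a valuation ring by `SL_n(R)`. -/

set_option autoImplicit false
universe u
open Matrix

namespace Groth.Agent.H2.SmithVal

variable (R : Type u) [CommRing R] {K : Type u} [Field K] [Algebra R K]
variable {ι : Type*} [Fintype ι] [DecidableEq ι]

def IsSL (P : Matrix ι ι K) : Prop :=
  ∃ A : Matrix ι ι R, A.det = 1 ∧ A.map (algebraMap R K) = P

lemma isSL_one : IsSL R (1 : Matrix ι ι K) :=
  ⟨1, det_one, Matrix.map_one _ (map_zero _) (map_one _)⟩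

variable {R} in
lemma IsSL.mul {P Q : Matrix ι ι K} (hP : IsSL R P) (hQ : IsSL R Q) : IsSL R (P * Q) := by
  obtain ⟨A, hA, rfl⟩ := hP
  obtain ⟨B, hB, rfl⟩ := hQ
  exact ⟨A * B, by rw [det_mul, hA, hB, one_mul], Matrix.map_mul⟩

variable {R} in
lemma IsSL.transpose {P : Matrix ι ι K} (hP : IsSL R P) : IsSL R Pᵀ := by
  obtain ⟨A, hA, rfl⟩ := hP
  exact ⟨Aᵀ, by rw [det_transpose, hA], transpose_map⟩

lemma exists_left (u : ι → R) (p : ι) (hu : u p = 0) :
    ∃ P : Matrix ι ι K, IsSL R P ∧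
      ∀ (X : Matrix ι ι K) (i j : ι), (P * X) i j = X i j + algebraMap R K (u i) * X p j := by
  refine ⟨((1 : Matrix ι ι R) + replicateCol Unit u * replicateRow Unit (Pi.single p (1 : R))).map
    (algebraMap R K), ⟨_, ?_, rfl⟩, ?_⟩
  · rw [det_one_add_replicateCol_mul_replicateRow]
    simp [hu]
  · intro X i j
    simp [Matrix.mul_apply, Matrix.add_apply, Matrix.one_apply, Pi.single_apply, add_mul,
      Finset.sum_add_distrib, ite_mul, apply_ite (algebraMap R K)]

lemma exists_right (w : ι → R) (p : ι) (hw : w p = 0) :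
    ∃ Q : Matrix ι ι K, IsSL R Q ∧
      ∀ (X : Matrix ι ι K) (i j : ι), (X * Q) i j = X i j + X i p * algebraMap R K (w j) := by
  obtain ⟨P, hP, h⟩ := exists_left R (K := K) w p hw
  refine ⟨Pᵀ, hP.transpose, ?_⟩
  intro X i j
  have e : (X * Pᵀ) i j = (P * Xᵀ) j i := by
    rw [← transpose_apply (P * Xᵀ), transpose_mul, transpose_transpose]
  rw [e, h Xᵀ j i, transpose_apply, transpose_apply, mul_comm]

def Eqv (X Y : Matrix ι ι K) : Prop :=
  ∃ P Q : Matrix ι ι K, IsSL R P ∧ IsSL R Q ∧ Y = P * X * Q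

lemma Eqv.refl (X : Matrix ι ι K) : Eqv R X X :=
  ⟨1, 1, isSL_one R, isSL_one R, by simp⟩

variable {R} in
lemma Eqv.trans {X Y Z : Matrix ι ι K} (h1 : Eqv R X Y) (h2 : Eqv R Y Z) : Eqv R X Z := by
  obtain ⟨P, Q, hP, hQ, rfl⟩ := h1
  obtain ⟨P', Q', hP', hQ', rfl⟩ := h2
  exact ⟨P' * P, Q * Q', hP'.mul hP, hQ.mul hQ', by simp only [Matrix.mul_assoc]⟩

def Cleared (s : Finset ι) (X : Matrix ι ι K) : Prop :=
  ∀ i j, i ≠ j → (i ∈ s ∨ j ∈ s) → X i j = 0

section Val

variable [IsDomain R] [ValuationRing R] [IsFractionRing R K]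

lemma exists_mul_of_le (a b : K)
    (h : ValuationRing.valuation R K a ≤ ValuationRing.valuation R K b) :
    ∃ r : R, a = algebraMap R K r * b := by
  by_cases hb : b = 0
  · subst hb
    rw [map_zero] at h
    have h0 : ValuationRing.valuation R K a = 0 := le_antisymm h zero_le
    have : a = 0 := (Valuation.zero_iff _).mp h0
    exact ⟨0, by simp [this]⟩
  · have hb' : 0 < ValuationRing.valuation R K b :=
      zero_lt_iff.mpr ((Valuation.ne_zero_iff _).mpr hb)
    have hv : ValuationRing.valuation R K (a / b) ≤ 1 := by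
      rw [map_div₀]
      exact (div_le_one₀ hb').mpr h
    obtain ⟨r, hr⟩ := (ValuationRing.mem_integer_iff R K _).mp
      ((Valuation.mem_integer_iff _ _).mpr hv)
    exact ⟨r, by rw [hr, div_mul_cancel₀ _ hb]⟩

lemma exists_pivot (s : Finset ι) (hs : s ≠ Finset.univ) (X : Matrix ι ι K) :
    ∃ i₀ j₀, i₀ ∉ s ∧ j₀ ∉ s ∧
      ∀ i j, i ∉ s → j ∉ s → ∃ r : R, X i j = algebraMap R K r * X i₀ j₀ := by
  have hne : (sᶜ ×ˢ sᶜ).Nonempty := by
    obtain ⟨a, ha⟩ : sᶜ.Nonempty := by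
      rw [Finset.nonempty_iff_ne_empty]
      intro h
      exact hs ((Finset.compl_eq_empty_iff s).mp h)
    exact ⟨(a, a), Finset.mk_mem_product ha ha⟩
  obtain ⟨q, hq, hmax⟩ := Finset.exists_max_image (sᶜ ×ˢ sᶜ)
    (fun q => ValuationRing.valuation R K (X q.1 q.2)) hne
  rw [Finset.mem_product, Finset.mem_compl, Finset.mem_compl] at hq
  refine ⟨q.1, q.2, hq.1, hq.2, fun i j hi hj => exists_mul_of_le R _ _ (hmax (i, j) ?_)⟩
  exact Finset.mk_mem_product (Finset.mem_compl.mpr hi) (Finset.mem_compl.mpr hj)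

omit [IsFractionRing R K] in
lemma pivot_step (s : Finset ι) (X : Matrix ι ι K) (hX : Cleared s X) (p j₀ : ι) (hp : p ∉ s)
    (hj₀ : j₀ ∉ s) (he : X p j₀ ≠ 0)
    (hdom : ∀ i j, i ∉ s → j ∉ s → ∃ r : R, X i j = algebraMap R K r * X p j₀) :
    ∃ X1 : Matrix ι ι K, Eqv R X X1 ∧ Cleared s X1 ∧ X1 p p ≠ 0 ∧
      ∀ i j, i ∉ s → j ∉ s → ∃ r : R, X1 i j = algebraMap R K r * X1 p p := by
  by_cases hj : j₀ = p
  · rw [hj] at he hdom
    exact ⟨X, Eqv.refl R X, hX, he, hdom⟩
  · obtain ⟨r₀, hr₀⟩ := hdom p p hp hp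
    obtain ⟨c, hc⟩ : ∃ c : R, IsUnit (r₀ + c) := by
      rcases IsLocalRing.isUnit_or_isUnit_one_sub_self r₀ with h | h
      · exact ⟨0, by simpa using h⟩
      · refine ⟨-1, ?_⟩
        have e : r₀ + -1 = -(1 - r₀) := by ring
        rw [e]
        exact h.neg
    obtain ⟨u', hu'⟩ := hc.exists_left_inv
    have hu'' : algebraMap R K u' * algebraMap R K (r₀ + c) = 1 := by
      rw [← map_mul, hu', map_one]
    obtain ⟨Q, hQ, hQf⟩ := exists_right R (K := K) (Pi.single p c) j₀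
      (by rw [Pi.single_apply, if_neg hj])
    have hQp : ∀ i, (X * Q) i p = X i p + X i j₀ * algebraMap R K c := by
      intro i
      rw [hQf, Pi.single_eq_same]
    have hQn : ∀ i j, j ≠ p → (X * Q) i j = X i j := by
      intro i j hjp
      rw [hQf, Pi.single_eq_of_ne hjp, map_zero, mul_zero, add_zero]
    have hpp : (X * Q) p p = algebraMap R K (r₀ + c) * X p j₀ := by
      rw [hQp, hr₀, map_add]
      ring
    refine ⟨X * Q, ⟨1, Q, isSL_one R, hQ, by simp⟩, ?_, ?_, ?_⟩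
    · intro i j hij h
      by_cases hjp : j = p
      · rw [hjp] at hij h ⊢
        have hi : i ∈ s := h.resolve_right hp
        have hij₀ : i ≠ j₀ := fun h' => hj₀ (h' ▸ hi)
        rw [hQp, hX i p hij (Or.inl hi), hX i j₀ hij₀ (Or.inl hi), zero_mul, add_zero]
      · rw [hQn i j hjp]
        exact hX i j hij h
    · rw [hpp]
      exact mul_ne_zero ((hc.map (algebraMap R K)).ne_zero) he
    · intro i j hi hj'
      obtain ⟨r1, hr1⟩ := hdom i j hi hj'
      rw [hpp]
      by_cases hjp : j = p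
      · obtain ⟨r2, hr2⟩ := hdom i j₀ hi hj₀
        rw [hjp] at hr1 ⊢
        refine ⟨(r1 + r2 * c) * u', ?_⟩
        rw [hQp, hr1, hr2, map_mul, map_add, map_mul]
        linear_combination (-(algebraMap R K r1 + algebraMap R K r2 * algebraMap R K c) *
          X p j₀) * hu''
      · refine ⟨r1 * u', ?_⟩
        rw [hQn i j hjp, hr1, map_mul]
        linear_combination (-(algebraMap R K r1) * X p j₀) * hu''

omit [IsDomain R] [ValuationRing R] [IsFractionRing R K] in
lemma clear_step (s : Finset ι) (X1 : Matrix ι ι K) (hC1 : Cleared s X1) (p : ι) (hp : p ∉ s)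
    (hdom1 : ∀ i j, i ∉ s → j ∉ s → ∃ r : R, X1 i j = algebraMap R K r * X1 p p) :
    ∃ Y : Matrix ι ι K, Eqv R X1 Y ∧ Cleared (insert p s) Y := by
  have hdom1' : ∀ i j, ∃ r : R, i ∉ s → j ∉ s → X1 i j = algebraMap R K r * X1 p p := by
    intro i j
    by_cases hi : i ∈ s
    · exact ⟨0, fun h => absurd hi h⟩
    by_cases hj : j ∈ s
    · exact ⟨0, fun _ h => absurd hj h⟩
    obtain ⟨r, hr⟩ := hdom1 i j hi hj
    exact ⟨r, fun _ _ => hr⟩
  choose r hr using hdom1'
  obtain ⟨P, hP, hPf⟩ := exists_left R (K := K) (fun i => if i ∈ s ∨ i = p then 0 else -(r i p)) p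
    (if_pos (Or.inr rfl))
  obtain ⟨Q, hQ, hQf⟩ := exists_right R (K := K) (fun j => if j ∈ s ∨ j = p then 0 else -(r p j)) p
    (if_pos (Or.inr rfl))
  refine ⟨P * X1 * Q, ⟨P, Q, hP, hQ, rfl⟩, ?_⟩
  intro i j hij h
  rw [hQf, hPf, hPf]
  by_cases hi : i ∈ s
  · have hip : i ≠ p := fun h' => hp (h' ▸ hi)
    rw [if_pos (Or.inl hi), hC1 i j hij (Or.inl hi), hC1 i p hip (Or.inl hi)]
    simp
  by_cases hj : j ∈ s
  · have hpj : p ≠ j := fun h' => hp (h' ▸ hj)
    rw [if_pos (Or.inl hj), hC1 i j hij (Or.inr hj), hC1 p j hpj (Or.inr hj)]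
    simp
  have hor : i = p ∨ j = p := by
    rcases h with h | h
    · rcases Finset.mem_insert.mp h with h | h
      · exact Or.inl h
      · exact absurd h hi
    · rcases Finset.mem_insert.mp h with h | h
      · exact Or.inr h
      · exact absurd h hj
  rcases hor with hip | hjp
  · rw [hip] at hij ⊢
    have hjp : ¬ (j ∈ s ∨ j = p) := fun h' => h'.elim hj (fun h'' => hij h''.symm)
    rw [if_pos (Or.inr rfl), if_neg hjp, hr p j hp hj, map_zero, map_neg]
    ring
  · rw [hjp] at hij ⊢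
    have hip : ¬ (i ∈ s ∨ i = p) := fun h' => h'.elim hi (fun h'' => hij h'')
    rw [if_pos (Or.inr rfl), if_neg hip, hr i p hi hp, map_zero, map_neg]
    ring

lemma step (s : Finset ι) (hs : s ≠ Finset.univ) (X : Matrix ι ι K) (hX : Cleared s X) :
    ∃ p, p ∉ s ∧ ∃ Y : Matrix ι ι K, Eqv R X Y ∧ Cleared (insert p s) Y := by
  obtain ⟨p, j₀, hp, hj₀, hdom⟩ := exists_pivot R s hs X
  by_cases he : X p j₀ = 0
  · refine ⟨p, hp, X, Eqv.refl R X, ?_⟩
    intro i j hij h
    by_cases hi : i ∈ s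
    · exact hX i j hij (Or.inl hi)
    by_cases hj : j ∈ s
    · exact hX i j hij (Or.inr hj)
    obtain ⟨r, hr⟩ := hdom i j hi hj
    rw [hr, he, mul_zero]
  · obtain ⟨X1, hE1, hC1, _, hdom1⟩ := pivot_step R s X hX p j₀ hp hj₀ he hdom
    obtain ⟨Y, hE2, hY⟩ := clear_step R s X1 hC1 p hp hdom1
    exact ⟨p, hp, Y, hE1.trans hE2, hY⟩

lemma exists_diag : ∀ (m : ℕ) (s : Finset ι) (X : Matrix ι ι K), sᶜ.card = m → Cleared s X →
    ∃ Y : Matrix ι ι K, Eqv R X Y ∧ Cleared Finset.univ Y := by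
  intro m
  induction m with
  | zero =>
    intro s X hm hX
    have hs : s = Finset.univ := (Finset.compl_eq_empty_iff s).mp (Finset.card_eq_zero.mp hm)
    exact ⟨X, Eqv.refl R X, hs ▸ hX⟩
  | succ m ih =>
    intro s X hm hX
    have hs : s ≠ Finset.univ := by
      intro h
      rw [h, Finset.compl_univ, Finset.card_empty] at hm
      exact Nat.succ_ne_zero m hm.symm
    obtain ⟨p, hp, Y, hXY, hY⟩ := step R s hs X hX
    have hcard : (insert p s)ᶜ.card = m := by
      rw [Finset.compl_insert, Finset.card_erase_of_mem (Finset.mem_compl.mpr hp), hm]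
      rfl
    obtain ⟨Z, hYZ, hZ⟩ := ih (insert p s) Y hcard hY
    exact ⟨Z, hXY.trans hYZ, hZ⟩

theorem main (Ξ : Matrix ι ι K) :
    ∃ (A B : Matrix ι ι R) (d : ι → K), A.det = 1 ∧ B.det = 1 ∧
      Ξ = A.map (algebraMap R K) * Matrix.diagonal d * B.map (algebraMap R K) := by
  obtain ⟨Y, ⟨P, Q, ⟨A, hA, rfl⟩, ⟨B, hB, rfl⟩, hY⟩, hC⟩ :=
    exists_diag R (ι := ι) _ ∅ Ξ rfl (fun i j _ h => by simp at h)
  have hYd : Y = Matrix.diagonal (fun i => Y i i) := by
    ext i j
    by_cases hij : i = j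
    · subst hij
      simp
    · rw [Matrix.diagonal_apply_ne _ hij]
      exact hC i j hij (Or.inl (Finset.mem_univ i))
  refine ⟨A.adjugate, B.adjugate, fun i => Y i i, ?_, ?_, ?_⟩
  · rw [det_adjugate, hA, one_pow]
  · rw [det_adjugate, hB, one_pow]
  · rw [← hYd, hY]
    have h1 : A.adjugate.map (algebraMap R K) * A.map (algebraMap R K) = 1 := by
      rw [← Matrix.map_mul, adjugate_mul, hA, one_smul, Matrix.map_one _ (map_zero _) (map_one _)]
    have h2 : B.map (algebraMap R K) * B.adjugate.map (algebraMap R K) = 1 := by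
      rw [← Matrix.map_mul, mul_adjugate, hB, one_smul, Matrix.map_one _ (map_zero _) (map_one _)]
    simp only [Matrix.mul_assoc]
    rw [h2, Matrix.mul_one, ← Matrix.mul_assoc, h1, Matrix.one_mul]

end Val

end Groth.Agent.H2.SmithVal
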