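import Mathlib

namespace Groth.Agent.H2.SplitLimit

open Submodule

variable {R : Type*} [CommRing R]

lemma map_mem_smul_top {A B : Type*} [AddCommGroup A] [Module R A] [AddCommGroup B] [Module R B]
    (J : Ideal R) (ψ : A →ₗ[R] B) (x : A) (hx : x ∈ J • (⊤ : Submodule R A)) :
    ψ x ∈ J • (⊤ : Submodule R B) := by
  refine Submodule.smul_induction_on hx (fun r hr n _ => ?_) (fun f g hf hg => ?_)
  · rw [map_smul]
    exact Submodule.smul_mem_smul hr Submodule.mem_top
  · rw [map_add]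
    exact add_mem hf hg

lemma apply_mem_of_mem_smul_top {F N : Type*} [AddCommGroup F] [Module R F] [AddCommGroup N]
    [Module R N] (J : Ideal R) (t : F →ₗ[R] N) (ht : t ∈ J • (⊤ : Submodule R (F →ₗ[R] N)))
    (y : F) : t y ∈ J • (⊤ : Submodule R N) :=
  map_mem_smul_top J (LinearMap.applyₗ y) t ht

lemma mem_smul_top_of_forall {a : ℕ} {N : Type*} [AddCommGroup N] [Module R N] (J : Ideal R)
    (g : (Fin a → R) →ₗ[R] N) (hg : ∀ y, g y ∈ J • (⊤ : Submodule R N)) :
    g ∈ J • (⊤ : Submodule R ((Fin a → R) →ₗ[R] N)) := by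
  have h1 : g = ∑ i : Fin a, LinearMap.smulRightₗ (LinearMap.proj i : (Fin a → R) →ₗ[R] R)
      (g fun j => if i = j then 1 else 0) := by
    apply LinearMap.ext
    intro y
    rw [LinearMap.sum_apply, LinearMap.pi_apply_eq_sum_univ g y]
    apply Finset.sum_congr rfl
    intro i _
    rw [LinearMap.smulRightₗ_apply_apply, LinearMap.proj_apply]
  rw [h1]
  apply Submodule.sum_mem
  intro i _
  exact map_mem_smul_top J _ _ (hg _)

theorem main {M N : Type*} [IsNoetherianRing R] (I : Ideal R)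
    (hI : I ≤ (⊥ : Ideal R).jacobson) [AddCommGroup M] [Module R M] [Module.Finite R M]
    [AddCommGroup N] [Module R N] [Module.Finite R N] (u : N →ₗ[R] M)
    (h : ∀ n₀ : ℕ, ∃ n, n₀ ≤ n ∧ ∃ s : (M ⧸ (I ^ n) • (⊤ : Submodule R M)) →ₗ[R]
        (N ⧸ (I ^ n) • (⊤ : Submodule R N)),
      ∀ x : N, s (Submodule.Quotient.mk (u x)) = Submodule.Quotient.mk x) :
    ∃ s : M →ₗ[R] N, s.comp u = LinearMap.id := by
  obtain ⟨g, ρ, hρ⟩ := Module.Finite.exists_fin' R N
  obtain ⟨b, π, hπ⟩ := Module.Finite.exists_fin' R M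
  obtain ⟨a, π', hπ'⟩ := Module.Finite.exists_fin' R (LinearMap.ker π)
  obtain ⟨d, hddef⟩ : ∃ d : (Fin a → R) →ₗ[R] (Fin b → R), d = (LinearMap.ker π).subtype ∘ₗ π' :=
    ⟨_, rfl⟩
  have hd : LinearMap.range d = LinearMap.ker π := by
    rw [hddef, LinearMap.range_comp, LinearMap.range_eq_top.mpr hπ', Submodule.map_top,
      Submodule.range_subtype]
  obtain ⟨φ', hφ'⟩ : ∃ φ' : (M →ₗ[R] N) →ₗ[R] ((Fin g → R) →ₗ[R] N),
      φ' = LinearMap.lcomp R N (u ∘ₗ ρ) := ⟨_, rfl⟩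
  have hφ'a : ∀ (s : M →ₗ[R] N) (z : Fin g → R), φ' s z = s (u (ρ z)) := by
    intro s z
    rw [hφ']
    rfl
  obtain ⟨dstar, hdstar⟩ : ∃ dstar : ((Fin b → R) →ₗ[R] N) →ₗ[R] ((Fin a → R) →ₗ[R] N),
      dstar = LinearMap.lcomp R N d := ⟨_, rfl⟩
  have hdstar_a : ∀ (t : (Fin b → R) →ₗ[R] N), dstar t = t ∘ₗ d := by
    intro t
    rw [hdstar]
    rfl
  have key : ∀ m : ℕ, ρ ∈ LinearMap.range φ' ⊔ I ^ m • (⊤ : Submodule R ((Fin g → R) →ₗ[R] N)) := by
    intro m
    obtain ⟨c, hc⟩ := Ideal.exists_pow_inf_eq_pow_smul I (LinearMap.range dstar)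
    obtain ⟨n, hn, s, hs⟩ := h (m + c)
    obtain ⟨t, ht⟩ := Module.projective_lifting_property
      (Submodule.mkQ (I ^ n • (⊤ : Submodule R N)))
      (s ∘ₗ (Submodule.mkQ (I ^ n • (⊤ : Submodule R M))) ∘ₗ π) (Submodule.mkQ_surjective _)
    have ht' : ∀ y, (Submodule.Quotient.mk (t y) : N ⧸ (I ^ n) • (⊤ : Submodule R N))
        = s (Submodule.Quotient.mk (π y)) := fun y => LinearMap.congr_fun ht y
    have h1 : ∀ y, (t ∘ₗ d) y ∈ I ^ n • (⊤ : Submodule R N) := by
      intro y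
      have hdy : π (d y) = 0 := by
        have h0 : d y ∈ LinearMap.ker π := hd ▸ LinearMap.mem_range_self d y
        exact h0
      rw [← Submodule.Quotient.mk_eq_zero, LinearMap.comp_apply, ht', hdy,
        Submodule.Quotient.mk_zero, map_zero]
    have h2 : dstar t ∈ I ^ n • ⊤ ⊓ LinearMap.range dstar :=
      ⟨by rw [hdstar_a]; exact mem_smul_top_of_forall (I ^ n) (t ∘ₗ d) h1,
        LinearMap.mem_range_self dstar t⟩
    rw [hc n (by omega)] at h2
    have h3 : dstar t ∈ (I ^ (n - c) • (⊤ : Submodule R ((Fin b → R) →ₗ[R] N))).map dstar := by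
      rw [Submodule.map_smul'', Submodule.map_top]
      exact Submodule.smul_mono le_rfl inf_le_right h2
    obtain ⟨t', ht'mem, ht'eq⟩ := h3
    have hker : LinearMap.ker π ≤ LinearMap.ker (t - t') := by
      rw [← hd]
      rintro _ ⟨y, rfl⟩
      rw [LinearMap.mem_ker, LinearMap.sub_apply, sub_eq_zero]
      have := LinearMap.congr_fun ht'eq y
      rw [hdstar_a, hdstar_a] at this
      exact this.symm
    obtain ⟨st, hstdef⟩ : ∃ st : M →ₗ[R] N,
        st = (Submodule.liftQ (LinearMap.ker π) (t - t') hker) ∘ₗ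
          (π.quotKerEquivOfSurjective hπ).symm.toLinearMap := ⟨_, rfl⟩
    have hst : ∀ y, st (π y) = t y - t' y := by
      intro y
      have e0 : (π.quotKerEquivOfSurjective hπ).symm (π y) = Submodule.Quotient.mk y :=
        (LinearEquiv.symm_apply_eq _).mpr (LinearMap.quotKerEquivOfSurjective_apply_mk π hπ y).symm
      rw [hstdef, LinearMap.comp_apply, LinearEquiv.coe_coe, e0, Submodule.liftQ_apply,
        LinearMap.sub_apply]
    refine Submodule.mem_sup.mpr ⟨φ' st, LinearMap.mem_range_self φ' st, ρ - φ' st, ?_, by abel⟩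
    apply mem_smul_top_of_forall
    intro z
    obtain ⟨y, hy⟩ := hπ (u (ρ z))
    have e1 : (ρ - φ' st) z = (ρ z - t y) + t' y := by
      rw [LinearMap.sub_apply, hφ'a, ← hy, hst]
      abel
    rw [e1]
    apply add_mem
    · have h5 : ρ z - t y ∈ I ^ n • (⊤ : Submodule R N) := by
        rw [← Submodule.Quotient.mk_eq_zero, Submodule.Quotient.mk_sub, ht', hy, hs, sub_self]
      exact Submodule.smul_mono_left (Ideal.pow_le_pow_right (by omega)) h5
    · have h6 := apply_mem_of_mem_smul_top (I ^ (n - c)) t' ht'mem y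
      exact Submodule.smul_mono_left (Ideal.pow_le_pow_right (by omega)) h6
  have hK : (⨅ i : ℕ, I ^ i • (⊤ : Submodule R
      (((Fin g → R) →ₗ[R] N) ⧸ LinearMap.range φ'))) = ⊥ :=
    Ideal.iInf_pow_smul_eq_bot_of_le_jacobson I hI
  have hmem : (LinearMap.range φ').mkQ ρ ∈ (⨅ i : ℕ, I ^ i • (⊤ : Submodule R
      (((Fin g → R) →ₗ[R] N) ⧸ LinearMap.range φ'))) := by
    rw [Submodule.mem_iInf]
    intro m
    obtain ⟨e, he, z, hz, hez⟩ := Submodule.mem_sup.mp (key m)
    have he0 : (LinearMap.range φ').mkQ e = 0 := by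
      rw [Submodule.mkQ_apply]
      exact (Submodule.Quotient.mk_eq_zero _).mpr he
    rw [← hez, map_add, he0, zero_add]
    exact map_mem_smul_top (I ^ m) _ z hz
  rw [hK, Submodule.mem_bot, Submodule.mkQ_apply, Submodule.Quotient.mk_eq_zero] at hmem
  obtain ⟨s, hs⟩ := hmem
  refine ⟨s, ?_⟩
  apply LinearMap.ext
  intro x
  obtain ⟨y, rfl⟩ := hρ x
  have h9 := LinearMap.congr_fun hs y
  rw [hφ'a] at h9
  exact h9

end Groth.Agent.H2.SplitLimit
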