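import Mathlib
import Groth.Prelude.Def_ModelsG
import Groth.Agent.H15.RegQuot

/-!
# The local homomorphism `O_{Y,σ(c)} → V` of a morphism `σ : Spec V → Y` and `Models.stalkHom`

For `Y` over `Spec R` and `σ : Spec V → Y` over `Spec φ`, the local homomorphism
`O_{Y,σ(c)} → V` sends `Models.stalkHom r` to `φ r`.  As an application: if `V` is a DVR whose
maximal ideal is generated by that of the DVR `R`, and `O_{Y,σ(c)}` is regular, then its quotient by
`𝔪_R` is regular.
-/

set_option autoImplicit false
set_option linter.style.haveILetI false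
set_option linter.unusedSimpArgs false
set_option linter.unusedVariables false
set_option linter.unnecessarySeqFocus false
set_option linter.unusedSectionVars false

open AlgebraicGeometry CategoryTheory IsLocalRing

universe u

namespace Groth.Agent.H2.StalkClosedPt

theorem stalkClosedPointTo_congr {Z : Scheme.{u}} {V : CommRingCat.{u}} [IsLocalRing V]
    (f g : Spec V ⟶ Z) (h : f = g) (s : Γ(Z, ⊤)) :
    (Scheme.stalkClosedPointTo f).hom ((Z.presheaf.germ ⊤ (f (closedPoint V)) trivial).hom s) =
      (Scheme.stalkClosedPointTo g).hom ((Z.presheaf.germ ⊤ (g (closedPoint V)) trivial).hom s) := by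
  subst h
  rfl

theorem stalkClosedPointTo_stalkHom (R V : Type u) [CommRing R] [CommRing V] [IsLocalRing V]
    (YR : Over (Spec (CommRingCat.of R))) (φ : R →+* V) (σ : Spec (CommRingCat.of V) ⟶ YR.left)
    (hσ : σ ≫ YR.hom = Spec.map (CommRingCat.ofHom φ)) (r : R) :
    (Scheme.stalkClosedPointTo σ).hom (Models.stalkHom R YR (σ.base (closedPoint V)) r) = φ r := by
  set s : Γ(Spec (CommRingCat.of R), ⊤) := (Scheme.ΓSpecIso (CommRingCat.of R)).inv.hom r with hs
  have h0 : Models.stalkHom R YR (σ.base (closedPoint V)) r =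
      (YR.left.presheaf.germ ⊤ (σ.base (closedPoint V)) trivial).hom ((YR.hom.appTop).hom s) := rfl
  rw [h0]
  have h1 : (YR.left.presheaf.germ ⊤ (σ.base (closedPoint V)) trivial).hom ((YR.hom.appTop).hom s) =
      (YR.hom.stalkMap (σ.base (closedPoint V))).hom
        (((Spec (CommRingCat.of R)).presheaf.germ ⊤ (YR.hom.base (σ.base (closedPoint V)))
          trivial).hom s) :=
    (Scheme.Hom.germ_stalkMap_apply YR.hom ⊤ (σ.base (closedPoint V)) trivial s).symm
  rw [h1]
  have h2 : Scheme.stalkClosedPointTo (σ ≫ YR.hom) =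
      YR.hom.stalkMap _ ≫ Scheme.stalkClosedPointTo σ :=
    Scheme.stalkClosedPointTo_comp σ YR.hom
  have h3 : (Scheme.stalkClosedPointTo σ).hom ((YR.hom.stalkMap (σ.base (closedPoint V))).hom
        (((Spec (CommRingCat.of R)).presheaf.germ ⊤ (YR.hom.base (σ.base (closedPoint V)))
          trivial).hom s)) =
      (Scheme.stalkClosedPointTo (σ ≫ YR.hom)).hom
        (((Spec (CommRingCat.of R)).presheaf.germ ⊤ ((σ ≫ YR.hom) (closedPoint V))
          trivial).hom s) := by
    rw [h2]
    rfl
  rw [h3, stalkClosedPointTo_congr _ _ hσ s]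
  have h4 := Scheme.germ_stalkClosedPointTo_Spec (CommRingCat.ofHom φ)
  have h5 := congrArg (fun ψ => ψ.hom s) h4
  refine h5.trans ?_
  show φ ((Scheme.ΓSpecIso (CommRingCat.of R)).hom.hom
    ((Scheme.ΓSpecIso (CommRingCat.of R)).inv.hom r)) = φ r
  congr 1
  exact congrArg (fun ψ => ψ.hom r) (Scheme.ΓSpecIso (CommRingCat.of R)).inv_hom_id

theorem main (R : Type u) [CommRing R] [IsDomain R] [IsDiscreteValuationRing R]
    (YR : Over (Spec (CommRingCat.of R)))
    (V : Type u) [CommRing V] [IsDomain V] [IsDiscreteValuationRing V] [Algebra R V]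
    (hV : Ideal.map (algebraMap R V) (maximalIdeal R) = maximalIdeal V)
    (σ : Spec (CommRingCat.of V) ⟶ YR.left)
    (hσ : σ ≫ YR.hom = Spec.map (CommRingCat.ofHom (algebraMap R V)))
    (y : YR.left) (hy : σ.base (closedPoint V) = y)
    (hreg : IsRegularLocalRing (YR.left.presheaf.stalk y)) :
    IsRegularLocalRing (YR.left.presheaf.stalk y ⧸
      Ideal.map (Models.stalkHom R YR y) (maximalIdeal R)) := by
  subst hy
  haveI := hreg
  obtain ⟨π, hπ⟩ := IsDiscreteValuationRing.exists_irreducible R
  have hmR : maximalIdeal R = Ideal.span {π} := hπ.maximalIdeal_eq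
  have hmap : Ideal.map (Models.stalkHom R YR (σ.base (closedPoint V))) (maximalIdeal R) =
      Ideal.span {Models.stalkHom R YR (σ.base (closedPoint V)) π} := by
    rw [hmR, Ideal.map_span, Set.image_singleton]
  rw [hmap]
  let θ : YR.left.presheaf.stalk (σ.base (closedPoint V)) →+* V := (Scheme.stalkClosedPointTo σ).hom
  haveI : IsLocalHom θ := Scheme.isLocalHom_stalkClosedPointTo' σ
  have hθx : θ (Models.stalkHom R YR (σ.base (closedPoint V)) π) = algebraMap R V π :=
    stalkClosedPointTo_stalkHom R V YR (algebraMap R V) σ hσ π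
  have hmV : maximalIdeal V = Ideal.span {algebraMap R V π} := by
    rw [← hV, hmR, Ideal.map_span, Set.image_singleton]
  have hπVmem : algebraMap R V π ∈ maximalIdeal V := by
    rw [hmV]
    exact Ideal.mem_span_singleton_self _
  have hπVne : algebraMap R V π ≠ 0 := by
    intro h0
    apply IsDiscreteValuationRing.not_a_field V
    rw [hmV, h0]
    exact Ideal.span_singleton_eq_bot.mpr rfl
  have hπVsq : algebraMap R V π ∉ maximalIdeal V ^ 2 := by
    intro hmem
    rw [hmV, Ideal.span_singleton_pow, Ideal.mem_span_singleton] at hmem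
    obtain ⟨a, ha⟩ := hmem
    have h1 : algebraMap R V π * (1 - algebraMap R V π * a) = 0 := by
      rw [mul_sub, mul_one, ← mul_assoc, ← pow_two, ← ha, sub_self]
    rcases mul_eq_zero.mp h1 with h | h
    · exact hπVne h
    · have hu : IsUnit (algebraMap R V π) :=
        IsUnit.of_mul_eq_one a (by linear_combination -h)
      exact (mem_nonunits_iff.mp ((mem_maximalIdeal _).mp hπVmem)) hu
  have hxm : Models.stalkHom R YR (σ.base (closedPoint V)) π ∈
      maximalIdeal (YR.left.presheaf.stalk (σ.base (closedPoint V))) := by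
    rw [mem_maximalIdeal, mem_nonunits_iff]
    intro hu
    have := hu.map θ
    rw [hθx] at this
    exact (mem_nonunits_iff.mp ((mem_maximalIdeal _).mp hπVmem)) this
  have hxsq : Models.stalkHom R YR (σ.base (closedPoint V)) π ∉
      maximalIdeal (YR.left.presheaf.stalk (σ.base (closedPoint V))) ^ 2 := by
    intro hmem
    apply hπVsq
    have h1 : θ (Models.stalkHom R YR (σ.base (closedPoint V)) π) ∈
        Ideal.map θ (maximalIdeal (YR.left.presheaf.stalk (σ.base (closedPoint V))) ^ 2) :=
      Ideal.mem_map_of_mem θ hmem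
    rw [Ideal.map_pow] at h1
    have h2 : Ideal.map θ (maximalIdeal (YR.left.presheaf.stalk (σ.base (closedPoint V)))) ≤
        maximalIdeal V := by
      rw [Ideal.map_le_iff_le_comap]
      intro z hz
      rw [Ideal.mem_comap, mem_maximalIdeal, mem_nonunits_iff]
      intro hu
      exact (mem_nonunits_iff.mp ((mem_maximalIdeal _).mp hz)) (isUnit_of_map_unit θ z hu)
    have h3 := Ideal.pow_right_mono h2 2 h1
    rwa [hθx] at h3
  exact (Groth.Agent.H15.RegQuot.isRegularLocalRing_quotient_span_singleton _ _ hxm hxsq).1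

end Groth.Agent.H2.StalkClosedPt
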