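import Mathlib

set_option autoImplicit false
set_option linter.style.haveILetI false
set_option linter.unusedSimpArgs false

namespace Groth.Agent.H2.SympDet

open Matrix

section Mat

variable {R : Type*} [CommRing R] {n : Type*} [Fintype n] [DecidableEq n]

/-- A matrix preserving an invertible alternating form `J' = U - Uᵀ` has determinant one
(doubling trick: `(J') ⊕ (-J')` is isometric to the standard symplectic form). -/
theorem det_eq_one_of_alt (J' U G : Matrix n n R) (hJ : J' = U - Uᵀ) (hdet : IsUnit J'.det)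
    (hG : Gᵀ * J' * G = J') : G.det = 1 := by
  obtain ⟨j, hJj, hjJ⟩ : ∃ j : Matrix n n R, J' * j = 1 ∧ j * J' = 1 :=
    ⟨J'⁻¹, Matrix.mul_nonsing_inv J' hdet, Matrix.nonsing_inv_mul J' hdet⟩
  have hJt : J'ᵀ = -J' := by
    rw [hJ, transpose_sub, transpose_transpose]; abel
  have hjt : jᵀ = -j := by
    have h0 : jᵀ * J'ᵀ = 1 := by rw [← transpose_mul, hJj, transpose_one]
    have h1 : (-jᵀ) * J' = 1 := by
      rw [hJt] at h0
      rw [Matrix.neg_mul, ← Matrix.mul_neg]; exact h0
    have h2 : -jᵀ = j := by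
      calc -jᵀ = -jᵀ * (J' * j) := by rw [hJj, mul_one]
        _ = (-jᵀ * J') * j := by rw [Matrix.mul_assoc]
        _ = j := by rw [h1, one_mul]
    calc jᵀ = -(-jᵀ) := (neg_neg _).symm
      _ = -j := by rw [h2]
  have hjJX : ∀ X : Matrix n n R, j * (J' * X) = X := fun X => by
    rw [← Matrix.mul_assoc, hjJ, one_mul]
  have hJjX : ∀ X : Matrix n n R, J' * (j * X) = X := fun X => by
    rw [← Matrix.mul_assoc, hJj, one_mul]
  obtain ⟨a, hat'⟩ : ∃ a : Matrix n n R, aᵀ = a + j := by
    refine ⟨j * Uᵀ * j, ?_⟩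
    have hat : (j * Uᵀ * j)ᵀ = j * U * j := by
      rw [transpose_mul, transpose_mul, transpose_transpose, hjt]
      simp only [Matrix.neg_mul, Matrix.mul_neg, neg_neg, Matrix.mul_assoc]
    rw [hat]
    have : j * U * j - j * Uᵀ * j = j := by
      calc j * U * j - j * Uᵀ * j = j * (U - Uᵀ) * j := by
            simp only [Matrix.mul_sub, Matrix.sub_mul]
        _ = j := by rw [← hJ, hjJ, one_mul]
    rw [← sub_eq_iff_eq_add']
    exact this
  have h4 : (a + j)ᵀ = a := by rw [transpose_add, hat', hjt, add_neg_cancel_right]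
  obtain ⟨T, hTdef⟩ : ∃ T : Matrix (n ⊕ n) (n ⊕ n) R, T = fromBlocks 1 a 1 (a + j) := ⟨_, rfl⟩
  obtain ⟨D, hDdef⟩ : ∃ D : Matrix (n ⊕ n) (n ⊕ n) R, D = fromBlocks J' 0 0 (-J') := ⟨_, rfl⟩
  obtain ⟨GG, hGGdef⟩ : ∃ GG : Matrix (n ⊕ n) (n ⊕ n) R, GG = fromBlocks G 0 0 1 := ⟨_, rfl⟩
  have hTDT : Tᵀ * D * T = Matrix.J n R := by
    rw [hTdef, hDdef, fromBlocks_transpose, transpose_one, hat', h4, fromBlocks_multiply,
      fromBlocks_multiply]
    unfold Matrix.J
    rw [Matrix.fromBlocks_inj]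
    refine ⟨?_, ?_, ?_, ?_⟩
    · simp only [one_mul, mul_one, mul_zero, add_zero, zero_add, Matrix.neg_mul, Matrix.mul_neg,
        Matrix.add_mul, Matrix.mul_add, Matrix.mul_assoc, hJj, hjJ, hjJX, hJjX]
      try abel
    · simp only [one_mul, mul_one, mul_zero, add_zero, zero_add, Matrix.neg_mul, Matrix.mul_neg,
        Matrix.add_mul, Matrix.mul_add, Matrix.mul_assoc, hJj, hjJ, hjJX, hJjX]
      try abel
    · simp only [one_mul, mul_one, mul_zero, add_zero, zero_add, Matrix.neg_mul, Matrix.mul_neg,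
        Matrix.add_mul, Matrix.mul_add, Matrix.mul_assoc, hJj, hjJ, hjJX, hJjX]
      try abel
    · simp only [one_mul, mul_one, mul_zero, add_zero, zero_add, Matrix.neg_mul, Matrix.mul_neg,
        Matrix.add_mul, Matrix.mul_add, Matrix.mul_assoc, hJj, hjJ, hjJX, hJjX]
      try abel
  have hGG : GGᵀ * D * GG = D := by
    rw [hGGdef, hDdef, fromBlocks_transpose, fromBlocks_multiply, fromBlocks_multiply]
    simp [hG]
  have hdetT : IsUnit T.det := by
    have h := congrArg Matrix.det hTDT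
    rw [det_mul, det_mul, det_transpose] at h
    have hu : IsUnit (T.det * D.det * T.det) := by rw [h]; exact Matrix.isUnit_det_J n R
    exact isUnit_of_mul_isUnit_right hu
  obtain ⟨Ti, hT1, hT2⟩ : ∃ Ti : Matrix (n ⊕ n) (n ⊕ n) R, T * Ti = 1 ∧ Ti * T = 1 :=
    ⟨T⁻¹, Matrix.mul_nonsing_inv T hdetT, Matrix.nonsing_inv_mul T hdetT⟩
  have hS : Ti * GG * T ∈ symplecticGroup n R := by
    rw [SymplecticGroup.mem_iff']
    have hTT : Tiᵀ * Tᵀ = 1 := by rw [← transpose_mul, hT1, transpose_one]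
    have e1 : Tiᵀ * Matrix.J n R * Ti = D := by
      rw [← hTDT]
      calc Tiᵀ * (Tᵀ * D * T) * Ti = (Tiᵀ * Tᵀ) * D * (T * Ti) := by
            simp only [Matrix.mul_assoc]
        _ = D := by rw [hTT, hT1, one_mul, mul_one]
    calc (Ti * GG * T)ᵀ * Matrix.J n R * (Ti * GG * T)
        = Tᵀ * (GGᵀ * (Tiᵀ * Matrix.J n R * Ti) * GG) * T := by
          simp only [transpose_mul, Matrix.mul_assoc]
      _ = Tᵀ * (GGᵀ * D * GG) * T := by rw [e1]
      _ = Matrix.J n R := by rw [hGG]; exact hTDT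
  have hdetS := SymplecticGroup.det_eq_one hS
  rw [det_mul, det_mul] at hdetS
  have hGGdet : GG.det = G.det := by rw [hGGdef]; simp
  have hTiT : Ti.det * T.det = 1 := by rw [← det_mul, hT2, det_one]
  calc G.det = GG.det := hGGdet.symm
    _ = GG.det * (Ti.det * T.det) := by rw [hTiT, mul_one]
    _ = Ti.det * GG.det * T.det := by ring
    _ = 1 := hdetS

end Mat

theorem det_eq_one_of_isometry {R : Type*} [CommRing R] [CharP R 2] {M : Type*} [AddCommGroup M]
    [Module R M] [Module.Free R M] [Module.Finite R M] (Q : QuadraticForm R M)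
    (hQ : Function.Bijective (QuadraticMap.polarBilin Q)) (g : M ≃ₗ[R] M)
    (hg : ∀ v, Q (g v) = Q v) : LinearEquiv.det g = 1 := by
  classical
  haveI : Nontrivial R := CharP.nontrivial_of_char_ne_one (R := R) (v := 2) (by norm_num)
  obtain ⟨b⟩ : Nonempty (Module.Basis (Fin (Fintype.card (Module.Free.ChooseBasisIndex R M))) R M) :=
    ⟨(Module.Free.chooseBasis R M).reindex (Fintype.equivFin _)⟩
  obtain ⟨G, hGdef⟩ : ∃ G, G = LinearMap.toMatrix b b (g : M →ₗ[R] M) := ⟨_, rfl⟩
  obtain ⟨Jm, hJm⟩ : ∃ Jm : Matrix _ _ R, ∀ i j, Jm i j = QuadraticMap.polar Q (b i) (b j) :=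
    ⟨Matrix.of fun i j => QuadraticMap.polar Q (b i) (b j), fun i j => rfl⟩
  obtain ⟨U, hU⟩ : ∃ U : Matrix _ _ R, ∀ i j, U i j = if i < j then Jm i j else 0 :=
    ⟨Matrix.of fun i j => if i < j then Jm i j else 0, fun i j => rfl⟩
  have hJ : Jm = U - Uᵀ := by
    ext i j
    rw [Matrix.sub_apply, Matrix.transpose_apply, hU, hU]
    rcases lt_trichotomy i j with h | h | h
    · rw [if_pos h, if_neg (not_lt.2 h.le), sub_zero]
    · subst h
      rw [if_neg (lt_irrefl _), sub_zero, hJm, QuadraticMap.polar_self]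
      first
        | rw [two_nsmul]; exact CharTwo.add_self_eq_zero _
        | rw [two_smul]; exact CharTwo.add_self_eq_zero _
    · rw [if_neg (not_lt.2 h.le), if_pos h, zero_sub, CharTwo.neg_eq, hJm, hJm,
        QuadraticMap.polar_comm]
  have hdetJ : IsUnit Jm.det := by
    let e : M ≃ₗ[R] Module.Dual R M := LinearEquiv.ofBijective (QuadraticMap.polarBilin Q) hQ
    have h := LinearEquiv.isUnit_det e b b.dualBasis
    have hmat : LinearMap.toMatrix b b.dualBasis (e : M →ₗ[R] Module.Dual R M) = Jmᵀ := by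
      ext i j
      rw [LinearMap.toMatrix_apply, Module.Basis.dualBasis_repr, Matrix.transpose_apply, hJm]
      rfl
    rw [hmat, Matrix.det_transpose] at h
    exact h
  have hgb : ∀ j, g (b j) = ∑ l, G l j • b l := by
    intro j
    rw [hGdef]
    simp only [LinearMap.toMatrix_apply, LinearEquiv.coe_coe]
    exact (b.sum_repr (g (b j))).symm
  have hG : Gᵀ * Jm * G = Jm := by
    ext i j
    have h1 : Jm i j = QuadraticMap.polarBilin Q (g (b i)) (g (b j)) := by
      rw [hJm, QuadraticMap.polarBilin_apply_apply]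
      simp only [QuadraticMap.polar, ← map_add, hg]
    rw [h1, hgb i, hgb j]
    simp only [map_sum, map_smul, LinearMap.sum_apply, LinearMap.smul_apply, smul_eq_mul,
      Matrix.mul_apply, Matrix.transpose_apply, Finset.sum_mul, Finset.mul_sum]
    refine Finset.sum_congr rfl fun k _ => Finset.sum_congr rfl fun l _ => ?_
    rw [hJm, QuadraticMap.polarBilin_apply_apply]
    ring
  have hdet : G.det = 1 := det_eq_one_of_alt Jm U G hJ hdetJ hG
  apply Units.ext
  rw [Units.val_one, LinearEquiv.coe_det, ← LinearMap.det_toMatrix b, ← hGdef]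
  exact hdet

end Groth.Agent.H2.SympDet
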