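import Mathlib

namespace Groth.Agent.H2.TruncPoly

open MvPolynomial

/-- the ideal of the truncated polynomial algebra -/
noncomputable abbrev I (k : Type*) [Field k] (p : ℕ) {r : ℕ} (e : Fin r → ℕ) :
    Ideal (MvPolynomial (Fin r) k) :=
  Ideal.span (Set.range fun i : Fin r => (X i : MvPolynomial (Fin r) k) ^ p ^ e i)

/-- the set of `p^n`-th powers -/
def PS (p n : ℕ) (A : Type*) [Monoid A] : Set A := {y | ∃ a : A, a ^ p ^ n = y}

lemma mul_lt_of_lt {p n e a : ℕ} (hp : 0 < p) (h : a < p ^ (e - n)) : p ^ n * a < p ^ e := by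
  rcases le_total n e with hne | hne
  · have h1 : p ^ e = p ^ n * p ^ (e - n) := by rw [← pow_add, Nat.add_sub_cancel' hne]
    rw [h1]
    exact (Nat.mul_lt_mul_left (pow_pos hp n)).mpr h
  · have h1 : a = 0 := by
      rw [Nat.sub_eq_zero_of_le hne, pow_zero] at h
      omega
    rw [h1, mul_zero]
    exact pow_pos hp e

lemma le_mul_of_le {p n e a : ℕ} (hp : 0 < p) (h : p ^ (e - n) ≤ a) : p ^ e ≤ p ^ n * a := by
  calc p ^ e ≤ p ^ (n + (e - n)) := Nat.pow_le_pow_right hp (by omega)
    _ = p ^ n * p ^ (e - n) := pow_add _ _ _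
    _ ≤ p ^ n * a := Nat.mul_le_mul_left _ h

section
variable {k : Type*} [Field k] (p : ℕ) {r : ℕ} (e : Fin r → ℕ)

lemma mem_I (F : MvPolynomial (Fin r) k) :
    F ∈ I k p e ↔ ∀ m ∈ F.support, ∃ i, p ^ e i ≤ m i := by
  have h1 : (Set.range fun i : Fin r => (X i : MvPolynomial (Fin r) k) ^ p ^ e i) =
      (fun s => monomial s (1 : k)) ''
        (Set.range fun i : Fin r => Finsupp.single i (p ^ e i)) := by
    rw [← Set.range_comp]
    apply congrArg Set.range
    funext i
    simp only [Function.comp, X_pow_eq_monomial]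
  show F ∈ Ideal.span (Set.range fun i : Fin r => (X i : MvPolynomial (Fin r) k) ^ p ^ e i) ↔ _
  rw [h1, mem_ideal_span_monomial_image]
  constructor
  · intro h m hm
    obtain ⟨s, ⟨i, rfl⟩, hs⟩ := h m hm
    exact ⟨i, Finsupp.single_le_iff.mp hs⟩
  · intro h m hm
    obtain ⟨i, hi⟩ := h m hm
    exact ⟨_, ⟨i, rfl⟩, Finsupp.single_le_iff.mpr hi⟩

/-- exponent vector of an index -/
noncomputable def tf (n : ℕ) (α : (i : Fin r) → Fin (p ^ (e i - n))) : Fin r →₀ ℕ :=
  Finsupp.equivFunOnFinite.symm (fun i => (α i : ℕ))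

lemma tf_apply (n : ℕ) (α : (i : Fin r) → Fin (p ^ (e i - n))) (i : Fin r) :
    tf p e n α i = (α i : ℕ) := rfl

/-- the basis vectors of the span of `p^n`-th powers -/
noncomputable def v (k : Type*) [Field k] (p : ℕ) {r : ℕ} (e : Fin r → ℕ) (n : ℕ)
    (α : (i : Fin r) → Fin (p ^ (e i - n))) : MvPolynomial (Fin r) k ⧸ I k p e :=
  Ideal.Quotient.mk (I k p e) (monomial (p ^ n • tf p e n α) 1)

lemma smul_mk_monomial (c : k) (m : Fin r →₀ ℕ) :
    c • (Ideal.Quotient.mk (I k p e) (monomial m 1)) =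
      Ideal.Quotient.mk (I k p e) (monomial m c) := by
  have h1 : c • (Ideal.Quotient.mk (I k p e) (monomial m 1)) =
      Ideal.Quotient.mk (I k p e) (c • monomial m (1 : k)) :=
    (map_smul (Ideal.Quotient.mkₐ k (I k p e)) c (monomial m 1)).symm
  rw [h1, smul_monomial, smul_eq_mul, mul_one]

lemma v_linearIndependent (hp : 0 < p) (n : ℕ) : LinearIndependent k (v k p e n) := by
  classical
  rw [linearIndependent_iff']
  intro s g hsum α₀ hα₀
  have hG : (∑ α ∈ s, monomial (p ^ n • tf p e n α) (g α) : MvPolynomial (Fin r) k) ∈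
      I k p e := by
    rw [← Ideal.Quotient.eq_zero_iff_mem, map_sum, ← hsum]
    apply Finset.sum_congr rfl
    intro α _
    unfold v
    rw [smul_mk_monomial]
  by_contra hne
  have hinj : ∀ α ∈ s, α ≠ α₀ → p ^ n • tf p e n α ≠ p ^ n • tf p e n α₀ := by
    intro α _ hα h
    apply hα
    funext i
    apply Fin.ext
    have h1 := DFunLike.congr_fun h i
    rw [Finsupp.smul_apply, Finsupp.smul_apply, smul_eq_mul, smul_eq_mul, tf_apply, tf_apply]
      at h1
    exact Nat.eq_of_mul_eq_mul_left (pow_pos hp n) h1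
  have hcoeff : coeff (p ^ n • tf p e n α₀)
      (∑ α ∈ s, monomial (p ^ n • tf p e n α) (g α) : MvPolynomial (Fin r) k) = g α₀ := by
    rw [coeff_sum, Finset.sum_eq_single α₀]
    · rw [coeff_monomial, if_pos rfl]
    · intro α hα hαne
      rw [coeff_monomial, if_neg (hinj α hα hαne)]
    · intro h
      exact absurd hα₀ h
  have hsupp : p ^ n • tf p e n α₀ ∈
      (∑ α ∈ s, monomial (p ^ n • tf p e n α) (g α) : MvPolynomial (Fin r) k).support := by
    rw [mem_support_iff, hcoeff]
    exact hne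
  obtain ⟨i, hi⟩ := (mem_I p e _).mp hG _ hsupp
  rw [Finsupp.smul_apply, smul_eq_mul, tf_apply] at hi
  have h2 := mul_lt_of_lt (n := n) (e := e i) hp (α₀ i).2
  omega

lemma span_pow_eq (hp : p.Prime) [CharP k p] (n : ℕ) :
    Submodule.span k (PS p n (MvPolynomial (Fin r) k ⧸ I k p e)) =
      Submodule.span k (Set.range (v k p e n)) := by
  apply le_antisymm
  · rw [Submodule.span_le]
    rintro y ⟨a, rfl⟩
    obtain ⟨F, rfl⟩ := Ideal.Quotient.mk_surjective a
    rw [← map_pow]
    haveI : ExpChar k p := ExpChar.prime hp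
    have hF : F ^ p ^ n = ∑ m ∈ F.support, monomial (p ^ n • m) ((coeff m F) ^ p ^ n) := by
      conv_lhs => rw [F.as_sum]
      rw [sum_pow_char_pow p n]
      apply Finset.sum_congr rfl
      intro m _
      rw [monomial_pow]
    rw [hF, map_sum]
    apply Submodule.sum_mem
    intro m _
    by_cases hm : ∀ i, m i < p ^ (e i - n)
    · obtain ⟨α, hα⟩ : ∃ α : (i : Fin r) → Fin (p ^ (e i - n)), α = fun i => ⟨m i, hm i⟩ :=
        ⟨_, rfl⟩
      have hαm : tf p e n α = m := by
        ext i
        rw [tf_apply, hα]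
      have h1 : Ideal.Quotient.mk (I k p e) (monomial (p ^ n • m) (coeff m F ^ p ^ n)) =
          (coeff m F ^ p ^ n) • v k p e n α := by
        unfold v
        rw [hαm, smul_mk_monomial]
      rw [h1]
      exact Submodule.smul_mem _ _ (Submodule.subset_span ⟨α, rfl⟩)
    · push Not at hm
      obtain ⟨i, hi⟩ := hm
      have h1 : monomial (p ^ n • m) (coeff m F ^ p ^ n) ∈ I k p e := by
        rw [mem_I]
        intro m' hm'
        have h2 := support_monomial_subset hm'
        rw [Finset.mem_singleton] at h2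
        subst h2
        refine ⟨i, ?_⟩
        rw [Finsupp.smul_apply, smul_eq_mul]
        exact le_mul_of_le hp.pos hi
      rw [Ideal.Quotient.eq_zero_iff_mem.mpr h1]
      exact Submodule.zero_mem _
  · rw [Submodule.span_le]
    rintro y ⟨α, rfl⟩
    apply Submodule.subset_span
    refine ⟨Ideal.Quotient.mk _ (monomial (tf p e n α) 1), ?_⟩
    unfold v
    rw [← map_pow, monomial_pow, one_pow]

lemma finrank_pow_span (hp : p.Prime) [CharP k p] (n : ℕ) :
    Module.finrank k (Submodule.span k (PS p n (MvPolynomial (Fin r) k ⧸ I k p e))) =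
      p ^ ∑ i, (e i - n) := by
  rw [span_pow_eq p e hp n, finrank_span_eq_card (v_linearIndependent p e hp.pos n),
    Fintype.card_pi]
  simp only [Fintype.card_fin]
  exact Finset.prod_pow_eq_pow_sum _ _ _

end

lemma sum_sub_succ {r : ℕ} (e : Fin r → ℕ) (n : ℕ) :
    ∑ i, (e i - n) = ∑ i, (e i - (n + 1)) + (Finset.univ.filter (fun i => n < e i)).card := by
  rw [Finset.card_filter, ← Finset.sum_add_distrib]
  apply Finset.sum_congr rfl
  intro i _
  split_ifs <;> omega

lemma card_eq_val {r : ℕ} (e : Fin r → ℕ) (v : ℕ) (hv : 1 ≤ v) :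
    (Finset.univ.filter (fun i => e i = v)).card + (Finset.univ.filter (fun i => v < e i)).card =
      (Finset.univ.filter (fun i => v - 1 < e i)).card := by
  rw [Finset.card_filter, Finset.card_filter, Finset.card_filter, ← Finset.sum_add_distrib]
  apply Finset.sum_congr rfl
  intro i _
  split_ifs <;> omega

lemma exists_equiv {r s : ℕ} (e : Fin r → ℕ) (f : Fin s → ℕ) (he : ∀ i, 1 ≤ e i)
    (hf : ∀ j, 1 ≤ f j) (hD : ∀ n, ∑ i, (e i - n) = ∑ j, (f j - n)) :
    ∃ σ : Fin r ≃ Fin s, ∀ i, f (σ i) = e i := by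
  have hgt : ∀ n, (Finset.univ.filter (fun i => n < e i)).card =
      (Finset.univ.filter (fun j => n < f j)).card := by
    intro n
    have h1 := sum_sub_succ e n
    have h2 := sum_sub_succ f n
    have h3 := hD n
    have h4 := hD (n + 1)
    omega
  have heq : ∀ v, Fintype.card {i // e i = v} = Fintype.card {j // f j = v} := by
    intro v
    rw [Fintype.card_subtype, Fintype.card_subtype]
    rcases Nat.eq_zero_or_pos v with rfl | hv
    · have h1 : (Finset.univ.filter (fun i => e i = 0)) = ∅ := by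
        rw [Finset.filter_eq_empty_iff]
        intro i _ h
        have := he i
        omega
      have h2 : (Finset.univ.filter (fun j => f j = 0)) = ∅ := by
        rw [Finset.filter_eq_empty_iff]
        intro j _ h
        have := hf j
        omega
      rw [h1, h2, Finset.card_empty, Finset.card_empty]
    · have h1 := card_eq_val e v hv
      have h2 := card_eq_val f v hv
      have h3 := hgt v
      have h4 := hgt (v - 1)
      omega
  refine ⟨Equiv.ofFiberEquiv (fun v => Fintype.equivOfCardEq (heq v)), fun i => ?_⟩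
  exact Equiv.ofFiberEquiv_map _ i

theorem main (p : ℕ) [Fact p.Prime] (k : Type*) [Field k] [CharP k p] (r s : ℕ)
    (e : Fin r → ℕ) (f : Fin s → ℕ) (he : ∀ i, 1 ≤ e i) (hf : ∀ j, 1 ≤ f j)
    (φ : (MvPolynomial (Fin r) k ⧸ I k p e) ≃ₐ[k] (MvPolynomial (Fin s) k ⧸ I k p f)) :
    ∃ σ : Fin r ≃ Fin s, ∀ i : Fin r, f (σ i) = e i := by
  have hp : p.Prime := Fact.out
  apply exists_equiv e f he hf
  intro n
  have h1 := finrank_pow_span (k := k) p e hp n
  have h2 := finrank_pow_span (k := k) p f hp n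
  have h3 : Submodule.map (φ.toLinearEquiv : _ →ₗ[k] _)
      (Submodule.span k (PS p n (MvPolynomial (Fin r) k ⧸ I k p e))) =
      Submodule.span k (PS p n (MvPolynomial (Fin s) k ⧸ I k p f)) := by
    rw [Submodule.map_span]
    apply congrArg (Submodule.span k)
    ext z
    constructor
    · rintro ⟨y, ⟨a, rfl⟩, rfl⟩
      exact ⟨φ a, by simp⟩
    · rintro ⟨b, rfl⟩
      exact ⟨(φ.symm b) ^ p ^ n, ⟨φ.symm b, rfl⟩, by simp⟩
  have h4 := LinearEquiv.finrank_map_eq φ.toLinearEquiv
    (Submodule.span k (PS p n (MvPolynomial (Fin r) k ⧸ I k p e)))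
  rw [h3, h1, h2] at h4
  exact (Nat.pow_right_injective hp.two_le h4).symm

end Groth.Agent.H2.TruncPoly
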