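import Mathlib

/-! Subalgebras of `k[u]/(u^(N+1))` stable under the substitutions `u ↦ u/(1+au)`. -/

set_option autoImplicit false
universe u
open Polynomial

namespace Groth.Agent.H2.TruncSub

variable (k : Type u) [Field k] (N : ℕ)

/-- the truncated polynomial ring -/
abbrev TR : Type u := AdjoinRoot ((X : k[X]) ^ (N + 1))

/-- the class of the variable -/
noncomputable abbrev uu : TR k N := AdjoinRoot.root ((X : k[X]) ^ (N + 1))

lemma uu_pow : (uu k N) ^ (N + 1) = 0 := by
  show (AdjoinRoot.root ((X : k[X]) ^ (N + 1))) ^ (N + 1) = 0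
  rw [← AdjoinRoot.mk_X, ← map_pow, AdjoinRoot.mk_self]

lemma decomp (h : TR k N) : ∃ (c : k) (h' : TR k N), h = c • 1 + uu k N * h' := by
  obtain ⟨p, rfl⟩ := AdjoinRoot.mk_surjective h
  refine ⟨p.coeff 0, aeval (uu k N) p.divX, ?_⟩
  rw [← AdjoinRoot.aeval_eq]
  conv_lhs => rw [← Polynomial.divX_mul_X_add p]
  rw [map_add, map_mul, aeval_X, aeval_C, Algebra.algebraMap_eq_smul_one]
  ring

/-- the ideal generated by `u^j` -/
noncomputable def II (j : ℕ) : Ideal (TR k N) := Ideal.span {(uu k N) ^ j}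

lemma mem_II {j : ℕ} {x : TR k N} : x ∈ II k N j ↔ ∃ h, x = h * (uu k N) ^ j := by
  rw [II, Ideal.mem_span_singleton']
  constructor
  · rintro ⟨a, rfl⟩
    exact ⟨a, rfl⟩
  · rintro ⟨a, rfl⟩
    exact ⟨a, rfl⟩

lemma II_top : II k N (N + 1) = ⊥ := by
  rw [II, uu_pow]
  exact Ideal.span_singleton_eq_bot.mpr rfl

lemma II_decomp {j : ℕ} {x : TR k N} (hx : x ∈ II k N j) :
    ∃ (c : k) (y : TR k N), y ∈ II k N (j + 1) ∧ x = c • (uu k N) ^ j + y := by
  obtain ⟨h, rfl⟩ := (mem_II k N).mp hx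
  obtain ⟨c, h', rfl⟩ := decomp k N h
  refine ⟨c, h' * (uu k N) ^ (j + 1), (mem_II k N).mpr ⟨h', rfl⟩, ?_⟩
  simp only [Algebra.smul_def, mul_one]
  ring

variable {k N}

/-- the substitution `u ↦ u v` -/
noncomputable def sig (v : TR k N) : TR k N →ₐ[k] TR k N :=
  AdjoinRoot.liftAlgHom _ (Algebra.ofId k (TR k N)) (uu k N * v)
    (by rw [eval₂_pow, eval₂_X, mul_pow, uu_pow, zero_mul])

lemma sig_uu (v : TR k N) : sig v (uu k N) = uu k N * v :=
  AdjoinRoot.liftAlgHom_root _ _ _ _

/-- `v^j = 1 - j u + u^2 t` -/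
lemma v_pow {v : TR k N} (hv : v * (1 + uu k N) = 1) (j : ℕ) :
    ∃ t : TR k N, v ^ j = 1 - (j : TR k N) * uu k N + (uu k N) ^ 2 * t := by
  induction j with
  | zero => exact ⟨0, by simp⟩
  | succ j ih =>
    obtain ⟨t, ht⟩ := ih
    refine ⟨((j : TR k N) + 1 + t) * v, ?_⟩
    push_cast
    linear_combination v * ht + (1 - ((j : TR k N) + 1) * uu k N) * hv

/-- `σ x - x` is divisible by `u` -/
lemma sig_sub (v : TR k N) (x : TR k N) :
    ∃ a : TR k N, sig v x = x + uu k N * a := by
  obtain ⟨p, rfl⟩ := AdjoinRoot.mk_surjective x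
  rw [← AdjoinRoot.aeval_eq, ← Polynomial.aeval_algHom_apply, sig_uu]
  obtain ⟨d, hd⟩ := Polynomial.sub_dvd_eval_sub (uu k N * v) (uu k N)
    (p.map (algebraMap k (TR k N)))
  rw [Polynomial.eval_map_algebraMap, Polynomial.eval_map_algebraMap] at hd
  refine ⟨(v - 1) * d, ?_⟩
  linear_combination hd

/-- the key step: `σ - 1` raises the order by exactly one -/
lemma step {v : TR k N} (hv : v * (1 + uu k N) = 1) (j : ℕ) (c : k) (y : TR k N)
    (hy : y ∈ II k N (j + 1)) :
    ∃ y' ∈ II k N (j + 2), sig v (c • (uu k N) ^ j + y) - (c • (uu k N) ^ j + y) =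
      (-((j : k) * c)) • (uu k N) ^ (j + 1) + y' := by
  obtain ⟨h, rfl⟩ := (mem_II k N).mp hy
  obtain ⟨t, ht⟩ := v_pow hv j
  obtain ⟨t', ht'⟩ := v_pow hv (j + 1)
  obtain ⟨a, ha⟩ := sig_sub v h
  refine ⟨(algebraMap k (TR k N) c * t + (h * (-((j : TR k N) + 1) + uu k N * t') + a * v ^ (j + 1))) *
    (uu k N) ^ (j + 2), (mem_II k N).mpr ⟨_, rfl⟩, ?_⟩
  rw [map_add, map_smul, map_mul, map_pow, map_pow, sig_uu]
  simp only [Algebra.smul_def, map_neg, map_mul, map_natCast]
  push_cast at ht'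
  linear_combination (algebraMap k (TR k N) c * (uu k N) ^ j) * ht +
    ((uu k N) ^ (j + 1) * v ^ (j + 1)) * ha + (h * (uu k N) ^ (j + 1)) * ht'

variable (k N) in
theorem main [CharZero k] (A : Subalgebra k (TR k N))
    (hA : ∀ (a : k) (σ : TR k N →ₐ[k] TR k N),
      σ (uu k N) * (1 + algebraMap k (TR k N) a * uu k N) = uu k N → A.map σ ≤ A) :
    ∃ n : ℕ, 1 ≤ n ∧ n ≤ N + 1 ∧
      Subalgebra.toSubmodule A =
        Submodule.span k {1} ⊔ (Ideal.span {(uu k N) ^ n}).restrictScalars k := by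
  classical
  obtain ⟨v, hv⟩ := (IsNilpotent.isUnit_one_add ⟨N + 1, uu_pow k N⟩).exists_left_inv
  have hstab : ∀ x ∈ A, sig v x - x ∈ A := by
    intro x hx
    refine A.sub_mem ?_ hx
    apply hA 1 (sig v) (by rw [sig_uu, map_one, one_mul, mul_assoc, hv, mul_one])
    exact (Subalgebra.mem_map).mpr ⟨x, hx, rfl⟩
  let P : ℕ → Prop := fun j =>
    Subalgebra.toSubmodule A ≤ Submodule.span k {1} ⊔ (II k N j).restrictScalars k
  have hP1 : P 1 := by
    intro x _
    obtain ⟨c, h', rfl⟩ := decomp k N x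
    refine Submodule.add_mem_sup
      (Submodule.smul_mem _ _ (Submodule.mem_span_singleton_self 1)) ?_
    show uu k N * h' ∈ II k N 1
    exact (mem_II k N).mpr ⟨h', by rw [pow_one, mul_comm]⟩
  have hn1 : 1 ≤ Nat.findGreatest P (N + 1) := Nat.le_findGreatest (by omega) hP1
  have hnN : Nat.findGreatest P (N + 1) ≤ N + 1 := Nat.findGreatest_le _
  have hPn : P (Nat.findGreatest P (N + 1)) := Nat.findGreatest_spec (m := 1) (by omega) hP1
  have hgreat : ∀ j, Nat.findGreatest P (N + 1) < j → j ≤ N + 1 → ¬ P j :=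
    fun j h1 h2 => Nat.findGreatest_is_greatest h1 h2
  generalize Nat.findGreatest P (N + 1) = n at hn1 hnN hPn hgreat
  refine ⟨n, hn1, hnN, le_antisymm hPn ?_⟩
  have h1A : Submodule.span k {1} ≤ Subalgebra.toSubmodule A := by
    rw [Submodule.span_le, Set.singleton_subset_iff]
    exact A.one_mem
  refine sup_le h1A ?_
  show (II k N n).restrictScalars k ≤ Subalgebra.toSubmodule A
  have hbot : (II k N (N + 1)).restrictScalars k ≤ Subalgebra.toSubmodule A := by
    rw [II_top]
    intro x hx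
    have hx0 : x = 0 := (Submodule.mem_bot _).mp ((Submodule.restrictScalars_mem k _ x).mp hx)
    rw [hx0]
    exact A.zero_mem
  rcases Nat.lt_or_ge N n with hlt | hle
  · have e : n = N + 1 := by omega
    rw [e]
    exact hbot
  · have hnP : ¬ P (n + 1) := hgreat (n + 1) (Nat.lt_succ_self n) (by omega)
    obtain ⟨f, hfA, hf⟩ := SetLike.not_le_iff_exists.mp hnP
    obtain ⟨a0, ha0, g, hg, rfl⟩ := Submodule.mem_sup.mp (hPn hfA)
    obtain ⟨c0, rfl⟩ := Submodule.mem_span_singleton.mp ha0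
    have hg' : g ∈ II k N n := hg
    obtain ⟨c, y, hy, rfl⟩ := II_decomp k N hg'
    have hc : c ≠ 0 := by
      rintro rfl
      apply hf
      rw [zero_smul, zero_add]
      exact Submodule.add_mem_sup
        (Submodule.smul_mem _ _ (Submodule.mem_span_singleton_self 1)) hy
    have hgA : c • (uu k N) ^ n + y ∈ A := by
      have h1 := A.sub_mem hfA (A.smul_mem A.one_mem c0)
      simpa using h1
    have chain : ∀ m : ℕ, ∃ (c' : k) (y' : TR k N), c' ≠ 0 ∧ y' ∈ II k N (n + m + 1) ∧
        c' • (uu k N) ^ (n + m) + y' ∈ A := by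
      intro m
      induction m with
      | zero => exact ⟨c, y, hc, hy, hgA⟩
      | succ m ih =>
        obtain ⟨c', y', hc', hy', hmem⟩ := ih
        obtain ⟨y'', hy'', heq⟩ := step hv (n + m) c' y' hy'
        refine ⟨-(((n + m : ℕ) : k) * c'), y'', ?_, hy'', ?_⟩
        · have h0 : ((n + m : ℕ) : k) ≠ 0 := Nat.cast_ne_zero.mpr (by omega)
          exact neg_ne_zero.mpr (mul_ne_zero h0 hc')
        · have h1 := hstab _ hmem
          rw [heq] at h1
          exact h1
    have down : ∀ d j : ℕ, j + d = N + 1 → n ≤ j →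
        (II k N j).restrictScalars k ≤ Subalgebra.toSubmodule A := by
      intro d
      induction d with
      | zero =>
        intro j hj _
        have e : j = N + 1 := by omega
        rw [e]
        exact hbot
      | succ d ih =>
        intro j hj hnj
        have ih' := ih (j + 1) (by omega) (by omega)
        obtain ⟨m, rfl⟩ : ∃ m, j = n + m := ⟨j - n, by omega⟩
        obtain ⟨c', y', hc', hy', hmem⟩ := chain m
        have hy'A : y' ∈ A := ih' hy'
        have huA : (uu k N) ^ (n + m) ∈ A := by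
          have h1 : c' • (uu k N) ^ (n + m) ∈ A := by
            have h2 := A.sub_mem hmem hy'A
            simpa using h2
          have h2 := A.smul_mem h1 c'⁻¹
          rwa [smul_smul, inv_mul_cancel₀ hc', one_smul] at h2
        intro x hx
        obtain ⟨h, rfl⟩ := (mem_II k N).mp hx
        obtain ⟨c1, h', rfl⟩ := decomp k N h
        have e : (c1 • 1 + uu k N * h') * (uu k N) ^ (n + m) =
            c1 • (uu k N) ^ (n + m) + h' * (uu k N) ^ (n + m + 1) := by
          simp only [Algebra.smul_def, mul_one]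
          ring
        rw [e]
        exact A.add_mem (A.smul_mem huA c1) (ih' ((mem_II k N).mpr ⟨h', rfl⟩))
    exact down (N + 1 - n) n (by omega) le_rfl

end Groth.Agent.H2.TruncSub
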