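import Mathlib

set_option autoImplicit false
universe u
open CategoryTheory CategoryTheory.Limits AlgebraicGeometry

namespace Groth.Agent.H2

open AlgebraicGeometry.Scheme.Pullback

lemma subsingleton_spec_tensor {X Y S : Scheme.{u}} {f : X ⟶ S} {g : Y ⟶ S} (T : Triplet f g)
    (h : Function.Surjective (g.residueFieldMap T.y)) : Subsingleton (Spec T.tensor) := by
  have h1 : Function.Surjective
      ((S.residueFieldCongr T.hy).inv ≫ g.residueFieldMap T.y).hom := by
    rw [CommRingCat.hom_comp]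
    exact h.comp (ConcreteCategory.bijective_of_isIso (S.residueFieldCongr T.hy).inv).surjective
  have h2 : Function.Surjective (T.tensorInl).hom :=
    RingHom.surjective_isStableUnderBaseChange.pushout_inl RingHom.surjective_respectsIso _ _ h1
  have h3 : Function.Injective (Spec.map T.tensorInl) :=
    PrimeSpectrum.comap_injective_of_surjective _ h2
  have : Subsingleton (Spec (X.residueField T.x)) :=
    inferInstanceAs (Subsingleton (PrimeSpectrum (X.residueField T.x)))
  exact h3.subsingleton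

lemma eq_of_fst_eq_of_snd_eq {X Y S : Scheme.{u}} {f : X ⟶ S} {g : Y ⟶ S}
    (z z' : ↑(pullback f g)) (h1 : pullback.fst f g z = pullback.fst f g z')
    (h2 : pullback.snd f g z = pullback.snd f g z')
    (h : Function.Surjective (g.residueFieldMap (pullback.snd f g z'))) : z = z' := by
  apply (carrierEquiv (f := f) (g := g)).injective
  refine carrierEquiv_eq_iff.mpr ⟨Triplet.ext h1 h2, ?_⟩
  have : Subsingleton (Spec (carrierEquiv z').fst.tensor) :=
    subsingleton_spec_tensor (Triplet.ofPoint z') h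
  exact Subsingleton.elim _ _

theorem exists_nhd_eq_of_comp_eq {X S : Scheme.{u}} (f : X ⟶ S) [IsFinite f]
    [FormallyUnramified f] (s : S) (x : X)
    (hx : f.base ⁻¹' {s} = {x}) (hκ : Function.Surjective (f.residueFieldMap x)) :
    ∃ U : S.Opens, s ∈ U ∧ ∀ (T : Scheme.{u}) (g h : T ⟶ X), g ≫ f = h ≫ f →
      (∀ t, f (g t) ∈ U) → g = h := by
  let Δ := pullback.diagonal f
  let π := pullback.fst f f ≫ f
  have hΔ : IsOpenImmersion Δ := inferInstance
  have hπ : IsFinite π := inferInstance
  have hZ : IsClosed (Set.range Δ)ᶜ := Δ.isOpenEmbedding.isOpen_range.isClosed_compl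
  have hW : IsClosed (π '' (Set.range Δ)ᶜ) := π.isClosedMap _ hZ
  refine ⟨⟨(π '' (Set.range Δ)ᶜ)ᶜ, hW.isOpen_compl⟩, ?_, ?_⟩
  · rintro ⟨z, hz, hzs⟩
    apply hz
    have hzs' : f (pullback.fst f f z) = s := hzs
    have h1 : pullback.fst f f z = x := by
      have : pullback.fst f f z ∈ f.base ⁻¹' {s} := hzs'
      rw [hx] at this; exact this
    have h2 : pullback.snd f f z = x := by
      have : pullback.snd f f z ∈ f.base ⁻¹' {s} := by
        show f (pullback.snd f f z) = s
        rw [← Scheme.Hom.comp_apply, ← pullback.condition, Scheme.Hom.comp_apply]; exact hzs'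
      rw [hx] at this; exact this
    refine ⟨x, ?_⟩
    apply eq_of_fst_eq_of_snd_eq
    · rw [← Scheme.Hom.comp_apply, pullback.diagonal_fst, h1]; rfl
    · rw [← Scheme.Hom.comp_apply, pullback.diagonal_snd, h2]; rfl
    · rw [h2]; exact hκ
  · intro T g h e hU
    let φ : T ⟶ pullback f f := pullback.lift g h e
    have hφ : Set.range φ ⊆ Set.range Δ := by
      rintro _ ⟨t, rfl⟩
      by_contra hc
      refine hU t ⟨φ t, hc, ?_⟩
      show (pullback.fst f f ≫ f) (φ t) = f (g t)
      rw [← Scheme.Hom.comp_apply, ← Category.assoc, pullback.lift_fst, Scheme.Hom.comp_apply]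
    let ψ := IsOpenImmersion.lift Δ φ hφ
    have hψ : ψ ≫ Δ = φ := IsOpenImmersion.lift_fac _ _ _
    calc g = φ ≫ pullback.fst f f := (pullback.lift_fst _ _ _).symm
      _ = ψ ≫ Δ ≫ pullback.fst f f := by rw [← hψ, Category.assoc]
      _ = ψ ≫ Δ ≫ pullback.snd f f := by rw [pullback.diagonal_fst, pullback.diagonal_snd]
      _ = φ ≫ pullback.snd f f := by rw [← Category.assoc, hψ]
      _ = h := pullback.lift_snd _ _ _

theorem mono_morphismRestrict_of_eq_of_comp_eq {X S : Scheme.{u}} (f : X ⟶ S) (U : S.Opens)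
    (hU : ∀ (T : Scheme.{u}) (g h : T ⟶ X), g ≫ f = h ≫ f → (∀ t, f (g t) ∈ U) → g = h)
    (U' : S.Opens) (hle : U' ≤ U) : Mono (f ∣_ U') := by
  refine ⟨fun {T} g h e => ?_⟩
  have := hU T (g ≫ (f ⁻¹ᵁ U').ι) (h ≫ (f ⁻¹ᵁ U').ι) ?_ ?_
  · exact (cancel_mono _).mp this
  · simp only [Category.assoc, ← morphismRestrict_ι]; rw [reassoc_of% e]
  · intro t
    apply hle
    rw [Scheme.Hom.comp_apply]
    exact (g t).2

end Groth.Agent.H2
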