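import Mathlib
import Groth.Agent.H2.W2Poly

set_option autoImplicit false

/-!
Frobenius liftability of complete intersections over `W₂(k)` (helper for S13139).
-/

universe u

open MvPolynomial

namespace Groth.Agent.H2.W2

open FrobAlg

/-- recursive form of weak regularity of a finite sequence in a ring -/
def WR {R : Type*} [CommRing R] : (m : ℕ) → (Fin m → R) → Prop
  | 0, _ => True
  | (m + 1), f => WR m (fun i => f (Fin.castSucc i)) ∧
      ∀ x : R, x * f (Fin.last m) ∈
          Ideal.span (Set.range (fun i : Fin m => f (Fin.castSucc i))) →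
        x ∈ Ideal.span (Set.range (fun i : Fin m => f (Fin.castSucc i)))

theorem wr_of_isWeaklyRegular {R : Type*} [CommRing R] : ∀ (m : ℕ) (f : Fin m → R),
    RingTheory.Sequence.IsWeaklyRegular R (List.ofFn f) → WR m f := by
  intro m
  induction m with
  | zero => intro f _; trivial
  | succ m ih =>
    intro f h
    rw [List.ofFn_succ', List.concat_eq_append, RingTheory.Sequence.isWeaklyRegular_append_iff,
      RingTheory.Sequence.isWeaklyRegular_singleton_iff] at h
    refine ⟨ih _ h.1, ?_⟩
    intro x hx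
    have hI : (Ideal.ofList (List.ofFn fun i : Fin m => f (Fin.castSucc i)) • ⊤ :
        Submodule R R) = Ideal.span (Set.range (fun i : Fin m => f (Fin.castSucc i))) := by
      rw [Ideal.smul_eq_mul, Ideal.mul_top]
      apply congrArg Ideal.span
      ext r
      simp [List.mem_ofFn]
    have hinj := h.2
    have h0 : (f (Fin.last m)) • (Submodule.Quotient.mk x :
        R ⧸ (Ideal.ofList (List.ofFn fun i : Fin m => f (Fin.castSucc i)) • ⊤ :
          Submodule R R)) = (f (Fin.last m)) • 0 := by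
      rw [smul_zero, ← Submodule.Quotient.mk_smul, Submodule.Quotient.mk_eq_zero, hI, smul_eq_mul,
        mul_comm]
      exact hx
    have h1 := hinj h0
    rw [Submodule.Quotient.mk_eq_zero, hI] at h1
    exact h1

theorem lift_syzygy {R' R : Type*} [CommRing R'] [CommRing R] (ρ : R' →+* R)
    (hρ : Function.Surjective ρ) :
    ∀ (m : ℕ) (f' : Fin m → R'), WR m (fun i => ρ (f' i)) →
      ∀ c : Fin m → R, ∑ i, c i * ρ (f' i) = 0 →
        ∃ c' : Fin m → R', (∀ i, ρ (c' i) = c i) ∧ ∑ i, c' i * f' i = 0 := by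
  intro m
  induction m with
  | zero =>
    intro f' _ c _
    exact ⟨fun i => i.elim0, fun i => i.elim0, by simp⟩
  | succ m ih =>
    intro f' hwr c hc
    have hwr' : WR m (fun i => ρ (f' (Fin.castSucc i))) ∧
        ∀ x : R, x * ρ (f' (Fin.last m)) ∈
          Ideal.span (Set.range (fun i : Fin m => ρ (f' (Fin.castSucc i)))) →
        x ∈ Ideal.span (Set.range (fun i : Fin m => ρ (f' (Fin.castSucc i)))) := hwr
    obtain ⟨hwr1, hwr2⟩ := hwr'
    rw [Fin.sum_univ_castSucc] at hc
    have h1 : c (Fin.last m) * ρ (f' (Fin.last m)) ∈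
        Ideal.span (Set.range (fun i : Fin m => ρ (f' (Fin.castSucc i)))) := by
      rw [eq_neg_of_add_eq_zero_right hc]
      refine neg_mem (Ideal.sum_mem _ fun i _ => ?_)
      exact Ideal.mul_mem_left _ _ (Ideal.subset_span ⟨i, rfl⟩)
    have h2 := hwr2 _ h1
    obtain ⟨t, ht⟩ := Ideal.mem_span_range_iff_exists_fun.mp h2
    have hd : ∑ i : Fin m, (c (Fin.castSucc i) + t i * ρ (f' (Fin.last m))) *
        ρ (f' (Fin.castSucc i)) = 0 := by
      have e : ∑ i : Fin m, t i * ρ (f' (Fin.last m)) * ρ (f' (Fin.castSucc i)) =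
          (∑ i : Fin m, t i * ρ (f' (Fin.castSucc i))) * ρ (f' (Fin.last m)) := by
        rw [Finset.sum_mul]
        exact Finset.sum_congr rfl (fun i _ => by ring)
      simp only [add_mul, Finset.sum_add_distrib]
      rw [e, ht]
      exact hc
    obtain ⟨d', hd'1, hd'2⟩ := ih (fun i => f' (Fin.castSucc i)) hwr1
      (fun i => c (Fin.castSucc i) + t i * ρ (f' (Fin.last m))) hd
    choose t' ht' using fun i => hρ (t i)
    refine ⟨Fin.snoc (α := fun _ => R') (fun i => d' i - t' i * f' (Fin.last m))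
      (∑ i : Fin m, t' i * f' (Fin.castSucc i)), ?_, ?_⟩
    · intro i
      refine Fin.lastCases ?_ (fun i => ?_) i
      · rw [Fin.snoc_last, map_sum]
        simp only [map_mul, ht']
        exact ht
      · rw [Fin.snoc_castSucc, map_sub, map_mul, hd'1, ht', add_sub_cancel_right]
    · rw [Fin.sum_univ_castSucc]
      simp only [Fin.snoc_castSucc, Fin.snoc_last, sub_mul, Finset.sum_sub_distrib]
      have e : ∑ i : Fin m, t' i * f' (Fin.last m) * f' (Fin.castSucc i) =
          (∑ i : Fin m, t' i * f' (Fin.castSucc i)) * f' (Fin.last m) := by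
        rw [Finset.sum_mul]
        exact Finset.sum_congr rfl (fun i _ => by ring)
      rw [hd'2, e, zero_sub, neg_add_cancel]

section poly2

variable (p : ℕ) [Fact p.Prime] (k : Type u) [Field k] [CharP k p] [PerfectRing k p] (n : ℕ)

theorem map_res_surjective :
    Function.Surjective (MvPolynomial.map (res p k) :
      MvPolynomial (Fin n) (W2 p k) → MvPolynomial (Fin n) k) :=
  MvPolynomial.map_surjective _
    (fun a => ⟨TruncatedWittVector.mk p ![a, 0], by rw [res_apply]; rfl⟩)

theorem natCast_poly_eq_zero : ((p : ℕ) : MvPolynomial (Fin n) k) = 0 := by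
  rw [← map_natCast (MvPolynomial.C : k →+* MvPolynomial (Fin n) k), CharP.cast_eq_zero,
    map_zero]

theorem poly_p_torsion (x : MvPolynomial (Fin n) (W2 p k))
    (hx : (p : MvPolynomial (Fin n) (W2 p k)) * x = 0) :
    ∃ y, x = (p : MvPolynomial (Fin n) (W2 p k)) * y := by
  have h1 : MvPolynomial.map (res p k) x = 0 := by
    ext mm
    rw [MvPolynomial.coeff_map, MvPolynomial.coeff_zero, res_apply, ← p_mul_eq_zero_iff p k]
    have h2 := congrArg (MvPolynomial.coeff mm) hx
    rw [← map_natCast (MvPolynomial.C : W2 p k →+* MvPolynomial (Fin n) (W2 p k)),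
      MvPolynomial.coeff_C_mul, MvPolynomial.coeff_zero] at h2
    exact h2
  have h3 : x ∈ RingHom.ker (MvPolynomial.map (res p k) :
      MvPolynomial (Fin n) (W2 p k) →+* MvPolynomial (Fin n) k) := h1
  rw [ker_map_res, Ideal.mem_span_singleton'] at h3
  obtain ⟨y, hy⟩ := h3
  exact ⟨y, by rw [← hy, mul_comm]⟩

variable {n}

theorem flat_of_regular {m : ℕ} (f' : Fin m → MvPolynomial (Fin n) (W2 p k))
    (hwr : WR m (fun i => MvPolynomial.map (res p k) (f' i))) :
    ((Ideal.Quotient.mk (Ideal.span (Set.range f'))).comp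
      (MvPolynomial.C : W2 p k →+* MvPolynomial (Fin n) (W2 p k))).Flat := by
  have halg : ((Ideal.Quotient.mk (Ideal.span (Set.range f'))).comp
      (MvPolynomial.C : W2 p k →+* MvPolynomial (Fin n) (W2 p k))) =
      algebraMap (W2 p k) (MvPolynomial (Fin n) (W2 p k) ⧸ Ideal.span (Set.range f')) := rfl
  rw [halg, RingHom.flat_algebraMap_iff]
  apply flat_of_forall p k
  intro b hb
  obtain ⟨a, rfl⟩ := Ideal.Quotient.mk_surjective b
  rw [Algebra.smul_def, map_natCast,
    ← map_natCast (Ideal.Quotient.mk (Ideal.span (Set.range f'))) p, ← map_mul,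
    Ideal.Quotient.eq_zero_iff_mem] at hb
  obtain ⟨c, hc⟩ := Ideal.mem_span_range_iff_exists_fun.mp hb
  have hsum : ∑ i, MvPolynomial.map (res p k) (c i) * MvPolynomial.map (res p k) (f' i) = 0 := by
    have h1 := congrArg (MvPolynomial.map (res p k)) hc
    rw [map_sum, map_mul, map_natCast, natCast_poly_eq_zero, zero_mul] at h1
    simp only [map_mul] at h1
    exact h1
  obtain ⟨c', hc'1, hc'2⟩ := lift_syzygy (MvPolynomial.map (res p k))
    (map_res_surjective p k n) m f' hwr (fun i => MvPolynomial.map (res p k) (c i)) hsum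
  have he : ∀ i, ∃ e, c i - c' i = e * (p : MvPolynomial (Fin n) (W2 p k)) := by
    intro i
    have h1 : c i - c' i ∈ RingHom.ker (MvPolynomial.map (res p k) :
        MvPolynomial (Fin n) (W2 p k) →+* MvPolynomial (Fin n) k) := by
      rw [RingHom.mem_ker, map_sub, hc'1, sub_self]
    rw [ker_map_res, Ideal.mem_span_singleton'] at h1
    obtain ⟨e, he⟩ := h1
    exact ⟨e, he.symm⟩
  choose e he using he
  have hmemJ : ∑ i, e i * f' i ∈ Ideal.span (Set.range f') :=
    Ideal.sum_mem _ fun i _ => Ideal.mul_mem_left _ _ (Ideal.subset_span ⟨i, rfl⟩)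
  have h2 : (p : MvPolynomial (Fin n) (W2 p k)) * (a - ∑ i, e i * f' i) = 0 := by
    have e1 : ∑ i, c i * f' i = ∑ i, c' i * f' i +
        (p : MvPolynomial (Fin n) (W2 p k)) * ∑ i, e i * f' i := by
      rw [Finset.mul_sum, ← Finset.sum_add_distrib]
      refine Finset.sum_congr rfl fun i _ => ?_
      have := he i
      linear_combination (f' i) * this
    rw [mul_sub, ← hc, e1, hc'2, zero_add, sub_self]
  obtain ⟨y, hy⟩ := poly_p_torsion p k n _ h2
  refine ⟨Ideal.Quotient.mk _ y, ?_⟩
  rw [Algebra.smul_def, map_natCast,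
    ← map_natCast (Ideal.Quotient.mk (Ideal.span (Set.range f'))) p, ← map_mul, ← hy, map_sub,
    Ideal.Quotient.eq_zero_iff_mem.mpr hmemJ, sub_zero]

end poly2

section main

variable (p : ℕ) [Fact p.Prime] (k : Type u) [Field k] [CharP k p] [PerfectRing k p]

theorem ci_iff {n m : ℕ} (f : Fin m → MvPolynomial (Fin n) k)
    (hreg : RingTheory.Sequence.IsRegular (MvPolynomial (Fin n) k) (List.ofFn f)) :
    FrobAlg.IsFLiftable p k (MvPolynomial (Fin n) k ⧸ Ideal.span (Set.range f)) ↔
    ∃ (f' : Fin m → MvPolynomial (Fin n) (FrobAlg.W2 p k))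
      (h : Fin n → MvPolynomial (Fin n) (FrobAlg.W2 p k)),
      (∀ i, MvPolynomial.map (FrobAlg.res p k) (f' i) = f i) ∧
      ∀ i, FrobAlg.polyFrob p k (Fin n) (f' i) - f' i ^ p
        - (p : MvPolynomial (Fin n) (FrobAlg.W2 p k)) *
            ∑ j, MvPolynomial.pderiv j (f' i) ^ p * h j
        ∈ Ideal.span {(p : MvPolynomial (Fin n) (FrobAlg.W2 p k))} *
            Ideal.span (Set.range f') := by
  have hwrf : WR m f := wr_of_isWeaklyRegular m f hreg.toIsWeaklyRegular
  have hcommon : ∀ f' : Fin m → MvPolynomial (Fin n) (W2 p k),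
      (∀ i, MvPolynomial.map (res p k) (f' i) = f i) →
      ((Ideal.Quotient.mk (Ideal.span (Set.range f'))).comp
        (MvPolynomial.C : W2 p k →+* MvPolynomial (Fin n) (W2 p k))).Flat ∧
      (Ideal.span (Set.range f')).map (MvPolynomial.map (res p k)) =
        Ideal.span (Set.range f) := by
    intro f' hf'
    constructor
    · apply flat_of_regular p k f'
      have : (fun i => MvPolynomial.map (res p k) (f' i)) = f := funext hf'
      rw [this]; exact hwrf
    · rw [Ideal.map_span]
      apply congrArg Ideal.span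
      ext x
      constructor
      · rintro ⟨_, ⟨i, rfl⟩, rfl⟩; exact ⟨i, (hf' i).symm⟩
      · rintro ⟨i, rfl⟩; exact ⟨f' i, ⟨i, rfl⟩, hf' i⟩
  constructor
  · -- (⇒)
    rintro ⟨B, _, ι, π, Φ, hF⟩
    have hL : IsLift p k _ B ι π := hF.toIsLift
    have hpp : (p : B) * (p : B) = 0 := natCast_mul_natCast p k ι
    choose y hy using fun j : Fin n =>
      hL.surj (Ideal.Quotient.mk (Ideal.span (Set.range f)) (MvPolynomial.X j))
    obtain ⟨ev, hev⟩ : ∃ ev : MvPolynomial (Fin n) (W2 p k) →+* B,
      ev = MvPolynomial.eval₂Hom ι y := ⟨_, rfl⟩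
    have hevC : ∀ w, ev (C w) = ι w := by intro w; rw [hev]; simp
    have hevX : ∀ j, ev (X j) = y j := by intro j; rw [hev]; simp
    have hπev : ∀ a, π (ev a) = Ideal.Quotient.mk (Ideal.span (Set.range f))
        (MvPolynomial.map (res p k) a) := by
      have hcomp : π.comp ev = (Ideal.Quotient.mk (Ideal.span (Set.range f))).comp
          (MvPolynomial.map (res p k)) := by
        apply MvPolynomial.ringHom_ext
        · intro w
          rw [RingHom.comp_apply, RingHom.comp_apply, hevC, MvPolynomial.map_C]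
          have h1 := RingHom.congr_fun hL.comm w
          rw [RingHom.comp_apply, RingHom.comp_apply] at h1
          rw [h1]
          exact (Ideal.Quotient.mk_algebraMap k _ _).symm
        · intro j
          rw [RingHom.comp_apply, RingHom.comp_apply, hevX, hy, MvPolynomial.map_X]
      intro a; exact RingHom.congr_fun hcomp a
    have hevp : ev (p : MvPolynomial (Fin n) (W2 p k)) = (p : B) := map_natCast ev p
    have hstep : ∀ b : B, ∃ a b₁, b = ev a + (p : B) * b₁ := by
      intro b
      obtain ⟨r, hr⟩ := Ideal.Quotient.mk_surjective (π b)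
      obtain ⟨a, rfl⟩ := map_res_surjective p k n r
      have h1 : π (b - ev a) = 0 := by rw [map_sub, hπev, hr, sub_self]
      obtain ⟨b₁, hb₁⟩ := lift_exists p k hL h1
      exact ⟨a, b₁, by rw [← hb₁]; ring⟩
    have hsurj : Function.Surjective ev := by
      intro b
      obtain ⟨a, b₁, rfl⟩ := hstep b
      obtain ⟨a₁, b₂, rfl⟩ := hstep b₁
      refine ⟨a + (p : MvPolynomial (Fin n) (W2 p k)) * a₁, ?_⟩
      rw [map_add, map_mul, hevp]
      linear_combination (-b₂) * hpp
    have hf'ex : ∀ i, ∃ g : MvPolynomial (Fin n) (W2 p k),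
        ev g = 0 ∧ MvPolynomial.map (res p k) g = f i := by
      intro i
      obtain ⟨g, hg⟩ := map_res_surjective p k n (f i)
      have h1 : π (ev g) = 0 := by
        rw [hπev, hg, Ideal.Quotient.eq_zero_iff_mem]; exact Ideal.subset_span ⟨i, rfl⟩
      obtain ⟨b, hb⟩ := lift_exists p k hL h1
      obtain ⟨g₁, rfl⟩ := hsurj b
      refine ⟨g - (p : MvPolynomial (Fin n) (W2 p k)) * g₁, ?_, ?_⟩
      · rw [map_sub, map_mul, hevp, hb, sub_self]
      · rw [map_sub, map_mul, map_natCast, natCast_poly_eq_zero, zero_mul, sub_zero, hg]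
    choose f' hf'0 hf' using hf'ex
    obtain ⟨hflat, hmapJ⟩ := hcommon f' hf'
    have hJK : ∀ a ∈ Ideal.span (Set.range f'), ev a = 0 := by
      intro a ha
      have hle : Ideal.span (Set.range f') ≤ RingHom.ker ev := by
        rw [Ideal.span_le]; rintro _ ⟨i, rfl⟩; exact hf'0 i
      exact hle ha
    have hdec : ∀ a, π (ev a) = 0 → ∃ j ∈ Ideal.span (Set.range f'), ∃ c,
        a = j + (p : MvPolynomial (Fin n) (W2 p k)) * c := by
      intro a ha
      rw [hπev, Ideal.Quotient.eq_zero_iff_mem, ← hmapJ,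
        Ideal.mem_map_iff_of_surjective _ (map_res_surjective p k n)] at ha
      obtain ⟨j, hj, hja⟩ := ha
      have h1 : a - j ∈ RingHom.ker (MvPolynomial.map (res p k) :
          MvPolynomial (Fin n) (W2 p k) →+* MvPolynomial (Fin n) k) := by
        rw [RingHom.mem_ker, map_sub, hja, sub_self]
      rw [ker_map_res, Ideal.mem_span_singleton'] at h1
      obtain ⟨c, hc⟩ := h1
      exact ⟨j, hj, c, by rw [mul_comm, hc]; ring⟩
    have hKJ : ∀ a, ev a = 0 → a ∈ Ideal.span (Set.range f') := by
      intro a ha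
      obtain ⟨j, hj, c, rfl⟩ := hdec a (by rw [ha, map_zero])
      have h1 : (p : B) * ev c = 0 := by
        have h0 := ha
        rw [map_add, hJK j hj, zero_add, map_mul, hevp] at h0
        exact h0
      have h2 : π (ev c) = 0 := lift_of_p_mul p k hL h1
      obtain ⟨j₂, hj₂, c₂, rfl⟩ := hdec c h2
      have h3 : (p : MvPolynomial (Fin n) (W2 p k)) * (j₂ + p * c₂) = p * j₂ := by
        linear_combination c₂ * pR_sq p k n
      rw [h3]
      exact Ideal.add_mem _ hj (Ideal.mul_mem_left _ _ hj₂)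
    obtain ⟨Ebar, hEbar⟩ : ∃ Ebar :
        (MvPolynomial (Fin n) (W2 p k) ⧸ Ideal.span (Set.range f')) →+* B,
        ∀ a, Ebar (Ideal.Quotient.mk _ a) = ev a :=
      ⟨Ideal.Quotient.lift _ ev hJK, fun a => Ideal.Quotient.lift_mk _ _ _⟩
    have hEinj : Function.Injective Ebar := by
      rw [injective_iff_map_eq_zero]
      intro b hb
      obtain ⟨a, rfl⟩ := Ideal.Quotient.mk_surjective b
      rw [hEbar] at hb
      exact Ideal.Quotient.eq_zero_iff_mem.mpr (hKJ a hb)
    have hEsurj : Function.Surjective Ebar := by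
      intro b
      obtain ⟨a, rfl⟩ := hsurj b
      exact ⟨Ideal.Quotient.mk _ a, hEbar a⟩
    obtain ⟨e, he⟩ : ∃ e : (MvPolynomial (Fin n) (W2 p k) ⧸ Ideal.span (Set.range f')) ≃+* B,
        ∀ b, e b = Ebar b :=
      ⟨RingEquiv.ofBijective Ebar ⟨hEinj, hEsurj⟩, fun b => rfl⟩
    obtain ⟨Φ', hΦ'⟩ : ∃ Φ' : (MvPolynomial (Fin n) (W2 p k) ⧸ Ideal.span (Set.range f')) →+*
        (MvPolynomial (Fin n) (W2 p k) ⧸ Ideal.span (Set.range f')),
        ∀ b, e (Φ' b) = Φ (e b) :=
      ⟨(e.symm.toRingHom.comp Φ).comp e.toRingHom, fun b => by simp⟩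
    have h1 : Φ'.comp ((Ideal.Quotient.mk (Ideal.span (Set.range f'))).comp MvPolynomial.C) =
        ((Ideal.Quotient.mk (Ideal.span (Set.range f'))).comp MvPolynomial.C).comp
          (sigma p k) := by
      refine RingHom.ext fun w => e.injective ?_
      show e (Φ' (Ideal.Quotient.mk _ (C w))) = e (Ideal.Quotient.mk _ (C (sigma p k w)))
      rw [hΦ', he, he, hEbar, hEbar, hevC, hevC]
      exact RingHom.congr_fun hF.semi w
    have hE2 : ∀ b, π (e b) = Ideal.quotEquivOfEq hmapJ
        (Ideal.quotientMap ((Ideal.span (Set.range f')).map (MvPolynomial.map (res p k)))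
          (MvPolynomial.map (res p k)) Ideal.le_comap_map b) := by
      intro b
      obtain ⟨a, rfl⟩ := Ideal.Quotient.mk_surjective b
      rw [he, hEbar, hπev, Ideal.quotientMap_mk, Ideal.quotEquivOfEq_mk]
    have h2 : ∀ b, Ideal.quotientMap ((Ideal.span (Set.range f')).map (MvPolynomial.map (res p k)))
          (MvPolynomial.map (res p k)) Ideal.le_comap_map (Φ' b) =
        (Ideal.quotientMap ((Ideal.span (Set.range f')).map (MvPolynomial.map (res p k)))
          (MvPolynomial.map (res p k)) Ideal.le_comap_map b) ^ p := by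
      intro b
      apply (Ideal.quotEquivOfEq hmapJ).injective
      rw [← hE2, hΦ', hF.red, hE2, map_pow]
    obtain ⟨h, hcong⟩ := (frobenius_lifts_iff p k f' hflat).1 ⟨Φ', h1, h2⟩
    exact ⟨f', h, hf', hcong⟩
  · -- (⇐)
    rintro ⟨f', h, hf', hcong⟩
    obtain ⟨hflat, hmapJ⟩ := hcommon f' hf'
    obtain ⟨Φ, hΦ1, hΦ2⟩ := (frobenius_lifts_iff p k f' hflat).2 ⟨h, hcong⟩
    have hker : ∀ a ∈ Ideal.span (Set.range f'),
        ((Ideal.Quotient.mk (Ideal.span (Set.range f))).comp
          (MvPolynomial.map (res p k))) a = 0 := by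
      intro a ha
      rw [RingHom.comp_apply, Ideal.Quotient.eq_zero_iff_mem, ← hmapJ]
      exact Ideal.mem_map_of_mem _ ha
    obtain ⟨π, hπ⟩ : ∃ π : (MvPolynomial (Fin n) (W2 p k) ⧸ Ideal.span (Set.range f')) →+*
        (MvPolynomial (Fin n) k ⧸ Ideal.span (Set.range f)),
        ∀ a, π (Ideal.Quotient.mk _ a) =
          Ideal.Quotient.mk _ (MvPolynomial.map (res p k) a) :=
      ⟨Ideal.Quotient.lift _ _ hker, fun a => by rw [Ideal.Quotient.lift_mk]; rfl⟩
    have hE : ∀ b, π b = Ideal.quotEquivOfEq hmapJ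
        (Ideal.quotientMap ((Ideal.span (Set.range f')).map (MvPolynomial.map (res p k)))
          (MvPolynomial.map (res p k)) Ideal.le_comap_map b) := by
      intro b
      obtain ⟨a, rfl⟩ := Ideal.Quotient.mk_surjective b
      rw [hπ, Ideal.quotientMap_mk, Ideal.quotEquivOfEq_mk]
    refine ⟨MvPolynomial (Fin n) (W2 p k) ⧸ Ideal.span (Set.range f'), inferInstance,
      (Ideal.Quotient.mk (Ideal.span (Set.range f'))).comp MvPolynomial.C, π, Φ, ?_⟩
    refine { toIsLift := ⟨hflat, ?_, ?_, ?_⟩, semi := hΦ1, red := ?_ }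
    · intro x
      obtain ⟨r, rfl⟩ := Ideal.Quotient.mk_surjective x
      obtain ⟨r', rfl⟩ := map_res_surjective p k n r
      exact ⟨Ideal.Quotient.mk _ r', hπ r'⟩
    · rw [ker_res, Ideal.map_span, Set.image_singleton, map_natCast]
      ext b
      obtain ⟨a, rfl⟩ := Ideal.Quotient.mk_surjective b
      rw [RingHom.mem_ker, hπ, Ideal.Quotient.eq_zero_iff_mem, ← hmapJ,
        Ideal.mem_map_iff_of_surjective _ (map_res_surjective p k n), Ideal.mem_span_singleton']
      constructor
      · rintro ⟨j, hj, hja⟩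
        have h1 : a - j ∈ RingHom.ker (MvPolynomial.map (res p k) :
            MvPolynomial (Fin n) (W2 p k) →+* MvPolynomial (Fin n) k) := by
          rw [RingHom.mem_ker, map_sub, hja, sub_self]
        rw [ker_map_res, Ideal.mem_span_singleton'] at h1
        obtain ⟨c, hc⟩ := h1
        refine ⟨Ideal.Quotient.mk _ c, ?_⟩
        have h2 : a = j + c * p := by rw [hc]; ring
        rw [h2, map_add, Ideal.Quotient.eq_zero_iff_mem.mpr hj, zero_add, map_mul, map_natCast]
      · rintro ⟨c, hc⟩
        obtain ⟨c', rfl⟩ := Ideal.Quotient.mk_surjective c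
        rw [← map_natCast (Ideal.Quotient.mk (Ideal.span (Set.range f'))) p, ← map_mul,
          Ideal.Quotient.eq] at hc
        refine ⟨a - c' * p, ?_, ?_⟩
        · have h3 := neg_mem hc
          rwa [neg_sub] at h3
        · rw [map_sub, map_mul, map_natCast, natCast_poly_eq_zero, mul_zero, sub_zero]
    · refine RingHom.ext fun w => ?_
      show π (Ideal.Quotient.mk _ (C w)) = algebraMap k _ (res p k w)
      rw [hπ, MvPolynomial.map_C]
      exact Ideal.Quotient.mk_algebraMap k (Ideal.span (Set.range f)) (res p k w)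
    · intro b
      rw [hE, hE, hΦ2, map_pow]

end main

end Groth.Agent.H2.W2
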