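import Mathlib
import Groth.Agent.H2.W2

set_option autoImplicit false

/-!
The first ghost component on Witt vectors of length two, and the correspondence between
Frobenius liftings of a flat lifting `B` of `A` and ring maps `B → W₂(A)` (helper for S13150).
-/

universe u v

namespace Groth.Agent.H2.W2

open FrobAlg

section ghost

variable (p : ℕ) [Fact p.Prime] (R : Type v) [CommRing R]

theorem ghostComponent_one (X : WittVector p R) :
    WittVector.ghostComponent 1 X = X.coeff 0 ^ p + (p : R) * X.coeff 1 := by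
  rw [WittVector.ghostComponent_apply, wittPolynomial_one]
  simp [add_comm]

/-- the first ghost component `(x₀, x₁) ↦ x₀^p + p x₁` on `W₂(R)` -/
noncomputable def ghost1 : W2 p R →+* R :=
  RingHom.liftOfSurjective (WittVector.truncate 2) (WittVector.truncate_surjective p 2 R)
    ⟨WittVector.ghostComponent 1, fun x hx => by
      rw [RingHom.mem_ker] at hx ⊢
      have h0 := (WittVector.mem_ker_truncate 2 x).1 (RingHom.mem_ker.2 hx) 0 (by omega)
      have h1 := (WittVector.mem_ker_truncate 2 x).1 (RingHom.mem_ker.2 hx) 1 (by omega)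
      rw [ghostComponent_one, h0, h1, zero_pow (Fact.out : p.Prime).ne_zero, mul_zero, add_zero]⟩

theorem ghost1_truncate (X : WittVector p R) :
    ghost1 p R (WittVector.truncate 2 X) = WittVector.ghostComponent 1 X :=
  RingHom.liftOfRightInverse_comp_apply _ _ _ _ X

theorem ghost1_apply (x : W2 p R) :
    ghost1 p R x = x.coeff 0 ^ p + (p : R) * x.coeff 1 := by
  obtain ⟨X, rfl⟩ := WittVector.truncate_surjective p 2 R x
  rw [ghost1_truncate, ghostComponent_one, WittVector.coeff_truncate, WittVector.coeff_truncate]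
  rfl

theorem coeff_zero_one : (1 : W2 p R).coeff 0 = 1 := by
  rw [← res_apply, map_one]

theorem coeff_zero_mul (x y : W2 p R) : (x * y).coeff 0 = x.coeff 0 * y.coeff 0 := by
  rw [← res_apply, map_mul, res_apply, res_apply]

theorem coeff_zero_add (x y : W2 p R) : (x + y).coeff 0 = x.coeff 0 + y.coeff 0 := by
  rw [← res_apply, map_add, res_apply, res_apply]

end ghost

section teich

variable (p : ℕ) [Fact p.Prime] (k : Type u) [CommRing k] [CharP k p]

/-- the Teichmüller representative in `W₂(k)` -/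
noncomputable def tau (a : k) : W2 p k := WittVector.truncate 2 (WittVector.teichmuller p a)

theorem tau_coeff_zero (a : k) : (tau p k a).coeff 0 = a := by
  unfold tau
  rw [WittVector.coeff_truncate]
  exact WittVector.teichmuller_coeff_zero p a

theorem teich_identity (w : W2 p k) :
    tau p k (w.coeff 0) ^ p + (p : W2 p k) * tau p k (w.coeff 1) = sigma p k w := by
  have h1 : tau p k (w.coeff 0) ^ p + (p : W2 p k) * tau p k (w.coeff 1) =
      WittVector.truncate 2 (WittVector.teichmuller p (w.coeff 0 ^ p) +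
        WittVector.verschiebung (WittVector.frobenius (WittVector.teichmuller p (w.coeff 1)))) := by
    unfold tau
    rw [WittVector.verschiebung_frobenius, map_pow (WittVector.teichmuller p), map_add, map_pow,
      map_mul, map_natCast, mul_comm]
  rw [h1]
  have hdis : ∀ n, (WittVector.teichmuller p (w.coeff 0 ^ p)).coeff n = 0 ∨
      (WittVector.verschiebung
        (WittVector.frobenius (WittVector.teichmuller p (w.coeff 1)))).coeff n = 0 := by
    intro n
    rcases n with _ | n
    · exact Or.inr (WittVector.verschiebung_coeff_zero _)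
    · exact Or.inl (WittVector.teichmuller_coeff_pos p _ (n + 1) (Nat.succ_pos n))
  apply TruncatedWittVector.ext
  intro i
  rw [WittVector.coeff_truncate, WittGrp.coeff_frob]
  rcases fin2_cases i with rfl | rfl
  · have h2 := WittVector.coeff_add_of_disjoint 0 _ _ hdis
    rw [WittVector.verschiebung_coeff_zero, add_zero, WittVector.teichmuller_coeff_zero] at h2
    exact h2
  · have h2 := WittVector.coeff_add_of_disjoint 1 _ _ hdis
    rw [WittVector.teichmuller_coeff_pos p _ 1 Nat.one_pos, zero_add] at h2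
    have h3 : (WittVector.verschiebung
        (WittVector.frobenius (WittVector.teichmuller p (w.coeff 1)))).coeff 1 = w.coeff 1 ^ p :=
      (WittVector.verschiebung_coeff_succ _ 0).trans
        ((WittVector.coeff_frobenius_charP p _ 0).trans
          (by rw [WittVector.teichmuller_coeff_zero]))
    rw [h3] at h2
    exact h2

end teich

section frob

variable (p : ℕ) [Fact p.Prime] (k : Type u) [CommRing k] [CharP k p] [PerfectRing k p]
variable {A B : Type u} [CommRing A] [Algebra k A] [CommRing B]
  {ι : W2 p k →+* B} {π : B →+* A}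

theorem natCast_pow_self (ι : W2 p k →+* B) : (p : B) ^ p = 0 := by
  have hp2 := (Fact.out : p.Prime).two_le
  have h1 : (p : B) ^ p = (p : B) ^ 2 * (p : B) ^ (p - 2) := by
    rw [← pow_add]; congr 1; omega
  rw [h1, pow_two, natCast_mul_natCast p k ι, zero_mul]

theorem truncMap_surjective (hπ : Function.Surjective π) :
    Function.Surjective (WittGrp.truncMap p 2 π) := by
  intro y
  refine ⟨TruncatedWittVector.mk p fun i => (hπ (y.coeff i)).choose, ?_⟩
  apply TruncatedWittVector.ext
  intro i
  rw [WittGrp.coeff_truncMap, TruncatedWittVector.coeff_mk]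
  exact (hπ (y.coeff i)).choose_spec

theorem ker_truncMap_le (h : IsLift p k A B ι π) :
    RingHom.ker (WittGrp.truncMap p 2 π) ≤ RingHom.ker (ghost1 p B) := by
  intro x hx
  rw [RingHom.mem_ker] at hx ⊢
  have h0 : π (x.coeff 0) = 0 := by
    have := congrArg (fun y => y.coeff 0) hx
    simpa [WittGrp.coeff_truncMap] using this
  have h1 : π (x.coeff 1) = 0 := by
    have := congrArg (fun y => y.coeff 1) hx
    simpa [WittGrp.coeff_truncMap] using this
  obtain ⟨y0, hy0⟩ := lift_exists p k h h0
  rw [ghost1_apply, lift_p_mul p k h h1, hy0, mul_pow, natCast_pow_self p k ι, zero_mul,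
    add_zero]

/-- two Witt vectors over `B` with the same first ghost component and congruent zeroth
components have the same image in `W₂(A)` -/
theorem truncMap_eq_of_ghost1_eq (h : IsLift p k A B ι π) (x x' : W2 p B)
    (h0 : π (x.coeff 0) = π (x'.coeff 0)) (hg : ghost1 p B x = ghost1 p B x') :
    WittGrp.truncMap p 2 π x = WittGrp.truncMap p 2 π x' := by
  apply TruncatedWittVector.ext
  intro i
  rw [WittGrp.coeff_truncMap, WittGrp.coeff_truncMap]
  rcases fin2_cases i with rfl | rfl
  · exact h0
  · have h3 : π (x'.coeff 0 - x.coeff 0) = 0 := by rw [map_sub, h0, sub_self]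
    obtain ⟨y, hy⟩ := lift_exists p k h h3
    have hx' : x'.coeff 0 = x.coeff 0 + (p : B) * y := by rw [← hy]; ring
    obtain ⟨r, hr⟩ := exists_add_pow_prime_eq (Fact.out : p.Prime) (x.coeff 0) ((p : B) * y)
    have hpp := natCast_mul_natCast p k ι
    have hpow : x'.coeff 0 ^ p = x.coeff 0 ^ p := by
      rw [hx', hr, mul_pow, natCast_pow_self p k ι, zero_mul, add_zero]
      linear_combination (x.coeff 0 * y * r) * hpp
    rw [ghost1_apply, ghost1_apply, hpow] at hg
    have h4 : (p : B) * (x.coeff 1 - x'.coeff 1) = 0 := by linear_combination hg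
    have h5 := lift_of_p_mul p k h h4
    rwa [map_sub, sub_eq_zero] at h5

/-- the canonical lift of `W₂(k) → W₂(A)` through `W₂(B)` -/
noncomputable def xlift (ι : W2 p k →+* B) (w : W2 p k) : W2 p B :=
  TruncatedWittVector.mk p ![ι (tau p k (w.coeff 0)), ι (tau p k (w.coeff 1))]

theorem xlift_spec (h : IsLift p k A B ι π) (w : W2 p k) :
    π ((xlift p k ι w).coeff 0) = π (ι w) ∧ ghost1 p B (xlift p k ι w) = ι (sigma p k w) ∧
      WittGrp.truncMap p 2 π (xlift p k ι w) = WittGrp.truncMap p 2 (algebraMap k A) w := by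
  have hc : ∀ v, π (ι v) = algebraMap k A (res p k v) := fun v => RingHom.congr_fun h.comm v
  have e0 : (xlift p k ι w).coeff 0 = ι (tau p k (w.coeff 0)) := rfl
  have e1 : (xlift p k ι w).coeff 1 = ι (tau p k (w.coeff 1)) := rfl
  refine ⟨?_, ?_, ?_⟩
  · rw [e0, hc, hc, res_apply, res_apply, tau_coeff_zero]
  · rw [ghost1_apply, e0, e1, ← teich_identity, map_add, map_pow, map_mul, map_natCast]
  · apply TruncatedWittVector.ext
    intro i
    rw [WittGrp.coeff_truncMap, WittGrp.coeff_truncMap]
    rcases fin2_cases i with rfl | rfl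
    · rw [e0, hc, res_apply, tau_coeff_zero]
    · rw [e1, hc, res_apply, tau_coeff_zero]

theorem exists_frobLift_iff (h : IsLift p k A B ι π) :
    (∃ Φ : B →+* B, IsFrobLift p k A B ι π Φ) ↔
      ∃ θ : B →+* W2 p A,
        (res p A).comp θ = π ∧ θ.comp ι = WittGrp.truncMap p 2 (algebraMap k A) := by
  have hp0 : p ≠ 0 := (Fact.out : p.Prime).ne_zero
  constructor
  · rintro ⟨Φ, hΦ⟩
    obtain ⟨Rel, hRel⟩ : ∃ Rel : B → W2 p A → Prop, ∀ b y, Rel b y ↔
        ∃ x : W2 p B, π (x.coeff 0) = π b ∧ ghost1 p B x = Φ b ∧ WittGrp.truncMap p 2 π x = y :=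
      ⟨_, fun _ _ => Iff.rfl⟩
    have hex : ∀ b, ∃ y, Rel b y := by
      intro b
      have h1 : π (Φ b - b ^ p) = 0 := by rw [map_sub, hΦ.red, map_pow, sub_self]
      obtain ⟨c, hc⟩ := lift_exists p k h h1
      refine ⟨_, (hRel _ _).mpr ⟨TruncatedWittVector.mk p ![b, c], rfl, ?_, rfl⟩⟩
      rw [ghost1_apply]
      show b ^ p + (p : B) * c = Φ b
      rw [← hc]; ring
    have huniq : ∀ b y₁ y₂, Rel b y₁ → Rel b y₂ → y₁ = y₂ := by
      intro b y₁ y₂ h1 h2
      obtain ⟨x₁, a1, g1, rfl⟩ := (hRel _ _).mp h1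
      obtain ⟨x₂, a2, g2, rfl⟩ := (hRel _ _).mp h2
      exact truncMap_eq_of_ghost1_eq p k h x₁ x₂ (a1.trans a2.symm) (g1.trans g2.symm)
    choose θ hθ using hex
    have key : ∀ b y, Rel b y → θ b = y := fun b y hy => huniq b _ _ (hθ b) hy
    have h_one : θ 1 = 1 := key 1 1 ((hRel _ _).mpr ⟨1, by rw [coeff_zero_one], by simp, by simp⟩)
    have h_zero : θ 0 = 0 := key 0 0 ((hRel _ _).mpr ⟨0, by simp, by simp, by simp⟩)
    have h_mul : ∀ a b, θ (a * b) = θ a * θ b := by
      intro a b
      obtain ⟨xa, a1, a2, a3⟩ := (hRel _ _).mp (hθ a)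
      obtain ⟨xb, b1, b2, b3⟩ := (hRel _ _).mp (hθ b)
      refine key _ _ ((hRel _ _).mpr ⟨xa * xb, ?_, ?_, ?_⟩)
      · rw [coeff_zero_mul, map_mul, map_mul, a1, b1]
      · rw [map_mul, map_mul, a2, b2]
      · rw [map_mul, a3, b3]
    have h_add : ∀ a b, θ (a + b) = θ a + θ b := by
      intro a b
      obtain ⟨xa, a1, a2, a3⟩ := (hRel _ _).mp (hθ a)
      obtain ⟨xb, b1, b2, b3⟩ := (hRel _ _).mp (hθ b)
      refine key _ _ ((hRel _ _).mpr ⟨xa + xb, ?_, ?_, ?_⟩)
      · rw [coeff_zero_add, map_add, map_add, a1, b1]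
      · rw [map_add, map_add, a2, b2]
      · rw [map_add, a3, b3]
    let θ' : B →+* W2 p A :=
      { toFun := θ
        map_one' := h_one
        map_mul' := h_mul
        map_zero' := h_zero
        map_add' := h_add }
    refine ⟨θ', ?_, ?_⟩
    · refine RingHom.ext fun b => ?_
      show res p A (θ b) = π b
      obtain ⟨x, a1, a2, a3⟩ := (hRel _ _).mp (hθ b)
      rw [← a3, res_apply, WittGrp.coeff_truncMap, a1]
    · refine RingHom.ext fun w => ?_
      show θ (ι w) = WittGrp.truncMap p 2 (algebraMap k A) w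
      obtain ⟨s1, s2, s3⟩ := xlift_spec p k h w
      refine key _ _ ((hRel _ _).mpr ⟨xlift p k ι w, s1, ?_, s3⟩)
      rw [s2]
      exact (RingHom.congr_fun hΦ.semi w).symm
  · rintro ⟨θ, hθ1, hθ2⟩
    have hTs := truncMap_surjective p (π := π) h.surj
    let G : W2 p A →+* B := RingHom.liftOfSurjective (WittGrp.truncMap p 2 π) hTs
      ⟨ghost1 p B, ker_truncMap_le p k h⟩
    have hG : ∀ x, G (WittGrp.truncMap p 2 π x) = ghost1 p B x := fun x =>
      RingHom.liftOfRightInverse_comp_apply _ _ _ _ x
    refine ⟨G.comp θ, { toIsLift := h, semi := ?_, red := ?_ }⟩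
    · refine RingHom.ext fun w => ?_
      obtain ⟨s1, s2, s3⟩ := xlift_spec p k h w
      show G (θ (ι w)) = ι (sigma p k w)
      have h1 : θ (ι w) = WittGrp.truncMap p 2 (algebraMap k A) w := RingHom.congr_fun hθ2 w
      rw [h1, ← s3, hG, s2]
    · intro b
      show π (G (θ b)) = π b ^ p
      obtain ⟨x, hx⟩ := hTs (θ b)
      have h1 : π (x.coeff 0) = π b := by
        have h2 : res p A (θ b) = π b := RingHom.congr_fun hθ1 b
        rw [← h2, ← hx, res_apply, WittGrp.coeff_truncMap]
      rw [← hx, hG, ghost1_apply, map_add, map_mul, lift_map_p p k h, zero_mul, add_zero, map_pow,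
        h1]

end frob

end Groth.Agent.H2.W2
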