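import Mathlib
import Groth.Agent.H2.W2

set_option autoImplicit false

/-!
Descent of liftings over `W₂(k)` and of Frobenius liftings along a linear retraction
(helper for S13143, S13144).
-/

universe u

namespace Groth.Agent.H2.W2

open FrobAlg

theorem exists_frobLift_of_retraction
    (p : ℕ) [Fact p.Prime] (k : Type u) [CommRing k] [CharP k p] [PerfectRing k p]
    (A B : Type u) [CommRing A] [CommRing B] [Algebra k A] [Algebra k B]
    [Algebra A B] [IsScalarTower k A B]
    (r : B →ₗ[A] A) (hr : ∀ a : A, r (algebraMap A B a) = a)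
    (A' B' : Type u) [CommRing A'] [CommRing B']
    (ιA : W2 p k →+* A') (πA : A' →+* A) (hA : IsLift p k A A' ιA πA)
    (ιB : W2 p k →+* B') (πB : B' →+* B) (hB : IsLift p k B B' ιB πB)
    (φ' : A' →+* B') (hφι : φ'.comp ιA = ιB) (hφπ : πB.comp φ' = (algebraMap A B).comp πA)
    (ΦB : B' →+* B') (hΦB : IsFrobLift p k B B' ιB πB ΦB) :
    ∃ ΦA : A' →+* A', IsFrobLift p k A A' ιA πA ΦA := by
  classical
  have hp0 : p ≠ 0 := (Fact.out : p.Prime).ne_zero
  have pB2 : (p : B') * (p : B') = 0 := natCast_mul_natCast p k ιB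
  have hπφ : ∀ x : A', πB (φ' x) = algebraMap A B (πA x) := fun x => RingHom.congr_fun hφπ x
  have hφι' : ∀ w, φ' (ιA w) = ιB w := fun w => RingHom.congr_fun hφι w
  have hφp : φ' (p : A') = (p : B') := map_natCast φ' p
  have hpA : (p : A) = 0 := by
    rw [← map_natCast (algebraMap k A) p, CharP.cast_eq_zero k p, map_zero]
  have hcA : ∀ w, πA (ιA w) = algebraMap k A (res p k w) := fun w => RingHom.congr_fun hA.comm w
  -- the defining relation of the Frobenius lift
  obtain ⟨Rel, hRel⟩ : ∃ Rel : A' → A' → Prop, ∀ a z, Rel a z ↔ (πA z = (πA a) ^ p ∧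
      ∃ c : B', ΦB (φ' a) = φ' z + (p : B') * c ∧ r (πB c) = 0) := ⟨_, fun _ _ => Iff.rfl⟩
  have hex : ∀ a, ∃ z, Rel a z := by
    intro a
    have h1 : πB (ΦB (φ' a) - φ' (a ^ p)) = 0 := by
      simp only [map_sub, hΦB.red, hπφ, map_pow, sub_self]
    obtain ⟨c, hc⟩ := lift_exists p k hB h1
    obtain ⟨t, ht⟩ := hA.surj (r (πB c))
    refine ⟨a ^ p + (p : A') * t, (hRel _ _).mpr ⟨?_, c - φ' t, ?_, ?_⟩⟩
    · rw [map_add, map_mul, lift_map_p p k hA, zero_mul, add_zero, map_pow]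
    · rw [map_add, map_mul, hφp]
      linear_combination hc
    · simp only [map_sub, hπφ, hr, ht, sub_self]
  have huniq : ∀ a z₁ z₂, Rel a z₁ → Rel a z₂ → z₁ = z₂ := by
    intro a z₁ z₂ hz₁ hz₂
    obtain ⟨h1, c₁, e1, r1⟩ := (hRel _ _).mp hz₁
    obtain ⟨h2, c₂, e2, r2⟩ := (hRel _ _).mp hz₂
    have h3 : πA (z₁ - z₂) = 0 := by rw [map_sub, h1, h2, sub_self]
    obtain ⟨y, hy⟩ := lift_exists p k hA h3
    have h4 : (p : B') * (φ' y - (c₂ - c₁)) = 0 := by
      have h5 : φ' z₁ - φ' z₂ = (p : B') * φ' y := by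
        rw [← map_sub, hy, map_mul, hφp]
      linear_combination (-1 : B') * h5 - e1 + e2
    have h6 := lift_of_p_mul p k hB h4
    simp only [map_sub, hπφ] at h6
    have h7 : πA y = 0 := by
      have h8 := congrArg r h6
      simp only [map_sub, hr, r1, r2, map_zero, sub_self, sub_zero] at h8
      exact h8
    have h9 := lift_p_mul p k hA h7
    rw [← sub_eq_zero, hy, h9]
  choose Φ hΦ using hex
  have key : ∀ a z, Rel a z → Φ a = z := fun a z hz => huniq a _ _ (hΦ a) hz
  have h_one : Φ 1 = 1 := key 1 1 ((hRel _ _).mpr ⟨by simp, 0, by simp, by simp⟩)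
  have h_zero : Φ 0 = 0 :=
    key 0 0 ((hRel _ _).mpr ⟨by simp [zero_pow hp0], 0, by simp, by simp⟩)
  have h_mul : ∀ a b, Φ (a * b) = Φ a * Φ b := by
    intro a b
    obtain ⟨ha1, ca, ea, ra⟩ := (hRel _ _).mp (hΦ a)
    obtain ⟨hb1, cb, eb, rb⟩ := (hRel _ _).mp (hΦ b)
    refine key _ _ ((hRel _ _).mpr ⟨by rw [map_mul, map_mul, ha1, hb1, mul_pow],
      φ' (Φ a) * cb + φ' (Φ b) * ca, ?_, ?_⟩)
    · simp only [map_mul, ea, eb]
      linear_combination (ca * cb) * pB2
    · simp only [map_add, map_mul, hπφ, ← Algebra.smul_def, map_smul, ra, rb, smul_zero,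
        add_zero]
  have h_add : ∀ a b, Φ (a + b) = Φ a + Φ b := by
    intro a b
    obtain ⟨ha1, ca, ea, ra⟩ := (hRel _ _).mp (hΦ a)
    obtain ⟨hb1, cb, eb, rb⟩ := (hRel _ _).mp (hΦ b)
    refine key _ _ ((hRel _ _).mpr ⟨?_, ca + cb, ?_, ?_⟩)
    · rw [map_add, map_add, ha1, hb1]
      obtain ⟨s, hs⟩ := exists_add_pow_prime_eq (Fact.out : p.Prime) (πA a) (πA b)
      rw [hs, hpA]; ring
    · simp only [map_add, ea, eb]; ring
    · simp only [map_add, ra, rb, add_zero]
  let ΦA : A' →+* A' :=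
    { toFun := Φ
      map_one' := h_one
      map_mul' := h_mul
      map_zero' := h_zero
      map_add' := h_add }
  refine ⟨ΦA, { toIsLift := hA, semi := ?_, red := ?_ }⟩
  · refine RingHom.ext fun w => ?_
    show Φ (ιA w) = ιA (sigma p k w)
    refine key _ _ ((hRel _ _).mpr ⟨?_, 0, ?_, by simp⟩)
    · rw [hcA, hcA, res_apply, res_apply, WittGrp.coeff_frob, map_pow]
    · rw [hφι', hφι', mul_zero, add_zero]
      exact RingHom.congr_fun hΦB.semi w
  · intro a
    exact ((hRel _ _).mp (hΦ a)).1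

theorem isW2Liftable_of_retraction
    (p : ℕ) [Fact p.Prime] (k : Type u) [Field k] [CharP k p] [PerfectRing k p]
    (A B : Type u) [CommRing A] [CommRing B] [Algebra k A] [Algebra k B]
    [Algebra A B] [IsScalarTower k A B]
    (r : B →ₗ[A] A) (hr : ∀ a : A, r (algebraMap A B a) = a)
    (hB : IsW2Liftable p k B) : IsW2Liftable p k A := by
  obtain ⟨B', _, ιB, πB, hL⟩ := hB
  have hrφ : ∀ (a : A) (b : B), r (algebraMap A B a * b) = a * r b := by
    intro a b; rw [← Algebra.smul_def, map_smul, smul_eq_mul]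
  have hπp : πB (p : B') = 0 := lift_map_p p k hL
  have hpA : (p : A) = 0 := by
    rw [← map_natCast (algebraMap k A) p, CharP.cast_eq_zero k p, map_zero]
  -- the subring of elements reducing into the image of `A`
  obtain ⟨S, hS⟩ : ∃ S : Subring B', ∀ x : B', x ∈ S ↔ ∃ a : A, algebraMap A B a = πB x :=
    ⟨(algebraMap A B).range.comap πB, fun _ => Iff.rfl⟩
  have hS_r : ∀ x : B', x ∈ S → algebraMap A B (r (πB x)) = πB x := by
    intro x hx
    obtain ⟨a, ha⟩ := (hS x).mp hx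
    rw [← ha, hr]
  -- the ideal `p · ker r`
  obtain ⟨J, hJ⟩ : ∃ J : Ideal S, ∀ s : S, s ∈ J ↔
      ∃ c : B', r (πB c) = 0 ∧ (s : B') = (p : B') * c := by
    refine ⟨{ carrier := {s | ∃ c : B', r (πB c) = 0 ∧ (s : B') = (p : B') * c}
              zero_mem' := ⟨0, by simp, by simp⟩
              add_mem' := ?_
              smul_mem' := ?_ }, fun _ => Iff.rfl⟩
    · rintro s t ⟨c, hc, hs⟩ ⟨d, hd, ht⟩
      exact ⟨c + d, by rw [map_add, map_add, hc, hd, add_zero],
        by rw [Subring.coe_add, hs, ht, mul_add]⟩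
    · rintro s t ⟨c, hc, ht⟩
      refine ⟨(s : B') * c, ?_, ?_⟩
      · obtain ⟨a, ha⟩ := (hS _).mp s.2
        rw [map_mul, ← ha, hrφ, hc, mul_zero]
      · rw [smul_eq_mul, Subring.coe_mul, ht]; ring
  -- the structure maps
  have hιS : ∀ w, ιB w ∈ S := by
    intro w
    refine (hS _).mpr ⟨algebraMap k A (res p k w), ?_⟩
    rw [← IsScalarTower.algebraMap_apply]
    exact (RingHom.congr_fun hL.comm w).symm
  obtain ⟨πS, hπS⟩ : ∃ πS : S →+* A, ∀ s : S, πS s = r (πB (s : B')) := by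
    refine ⟨{ toFun := fun s => r (πB (s : B'))
              map_one' := ?_
              map_mul' := ?_
              map_zero' := ?_
              map_add' := ?_ }, fun _ => rfl⟩
    · show r (πB ((1 : S) : B')) = 1
      rw [Subring.coe_one, map_one, ← map_one (algebraMap A B), hr]
    · intro s t
      show r (πB ((s * t : S) : B')) = r (πB s) * r (πB t)
      obtain ⟨a, ha⟩ := (hS _).mp s.2
      rw [Subring.coe_mul, map_mul, ← ha, hrφ, hr]
    · show r (πB ((0 : S) : B')) = 0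
      rw [Subring.coe_zero, map_zero, map_zero]
    · intro s t
      show r (πB ((s + t : S) : B')) = r (πB s) + r (πB t)
      rw [Subring.coe_add, map_add, map_add]
  have hπJ : ∀ s : S, s ∈ J → πS s = 0 := by
    intro s hs
    obtain ⟨c, hc, hsc⟩ := (hJ s).mp hs
    rw [hπS, hsc, map_mul, hπp, zero_mul, map_zero]
  -- decomposition of elements of `S` reducing to zero
  have hdecomp : ∀ s : S, πB (s : B') = 0 →
      ∃ c₁ : S, Ideal.Quotient.mk J s = (p : S ⧸ J) * Ideal.Quotient.mk J c₁ := by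
    intro s hs
    obtain ⟨c, hc⟩ := lift_exists p k hL hs
    obtain ⟨c₁, hc₁⟩ := hL.surj (algebraMap A B (r (πB c)))
    have hc₁S : c₁ ∈ S := (hS _).mpr ⟨_, hc₁.symm⟩
    refine ⟨⟨c₁, hc₁S⟩, ?_⟩
    rw [← map_natCast (Ideal.Quotient.mk J) p, ← map_mul, Ideal.Quotient.eq]
    refine (hJ _).mpr ⟨c - c₁, ?_, ?_⟩
    · rw [map_sub, map_sub, hc₁, hr, sub_self]
    · simp only [AddSubgroupClass.coe_sub, Subring.coe_mul, Subring.coe_natCast, hc]; ring
  refine ⟨S ⧸ J, inferInstance, (Ideal.Quotient.mk J).comp (ιB.codRestrict S hιS),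
    Ideal.Quotient.lift J πS hπJ, ⟨?_, ?_, ?_, ?_⟩⟩
  · -- flatness
    letI := ((Ideal.Quotient.mk J).comp (ιB.codRestrict S hιS)).toAlgebra
    show Module.Flat (W2 p k) (S ⧸ J)
    apply flat_of_forall p k
    intro m hm
    obtain ⟨s, rfl⟩ := Ideal.Quotient.mk_surjective m
    rw [Algebra.smul_def, RingHom.algebraMap_toAlgebra, map_natCast,
      ← map_natCast (Ideal.Quotient.mk J) p, ← map_mul, Ideal.Quotient.eq_zero_iff_mem] at hm
    obtain ⟨c, hc, hsc⟩ := (hJ _).mp hm
    rw [Subring.coe_mul, Subring.coe_natCast] at hsc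
    have h1 : (p : B') * ((s : B') - c) = 0 := by rw [mul_sub, hsc, sub_self]
    have h2 := lift_of_p_mul p k hL h1
    rw [map_sub, sub_eq_zero] at h2
    have h3 : πB (s : B') = 0 := by
      rw [← hS_r _ s.2, h2, hc, map_zero]
    obtain ⟨c₁, hc₁⟩ := hdecomp s h3
    refine ⟨Ideal.Quotient.mk J c₁, ?_⟩
    rw [hc₁, Algebra.smul_def, RingHom.algebraMap_toAlgebra, map_natCast]
  · -- surjectivity
    intro a
    obtain ⟨b', hb'⟩ := hL.surj (algebraMap A B a)
    refine ⟨Ideal.Quotient.mk J ⟨b', (hS _).mpr ⟨a, hb'.symm⟩⟩, ?_⟩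
    rw [Ideal.Quotient.lift_mk, hπS]
    show r (πB b') = a
    rw [hb', hr]
  · -- kernel
    rw [ker_res, Ideal.map_span, Set.image_singleton, map_natCast]
    ext m
    rw [RingHom.mem_ker, Ideal.mem_span_singleton']
    constructor
    · intro hm
      obtain ⟨s, rfl⟩ := Ideal.Quotient.mk_surjective m
      rw [Ideal.Quotient.lift_mk, hπS] at hm
      have h3 : πB (s : B') = 0 := by rw [← hS_r _ s.2, hm, map_zero]
      obtain ⟨c₁, hc₁⟩ := hdecomp s h3
      exact ⟨Ideal.Quotient.mk J c₁, by rw [hc₁, mul_comm]⟩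
    · rintro ⟨y, rfl⟩
      rw [map_mul, map_natCast, hpA, mul_zero]
  · -- compatibility with the residue map
    refine RingHom.ext fun w => ?_
    show Ideal.Quotient.lift J πS hπJ (Ideal.Quotient.mk J (ιB.codRestrict S hιS w)) =
      algebraMap k A (res p k w)
    rw [Ideal.Quotient.lift_mk, hπS]
    show r (πB (ιB w)) = algebraMap k A (res p k w)
    have h := RingHom.congr_fun hL.comm w
    simp only [RingHom.comp_apply] at h
    rw [h, IsScalarTower.algebraMap_apply k A B, hr]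

end Groth.Agent.H2.W2
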