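import Mathlib
import Groth.Agent.H2.W2

set_option autoImplicit false

/-!
Non-liftability over `W₂(k)` of the `p`-neighbourhood of the origin of a split quadric
(helper for S13146).
-/

universe u

open MvPolynomial

namespace Groth.Agent.H2.W2Quadric

section functional

variable (p : ℕ) (k : Type u) [Field k] (n : ℕ) (i₁ i₂ i₃ : Fin n)

/-- the coefficient function of the functional -/
def ft : ℕ → ℕ → k
  | 0, c => (-1) ^ c * (c : k)
  | 1, c => (-1) ^ c
  | (_ + 2), _ => 0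

theorem ft_identity : ∀ b c : ℕ, ft k b c + ft k (b + 1) c + ft k b (c + 1) = 0
  | 0, c => by
    show (-1 : k) ^ c * (c : k) + (-1) ^ c + (-1) ^ (c + 1) * ((c + 1 : ℕ) : k) = 0
    push_cast; ring
  | 1, c => by
    show (-1 : k) ^ c + 0 + (-1) ^ (c + 1) = 0
    ring
  | (b + 2), c => by
    show (0 : k) + 0 + 0 = 0
    simp

theorem ft_of_two_le : ∀ (b c : ℕ), 2 ≤ b → ft k b c = 0
  | 0, _, h => by omega
  | 1, _, h => by omega
  | (_ + 2), _, _ => rfl

theorem ft_zero_right : ∀ b : ℕ, ft k b 0 = if b = 1 then 1 else 0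
  | 0 => by show (-1 : k) ^ 0 * ((0 : ℕ) : k) = _; simp
  | 1 => by show (-1 : k) ^ 0 = _; simp
  | (b + 2) => by show (0 : k) = _; simp

/-- the exponent vector of `x_i y_i` -/
noncomputable def ee (i : Fin n) : (Fin n × Fin 2) →₀ ℕ :=
  Finsupp.single (i, 0) 1 + Finsupp.single (i, 1) 1

theorem ee_apply (i j : Fin n) (ε : Fin 2) : ee n i (j, ε) = if i = j then 1 else 0 := by
  unfold ee
  rw [Finsupp.add_apply, Finsupp.single_apply, Finsupp.single_apply]
  by_cases h : i = j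
  · subst h
    rcases W2.fin2_cases ε with rfl | rfl <;> simp
  · have h0 : ¬ ((i, (0 : Fin 2)) = (j, ε)) := fun hh => h (congrArg Prod.fst hh)
    have h1 : ¬ ((i, (1 : Fin 2)) = (j, ε)) := fun hh => h (congrArg Prod.fst hh)
    rw [if_neg h0, if_neg h1, if_neg h]
    rfl

theorem tau_eq (i : Fin n) :
    (X (i, 0) * X (i, 1) : MvPolynomial (Fin n × Fin 2) k) = monomial (ee n i) 1 := by
  show monomial (Finsupp.single (i, 0) 1) (1 : k) * monomial (Finsupp.single (i, 1) 1) 1 = _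
  rw [monomial_mul, one_mul]
  rfl

/-- balanced exponent vectors supported on the three chosen indices, of given total -/
def Good (d : (Fin n × Fin 2) →₀ ℕ) (tot : ℕ) : Prop :=
  (∀ i, d (i, 0) = d (i, 1)) ∧ (∀ i, i ≠ i₁ → i ≠ i₂ → i ≠ i₃ → d (i, 0) = 0) ∧
    d (i₁, 0) + d (i₂, 0) + d (i₃, 0) = tot

theorem good_add_ee (h12 : i₁ ≠ i₂) (h13 : i₁ ≠ i₃) (h23 : i₂ ≠ i₃)
    (d : (Fin n × Fin 2) →₀ ℕ) (i : Fin n) (tot : ℕ) :
    Good n i₁ i₂ i₃ (d + ee n i) (tot + 1) ↔
      Good n i₁ i₂ i₃ d tot ∧ (i = i₁ ∨ i = i₂ ∨ i = i₃) := by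
  unfold Good
  simp only [Finsupp.add_apply, ee_apply]
  constructor
  · rintro ⟨g1, g2, g3⟩
    have hi : i = i₁ ∨ i = i₂ ∨ i = i₃ := by
      by_contra hc
      push Not at hc
      have h := g2 i hc.1 hc.2.1 hc.2.2
      rw [if_pos rfl] at h
      omega
    refine ⟨⟨fun j => Nat.add_right_cancel (g1 j), fun j a b c => ?_, ?_⟩, hi⟩
    · exact (Nat.add_eq_zero_iff.mp (g2 j a b c)).1
    · rcases hi with rfl | rfl | rfl
      · simp only [if_true, if_false, h12, h13] at g3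
        omega
      · simp only [if_true, if_false, h12.symm, h23] at g3
        omega
      · simp only [if_true, if_false, h13.symm, h23.symm] at g3
        omega
  · rintro ⟨⟨g1, g2, g3⟩, hi⟩
    refine ⟨fun j => by rw [g1 j], fun j a b c => ?_, ?_⟩
    · have hij : i ≠ j := by
        rcases hi with rfl | rfl | rfl
        · exact a.symm
        · exact b.symm
        · exact c.symm
      rw [if_neg hij, g2 j a b c]
    · rcases hi with rfl | rfl | rfl
      · simp only [if_true, if_false, h12, h13]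
        omega
      · simp only [if_true, if_false, h12.symm, h23]
        omega
      · simp only [if_true, if_false, h13.symm, h23.symm]
        omega

open Classical in
/-- values of the functional on monomials -/
noncomputable def mu (d : (Fin n × Fin 2) →₀ ℕ) : k :=
  if Good n i₁ i₂ i₃ d p then ft k (d (i₂, 0)) (d (i₃, 0)) else 0

/-- the functional -/
noncomputable def lam : MvPolynomial (Fin n × Fin 2) k →ₗ[k] k :=
  (MvPolynomial.basisMonomials (Fin n × Fin 2) k).constr k (mu p k n i₁ i₂ i₃)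

theorem lam_monomial (d : (Fin n × Fin 2) →₀ ℕ) (c : k) :
    lam p k n i₁ i₂ i₃ (monomial d c) = c * mu p k n i₁ i₂ i₃ d := by
  have h : monomial d c = c • (MvPolynomial.basisMonomials (Fin n × Fin 2) k d) := by
    rw [MvPolynomial.coe_basisMonomials, MvPolynomial.smul_monomial, smul_eq_mul, mul_one]
  rw [h, map_smul, lam, Module.Basis.constr_basis, smul_eq_mul]

theorem lam_mul_X_pow (hp : p.Prime) [CharP k p] (v : Fin n × Fin 2)
    (d : (Fin n × Fin 2) →₀ ℕ) :
    lam p k n i₁ i₂ i₃ (monomial d 1 * X v ^ p) = 0 := by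
  rw [X_pow_eq_monomial, monomial_mul, lam_monomial, one_mul, one_mul]
  unfold mu
  split_ifs with hG
  · obtain ⟨g1, g2, g3⟩ := hG
    obtain ⟨i, ε⟩ := v
    have hv : p ≤ (d + Finsupp.single (i, ε) p) (i, 0) := by
      rcases W2.fin2_cases ε with rfl | rfl
      · simp
      · rw [g1 i]; simp
    have hp1 := hp.one_lt
    have hi : i = i₁ ∨ i = i₂ ∨ i = i₃ := by
      by_contra hc
      push Not at hc
      have h := g2 i hc.1 hc.2.1 hc.2.2
      omega
    rcases hi with rfl | rfl | rfl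
    · have hb : (d + Finsupp.single (i, ε) p) (i₂, 0) = 0 := by omega
      have hc : (d + Finsupp.single (i, ε) p) (i₃, 0) = 0 := by omega
      rw [hb, hc]
      show (-1 : k) ^ 0 * ((0 : ℕ) : k) = 0
      simp
    · exact ft_of_two_le k _ _ (le_trans hp.two_le hv)
    · have hb : (d + Finsupp.single (i, ε) p) (i₂, 0) = 0 := by omega
      have hc : (d + Finsupp.single (i, ε) p) (i, 0) = p := by omega
      rw [hb, hc]
      show (-1 : k) ^ p * ((p : ℕ) : k) = 0
      rw [CharP.cast_eq_zero, mul_zero]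
  · rfl

theorem lam_mul_pair (d : (Fin n × Fin 2) →₀ ℕ) (i j : Fin n) (hij : i ≠ j)
    (hi1 : i ≠ i₁) (hi2 : i ≠ i₂) (hj1 : j ≠ i₁) (hj2 : j ≠ i₂) :
    lam p k n i₁ i₂ i₃
      (monomial d 1 * ((X (i, 0) * X (i, 1)) * (X (j, 0) * X (j, 1)))) = 0 := by
  rw [tau_eq, tau_eq, monomial_mul, monomial_mul, lam_monomial, one_mul, one_mul, one_mul]
  unfold mu
  rw [if_neg, ]
  rintro ⟨g1, g2, g3⟩
  by_cases hi3 : i = i₃
  · have hj3 : j ≠ i₃ := fun h => hij (hi3.trans h.symm)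
    have h := g2 j hj1 hj2 hj3
    simp only [Finsupp.add_apply, ee_apply, if_true] at h
    omega
  · have h := g2 i hi1 hi2 hi3
    simp only [Finsupp.add_apply, ee_apply, if_true] at h
    omega

theorem lam_mul_q (h12 : i₁ ≠ i₂) (h13 : i₁ ≠ i₃) (h23 : i₂ ≠ i₃) (hp1 : 1 ≤ p)
    (d : (Fin n × Fin 2) →₀ ℕ) :
    lam p k n i₁ i₂ i₃ (monomial d 1 * ∑ i : Fin n, X (i, 0) * X (i, 1)) = 0 := by
  classical
  rw [Finset.mul_sum, map_sum]
  have hterm : ∀ i, lam p k n i₁ i₂ i₃ (monomial d 1 * (X (i, 0) * X (i, 1))) =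
      mu p k n i₁ i₂ i₃ (d + ee n i) := by
    intro i
    rw [tau_eq, monomial_mul, lam_monomial, one_mul, one_mul]
  simp only [hterm]
  obtain ⟨q, rfl⟩ : ∃ q, p = q + 1 := ⟨p - 1, by omega⟩
  by_cases hG : Good n i₁ i₂ i₃ d q
  · have hout : ∀ i ∈ (Finset.univ : Finset (Fin n)), i ∉ ({i₁, i₂, i₃} : Finset (Fin n)) →
        mu (q + 1) k n i₁ i₂ i₃ (d + ee n i) = 0 := by
      intro i _ hi
      simp only [Finset.mem_insert, Finset.mem_singleton, not_or] at hi
      unfold mu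
      rw [if_neg]
      rw [good_add_ee n i₁ i₂ i₃ h12 h13 h23]
      rintro ⟨_, h | h | h⟩
      · exact hi.1 h
      · exact hi.2.1 h
      · exact hi.2.2 h
    rw [← Finset.sum_subset (Finset.subset_univ _) hout]
    rw [Finset.sum_insert (by simp [h12, h13]), Finset.sum_insert (by simp [h23]),
      Finset.sum_singleton]
    have m1 : mu (q + 1) k n i₁ i₂ i₃ (d + ee n i₁) = ft k (d (i₂, 0)) (d (i₃, 0)) := by
      unfold mu
      rw [if_pos ((good_add_ee n i₁ i₂ i₃ h12 h13 h23 d i₁ q).mpr ⟨hG, Or.inl rfl⟩)]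
      simp only [Finsupp.add_apply, ee_apply, if_false, h12, h13, add_zero]
    have m2 : mu (q + 1) k n i₁ i₂ i₃ (d + ee n i₂) = ft k (d (i₂, 0) + 1) (d (i₃, 0)) := by
      unfold mu
      rw [if_pos ((good_add_ee n i₁ i₂ i₃ h12 h13 h23 d i₂ q).mpr ⟨hG, Or.inr (Or.inl rfl)⟩)]
      simp only [Finsupp.add_apply, ee_apply, if_true, if_false, h23, add_zero]
    have m3 : mu (q + 1) k n i₁ i₂ i₃ (d + ee n i₃) = ft k (d (i₂, 0)) (d (i₃, 0) + 1) := by
      unfold mu
      rw [if_pos ((good_add_ee n i₁ i₂ i₃ h12 h13 h23 d i₃ q).mpr ⟨hG, Or.inr (Or.inr rfl)⟩)]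
      simp only [Finsupp.add_apply, ee_apply, if_true, if_false, h23.symm,
        add_zero]
    rw [m1, m2, m3, ← add_assoc]
    exact ft_identity k _ _
  · apply Finset.sum_eq_zero
    intro i _
    unfold mu
    rw [if_neg]
    rw [good_add_ee n i₁ i₂ i₃ h12 h13 h23]
    exact fun h => hG h.1

/-- the generators of the test ideal -/
def gens : Set (MvPolynomial (Fin n × Fin 2) k) :=
  {z | ∃ i j : Fin n, i ≠ j ∧ i ≠ i₁ ∧ i ≠ i₂ ∧ j ≠ i₁ ∧ j ≠ i₂ ∧
      z = (X (i, 0) * X (i, 1)) * (X (j, 0) * X (j, 1))} ∪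
    insert (∑ i : Fin n, X (i, 0) * X (i, 1))
      (Set.range fun v : Fin n × Fin 2 => (X v : MvPolynomial (Fin n × Fin 2) k) ^ p)

theorem lam_eq_zero_of_mem (hp : p.Prime) [CharP k p] (h12 : i₁ ≠ i₂) (h13 : i₁ ≠ i₃)
    (h23 : i₂ ≠ i₃) (x : MvPolynomial (Fin n × Fin 2) k)
    (hx : x ∈ Ideal.span (gens p k n i₁ i₂)) : lam p k n i₁ i₂ i₃ x = 0 := by
  have key : ∀ x ∈ Ideal.span (gens p k n i₁ i₂), ∀ g, lam p k n i₁ i₂ i₃ (g * x) = 0 := by
    intro x hx
    induction hx using Submodule.span_induction with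
    | mem x hx =>
      intro g
      have h0 : (lam p k n i₁ i₂ i₃).comp (LinearMap.mulRight k x) = 0 := by
        apply (MvPolynomial.basisMonomials (Fin n × Fin 2) k).ext
        intro d
        rw [MvPolynomial.coe_basisMonomials]
        simp only [LinearMap.comp_apply, LinearMap.mulRight_apply, LinearMap.zero_apply]
        rcases hx with ⟨i, j, hij, hi1, hi2, hj1, hj2, rfl⟩ | rfl | ⟨v, rfl⟩
        · exact lam_mul_pair p k n i₁ i₂ i₃ d i j hij hi1 hi2 hj1 hj2
        · exact lam_mul_q p k n i₁ i₂ i₃ h12 h13 h23 hp.one_lt.le d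
        · exact lam_mul_X_pow p k n i₁ i₂ i₃ hp v d
      have h1 := LinearMap.congr_fun h0 g
      simpa using h1
    | zero => intro g; rw [mul_zero, map_zero]
    | add x y _ _ hx hy => intro g; rw [mul_add, map_add, hx, hy, add_zero]
    | smul a x _ hx => intro g; rw [smul_eq_mul, ← mul_assoc]; exact hx _
  have h := key x hx 1
  rwa [one_mul] at h

theorem lam_w (hp : p.Prime) (h12 : i₁ ≠ i₂) (h13 : i₁ ≠ i₃) (h23 : i₂ ≠ i₃) :
    lam p k n i₁ i₂ i₃ (∑ j ∈ Finset.Ioo 0 p,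
      (X (i₁, 0) * X (i₁, 1)) ^ j * (X (i₂, 0) * X (i₂, 1)) ^ (p - j) *
        ((p.choose j / p : ℕ) : MvPolynomial (Fin n × Fin 2) k)) = 1 := by
  classical
  rw [map_sum]
  have hterm : ∀ j ∈ Finset.Ioo 0 p, lam p k n i₁ i₂ i₃
      ((X (i₁, 0) * X (i₁, 1)) ^ j * (X (i₂, 0) * X (i₂, 1)) ^ (p - j) *
        ((p.choose j / p : ℕ) : MvPolynomial (Fin n × Fin 2) k)) =
      if j = p - 1 then ((p.choose j / p : ℕ) : k) else 0 := by
    intro j hj
    rw [Finset.mem_Ioo] at hj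
    rw [tau_eq, tau_eq, monomial_pow, monomial_pow, one_pow, one_pow, monomial_mul, one_mul,
      ← map_natCast (C : k →+* MvPolynomial (Fin n × Fin 2) k), C_apply, monomial_mul, one_mul,
      add_zero, lam_monomial]
    have hG : Good n i₁ i₂ i₃ (j • ee n i₁ + (p - j) • ee n i₂) p := by
      refine ⟨fun i => ?_, fun i a b c => ?_, ?_⟩
      · simp only [Finsupp.add_apply, Finsupp.smul_apply, ee_apply]
      · simp only [Finsupp.add_apply, Finsupp.smul_apply, ee_apply, if_neg a.symm, if_neg b.symm,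
          smul_zero, add_zero]
      · simp only [Finsupp.add_apply, Finsupp.smul_apply, ee_apply, if_true, if_false, h12,
          h12.symm, h13, h23, smul_eq_mul, mul_one, mul_zero, add_zero, zero_add]
        omega
    unfold mu
    rw [if_pos hG]
    have hb : (j • ee n i₁ + (p - j) • ee n i₂) (i₂, 0) = p - j := by
      simp only [Finsupp.add_apply, Finsupp.smul_apply, ee_apply, if_true, if_false, h12,
        smul_eq_mul, mul_one, mul_zero, zero_add]
    have hc : (j • ee n i₁ + (p - j) • ee n i₂) (i₃, 0) = 0 := by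
      simp only [Finsupp.add_apply, Finsupp.smul_apply, ee_apply, if_false, h13, h23,
        smul_eq_mul, mul_zero, add_zero]
    rw [hb, hc, ft_zero_right]
    by_cases hj1 : j = p - 1
    · rw [if_pos hj1, if_pos (by omega), mul_one]
    · rw [if_neg hj1, if_neg (by omega), mul_zero]
  rw [Finset.sum_congr rfl hterm, Finset.sum_ite_eq']
  have hp2 := hp.two_le
  rw [if_pos (Finset.mem_Ioo.mpr ⟨by omega, by omega⟩)]
  have hch : p.choose (p - 1) = p := by
    rw [Nat.choose_symm (by omega : 1 ≤ p), Nat.choose_one_right]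
  rw [hch, Nat.div_self hp.pos, Nat.cast_one]

end functional

theorem pow_sum_eq {B : Type*} [CommRing B] (p : ℕ) (hp : p.Prime) {ι : Type*} [DecidableEq ι]
    (T : ι → B) (s : Finset ι) (hT : ∀ i ∈ s, T i ^ p = 0) :
    ∃ R ∈ Ideal.span {z : B | ∃ i ∈ s, ∃ j ∈ s, i ≠ j ∧ z = T i * T j},
      (∑ i ∈ s, T i) ^ p = (p : B) * R := by
  induction s using Finset.induction_on with
  | empty => exact ⟨0, Ideal.zero_mem _, by simp [hp.ne_zero]⟩
  | insert a s ha ih =>
    obtain ⟨R, hR, hRe⟩ := ih (fun i hi => hT i (Finset.mem_insert_of_mem hi))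
    obtain ⟨r, hr⟩ := exists_add_pow_prime_eq hp (T a) (∑ i ∈ s, T i)
    refine ⟨R + T a * (∑ i ∈ s, T i) * r, ?_, ?_⟩
    · apply Ideal.add_mem
      · refine Ideal.span_mono ?_ hR
        rintro z ⟨i, hi, j, hj, hij, rfl⟩
        exact ⟨i, Finset.mem_insert_of_mem hi, j, Finset.mem_insert_of_mem hj, hij, rfl⟩
      · apply Ideal.mul_mem_right
        rw [Finset.mul_sum]
        apply Ideal.sum_mem
        intro i hi
        apply Ideal.subset_span
        exact ⟨a, Finset.mem_insert_self _ _, i, Finset.mem_insert_of_mem hi,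
          fun h => ha (by rw [h]; exact hi), rfl⟩
    · rw [Finset.sum_insert ha, hr, hT a (Finset.mem_insert_self _ _), hRe]
      ring

theorem not_liftable_aux (p : ℕ) [Fact p.Prime] (k : Type u) [Field k] [CharP k p]
    [PerfectRing k p] (n : ℕ) (hn : 3 ≤ n) (I : Ideal (MvPolynomial (Fin n × Fin 2) k))
    (hI : I = Ideal.span
      (insert (∑ i : Fin n, MvPolynomial.X (i, (0 : Fin 2)) * MvPolynomial.X (i, (1 : Fin 2)))
        (Set.range fun v : Fin n × Fin 2 =>
          (MvPolynomial.X v : MvPolynomial (Fin n × Fin 2) k) ^ p))) :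
    ¬ FrobAlg.IsW2Liftable p k (MvPolynomial (Fin n × Fin 2) k ⧸ I) := by
  classical
  rintro ⟨B, _, ι, π, hL⟩
  have hp : p.Prime := Fact.out
  obtain ⟨i₁, i₂, i₃, h12, h13, h23⟩ : ∃ i₁ i₂ i₃ : Fin n, i₁ ≠ i₂ ∧ i₁ ≠ i₃ ∧ i₂ ≠ i₃ :=
    ⟨⟨0, by omega⟩, ⟨1, by omega⟩, ⟨2, by omega⟩, by simp [Fin.ext_iff], by simp [Fin.ext_iff],
      by simp [Fin.ext_iff]⟩
  have hIK : I ≤ Ideal.span (gens p k n i₁ i₂) := by
    rw [hI]
    exact Ideal.span_mono Set.subset_union_right
  -- lifts of the variables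
  obtain ⟨xb, hxb⟩ : ∃ xb : Fin n × Fin 2 → B, ∀ v, π (xb v) = Ideal.Quotient.mk I (X v) :=
    ⟨fun v => (hL.surj _).choose, fun v => (hL.surj _).choose_spec⟩
  obtain ⟨T, hTdef⟩ : ∃ T : Fin n → B, ∀ i, T i = xb (i, 0) * xb (i, 1) := ⟨_, fun _ => rfl⟩
  have hπT : ∀ i, π (T i) = Ideal.Quotient.mk I (X (i, 0) * X (i, 1)) := by
    intro i; rw [hTdef, map_mul, hxb, hxb, map_mul]
  have hpp : (p : B) * (p : B) = 0 := W2.natCast_mul_natCast p k ι
  have hxp : ∀ v, ∃ a, xb v ^ p = (p : B) * a := by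
    intro v
    apply W2.lift_exists p k hL
    rw [map_pow, hxb, ← map_pow, Ideal.Quotient.eq_zero_iff_mem, hI]
    exact Ideal.subset_span (Set.mem_insert_of_mem _ ⟨v, rfl⟩)
  have hTp : ∀ i, T i ^ p = 0 := by
    intro i
    obtain ⟨a, ha⟩ := hxp (i, 0)
    obtain ⟨b, hb⟩ := hxp (i, 1)
    rw [hTdef, mul_pow, ha, hb]
    linear_combination (a * b) * hpp
  obtain ⟨g, hg⟩ : ∃ g, ∑ i, T i = (p : B) * g := by
    apply W2.lift_exists p k hL
    rw [map_sum]
    simp only [hπT]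
    rw [← map_sum, Ideal.Quotient.eq_zero_iff_mem, hI]
    exact Ideal.subset_span (Set.mem_insert _ _)
  -- split off the first two indices
  obtain ⟨s, hs⟩ : ∃ s : Finset (Fin n), s = (Finset.univ.erase i₁).erase i₂ := ⟨_, rfl⟩
  have hsmem : ∀ i ∈ s, i ≠ i₁ ∧ i ≠ i₂ := by
    intro i hi
    rw [hs, Finset.mem_erase, Finset.mem_erase] at hi
    exact ⟨hi.2.1, hi.1⟩
  have hsplit : T i₁ + T i₂ + ∑ i ∈ s, T i = (p : B) * g := by
    rw [← hg, add_assoc, hs, Finset.add_sum_erase _ _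
      (Finset.mem_erase.mpr ⟨h12.symm, Finset.mem_univ _⟩),
      Finset.add_sum_erase _ _ (Finset.mem_univ _)]
  -- image of the span of the products in the test ideal
  have hRK : ∀ R ∈ Ideal.span {z : B | ∃ i ∈ s, ∃ j ∈ s, i ≠ j ∧ z = T i * T j},
      ∃ y ∈ Ideal.span (gens p k n i₁ i₂), π R = Ideal.Quotient.mk I y := by
    intro R hR
    induction hR using Submodule.span_induction with
    | mem z hz =>
      obtain ⟨i, hi, j, hj, hij, rfl⟩ := hz
      refine ⟨(X (i, 0) * X (i, 1)) * (X (j, 0) * X (j, 1)),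
        Ideal.subset_span (Or.inl ⟨i, j, hij, (hsmem i hi).1, (hsmem i hi).2, (hsmem j hj).1,
          (hsmem j hj).2, rfl⟩), ?_⟩
      simp only [map_mul, hπT]
    | zero => exact ⟨0, zero_mem _, by simp⟩
    | add x y _ _ hx hy =>
      obtain ⟨a, ha, ha'⟩ := hx
      obtain ⟨b, hb, hb'⟩ := hy
      exact ⟨a + b, Ideal.add_mem _ ha hb, by rw [map_add, map_add, ha', hb']⟩
    | smul c x _ hx =>
      obtain ⟨a, ha, ha'⟩ := hx
      obtain ⟨c', hc'⟩ := Ideal.Quotient.mk_surjective (π c)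
      exact ⟨c' * a, Ideal.mul_mem_left _ _ ha, by rw [smul_eq_mul, map_mul, map_mul, ha', hc']⟩
  -- the two computations of the `p`-th power
  obtain ⟨R, hR, hRe⟩ := pow_sum_eq p hp T s (fun i _ => hTp i)
  obtain ⟨r, hr⟩ := exists_add_pow_prime_eq hp (-(T i₁ + T i₂)) ((p : B) * g)
  have hU : (∑ i ∈ s, T i) = -(T i₁ + T i₂) + (p : B) * g := by linear_combination hsplit
  have hppow : ((p : B) * g) ^ p = 0 := by
    have hp2 := hp.two_le
    have h1 : (p : B) ^ p = (p : B) ^ 2 * (p : B) ^ (p - 2) := by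
      rw [← pow_add]; congr 1; omega
    rw [mul_pow, h1, pow_two, hpp, zero_mul, zero_mul]
  obtain ⟨W, hW⟩ : ∃ W : B, W = ∑ j ∈ Finset.Ioo 0 p,
      T i₁ ^ j * T i₂ ^ (p - j) * ((p.choose j / p : ℕ) : B) := ⟨_, rfl⟩
  have h12pow := add_pow_prime_eq' hp (T i₁) (T i₂)
  rw [hTp, hTp, zero_add, zero_add, ← hW] at h12pow
  have hmain : (p : B) * ((-1) ^ p * W - R) = 0 := by
    have e1 : (∑ i ∈ s, T i) ^ p = (-1) ^ p * ((p : B) * W) := by
      rw [hU, hr, hppow, neg_pow, h12pow]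
      linear_combination ((-(T i₁ + T i₂)) * g * r) * hpp
    rw [hRe] at e1
    linear_combination (-1 : B) * e1
  have h0 := W2.lift_of_p_mul p k hL hmain
  obtain ⟨y, hy, hy'⟩ := hRK R hR
  obtain ⟨w, hw⟩ : ∃ w : MvPolynomial (Fin n × Fin 2) k, w = ∑ j ∈ Finset.Ioo 0 p,
      (X (i₁, 0) * X (i₁, 1)) ^ j * (X (i₂, 0) * X (i₂, 1)) ^ (p - j) *
        ((p.choose j / p : ℕ) : MvPolynomial (Fin n × Fin 2) k) := ⟨_, rfl⟩
  have hπW : π W = Ideal.Quotient.mk I w := by
    rw [hW, hw]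
    simp only [map_sum, map_mul, map_pow, map_natCast, hπT]
  rw [map_sub, map_mul, map_pow, map_neg, map_one, hπW, hy', ← map_one (Ideal.Quotient.mk I),
    ← map_neg, ← map_pow, ← map_mul, ← map_sub, Ideal.Quotient.eq_zero_iff_mem] at h0
  have h1 : (-1) ^ p * w ∈ Ideal.span (gens p k n i₁ i₂) := by
    have h2 := Ideal.add_mem _ (hIK h0) hy
    rwa [sub_add_cancel] at h2
  have h3 := lam_eq_zero_of_mem p k n i₁ i₂ i₃ hp h12 h13 h23 _ h1
  have h4 : ((-1 : MvPolynomial (Fin n × Fin 2) k)) ^ p * w = ((-1 : k) ^ p) • w := by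
    rw [MvPolynomial.smul_eq_C_mul, map_pow, map_neg, map_one]
  rw [h4, map_smul, hw, lam_w p k n i₁ i₂ i₃ hp h12 h13 h23, smul_eq_mul, mul_one] at h3
  exact pow_ne_zero _ (neg_ne_zero.mpr one_ne_zero) h3

theorem not_liftable (p : ℕ) [Fact p.Prime] (k : Type u) [Field k] [CharP k p] [PerfectRing k p]
    (n : ℕ) (hn : 3 ≤ n) :
    ¬ FrobAlg.IsW2Liftable p k
      (MvPolynomial (Fin n × Fin 2) k ⧸ Ideal.span
        (insert (∑ i : Fin n, MvPolynomial.X (i, (0 : Fin 2)) * MvPolynomial.X (i, (1 : Fin 2)))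
          (Set.range fun v : Fin n × Fin 2 =>
            (MvPolynomial.X v : MvPolynomial (Fin n × Fin 2) k) ^ p))) :=
  not_liftable_aux p k n hn _ rfl

end Groth.Agent.H2.W2Quadric
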