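import Groth.Agent.H2.W2Quadric

set_option autoImplicit false
set_option linter.unusedSimpArgs false
set_option linter.unusedVariables false

/-!
Non-liftability with Frobenius over `W₂(k)` of the ordinary double point (helper for S19564).
-/

universe u

open MvPolynomial

namespace Groth.Agent.H2.W2Quadric

theorem lam_C (p : ℕ) (k : Type u) [Field k] (n : ℕ) (i₁ i₂ i₃ : Fin n) (hp : p.Prime) (c : k) :
    lam p k n i₁ i₂ i₃ (C c) = 0 := by
  rw [show (C c : MvPolynomial (Fin n × Fin 2) k) = monomial 0 c from rfl, lam_monomial]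
  unfold mu
  rw [if_neg, mul_zero]
  rintro ⟨_, _, g3⟩
  simp only [Finsupp.coe_zero, Pi.zero_apply] at g3
  have := hp.pos
  omega

theorem pow_sum_eq' {B : Type*} [CommRing B] (p : ℕ) (hp : p.Prime) {ι : Type*} [DecidableEq ι]
    (T : ι → B) (s : Finset ι) :
    ∃ R ∈ Ideal.span {z : B | ∃ i ∈ s, ∃ j ∈ s, i ≠ j ∧ z = T i * T j},
      (∑ i ∈ s, T i) ^ p = ∑ i ∈ s, T i ^ p + (p : B) * R := by
  induction s using Finset.induction_on with
  | empty => exact ⟨0, Ideal.zero_mem _, by simp [hp.ne_zero]⟩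
  | insert a s ha ih =>
    obtain ⟨R, hR, hRe⟩ := ih
    obtain ⟨r, hr⟩ := exists_add_pow_prime_eq hp (T a) (∑ i ∈ s, T i)
    refine ⟨R + T a * (∑ i ∈ s, T i) * r, ?_, ?_⟩
    · apply Ideal.add_mem
      · refine Ideal.span_mono ?_ hR
        rintro z ⟨i, hi, j, hj, hij, rfl⟩
        exact ⟨i, Finset.mem_insert_of_mem hi, j, Finset.mem_insert_of_mem hj, hij, rfl⟩
      · apply Ideal.mul_mem_right
        rw [Finset.mul_sum]
        apply Ideal.sum_mem
        intro i hi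
        apply Ideal.subset_span
        exact ⟨a, Finset.mem_insert_self _ _, i, Finset.mem_insert_of_mem hi,
          fun h => ha (by rw [h]; exact hi), rfl⟩
    · rw [Finset.sum_insert ha, Finset.sum_insert ha, hr, hRe]
      ring

theorem pow_p_mem (p : ℕ) [Fact p.Prime] (k : Type u) [Field k] [CharP k p] (n : ℕ)
    (γ : MvPolynomial (Fin n × Fin 2) k) :
    ∃ c : k, γ ^ p - C c ∈ Ideal.span (Set.range fun v : Fin n × Fin 2 =>
      (X v : MvPolynomial (Fin n × Fin 2) k) ^ p) := by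
  induction γ using MvPolynomial.induction_on with
  | C a => exact ⟨a ^ p, by rw [← C_pow, sub_self]; exact Ideal.zero_mem _⟩
  | add f g hf hg =>
    obtain ⟨c, hc⟩ := hf
    obtain ⟨d, hd⟩ := hg
    refine ⟨c + d, ?_⟩
    rw [add_pow_char, C_add]
    have := Ideal.add_mem _ hc hd
    convert this using 1
    ring
  | mul_X f v _ =>
    refine ⟨0, ?_⟩
    rw [C_0, sub_zero, mul_pow]
    exact Ideal.mul_mem_left _ _ (Ideal.subset_span ⟨v, rfl⟩)

theorem not_fliftable_aux (p : ℕ) [Fact p.Prime] (hp3 : 3 ≤ p) (k : Type u) [Field k] [CharP k p]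
    [PerfectRing k p] (n : ℕ) (hn : 3 ≤ n) (I : Ideal (MvPolynomial (Fin n × Fin 2) k))
    (hI : I = Ideal.span
      {(∑ i : Fin n, MvPolynomial.X (i, (0 : Fin 2)) * MvPolynomial.X (i, (1 : Fin 2)) :
        MvPolynomial (Fin n × Fin 2) k)}) :
    ¬ FrobAlg.IsFLiftable p k (MvPolynomial (Fin n × Fin 2) k ⧸ I) := by
  classical
  rintro ⟨B, _, ι, π, Φ, hF⟩
  have hL := hF.toIsLift
  have hp : p.Prime := Fact.out
  have hodd : Odd p := hp.odd_of_ne_two (by omega)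
  obtain ⟨i₁, i₂, i₃, h12, h13, h23⟩ : ∃ i₁ i₂ i₃ : Fin n, i₁ ≠ i₂ ∧ i₁ ≠ i₃ ∧ i₂ ≠ i₃ :=
    ⟨⟨0, by omega⟩, ⟨1, by omega⟩, ⟨2, by omega⟩, by simp [Fin.ext_iff], by simp [Fin.ext_iff],
      by simp [Fin.ext_iff]⟩
  have hIK : I ≤ Ideal.span (gens p k n i₁ i₂) := by
    rw [hI]
    exact Ideal.span_mono (Set.singleton_subset_iff.mpr (Or.inr (Set.mem_insert _ _)))
  -- lifts of the variables
  obtain ⟨xb, hxb⟩ : ∃ xb : Fin n × Fin 2 → B, ∀ v, π (xb v) = Ideal.Quotient.mk I (X v) :=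
    ⟨fun v => (hL.surj _).choose, fun v => (hL.surj _).choose_spec⟩
  obtain ⟨T, hTdef⟩ : ∃ T : Fin n → B, ∀ i, T i = xb (i, 0) * xb (i, 1) := ⟨_, fun _ => rfl⟩
  have hπT : ∀ i, π (T i) = Ideal.Quotient.mk I (X (i, 0) * X (i, 1)) := by
    intro i; rw [hTdef, map_mul, hxb, hxb, map_mul]
  have hpp : (p : B) * (p : B) = 0 := W2.natCast_mul_natCast p k ι
  -- Frobenius on the lifted variables
  have hΦx : ∀ v, ∃ β, Φ (xb v) = xb v ^ p + (p : B) * β := by
    intro v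
    have h0 : π (Φ (xb v) - xb v ^ p) = 0 := by rw [map_sub, hF.red, map_pow, sub_self]
    obtain ⟨β, hβ⟩ := W2.lift_exists p k hL h0
    exact ⟨β, by linear_combination hβ⟩
  choose β hβ using hΦx
  obtain ⟨g, hg⟩ : ∃ g, ∑ i, T i = (p : B) * g := by
    apply W2.lift_exists p k hL
    rw [map_sum]
    simp only [hπT]
    rw [← map_sum, Ideal.Quotient.eq_zero_iff_mem, hI]
    exact Ideal.subset_span (Set.mem_singleton _)
  have hΦT : ∀ i, Φ (T i) = T i ^ p +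
      (p : B) * (xb (i, 0) ^ p * β (i, 1) + xb (i, 1) ^ p * β (i, 0)) := by
    intro i
    rw [hTdef, map_mul, hβ, hβ, mul_pow]
    linear_combination (β (i, 0) * β (i, 1)) * hpp
  obtain ⟨S, hS⟩ : ∃ S : B, S = ∑ i, (xb (i, 0) ^ p * β (i, 1) + xb (i, 1) ^ p * β (i, 0)) :=
    ⟨_, rfl⟩
  have hstar : ∑ i, T i ^ p + (p : B) * S = (p : B) * Φ g := by
    have h0 := congrArg Φ hg
    rw [map_sum, map_mul, map_natCast] at h0
    rw [← h0, hS, Finset.mul_sum, ← Finset.sum_add_distrib]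
    exact Finset.sum_congr rfl (fun i _ => (hΦT i).symm)
  -- split off the first two indices
  obtain ⟨s, hs⟩ : ∃ s : Finset (Fin n), s = (Finset.univ.erase i₁).erase i₂ := ⟨_, rfl⟩
  have hsmem : ∀ i ∈ s, i ≠ i₁ ∧ i ≠ i₂ := by
    intro i hi
    rw [hs, Finset.mem_erase, Finset.mem_erase] at hi
    exact ⟨hi.2.1, hi.1⟩
  have hsplit : T i₁ + T i₂ + ∑ i ∈ s, T i = (p : B) * g := by
    rw [← hg, add_assoc, hs, Finset.add_sum_erase _ _
      (Finset.mem_erase.mpr ⟨h12.symm, Finset.mem_univ _⟩),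
      Finset.add_sum_erase _ _ (Finset.mem_univ _)]
  have hsplitp : T i₁ ^ p + T i₂ ^ p + ∑ i ∈ s, T i ^ p = ∑ i, T i ^ p := by
    rw [add_assoc, hs, Finset.add_sum_erase _ (fun i => T i ^ p)
      (Finset.mem_erase.mpr ⟨h12.symm, Finset.mem_univ _⟩),
      Finset.add_sum_erase _ (fun i => T i ^ p) (Finset.mem_univ _)]
  -- image of the span of the products in the test ideal
  have hRK : ∀ R ∈ Ideal.span {z : B | ∃ i ∈ s, ∃ j ∈ s, i ≠ j ∧ z = T i * T j},
      ∃ y ∈ Ideal.span (gens p k n i₁ i₂), π R = Ideal.Quotient.mk I y := by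
    intro R hR
    induction hR using Submodule.span_induction with
    | mem z hz =>
      obtain ⟨i, hi, j, hj, hij, rfl⟩ := hz
      refine ⟨(X (i, 0) * X (i, 1)) * (X (j, 0) * X (j, 1)),
        Ideal.subset_span (Or.inl ⟨i, j, hij, (hsmem i hi).1, (hsmem i hi).2, (hsmem j hj).1,
          (hsmem j hj).2, rfl⟩), ?_⟩
      simp only [map_mul, hπT]
    | zero => exact ⟨0, zero_mem _, by simp⟩
    | add x y _ _ hx hy =>
      obtain ⟨a, ha, ha'⟩ := hx
      obtain ⟨b, hb, hb'⟩ := hy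
      exact ⟨a + b, Ideal.add_mem _ ha hb, by rw [map_add, map_add, ha', hb']⟩
    | smul c x _ hx =>
      obtain ⟨a, ha, ha'⟩ := hx
      obtain ⟨c', hc'⟩ := Ideal.Quotient.mk_surjective (π c)
      exact ⟨c' * a, Ideal.mul_mem_left _ _ ha, by rw [smul_eq_mul, map_mul, map_mul, ha', hc']⟩
  -- the two computations of the `p`-th power
  obtain ⟨R, hR, hRe⟩ := pow_sum_eq' p hp T s
  obtain ⟨r, hr⟩ := exists_add_pow_prime_eq hp (-(T i₁ + T i₂)) ((p : B) * g)
  have hU : (∑ i ∈ s, T i) = -(T i₁ + T i₂) + (p : B) * g := by linear_combination hsplit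
  have hppow : ((p : B) * g) ^ p = 0 := by
    have hp2 := hp.two_le
    have h1 : (p : B) ^ p = (p : B) ^ 2 * (p : B) ^ (p - 2) := by
      rw [← pow_add]; congr 1; omega
    rw [mul_pow, h1, pow_two, hpp, zero_mul, zero_mul]
  obtain ⟨W, hW⟩ : ∃ W : B, W = ∑ j ∈ Finset.Ioo 0 p,
      T i₁ ^ j * T i₂ ^ (p - j) * ((p.choose j / p : ℕ) : B) := ⟨_, rfl⟩
  have h12pow := add_pow_prime_eq' hp (T i₁) (T i₂)
  rw [← hW] at h12pow
  have hmain : (p : B) * (Φ g - S + R + W) = 0 := by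
    have e1 : (∑ i ∈ s, T i) ^ p = -(T i₁ ^ p + T i₂ ^ p + (p : B) * W) := by
      rw [hU, hr, hppow, hodd.neg_pow, h12pow]
      linear_combination ((-(T i₁ + T i₂)) * g * r) * hpp
    rw [hRe] at e1
    linear_combination (-1 : B) * hstar - hsplitp + e1
  have h0 := W2.lift_of_p_mul p k hL hmain
  obtain ⟨y, hy, hy'⟩ := hRK R hR
  obtain ⟨w, hw⟩ : ∃ w : MvPolynomial (Fin n × Fin 2) k, w = ∑ j ∈ Finset.Ioo 0 p,
      (X (i₁, 0) * X (i₁, 1)) ^ j * (X (i₂, 0) * X (i₂, 1)) ^ (p - j) *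
        ((p.choose j / p : ℕ) : MvPolynomial (Fin n × Fin 2) k) := ⟨_, rfl⟩
  have hπW : π W = Ideal.Quotient.mk I w := by
    rw [hW, hw]
    simp only [map_sum, map_mul, map_pow, map_natCast, hπT]
  obtain ⟨γ, hγ⟩ := Ideal.Quotient.mk_surjective (π g)
  obtain ⟨bb, hbb⟩ : ∃ bb : Fin n × Fin 2 → MvPolynomial (Fin n × Fin 2) k,
      ∀ v, Ideal.Quotient.mk I (bb v) = π (β v) :=
    ⟨fun v => (Ideal.Quotient.mk_surjective (π (β v))).choose,
      fun v => (Ideal.Quotient.mk_surjective (π (β v))).choose_spec⟩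
  obtain ⟨S', hS'⟩ : ∃ S' : MvPolynomial (Fin n × Fin 2) k,
      S' = ∑ i, (X (i, 0) ^ p * bb (i, 1) + X (i, 1) ^ p * bb (i, 0)) := ⟨_, rfl⟩
  have hπS : π S = Ideal.Quotient.mk I S' := by
    rw [hS, hS']
    simp only [map_sum, map_add, map_mul, map_pow, hxb, hbb]
  have h0' : Ideal.Quotient.mk I (γ ^ p - S' + y + w) = 0 := by
    rw [map_add, map_add, map_sub, map_pow, hγ, ← hF.red, ← hπS, ← hy', ← hπW, ← map_sub,
      ← map_add, ← map_add]
    exact h0
  rw [Ideal.Quotient.eq_zero_iff_mem] at h0'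
  obtain ⟨c, hc⟩ := pow_p_mem p k n γ
  have hS'mem : S' ∈ Ideal.span (gens p k n i₁ i₂) := by
    rw [hS']
    apply Ideal.sum_mem
    intro i _
    apply Ideal.add_mem
    · exact Ideal.mul_mem_right _ _
        (Ideal.subset_span (Or.inr (Set.mem_insert_of_mem _ ⟨(i, 0), rfl⟩)))
    · exact Ideal.mul_mem_right _ _
        (Ideal.subset_span (Or.inr (Set.mem_insert_of_mem _ ⟨(i, 1), rfl⟩)))
  have hc' : γ ^ p - C c ∈ Ideal.span (gens p k n i₁ i₂) := by
    refine Ideal.span_mono ?_ hc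
    rintro _ ⟨v, rfl⟩
    exact Or.inr (Set.mem_insert_of_mem _ ⟨v, rfl⟩)
  have h1 : w + C c ∈ Ideal.span (gens p k n i₁ i₂) := by
    have h2 := hIK h0'
    have e : w + C c = (γ ^ p - S' + y + w) - (γ ^ p - C c) + S' - y := by ring
    rw [e]
    exact Ideal.sub_mem _ (Ideal.add_mem _ (Ideal.sub_mem _ h2 hc') hS'mem) hy
  have h3 := lam_eq_zero_of_mem p k n i₁ i₂ i₃ hp h12 h13 h23 _ h1
  rw [map_add, hw, lam_w p k n i₁ i₂ i₃ hp h12 h13 h23, lam_C p k n i₁ i₂ i₃ hp, add_zero] at h3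
  exact one_ne_zero h3

end Groth.Agent.H2.W2Quadric
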