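import Mathlib
import Groth.Agent.H2.W2

set_option autoImplicit false

/-!
Twisted Witt vectors of a Frobenius split algebra give a flat lifting over `W₂(k)`
(helper for S13147).
-/

universe u

namespace Groth.Agent.H2.W2

open FrobAlg

section vv

variable (p : ℕ) [Fact p.Prime] (A : Type u) [CommRing A]

/-- the Witt vector `(0, a)` -/
noncomputable def vv (a : A) : W2 p A := TruncatedWittVector.mk p ![0, a]

theorem vv_coeff_zero (a : A) : (vv p A a).coeff 0 = 0 := rfl

theorem vv_coeff_one (a : A) : (vv p A a).coeff 1 = a := rfl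

theorem vv_eq_truncate (a : A) : vv p A a =
    WittVector.truncate 2 (WittVector.verschiebung (WittVector.teichmuller p a)) := by
  apply TruncatedWittVector.ext
  intro i
  rw [WittVector.coeff_truncate]
  rcases fin2_cases i with rfl | rfl
  · exact (WittVector.verschiebung_coeff_zero _).symm
  · exact ((WittVector.verschiebung_coeff_succ _ 0).trans
      (WittVector.teichmuller_coeff_zero p a)).symm

theorem eq_vv_of_coeff_zero (x : W2 p A) (hx : x.coeff 0 = 0) : x = vv p A (x.coeff 1) := by
  apply TruncatedWittVector.ext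
  intro i
  rcases fin2_cases i with rfl | rfl
  · rw [hx]; rfl
  · rfl

theorem vv_add (a b : A) : vv p A a + vv p A b = vv p A (a + b) := by
  rw [vv_eq_truncate, vv_eq_truncate, ← map_add, ← map_add]
  apply TruncatedWittVector.ext
  intro i
  rw [WittVector.coeff_truncate]
  rcases fin2_cases i with rfl | rfl
  · rw [vv_coeff_zero]; exact WittVector.verschiebung_coeff_zero _
  · rw [vv_coeff_one]
    refine (WittVector.verschiebung_coeff_succ _ 0).trans ?_
    rw [WittVector.add_coeff_zero, WittVector.teichmuller_coeff_zero,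
      WittVector.teichmuller_coeff_zero]

variable [CharP A p]

theorem mul_vv (y : W2 p A) (a : A) : y * vv p A a = vv p A (y.coeff 0 ^ p * a) := by
  obtain ⟨Y, rfl⟩ := WittVector.truncate_surjective p 2 A y
  rw [vv_eq_truncate, ← map_mul, mul_comm Y, ← WittVector.verschiebung_mul_frobenius]
  apply TruncatedWittVector.ext
  intro i
  rw [WittVector.coeff_truncate]
  rcases fin2_cases i with rfl | rfl
  · rw [vv_coeff_zero]; exact WittVector.verschiebung_coeff_zero _
  · rw [vv_coeff_one]
    refine (WittVector.verschiebung_coeff_succ _ 0).trans ?_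
    rw [WittVector.mul_coeff_zero, WittVector.teichmuller_coeff_zero,
      WittVector.coeff_frobenius_charP, WittVector.coeff_truncate, mul_comm]
    rfl

theorem p_mul_eq_vv (y : W2 p A) : (p : W2 p A) * y = vv p A (y.coeff 0 ^ p) := by
  apply TruncatedWittVector.ext
  intro i
  rcases fin2_cases i with rfl | rfl
  · rw [(coeff_p_mul p A y).1]; rfl
  · rw [(coeff_p_mul p A y).2]; rfl

end vv

theorem isLift_split (p : ℕ) [Fact p.Prime] (k : Type u) [Field k] [CharP k p] [PerfectRing k p]
    (A : Type u) [CommRing A] [Algebra k A] (φ : A →+ A)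
    (hφ : ∀ a b : A, φ (a ^ p * b) = a * φ b) (hφ1 : φ 1 = 1) :
    IsLift p k A (W2 p A ⧸ splitIdeal p A φ)
      ((Ideal.Quotient.mk (splitIdeal p A φ)).comp (WittGrp.truncMap p 2 (algebraMap k A)))
      (splitRes p A φ) := by
  rcases subsingleton_or_nontrivial A with hA | hA
  · haveI : Subsingleton (W2 p A) :=
      ⟨fun x y => TruncatedWittVector.ext fun i => Subsingleton.elim _ _⟩
    haveI : Subsingleton (W2 p A ⧸ splitIdeal p A φ) := ⟨fun x y => by
      obtain ⟨x, rfl⟩ := Ideal.Quotient.mk_surjective x
      obtain ⟨y, rfl⟩ := Ideal.Quotient.mk_surjective y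
      rw [Subsingleton.elim x y]⟩
    refine ⟨?_, fun a => ⟨0, Subsingleton.elim _ _⟩, ?_, RingHom.ext fun w => Subsingleton.elim _ _⟩
    · letI := ((Ideal.Quotient.mk (splitIdeal p A φ)).comp
        (WittGrp.truncMap p 2 (algebraMap k A))).toAlgebra
      show Module.Flat (W2 p k) (W2 p A ⧸ splitIdeal p A φ)
      exact flat_of_forall p k (fun m _ => ⟨0, Subsingleton.elim _ _⟩)
    · ext x
      constructor <;> intro _ <;> (rw [Subsingleton.elim x 0]; exact zero_mem _)
  · haveI : CharP A p := charP_of_injective_algebraMap (algebraMap k A).injective p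
    have hpA : (p : A) = 0 := CharP.cast_eq_zero A p
    have hI : ∀ x : W2 p A, x ∈ splitIdeal p A φ ↔ x.coeff 0 = 0 ∧ φ (x.coeff 1) = 0 := by
      intro x
      constructor
      · intro hx
        unfold splitIdeal at hx
        induction hx using Submodule.span_induction with
        | mem y hy => exact ⟨by rw [← res_apply]; exact hy.1, hy.2⟩
        | zero => exact ⟨by simp, by simp⟩
        | add y z _ _ hy hz =>
          rw [eq_vv_of_coeff_zero p A y hy.1, eq_vv_of_coeff_zero p A z hz.1, vv_add]
          exact ⟨rfl, by rw [vv_coeff_one, map_add, hy.2, hz.2, add_zero]⟩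
        | smul a y _ hy =>
          rw [smul_eq_mul, eq_vv_of_coeff_zero p A y hy.1, mul_vv]
          exact ⟨rfl, by rw [vv_coeff_one, hφ, hy.2, mul_zero]⟩
      · rintro ⟨h0, h1⟩
        exact Ideal.subset_span ⟨by rw [res_apply]; exact h0, h1⟩
    -- elements with vanishing zeroth component are multiples of `p` in the quotient
    have hker : ∀ x : W2 p A, x.coeff 0 = 0 → ∃ y : W2 p A,
        Ideal.Quotient.mk (splitIdeal p A φ) x =
          (p : W2 p A ⧸ splitIdeal p A φ) * Ideal.Quotient.mk (splitIdeal p A φ) y := by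
      intro x hx0
      obtain ⟨y, hy⟩ : ∃ y : W2 p A, y = TruncatedWittVector.mk p ![φ (x.coeff 1), 0] :=
        ⟨_, rfl⟩
      have hy0 : y.coeff 0 = φ (x.coeff 1) := by rw [hy]; rfl
      refine ⟨y, ?_⟩
      rw [← map_natCast (Ideal.Quotient.mk (splitIdeal p A φ)) p, ← map_mul, Ideal.Quotient.eq]
      obtain ⟨z, hz⟩ : ∃ z : W2 p A, z = x - (p : W2 p A) * y := ⟨_, rfl⟩
      rw [← hz, hI]
      have hz0 : z.coeff 0 = 0 := by
        rw [hz, ← res_apply, map_sub, map_mul, map_natCast, res_apply, hx0, hpA, zero_mul,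
          sub_zero]
      refine ⟨hz0, ?_⟩
      have h1 : z + (p : W2 p A) * y = x := by rw [hz]; exact sub_add_cancel _ _
      have h2 := congrArg (fun t : W2 p A => t.coeff 1) h1
      rw [eq_vv_of_coeff_zero p A z hz0, p_mul_eq_vv, vv_add] at h2
      simp only [vv_coeff_one] at h2
      have h3 : z.coeff 1 = x.coeff 1 - y.coeff 0 ^ p := by
        rw [← h2]; ring
      rw [h3, map_sub, hy0]
      have h4 : φ (φ (x.coeff 1) ^ p) = φ (x.coeff 1) := by
        have := hφ (φ (x.coeff 1)) 1
        rwa [mul_one, hφ1, mul_one] at this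
      rw [h4, sub_self]
    refine ⟨?_, ?_, ?_, ?_⟩
    · -- flatness
      letI := ((Ideal.Quotient.mk (splitIdeal p A φ)).comp
        (WittGrp.truncMap p 2 (algebraMap k A))).toAlgebra
      show Module.Flat (W2 p k) (W2 p A ⧸ splitIdeal p A φ)
      apply flat_of_forall p k
      intro m hm
      obtain ⟨x, rfl⟩ := Ideal.Quotient.mk_surjective m
      rw [Algebra.smul_def, RingHom.algebraMap_toAlgebra, map_natCast,
        ← map_natCast (Ideal.Quotient.mk (splitIdeal p A φ)) p, ← map_mul,
        Ideal.Quotient.eq_zero_iff_mem, hI, p_mul_eq_vv, vv_coeff_one] at hm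
      have hx0 : x.coeff 0 = 0 := by
        have h := hφ (x.coeff 0) 1
        rw [mul_one, hφ1, mul_one, hm.2] at h
        exact h.symm
      obtain ⟨y, hy⟩ := hker x hx0
      refine ⟨Ideal.Quotient.mk _ y, ?_⟩
      rw [hy, Algebra.smul_def, RingHom.algebraMap_toAlgebra, map_natCast]
    · -- surjectivity
      intro a
      refine ⟨Ideal.Quotient.mk _ (TruncatedWittVector.mk p ![a, 0]), ?_⟩
      show res p A (TruncatedWittVector.mk p ![a, 0]) = a
      rw [res_apply]; rfl
    · -- kernel
      rw [ker_res, Ideal.map_span, Set.image_singleton, map_natCast]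
      ext m
      rw [RingHom.mem_ker, Ideal.mem_span_singleton']
      constructor
      · intro hm
        obtain ⟨x, rfl⟩ := Ideal.Quotient.mk_surjective m
        have hx0 : x.coeff 0 = 0 := by
          have h : res p A x = 0 := hm
          rwa [res_apply] at h
        obtain ⟨y, hy⟩ := hker x hx0
        exact ⟨Ideal.Quotient.mk _ y, by rw [hy, mul_comm]⟩
      · rintro ⟨y, rfl⟩
        rw [map_mul, map_natCast, hpA, mul_zero]
    · -- compatibility
      refine RingHom.ext fun w => ?_
      show res p A (WittGrp.truncMap p 2 (algebraMap k A) w) = algebraMap k A (res p k w)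
      rw [res_apply, res_apply, WittGrp.coeff_truncMap]

end Groth.Agent.H2.W2
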