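import Mathlib

set_option autoImplicit false

namespace Groth.Agent.H2

open RootPairing Set

variable {ι R M N : Type*} [CommRing R] [AddCommGroup M] [Module R M] [AddCommGroup N] [Module R N]
  {P : RootPairing ι R M N}

lemma aut_coroot' (g : P.Aut) (x : M) (l : ι) : P.coroot' (g • l) (g • x) = P.coroot' l x := by
  have h := Hom.weight_coweight_transpose_apply P P (P.coroot (g • l)) g.toHom
  have h2 := LinearMap.congr_fun h x
  have h3 := Hom.coroot_coweightMap_apply P P (g • l) g.toHom
  have h4 : g.toHom.indexEquiv.symm (g • l) = l := g.toHom.indexEquiv.symm_apply_apply l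
  rw [h3, h4] at h2
  have h5 : g • x = g.toHom.weightMap x := rfl
  rw [h5]
  simpa using h2

lemma aut_root_smul (g : P.Aut) (i : ι) : P.root (g • i) = g • P.root i :=
  RootPairing.Equiv.root_indexEquiv_eq_smul P i g

lemma aut_mul_reflection (g : P.Aut) (i : ι) :
    g * Equiv.reflection P i = Equiv.reflection P (g • i) * g := by
  apply Equiv.weightHom_injective P
  ext x
  show g • (Equiv.reflection P i • x) = Equiv.reflection P (g • i) • (g • x)
  rw [Equiv.reflection_smul, Equiv.reflection_smul, P.reflection_apply, P.reflection_apply,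
    smul_sub, aut_root_smul, aut_coroot', smul_comm]

lemma aut_conj_reflection (g : P.Aut) (i : ι) :
    g * Equiv.reflection P i * g⁻¹ = Equiv.reflection P (g • i) := by
  rw [aut_mul_reflection, mul_assoc, mul_inv_cancel, mul_one]

lemma reflection_smul_idx (i k : ι) : Equiv.reflection P i • k = P.reflectionPerm i k := rfl

/-- Every root index is conjugate to a simple one under the group generated by simple
reflections. -/
theorem exists_simple_conj [CharZero R] [IsDomain R] [Finite ι] [P.IsCrystallographic]
    [P.IsReduced] (b : P.Base) (i : ι) :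
    ∃ g : P.Aut, g ∈ Subgroup.closure ((fun i : ι => Equiv.reflection P i) '' (b.support : Set ι)) ∧
      ∃ j ∈ b.support, g • j = i := by
  set W' := Subgroup.closure ((fun i : ι => Equiv.reflection P i) '' (b.support : Set ι)) with hW'
  refine b.induction_reflect i (p := fun i => ∃ g : P.Aut, g ∈ W' ∧ ∃ j ∈ b.support, g • j = i)
    ?_ ?_ ?_
  · rintro i ⟨g, hg, j, hj, rfl⟩
    have hs : Equiv.reflection P (g • j) ∈ W' := by
      rw [← aut_conj_reflection]
      exact mul_mem (mul_mem hg (Subgroup.subset_closure ⟨j, hj, rfl⟩)) (inv_mem hg)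
    exact ⟨Equiv.reflection P (g • j) * g, mul_mem hs hg, j, hj, by
      rw [mul_smul, reflection_smul_idx]⟩
  · intro i hi
    exact ⟨1, one_mem _, i, hi, one_smul _ _⟩
  · rintro i j' ⟨g, hg, j, hj, rfl⟩ hj'
    exact ⟨Equiv.reflection P j' * g, mul_mem (Subgroup.subset_closure ⟨j', hj', rfl⟩) hg, j, hj, by
      rw [mul_smul, reflection_smul_idx]⟩

theorem closure_simple_reflections_eq_weylGroup [CharZero R] [IsDomain R] [Finite ι]
    [P.IsCrystallographic] [P.IsReduced] (b : P.Base) :
    Subgroup.closure ((fun i : ι => Equiv.reflection P i) '' (b.support : Set ι)) =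
      P.weylGroup := by
  apply le_antisymm
  · exact Subgroup.closure_mono (image_subset_range _ _)
  · rw [weylGroup, Subgroup.closure_le]
    rintro _ ⟨i, rfl⟩
    obtain ⟨g, hg, j, hj, rfl⟩ := exists_simple_conj b i
    show Equiv.reflection P (g • j) ∈ _
    rw [← aut_conj_reflection]
    exact mul_mem (mul_mem hg (Subgroup.subset_closure ⟨j, hj, rfl⟩)) (inv_mem hg)

end Groth.Agent.H2
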