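import Groth.Agent.H2.WeylWords

/-! The Weyl group acts simply transitively on bases (Mathlib `RootPairing.Base`). -/

set_option autoImplicit false

namespace Groth.Agent.H2

open RootPairing Set

variable {ι R M N : Type*} [CommRing R] [AddCommGroup M] [Module R M] [AddCommGroup N] [Module R N]
  {P : RootPairing ι R M N}
  [CharZero R] [IsDomain R] [Finite ι] [P.IsCrystallographic] [P.IsReduced]

/-- decomposition of positive non-simple roots -/
lemma exists_add_of_isPos_of_notMem (b : P.Base) {i : ι} (hi : b.IsPos i) (hni : i ∉ b.support) :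
    ∃ k l, b.IsPos k ∧ l ∈ b.support ∧ P.root i = P.root k + P.root l := by
  have key : i ∈ b.support ∨
      ∃ k l, b.IsPos k ∧ l ∈ b.support ∧ P.root i = P.root k + P.root l := by
    refine hi.induction_on_add (p := fun i => i ∈ b.support ∨
      ∃ k l, b.IsPos k ∧ l ∈ b.support ∧ P.root i = P.root k + P.root l)
      (fun i hi => Or.inl hi) ?_
    intro i j k hk pi hj
    refine Or.inr ⟨i, j, ?_, hj, hk⟩
    rcases pi with h | ⟨k', l', hk', hl', h⟩
    · exact b.isPos_of_mem_support h
    · exact hk'.add (b.isPos_of_mem_support hl') h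
  exact key.resolve_left hni

/-- transport of positivity from simple roots -/
lemma isPos_smul_of_forall_simple (b b' : P.Base) (g : P.Aut)
    (h : ∀ j ∈ b.support, b'.IsPos (g • j)) : ∀ i, b.IsPos i → b'.IsPos (g • i) := by
  intro i hi
  refine hi.induction_on_add (p := fun i => b'.IsPos (g • i)) h ?_
  intro i j k hk pi hj
  refine pi.add (h j hj) ?_
  rw [aut_root_smul, aut_root_smul, aut_root_smul, hk, smul_add]

lemma isPos_inv_smul (b b' : P.Base) (g : P.Aut) (h : ∀ i, b.IsPos i → b'.IsPos (g • i)) :
    ∀ k, b'.IsPos k → b.IsPos (g⁻¹ • k) := by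
  intro k hk
  by_contra hn
  have h1 : b.IsPos (P.reflectionPerm (g⁻¹ • k) (g⁻¹ • k)) := (isPos_negIdx_iff b _).mpr hn
  have h2 := h _ h1
  rw [smul_negIdx, smul_inv_smul, isPos_negIdx_iff] at h2
  exact h2 hk

lemma smul_mem_support (b b' : P.Base) (g : P.Aut) (h1 : ∀ i, b.IsPos i → b'.IsPos (g • i))
    (h2 : ∀ k, b'.IsPos k → b.IsPos (g⁻¹ • k)) : ∀ j ∈ b.support, g • j ∈ b'.support := by
  intro j hj
  by_contra hn
  obtain ⟨k, l, hk, hl, hkl⟩ :=
    exists_add_of_isPos_of_notMem b' (h1 j (b.isPos_of_mem_support hj)) hn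
  have e : P.root j = P.root (g⁻¹ • k) + P.root (g⁻¹ • l) := by
    rw [aut_root_smul, aut_root_smul, ← smul_add, ← hkl, aut_root_smul, inv_smul_smul]
  have hh := b.height_add e
  rw [RootPairing.Base.height_one_of_mem_support hj] at hh
  have p1 : 0 < b.height (g⁻¹ • k) := h2 k hk
  have p2 : 0 < b.height (g⁻¹ • l) := h2 l (b'.isPos_of_mem_support hl)
  omega

lemma exists_weyl_pos (b b' : P.Base) :
    ∃ g ∈ P.weylGroup, ∀ i, b.IsPos i → b'.IsPos (g • i) := by
  classical
  have : Fintype ι := Fintype.ofFinite ι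
  obtain ⟨Nset, hNset⟩ : ∃ Nset : P.Aut → Finset ι, Nset =
      fun g => Finset.univ.filter fun i => b.IsPos i ∧ ¬ b'.IsPos (g • i) := ⟨_, rfl⟩
  have hmem : ∀ g i, i ∈ Nset g ↔ (b.IsPos i ∧ ¬ b'.IsPos (g • i)) := by
    intro g i; rw [hNset]; simp
  have main : ∀ n : ℕ, ∀ g ∈ P.weylGroup, (Nset g).card = n →
      ∃ g' ∈ P.weylGroup, ∀ i, b.IsPos i → b'.IsPos (g' • i) := by
    intro n
    induction n using Nat.strong_induction_on with
    | _ n ih =>
      intro g hg hn
      by_cases hall : ∀ j ∈ b.support, b'.IsPos (g • j)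
      · exact ⟨g, hg, isPos_smul_of_forall_simple b b' g hall⟩
      · push Not at hall
        obtain ⟨j, hj, hjneg⟩ := hall
        have hsj : Equiv.reflection P j ∈ P.weylGroup := P.reflection_mem_weylGroup j
        have hjN : j ∈ Nset g := (hmem g j).mpr ⟨b.isPos_of_mem_support hj, hjneg⟩
        have hsub : Nset (g * Equiv.reflection P j) ⊆
            ((Nset g).erase j).image (P.reflectionPerm j) := by
          intro i hi
          obtain ⟨hipos, hineg⟩ := (hmem _ i).mp hi
          rw [mul_smul, reflection_smul_idx] at hineg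
          have hij : i ≠ j := by
            rintro rfl
            apply hineg
            rw [smul_negIdx, isPos_negIdx_iff]; exact hjneg
          rw [Finset.mem_image]
          refine ⟨P.reflectionPerm j i, ?_, P.reflectionPerm_self j i⟩
          rw [Finset.mem_erase]
          refine ⟨?_, (hmem g _).mpr ⟨hipos.reflectionPerm hj hij, hineg⟩⟩
          intro h
          have : i = P.reflectionPerm j j := by
            have h3 := P.reflectionPerm_self j i
            rw [h] at h3
            exact h3.symm
          rw [this, isPos_negIdx_iff] at hipos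
          exact hipos (b.isPos_of_mem_support hj)
        have hcard : (Nset (g * Equiv.reflection P j)).card < n := by
          calc (Nset (g * Equiv.reflection P j)).card
              ≤ (((Nset g).erase j).image (P.reflectionPerm j)).card := Finset.card_le_card hsub
            _ ≤ ((Nset g).erase j).card := Finset.card_image_le
            _ = (Nset g).card - 1 := Finset.card_erase_of_mem hjN
            _ < n := by have := Finset.card_pos.mpr ⟨j, hjN⟩; omega
        exact ih _ hcard (g * Equiv.reflection P j) (mul_mem hg hsj) rfl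
  exact main _ 1 (one_mem _) rfl

/-- The Weyl group acts simply transitively on bases. -/
theorem existsUnique_weyl_image_support (b b' : P.Base) :
    ∃! g : P.weylGroup,
      (fun i : ι => (g : P.Aut) • i) '' (b.support : Set ι) = (b'.support : Set ι) := by
  obtain ⟨g, hg, hpos⟩ := exists_weyl_pos b b'
  have hinv := isPos_inv_smul b b' g hpos
  have hpos' : ∀ k, b'.IsPos k → b.IsPos (g⁻¹ • k) := hinv
  have hinv' : ∀ i, b.IsPos i → b'.IsPos ((g⁻¹)⁻¹ • i) := by
    intro i hi; rw [inv_inv]; exact hpos i hi
  have hsub1 := smul_mem_support b b' g hpos hinv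
  have hsub2 := smul_mem_support b' b g⁻¹ hpos' hinv'
  have himage : (fun i : ι => g • i) '' (b.support : Set ι) = (b'.support : Set ι) := by
    apply Set.Subset.antisymm
    · rintro _ ⟨j, hj, rfl⟩
      exact hsub1 j hj
    · intro l hl
      exact ⟨g⁻¹ • l, hsub2 l hl, smul_inv_smul g l⟩
  refine ⟨⟨g, hg⟩, himage, ?_⟩
  rintro ⟨g', hg'⟩ himage'
  have himage'' : (fun i : ι => g' • i) '' (b.support : Set ι) = (b'.support : Set ι) := himage'
  -- h = g⁻¹ * g' preserves b.support
  have hh : g⁻¹ * g' ∈ P.weylGroup := mul_mem (inv_mem hg) hg'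
  have hsupp : ∀ j ∈ b.support, (g⁻¹ * g') • j ∈ b.support := by
    intro j hj
    have h1 : g' • j ∈ (b'.support : Set ι) := by
      rw [← himage'']; exact ⟨j, hj, rfl⟩
    rw [mul_smul]
    exact hsub2 _ h1
  have hpres : ∀ k, b.IsPos k → b.IsPos ((g⁻¹ * g') • k) :=
    isPos_smul_of_forall_simple b b (g⁻¹ * g')
      (fun j hj => b.isPos_of_mem_support (hsupp j hj))
  have h1 := weyl_eq_one_of_pos b hh hpres
  apply Subtype.ext
  show g' = g
  have : g' = g * (g⁻¹ * g') := by rw [mul_inv_cancel_left]
  rw [this, h1, mul_one]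

end Groth.Agent.H2
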