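import Groth.Agent.H2.WeylBases

/-! Deodhar-type lemma: a Weyl group element mapping a simple root to a simple root factors
through rank-two steps. -/

set_option autoImplicit false
set_option linter.style.haveILetI false
set_option linter.unusedSimpArgs false
set_option linter.unusedVariables false
set_option linter.unnecessarySeqFocus false
set_option linter.unusedSectionVars false

namespace Groth.Agent.H2

open RootPairing Set

variable {ι R M N : Type*} [CommRing R] [AddCommGroup M] [Module R M] [AddCommGroup N] [Module R N]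
  {P : RootPairing ι R M N}
  [CharZero R] [IsDomain R] [Finite ι] [P.IsCrystallographic] [P.IsReduced]

lemma height_lin (b : P.Base) {i j k : ι} {p q : ℤ}
    (hk : P.root k = p • P.root i + q • P.root j) :
    b.height k = p * b.height i + q * b.height j := by
  obtain ⟨f, -, -, hf⟩ := b.exists_root_eq_sum_int i
  obtain ⟨g, -, -, hg⟩ := b.exists_root_eq_sum_int j
  have hfg : P.root k = ∑ l ∈ b.support, (fun l => p * f l + q * g l) l • P.root l := by
    simp_rw [add_smul, mul_smul, Finset.sum_add_distrib, ← Finset.smul_sum, ← hf, ← hg, hk]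
  rw [RootPairing.Base.height_eq_sum hf, RootPairing.Base.height_eq_sum hg,
    RootPairing.Base.height_eq_sum hfg]
  simp only [Finset.sum_add_distrib, Finset.mul_sum]

lemma sign_dichotomy (b : P.Base) {α γ δ : ι} (hα : α ∈ b.support) (hγ : γ ∈ b.support)
    (hne : α ≠ γ) {p q : ℤ} (h : P.root δ = p • P.root α + q • P.root γ) :
    (0 ≤ p ∧ 0 ≤ q) ∨ (p ≤ 0 ∧ q ≤ 0) := by
  classical
  let f : ι → ℤ := fun j => if j = α then p else if j = γ then q else 0
  have fα : f α = p := by simp [f]
  have fγ : f γ = q := by simp [f, hne.symm]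
  have fo : ∀ j, j ≠ α → j ≠ γ → f j = 0 := by
    intro j h1 h2
    simp [f, h1, h2]
  have hsum : ∑ j ∈ b.support, f j • P.root j = p • P.root α + q • P.root γ := by
    rw [← Finset.add_sum_erase _ _ hα,
      ← Finset.add_sum_erase _ _ (Finset.mem_erase.mpr ⟨hne.symm, hγ⟩ : γ ∈ b.support.erase α),
      fα, fγ]
    rw [Finset.sum_eq_zero, add_zero]
    intro j hj
    simp only [Finset.mem_erase] at hj
    rw [fo j hj.2.1 hj.1, zero_smul]
  have hf₀ : f.support ⊆ b.support := by
    intro j hj
    by_contra hn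
    apply hj
    apply fo
    · rintro rfl; exact hn hα
    · rintro rfl; exact hn hγ
  rcases b.pos_or_neg_of_sum_smul_root_mem f ⟨δ, by rw [h, hsum]⟩ hf₀ with hp | hn
  · left
    have h1 : 0 ≤ f α := hp.le α
    have h2 : 0 ≤ f γ := hp.le γ
    rw [fα] at h1
    rw [fγ] at h2
    exact ⟨h1, h2⟩
  · right
    have h1 : f α ≤ 0 := hn.le α
    have h2 : f γ ≤ 0 := hn.le γ
    rw [fα] at h1
    rw [fγ] at h2
    exact ⟨h1, h2⟩

lemma root_refl_smul (a δ : ι) :
    P.root (Equiv.reflection P a • δ) = P.root δ - P.pairingIn ℤ δ a • P.root a := by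
  rw [reflection_smul_idx, P.root_reflectionPerm, P.reflection_apply_root' ℤ]

lemma span_word {α γ : ι} : ∀ (L : List ι), (∀ a ∈ L, a = α ∨ a = γ) → ∀ δ : ι,
    (∃ p q : ℤ, P.root δ = p • P.root α + q • P.root γ) →
    ∃ p q : ℤ, P.root (wprod P L • δ) = p • P.root α + q • P.root γ := by
  intro L
  induction L with
  | nil =>
    intro _ δ h
    simpa using h
  | cons a L ih =>
    intro hL δ h
    obtain ⟨p, q, hpq⟩ := ih (fun c hc => hL c (by simp [hc])) δ h
    rw [wprod_cons, mul_smul, root_refl_smul, hpq]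
    rcases hL a (by simp) with ha | ha
    · rw [ha]
      exact ⟨p - P.pairingIn ℤ (wprod P L • δ) α, q, by module⟩
    · rw [ha]
      exact ⟨p, q - P.pairingIn ℤ (wprod P L • δ) γ, by module⟩

/-- minimal coset representative decomposition with respect to a rank-two parabolic -/
lemma decomp (b : P.Base) {α γ : ι} (hα : α ∈ b.support) (hγ : γ ∈ b.support) :
    ∀ n : ℕ, ∀ L : List ι, L.length = n → (∀ a ∈ L, a ∈ b.support) →
    ∃ L' Lv : List ι, (∀ a ∈ L', a ∈ b.support) ∧ (∀ a ∈ Lv, a = α ∨ a = γ) ∧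
      wprod P L = wprod P L' * wprod P Lv ∧ b.IsPos (wprod P L' • α) ∧ b.IsPos (wprod P L' • γ) ∧
      L'.length ≤ L.length ∧
      (¬ (b.IsPos (wprod P L • α) ∧ b.IsPos (wprod P L • γ)) → L'.length < L.length) := by
  intro n
  induction n using Nat.strong_induction_on with
  | _ n ih =>
    intro L hn hL
    by_cases hpos : b.IsPos (wprod P L • α) ∧ b.IsPos (wprod P L • γ)
    · exact ⟨L, [], hL, by simp, by simp, hpos.1, hpos.2, le_rfl, fun h => absurd hpos h⟩
    · have hex : ∃ δ, (δ = α ∨ δ = γ) ∧ δ ∈ b.support ∧ ¬ b.IsPos (wprod P L • δ) := by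
        by_cases h1 : b.IsPos (wprod P L • α)
        · exact ⟨γ, Or.inr rfl, hγ, fun h2 => hpos ⟨h1, h2⟩⟩
        · exact ⟨α, Or.inl rfl, hα, h1⟩
      obtain ⟨δ, hδ, hδs, hneg⟩ := hex
      obtain ⟨L1, hL1, hlen, heq⟩ := deletion b hδs L hL hneg
      obtain ⟨L', Lv, h1, h2, h3, h4, h5, h6, _⟩ := ih L1.length (by omega) L1 rfl hL1
      refine ⟨L', Lv ++ [δ], h1, ?_, ?_, h4, h5, by omega, fun _ => by omega⟩
      · intro a ha
        rcases List.mem_append.1 ha with h | h
        · exact h2 a h
        · simp only [List.mem_singleton] at h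
          rw [h]; exact hδ
      · have h8 : wprod P L = wprod P L1 * Equiv.reflection P δ := by
          rw [← heq, mul_assoc, refl_mul_self, mul_one]
        rw [h8, h3, wprod_append, mul_assoc]
        simp

lemma step_target (b : P.Base) {α γ β : ι} (hα : α ∈ b.support) (hγ : γ ∈ b.support)
    (hβ : β ∈ b.support) (hne : α ≠ γ)
    (Lv : List ι) (hLv : ∀ a ∈ Lv, a = α ∨ a = γ) (g : P.Aut) (hgα : b.IsPos (g • α))
    (hgγ : b.IsPos (g • γ)) (hβ' : g • (wprod P Lv • α) = β) :
    wprod P Lv • α = α ∨ wprod P Lv • α = γ := by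
  obtain ⟨p, q, hpq⟩ := span_word (P := P) Lv hLv α ⟨1, 0, by simp⟩
  have hsign := sign_dichotomy b hα hγ hne hpq
  have hz : ∀ (z : ℤ) (x : M), g • (z • x) = z • (g • x) :=
    fun z x => map_zsmul (DistribSMul.toAddMonoidHom M g) z x
  have hroot : P.root β = p • P.root (g • α) + q • P.root (g • γ) := by
    rw [← hβ', aut_root_smul, hpq, smul_add, aut_root_smul, aut_root_smul, hz, hz]
  have hht := height_lin b hroot
  rw [RootPairing.Base.height_one_of_mem_support hβ] at hht
  have h1 : 0 < b.height (g • α) := hgα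
  have h2 : 0 < b.height (g • γ) := hgγ
  generalize b.height (g • α) = h1' at hht h1
  generalize b.height (g • γ) = h2' at hht h2
  rcases hsign with ⟨hp, hq⟩ | ⟨hp, hq⟩
  · have e1 : p ≤ p * h1' := by nlinarith [mul_nonneg hp (by omega : 0 ≤ h1' - 1)]
    have e2 : q ≤ q * h2' := by nlinarith [mul_nonneg hq (by omega : 0 ≤ h2' - 1)]
    have hp1 : p = 0 ∨ p = 1 := by omega
    rcases hp1 with hp0 | hp1
    · have hq1 : q = 1 := by
        rcases (by omega : q = 0 ∨ q = 1) with hq0 | hq1
        · rw [hp0, hq0] at hht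
          simp at hht
        · exact hq1
      right
      apply P.root.injective
      rw [hpq, hp0, hq1]; simp
    · have hq0 : q = 0 := by
        rw [hp1] at hht
        omega
      left
      apply P.root.injective
      rw [hpq, hp1, hq0]; simp
  · exfalso
    nlinarith [mul_nonneg (neg_nonneg.2 hp) h1.le, mul_nonneg (neg_nonneg.2 hq) h2.le]

/-- the conclusion of the chain lemma -/
def Chain (b : P.Base) (w : P.Aut) (α β : ι) : Prop :=
  ∃ (m : ℕ) (a : Fin (m + 1) → ι) (ws : Fin m → P.Aut),
      (∀ i, a i ∈ b.support) ∧ a 0 = α ∧ a (Fin.last m) = β ∧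
      (∀ i, ws i ∈ P.weylGroup) ∧
      w = (List.ofFn fun i : Fin m => ws (Fin.rev i)).prod ∧
      (∀ i : Fin m, ws i • a (Fin.castSucc i) = a (Fin.succ i)) ∧
      ∀ i : Fin m, ∃ γ ∈ b.support,
        ws i ∈ Subgroup.closure {Equiv.reflection P (a (Fin.castSucc i)), Equiv.reflection P γ} ∧
        (a (Fin.castSucc i) ≠ a (Fin.succ i) → γ = a (Fin.succ i))

lemma chain_nil (b : P.Base) {α : ι} (hα : α ∈ b.support) : Chain b (1 : P.Aut) α α := by
  refine ⟨0, fun _ => α, fun i => i.elim0, fun _ => hα, rfl, rfl, fun i => i.elim0, by simp,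
    fun i => i.elim0, fun i => i.elim0⟩

lemma chain_cons (b : P.Base) {w' v : P.Aut} {α α₁ β γ : ι} (hc : Chain b w' α₁ β)
    (hv : v ∈ Subgroup.closure {Equiv.reflection P α, Equiv.reflection P γ})
    (hα : α ∈ b.support) (hγ : γ ∈ b.support) (hvα : v • α = α₁) (hγ' : α ≠ α₁ → γ = α₁) :
    Chain b (w' * v) α β := by
  obtain ⟨m, a, ws, h1, h2, h3, h4, h5, h6, h7⟩ := hc
  have hvW : v ∈ P.weylGroup := by
    refine (Subgroup.closure_le _).mpr ?_ hv
    rintro x (rfl | rfl)
    · exact P.reflection_mem_weylGroup α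
    · exact P.reflection_mem_weylGroup γ
  refine ⟨m + 1, (Fin.cons α a : Fin (m + 1 + 1) → ι), (Fin.cons v ws : Fin (m + 1) → P.Aut),
    ?_, ?_, ?_, ?_, ?_, ?_, ?_⟩
  · intro i
    refine Fin.cases ?_ (fun j => ?_) i
    · rw [Fin.cons_zero]; exact hα
    · rw [Fin.cons_succ]; exact h1 j
  · rw [Fin.cons_zero]
  · rw [← Fin.succ_last, Fin.cons_succ]; exact h3
  · intro i
    refine Fin.cases ?_ (fun j => ?_) i
    · rw [Fin.cons_zero]; exact hvW
    · rw [Fin.cons_succ]; exact h4 j
  · simp only [List.ofFn_succ', List.concat_eq_append, List.prod_append, List.prod_singleton,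
      Fin.rev_last, Fin.cons_zero, Fin.rev_castSucc, Fin.cons_succ]
    rw [h5]
  · intro i
    refine Fin.cases ?_ (fun j => ?_) i
    · rw [Fin.cons_zero, Fin.castSucc_zero, Fin.cons_zero, Fin.cons_succ, hvα, h2]
    · rw [Fin.cons_succ, ← Fin.succ_castSucc, Fin.cons_succ, Fin.cons_succ]; exact h6 j
  · intro i
    refine Fin.cases ?_ (fun j => ?_) i
    · refine ⟨γ, hγ, ?_, ?_⟩
      · rw [Fin.cons_zero, Fin.castSucc_zero, Fin.cons_zero]; exact hv
      · rw [Fin.castSucc_zero, Fin.cons_zero, Fin.cons_succ, h2]; exact hγ'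
    · obtain ⟨γ', hγ's, hc1, hc2⟩ := h7 j
      refine ⟨γ', hγ's, ?_, ?_⟩
      · rw [Fin.cons_succ, ← Fin.succ_castSucc, Fin.cons_succ]; exact hc1
      · rw [← Fin.succ_castSucc, Fin.cons_succ, Fin.cons_succ]; exact hc2

lemma wprod_mem_weylGroup (b : P.Base) {L : List ι} (hL : ∀ a ∈ L, a ∈ b.support) :
    wprod P L ∈ P.weylGroup := by
  rw [← closure_simple_reflections_eq_weylGroup b]
  exact wprod_mem_closure (Δ := (b.support : Set ι)) (fun a ha => hL a ha)

lemma mainD (b : P.Base) : ∀ n : ℕ, ∀ L : List ι, L.length = n → (∀ a ∈ L, a ∈ b.support) →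
    ∀ α β : ι, α ∈ b.support → β ∈ b.support → wprod P L • α = β → Chain b (wprod P L) α β := by
  intro n
  induction n using Nat.strong_induction_on with
  | _ n ih =>
    intro L hn hL α β hα hβ hLα
    by_cases hall : ∀ γ ∈ b.support, b.IsPos (wprod P L • γ)
    · have h1 : wprod P L = 1 :=
        weyl_eq_one_of_pos b (wprod_mem_weylGroup b hL) (isPos_smul_of_forall_simple b b _ hall)
      rw [h1] at hLα ⊢
      rw [one_smul] at hLα
      subst hLα
      exact chain_nil b hα
    · push Not at hall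
      obtain ⟨γ, hγ, hγneg⟩ := hall
      have hne : α ≠ γ := by
        rintro rfl
        apply hγneg
        rw [hLα]
        exact b.isPos_of_mem_support hβ
      obtain ⟨L', Lv, h1, h2, h3, h4, h5, h6, h7⟩ := decomp b hα hγ n L hn hL
      have hlt : L'.length < L.length := h7 (fun h => hγneg h.2)
      have hLα' : wprod P L' • (wprod P Lv • α) = β := by
        rw [← mul_smul, ← h3]; exact hLα
      have hE := step_target b hα hγ hβ hne Lv h2 (wprod P L') h4 h5 hLα'
      have hα₁ : wprod P Lv • α ∈ b.support := by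
        rcases hE with h | h <;> rw [h] <;> assumption
      have hchain := ih L'.length (by omega) L' rfl h1 (wprod P Lv • α) β hα₁ hβ hLα'
      have hv : wprod P Lv ∈
          Subgroup.closure {Equiv.reflection P α, Equiv.reflection P γ} := by
        have h9 := wprod_mem_closure (P := P) (Δ := ({α, γ} : Set ι)) (L := Lv)
          (by intro a ha; simpa using h2 a ha)
        rwa [Set.image_pair] at h9
      rw [h3]
      refine chain_cons b hchain hv hα hγ rfl ?_
      intro hne'
      rcases hE with h | h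
      · exact absurd h.symm hne'
      · exact h.symm

theorem weyl_chain (b : P.Base) (α β : ι) (hα : α ∈ b.support) (hβ : β ∈ b.support) (w : P.Aut)
    (hw : w ∈ P.weylGroup) (hwα : w • α = β) : Chain b w α β := by
  rw [← closure_simple_reflections_eq_weylGroup b] at hw
  obtain ⟨L, hL, rfl⟩ := exists_word_of_mem_closure hw
  exact mainD b _ L rfl (fun a ha => hL a ha) α β hα hβ hwα

end Groth.Agent.H2
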