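import Groth.Agent.H2.WeylChain

/-! The Weyl group of a finite crystallographic reduced root pairing is a Coxeter group
with respect to the simple reflections of a base. -/

set_option autoImplicit false
set_option linter.style.haveILetI false
set_option linter.unusedSimpArgs false
set_option linter.unusedVariables false
set_option linter.unnecessarySeqFocus false
set_option linter.unusedSectionVars false

namespace Groth.Agent.H2.WeylCoxeter

open RootPairing Set Groth.Agent.H2

/-- even-length words in two involutions are powers of the product -/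
lemma even_word_pow {H : Type*} [Group H] (a c : H) (ha : a * a = 1) (hc : c * c = 1) :
    ∀ n : ℕ, ∀ K : List H, K.length = 2 * n → (∀ x ∈ K, x = a ∨ x = c) →
      ∃ k : ℤ, K.prod = (a * c) ^ k := by
  intro n
  induction n with
  | zero =>
    intro K hK _
    have h0 : K = [] := List.length_eq_zero_iff.mp (by omega)
    subst h0
    exact ⟨0, by simp⟩
  | succ n ih =>
    intro K hK hmem
    match K, hK, hmem with
    | [], hK, _ => simp at hK
    | [x], hK, _ => simp at hK; omega
    | x :: y :: K', hK, hmem =>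
      have hK' : K'.length = 2 * n := by
        simp only [List.length_cons] at hK
        omega
      obtain ⟨k, hk⟩ := ih K' hK' (fun z hz => hmem z (by simp [hz]))
      have hx := hmem x (by simp)
      have hy := hmem y (by simp)
      have hai : a⁻¹ = a := inv_eq_of_mul_eq_one_right ha
      have hci : c⁻¹ = c := inv_eq_of_mul_eq_one_right hc
      rw [List.prod_cons, List.prod_cons, hk, ← mul_assoc]
      rcases hx with hx | hx <;> rcases hy with hy | hy <;> rw [hx, hy]
      · exact ⟨k, by rw [ha, one_mul]⟩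
      · exact ⟨1 + k, by rw [zpow_add, zpow_one]⟩
      · exact ⟨-1 + k, by rw [zpow_add, zpow_neg_one, mul_inv_rev, hai, hci]⟩
      · exact ⟨k, by rw [hc, one_mul]⟩

variable {ι R M N : Type*} [CommRing R] [AddCommGroup M] [Module R M] [AddCommGroup N] [Module R N]
  {P : RootPairing ι R M N}
  [CharZero R] [IsDomain R] [Finite ι] [P.IsCrystallographic] [P.IsReduced]

/-- the Coxeter matrix of orders of products of simple reflections -/
noncomputable def cox (b : P.Base) : CoxeterMatrix ↥b.support where
  M := Matrix.of fun j k => orderOf (Equiv.reflection P j.1 * Equiv.reflection P k.1)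
  isSymm := by
    ext j k
    simp only [Matrix.transpose_apply, Matrix.of_apply]
    rw [← orderOf_inv, mul_inv_rev, Equiv.reflection_inv, Equiv.reflection_inv]
  diagonal j := by
    simp only [Matrix.of_apply]
    rw [refl_mul_self, orderOf_one]
  off_diagonal j k hjk := by
    simp only [Matrix.of_apply]
    rw [Ne, orderOf_eq_one_iff]
    intro h
    have h1 : Equiv.reflection P j.1 = Equiv.reflection P k.1 := by
      have h0 : Equiv.reflection P j.1 = (Equiv.reflection P k.1)⁻¹ := eq_inv_of_mul_eq_one_left h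
      rw [h0, Equiv.reflection_inv]
    have h2 : Equiv.reflection P j.1 • j.1 = Equiv.reflection P k.1 • j.1 := by rw [h1]
    rw [reflection_smul_idx, reflection_smul_idx] at h2
    have hpos : b.IsPos (P.reflectionPerm k.1 j.1) :=
      (b.isPos_of_mem_support j.2).reflectionPerm k.2 (fun h => hjk (Subtype.ext h))
    rw [← h2, isPos_negIdx_iff] at hpos
    exact hpos (b.isPos_of_mem_support j.2)

noncomputable abbrev cs0 (b : P.Base) : CoxeterSystem (cox b) (cox b).Group :=
  (cox b).toCoxeterSystem

/-- words in the Weyl group -/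
noncomputable def wW (b : P.Base) (L : List ↥b.support) : P.Aut := wprod P (L.map Subtype.val)

lemma wW_nil (b : P.Base) : wW b [] = 1 := rfl

lemma wW_cons (b : P.Base) (a : ↥b.support) (L : List ↥b.support) :
    wW b (a :: L) = Equiv.reflection P a.1 * wW b L := by
  simp [wW]

lemma wW_single (b : P.Base) (a : ↥b.support) : wW b [a] = Equiv.reflection P a.1 := by
  simp [wW]

lemma wW_append (b : P.Base) (L L' : List ↥b.support) :
    wW b (L ++ L') = wW b L * wW b L' := by
  simp [wW, wprod_append]

lemma wW_reverse (b : P.Base) (L : List ↥b.support) : wW b L.reverse = (wW b L)⁻¹ := by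
  simp [wW, List.map_reverse, wprod_reverse]

lemma wW_mem (b : P.Base) (L : List ↥b.support) : wW b L ∈ P.weylGroup := by
  apply wprod_mem_weylGroup b
  intro a ha
  obtain ⟨x, _, rfl⟩ := List.mem_map.mp ha
  exact x.2

lemma exists_wW (b : P.Base) {w : P.Aut} (hw : w ∈ P.weylGroup) :
    ∃ L : List ↥b.support, wW b L = w := by
  rw [← closure_simple_reflections_eq_weylGroup b] at hw
  obtain ⟨L, hL, rfl⟩ := exists_word_of_mem_closure hw
  have key : ∀ L : List ι, (∀ a ∈ L, a ∈ b.support) →
      ∃ K : List ↥b.support, K.map Subtype.val = L := by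
    intro L
    induction L with
    | nil => intro _; exact ⟨[], rfl⟩
    | cons a L ih =>
      intro h
      obtain ⟨K, hK⟩ := ih (fun c hc => h c (by simp [hc]))
      exact ⟨⟨a, h a (by simp)⟩ :: K, by simp [hK]⟩
  obtain ⟨K, hK⟩ := key L (fun a ha => hL a ha)
  exact ⟨K, by rw [wW, hK]⟩

section main

variable (b : P.Base)

lemma delG (n : ℕ)
    (hC : ∀ K : List ↥b.support, K.length < n → ∀ α β : ↥b.support, wW b K • α.1 = β.1 →
      (cs0 b).wordProd K * (cs0 b).simple α = (cs0 b).simple β * (cs0 b).wordProd K) :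
    ∀ L : List ↥b.support, L.length ≤ n → ∀ i : ↥b.support, ¬ b.IsPos (wW b L • i.1) →
    ∃ L' : List ↥b.support, L'.length < L.length ∧
      wW b L * Equiv.reflection P i.1 = wW b L' ∧
      (cs0 b).wordProd L * (cs0 b).simple i = (cs0 b).wordProd L' := by
  intro L
  induction L with
  | nil =>
    intro _ i h
    exact absurd (b.isPos_of_mem_support i.2) (by simpa [wW] using h)
  | cons a L ih =>
    intro hlen i hneg
    have hlen' : L.length < n := by
      simp only [List.length_cons] at hlen
      omega
    by_cases hk : b.IsPos (wW b L • i.1)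
    · rw [wW_cons, mul_smul, reflection_smul_idx] at hneg
      have hka : wW b L • i.1 = a.1 := by
        by_contra hne
        exact hneg (hk.reflectionPerm a.2 hne)
      refine ⟨L, by simp, ?_, ?_⟩
      · rw [wW_cons, ← hka, ← aut_mul_reflection, mul_assoc, refl_mul_self, mul_one]
      · rw [CoxeterSystem.wordProd_cons, mul_assoc, hC L hlen' i a hka, ← mul_assoc,
          CoxeterSystem.simple_mul_simple_self, one_mul]
    · obtain ⟨L'', hlen'', h1, h2⟩ := ih (by omega) i hk
      refine ⟨a :: L'', by simpa using hlen'', ?_, ?_⟩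
      · rw [wW_cons, wW_cons, mul_assoc, h1]
      · rw [CoxeterSystem.wordProd_cons, CoxeterSystem.wordProd_cons, mul_assoc, h2]

lemma decompG (n : ℕ)
    (hC : ∀ K : List ↥b.support, K.length < n → ∀ α β : ↥b.support, wW b K • α.1 = β.1 →
      (cs0 b).wordProd K * (cs0 b).simple α = (cs0 b).simple β * (cs0 b).wordProd K)
    (α γ : ↥b.support) :
    ∀ m : ℕ, ∀ L : List ↥b.support, L.length = m → m ≤ n →
    ∃ L' Lv : List ↥b.support, (∀ a ∈ Lv, a = α ∨ a = γ) ∧
      wW b L = wW b L' * wW b Lv ∧
      (cs0 b).wordProd L = (cs0 b).wordProd L' * (cs0 b).wordProd Lv ∧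
      b.IsPos (wW b L' • α.1) ∧ b.IsPos (wW b L' • γ.1) ∧
      L'.length ≤ L.length ∧
      (¬ (b.IsPos (wW b L • α.1) ∧ b.IsPos (wW b L • γ.1)) → L'.length < L.length) := by
  intro m
  induction m using Nat.strong_induction_on with
  | _ m ih =>
    intro L hm hmn
    by_cases hpos : b.IsPos (wW b L • α.1) ∧ b.IsPos (wW b L • γ.1)
    · exact ⟨L, [], by simp, by simp [wW_nil], by simp, hpos.1, hpos.2, le_rfl,
        fun h => absurd hpos h⟩
    · have hex : ∃ δ : ↥b.support, (δ = α ∨ δ = γ) ∧ ¬ b.IsPos (wW b L • δ.1) := by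
        by_cases h1 : b.IsPos (wW b L • α.1)
        · exact ⟨γ, Or.inr rfl, fun h2 => hpos ⟨h1, h2⟩⟩
        · exact ⟨α, Or.inl rfl, h1⟩
      obtain ⟨δ, hδ, hneg⟩ := hex
      obtain ⟨L1, hlen, e1, e2⟩ := delG b n hC L (by omega) δ hneg
      obtain ⟨L', Lv, h2, h3, h3', h4, h5, h6, _⟩ :=
        ih L1.length (by omega) L1 rfl (by omega)
      refine ⟨L', Lv ++ [δ], ?_, ?_, ?_, h4, h5, by omega, fun _ => by omega⟩
      · intro a ha
        rcases List.mem_append.1 ha with h | h
        · exact h2 a h
        · simp only [List.mem_singleton] at h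
          rw [h]; exact hδ
      · have h8 : wW b L = wW b L1 * Equiv.reflection P δ.1 := by
          rw [← e1, mul_assoc, refl_mul_self, mul_one]
        rw [h8, h3, wW_append, wW_single, mul_assoc]
      · have h9 : (cs0 b).wordProd L = (cs0 b).wordProd L1 * (cs0 b).simple δ := by
          rw [← e2, mul_assoc, CoxeterSystem.simple_mul_simple_self, mul_one]
        rw [h9, h3', CoxeterSystem.wordProd_append, CoxeterSystem.wordProd_singleton, mul_assoc]

lemma dihedral (α γ : ↥b.support) (Lv : List ↥b.support) (hLv : ∀ a ∈ Lv, a = α ∨ a = γ)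
    (α₁ : ↥b.support) (hα₁ : α₁ = α ∨ α₁ = γ) (h : wW b Lv • α.1 = α₁.1) :
    (cs0 b).wordProd Lv * (cs0 b).simple α = (cs0 b).simple α₁ * (cs0 b).wordProd Lv := by
  obtain ⟨K, hK⟩ : ∃ K, K = Lv ++ [α] ++ Lv.reverse ++ [α₁] := ⟨_, rfl⟩
  have hKW : wW b K = 1 := by
    rw [hK, wW_append, wW_append, wW_append, wW_reverse, wW_single, wW_single,
      aut_conj_reflection, h, refl_mul_self]
  have hKlen : K.length = 2 * (Lv.length + 1) := by
    rw [hK]
    simp only [List.length_append, List.length_reverse, List.length_cons, List.length_nil]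
    omega
  have hKmem : ∀ j ∈ K, j = α ∨ j = γ := by
    intro j hj
    rw [hK] at hj
    simp only [List.mem_append, List.mem_reverse, List.mem_singleton] at hj
    rcases hj with ((h1 | h1) | h1) | h1
    · exact hLv j h1
    · exact Or.inl h1
    · exact hLv j h1
    · rw [h1]; exact hα₁
  let τ : ↥b.support → (cox b).Group × P.Aut :=
    fun j => ((cs0 b).simple j, Equiv.reflection P j.1)
  have hprod : ∀ L : List ↥b.support, (L.map τ).prod = ((cs0 b).wordProd L, wW b L) := by
    intro L
    induction L with
    | nil => rw [List.map_nil, List.prod_nil, CoxeterSystem.wordProd_nil, wW_nil]; rfl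
    | cons x L ih =>
      rw [List.map_cons, List.prod_cons, ih, CoxeterSystem.wordProd_cons, wW_cons]
      rfl
  have ha : τ α * τ α = 1 :=
    Prod.ext ((cs0 b).simple_mul_simple_self α) (refl_mul_self α.1)
  have hc : τ γ * τ γ = 1 :=
    Prod.ext ((cs0 b).simple_mul_simple_self γ) (refl_mul_self γ.1)
  obtain ⟨k, hk⟩ := even_word_pow (τ α) (τ γ) ha hc (Lv.length + 1) (K.map τ)
    (by rw [List.length_map, hKlen]) (by
      intro x hx
      obtain ⟨j, hj, rfl⟩ := List.mem_map.mp hx
      rcases hKmem j hj with h1 | h1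
      · exact Or.inl (by rw [h1])
      · exact Or.inr (by rw [h1]))
  rw [hprod K] at hk
  have hk1 : (cs0 b).wordProd K = ((cs0 b).simple α * (cs0 b).simple γ) ^ k := by
    have h0 := congrArg Prod.fst hk
    simpa [Prod.pow_fst, Prod.fst_mul, τ] using h0
  have hk2 : wW b K = (Equiv.reflection P α.1 * Equiv.reflection P γ.1) ^ k := by
    have h0 := congrArg Prod.snd hk
    simpa [Prod.pow_snd, Prod.snd_mul, τ] using h0
  rw [hKW] at hk2
  obtain ⟨k', rfl⟩ := orderOf_dvd_iff_zpow_eq_one.mpr hk2.symm
  have hm : ((cs0 b).simple α * (cs0 b).simple γ) ^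
      (orderOf (Equiv.reflection P α.1 * Equiv.reflection P γ.1)) = 1 :=
    (cs0 b).simple_mul_simple_pow α γ
  have hGK : (cs0 b).wordProd K = 1 := by
    rw [hk1, zpow_mul, zpow_natCast, hm, one_zpow]
  rw [hK, CoxeterSystem.wordProd_append, CoxeterSystem.wordProd_append,
    CoxeterSystem.wordProd_append, CoxeterSystem.wordProd_reverse,
    CoxeterSystem.wordProd_singleton, CoxeterSystem.wordProd_singleton] at hGK
  have h5 : (cs0 b).wordProd Lv * (cs0 b).simple α * ((cs0 b).wordProd Lv)⁻¹ =
      (cs0 b).simple α₁ := by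
    rw [mul_eq_one_iff_eq_inv] at hGK
    rw [hGK, CoxeterSystem.inv_simple]
  calc (cs0 b).wordProd Lv * (cs0 b).simple α
      = ((cs0 b).wordProd Lv * (cs0 b).simple α * ((cs0 b).wordProd Lv)⁻¹) *
          (cs0 b).wordProd Lv := by group
    _ = (cs0 b).simple α₁ * (cs0 b).wordProd Lv := by rw [h5]

lemma mainIC : ∀ n : ℕ,
    (∀ L : List ↥b.support, L.length = n → wW b L = 1 → (cs0 b).wordProd L = 1) ∧
    (∀ L : List ↥b.support, L.length = n → ∀ α β : ↥b.support, wW b L • α.1 = β.1 →
      (cs0 b).wordProd L * (cs0 b).simple α = (cs0 b).simple β * (cs0 b).wordProd L) := by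
  intro n
  induction n using Nat.strong_induction_on with
  | _ n ih =>
    have hC : ∀ K : List ↥b.support, K.length < n → ∀ α β : ↥b.support,
        wW b K • α.1 = β.1 →
        (cs0 b).wordProd K * (cs0 b).simple α = (cs0 b).simple β * (cs0 b).wordProd K :=
      fun K hK => (ih K.length hK).2 K rfl
    have hI : ∀ L : List ↥b.support, L.length = n → wW b L = 1 →
        (cs0 b).wordProd L = 1 := by
      intro L hn h1
      rcases List.eq_nil_or_concat L with rfl | ⟨L0, i, hLeq⟩
      · simp
      · rw [List.concat_eq_append] at hLeq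
        subst hLeq
        have hn' : L0.length + 1 = n := by simpa using hn
        have hw : wW b (L0 ++ [i]) = wW b L0 * Equiv.reflection P i.1 := by
          rw [wW_append, wW_single]
        have hneg : ¬ b.IsPos (wW b L0 • i.1) := by
          have h2 : wW b L0 = Equiv.reflection P i.1 := by
            rw [hw] at h1
            have h3 := eq_inv_of_mul_eq_one_left h1
            rw [h3, Equiv.reflection_inv]
          rw [h2, reflection_smul_idx, isPos_negIdx_iff, not_not]
          exact b.isPos_of_mem_support i.2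
        obtain ⟨L', hlen, e1, e2⟩ := delG b n hC L0 (by omega) i hneg
        have h3 : wW b L' = 1 := by rw [← e1, ← hw]; exact h1
        have h4 := (ih L'.length (by omega)).1 L' rfl h3
        rw [CoxeterSystem.wordProd_append, CoxeterSystem.wordProd_singleton, e2]
        exact h4
    refine ⟨hI, ?_⟩
    intro L hn α β hLα
    by_cases hall : ∀ γ : ↥b.support, b.IsPos (wW b L • γ.1)
    · have h1 : wW b L = 1 := weyl_eq_one_of_pos b (wW_mem b L)
        (isPos_smul_of_forall_simple b b _ (fun j hj => hall ⟨j, hj⟩))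
      have h2 := hI L hn h1
      rw [h1, one_smul] at hLα
      have h3 : α = β := Subtype.ext hLα
      rw [h2, h3, one_mul, mul_one]
    · push Not at hall
      obtain ⟨γ, hγneg⟩ := hall
      have hne : α.1 ≠ γ.1 := by
        intro h
        apply hγneg
        rw [← h, hLα]
        exact b.isPos_of_mem_support β.2
      obtain ⟨L', Lv, h2, h3, h3', h4, h5, h6, h7⟩ := decompG b n hC α γ n L hn le_rfl
      have hlt : L'.length < n := by
        have h8 := h7 (fun h => hγneg h.2)
        omega
      have hLα' : wW b L' • (wW b Lv • α.1) = β.1 := by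
        rw [← mul_smul, ← h3]; exact hLα
      have hE := step_target b α.2 γ.2 β.2 hne (Lv.map Subtype.val) (by
          intro a ha
          obtain ⟨x, hx, rfl⟩ := List.mem_map.mp ha
          rcases h2 x hx with h9 | h9
          · exact Or.inl (by rw [h9])
          · exact Or.inr (by rw [h9])) (wW b L') h4 h5 hLα'
      obtain ⟨α₁, hα₁, hα₁'⟩ : ∃ α₁ : ↥b.support, (α₁ = α ∨ α₁ = γ) ∧
          wW b Lv • α.1 = α₁.1 := by
        rcases hE with h | h
        · exact ⟨α, Or.inl rfl, h⟩
        · exact ⟨γ, Or.inr rfl, h⟩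
      have hd := dihedral b α γ Lv h2 α₁ hα₁ hα₁'
      have hc' := (ih L'.length hlt).2 L' rfl α₁ β (by rw [← hα₁']; exact hLα')
      rw [h3', mul_assoc, hd, ← mul_assoc, hc', mul_assoc]

end main

theorem coxeter (b : P.Base) :
    ∃ (C : CoxeterMatrix ↥b.support) (cs : CoxeterSystem C P.weylGroup),
      (∀ j : ↥b.support, ((cs.simple j : P.weylGroup) : P.Aut) = Equiv.reflection P (j : ι)) ∧
      ∀ j k : ↥b.support, C.M j k =
        orderOf (Equiv.reflection P (j : ι) * Equiv.reflection P (k : ι)) := by
  let f : ↥b.support → ↥P.weylGroup :=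
    fun j => ⟨Equiv.reflection P j.1, P.reflection_mem_weylGroup j.1⟩
  have hf : (cox b).IsLiftable f := by
    intro j k
    apply Subtype.ext
    rw [Subgroup.coe_pow, Subgroup.coe_mul, Subgroup.coe_one]
    exact pow_orderOf_eq_one _
  let φ : (cox b).Group →* ↥P.weylGroup := (cs0 b).lift ⟨f, hf⟩
  have hφs : ∀ j, φ ((cs0 b).simple j) = f j := fun j => (cs0 b).lift_apply_simple hf j
  have hφw : ∀ L : List ↥b.support,
      ((φ ((cs0 b).wordProd L) : ↥P.weylGroup) : P.Aut) = wW b L := by
    intro L
    induction L with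
    | nil => rw [CoxeterSystem.wordProd_nil, map_one, wW_nil]; rfl
    | cons a L ih =>
      rw [CoxeterSystem.wordProd_cons, map_mul, Subgroup.coe_mul, ih, hφs, wW_cons]
  have hinj : Function.Injective φ := by
    rw [injective_iff_map_eq_one]
    intro g hg
    obtain ⟨L, rfl⟩ := (cs0 b).wordProd_surjective g
    have h1 : wW b L = 1 := by rw [← hφw, hg]; rfl
    exact (mainIC b L.length).1 L rfl h1
  have hsurj : Function.Surjective φ := by
    rintro ⟨w, hw⟩
    obtain ⟨L, hL⟩ := exists_wW b hw
    exact ⟨(cs0 b).wordProd L, Subtype.ext (by rw [hφw, hL])⟩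
  let e : (cox b).Group ≃* ↥P.weylGroup := MulEquiv.ofBijective φ ⟨hinj, hsurj⟩
  refine ⟨cox b, ⟨e.symm⟩, ?_, fun j k => rfl⟩
  intro j
  have h1 : ((⟨e.symm⟩ : CoxeterSystem (cox b) ↥P.weylGroup).simple j) =
      φ ((cs0 b).simple j) := rfl
  rw [h1, hφs]

end Groth.Agent.H2.WeylCoxeter
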