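import Groth.Agent.H2.WeylWords
import Groth.Prelude.Def_RedSub

/-! Length (number of inversions) and reflections along arbitrary positive roots, for root
pairings over `ℤ`. -/

set_option autoImplicit false
set_option linter.style.haveILetI false
set_option linter.unusedSimpArgs false
set_option linter.unusedVariables false
set_option linter.unnecessarySeqFocus false
set_option linter.unusedSectionVars false

namespace Groth.Agent.H2.WeylRefl

open RootPairing Set Groth.Agent.H2

variable {ι M N : Type} [AddCommGroup M] [AddCommGroup N] {P : RootPairing ι ℤ M N}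

lemma exists_nat_comb (b : P.Base) :
    ∀ m ∈ AddSubmonoid.closure (P.root '' (b.support : Set ι)),
      ∃ f : ι → ℕ, m = ∑ j ∈ b.support, f j • P.root j := by
  classical
  intro m hm
  refine AddSubmonoid.closure_induction ?_ ⟨0, by simp⟩ ?_ hm
  · rintro - ⟨j, hj, rfl⟩
    refine ⟨Pi.single j 1, ?_⟩
    rw [Finset.sum_eq_single_of_mem j (Finset.mem_coe.1 hj)
      (fun k _ hkj => by simp [Pi.single_apply, hkj])]
    simp
  · rintro x y hx hy ⟨f, hf⟩ ⟨g, hg⟩
    exact ⟨f + g, by simp [hf, hg, add_smul, Finset.sum_add_distrib]⟩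

lemma height_pos_of_mem (b : P.Base) {a : ι}
    (h : P.root a ∈ AddSubmonoid.closure (P.root '' (b.support : Set ι))) : 0 < b.height a := by
  obtain ⟨f, hf⟩ := exists_nat_comb b _ h
  have h1 : P.root a = ∑ j ∈ b.support, ((f j : ℤ)) • P.root j := by
    rw [hf]
    exact Finset.sum_congr rfl fun j _ => (natCast_zsmul _ _).symm
  have h2 := RootPairing.Base.height_eq_sum (b := b) h1
  have h3 : 0 ≤ b.height a := by
    rw [h2]; exact Finset.sum_nonneg fun j _ => Int.natCast_nonneg _
  have h4 := b.height_ne_zero a
  omega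

lemma height_neg_of_mem (b : P.Base) {a : ι}
    (h : -P.root a ∈ AddSubmonoid.closure (P.root '' (b.support : Set ι))) : b.height a < 0 := by
  obtain ⟨f, hf⟩ := exists_nat_comb b _ h
  have h1 : P.root a = ∑ j ∈ b.support, (-(f j : ℤ)) • P.root j := by
    rw [← neg_neg (P.root a), hf, ← Finset.sum_neg_distrib]
    exact Finset.sum_congr rfl fun j _ => by rw [neg_smul, natCast_zsmul]
  have h2 := RootPairing.Base.height_eq_sum (b := b) h1
  have h3 : b.height a ≤ 0 := by
    rw [h2, Finset.sum_neg_distrib]
    exact neg_nonpos.2 (Finset.sum_nonneg fun j _ => Int.natCast_nonneg _)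
  have h4 := b.height_ne_zero a
  omega

lemma mem_posRoots_iff (b : P.Base) (a : ι) : a ∈ RedSub.posRoots P b ↔ 0 < b.height a := by
  constructor
  · intro h; exact height_pos_of_mem b h
  · intro h
    rcases b.root_mem_or_neg_mem a with h1 | h1
    · exact h1
    · have := height_neg_of_mem b h1; omega

lemma mem_negRoots_iff (b : P.Base) (a : ι) : a ∈ RedSub.negRoots P b ↔ b.height a < 0 := by
  constructor
  · intro h; exact height_neg_of_mem b h
  · intro h
    rcases b.root_mem_or_neg_mem a with h1 | h1
    · have := height_pos_of_mem b h1; omega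
    · exact h1

lemma root_refl (a δ : ι) :
    P.root (P.reflectionPerm δ a) = P.root a + (-(P.pairing a δ)) • P.root δ := by
  rw [root_reflectionPerm, reflection_apply_root, sub_eq_add_neg, neg_smul]

lemma root_aut_refl (g : P.Aut) (a δ : ι) :
    P.root (g • P.reflectionPerm δ a)
      = P.root (g • a) + (-(P.pairing a δ)) • P.root (g • δ) := by
  rw [aut_root_smul, root_refl, smul_add, smul_comm g, ← aut_root_smul, ← aut_root_smul]

lemma height_refl (b : P.Base) (a δ : ι) :
    b.height (P.reflectionPerm δ a) = b.height a + (-(P.pairing a δ)) * b.height δ := by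
  have := b.height_add_zsmul (root_refl a δ)
  rwa [smul_eq_mul] at this

lemma height_aut_refl (b : P.Base) (g : P.Aut) (a δ : ι) :
    b.height (g • P.reflectionPerm δ a)
      = b.height (g • a) + (-(P.pairing a δ)) * b.height (g • δ) := by
  have := b.height_add_zsmul (root_aut_refl g a δ)
  rwa [smul_eq_mul] at this

theorem main_count [Finite ι] (b : P.Base) (g : P.Aut) (δ : ι) (hδ : 0 < b.height δ)
    (hgδ : 0 < b.height (g • δ)) :
    {a : ι | 0 < b.height a ∧ b.height (g • a) < 0}.ncard <
      {a : ι | 0 < b.height a ∧ b.height (g • P.reflectionPerm δ a) < 0}.ncard := by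
  classical
  have hss : ∀ a, P.reflectionPerm δ (P.reflectionPerm δ a) = a :=
    fun a => P.reflectionPerm_self δ a
  have hsδ : b.height (P.reflectionPerm δ δ) = - b.height δ := by
    rw [height_refl b δ δ, P.pairing_same]; ring
  have hmemδ : δ ∈ {a : ι | 0 < b.height a ∧ b.height (g • P.reflectionPerm δ a) < 0} := by
    refine ⟨hδ, ?_⟩
    rw [height_aut_refl b g δ δ, P.pairing_same]; linarith
  let φ : ι → ι := fun a =>
    if 0 < b.height (P.reflectionPerm δ a) then P.reflectionPerm δ a else a
  have hφ_pos : ∀ a, 0 < b.height (P.reflectionPerm δ a) → φ a = P.reflectionPerm δ a :=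
    fun a h => if_pos h
  have hφ_neg : ∀ a, ¬ 0 < b.height (P.reflectionPerm δ a) → φ a = a := fun a h => if_neg h
  have hmaps : ∀ a ∈ {a : ι | 0 < b.height a ∧ b.height (g • a) < 0},
      φ a ∈ {a : ι | 0 < b.height a ∧ b.height (g • P.reflectionPerm δ a) < 0} \ {δ} := by
    rintro a ⟨ha1, ha2⟩
    by_cases hc : 0 < b.height (P.reflectionPerm δ a)
    · rw [hφ_pos a hc]
      refine ⟨⟨hc, ?_⟩, ?_⟩
      · rw [hss]; exact ha2
      · intro hEq
        have hEq' : P.reflectionPerm δ a = δ := hEq
        have : a = P.reflectionPerm δ δ := by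
          have h5 := hss a
          rw [hEq'] at h5
          exact h5.symm
        rw [this, hsδ] at ha1
        linarith
    · rw [hφ_neg a hc]
      refine ⟨⟨ha1, ?_⟩, ?_⟩
      · have e1 := height_refl b a δ
        have e2 := height_aut_refl b g a δ
        have hn : 0 < P.pairing a δ := by
          by_contra hn
          push Not at hn
          have : 0 ≤ (-(P.pairing a δ)) * b.height δ := mul_nonneg (by linarith) hδ.le
          linarith
        have : 0 < P.pairing a δ * b.height (g • δ) := mul_pos hn hgδ
        rw [e2]; linarith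
      · intro hEq
        have hEq' : a = δ := hEq
        rw [hEq'] at ha2
        linarith
  have hinj : Set.InjOn φ {a : ι | 0 < b.height a ∧ b.height (g • a) < 0} := by
    rintro a₁ ⟨h11, h12⟩ a₂ ⟨h21, h22⟩ hEq
    by_cases hc1 : 0 < b.height (P.reflectionPerm δ a₁) <;>
    by_cases hc2 : 0 < b.height (P.reflectionPerm δ a₂)
    · rw [hφ_pos a₁ hc1, hφ_pos a₂ hc2] at hEq
      exact (P.reflectionPerm δ).injective hEq
    · rw [hφ_pos a₁ hc1, hφ_neg a₂ hc2] at hEq
      exfalso; apply hc2
      rw [← hEq, hss]; exact h11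
    · rw [hφ_neg a₁ hc1, hφ_pos a₂ hc2] at hEq
      exfalso; apply hc1
      rw [hEq, hss]; exact h21
    · rw [hφ_neg a₁ hc1, hφ_neg a₂ hc2] at hEq
      exact hEq
  calc {a : ι | 0 < b.height a ∧ b.height (g • a) < 0}.ncard
      ≤ ({a : ι | 0 < b.height a ∧ b.height (g • P.reflectionPerm δ a) < 0} \ {δ}).ncard :=
        Set.ncard_le_ncard_of_injOn φ hmaps hinj (Set.toFinite _)
    _ < _ := Set.ncard_sdiff_singleton_lt_of_mem hmemδ (Set.toFinite _)

theorem length_lt_iff_aux [Finite ι] (b : P.Base) (g : P.Aut) (c : ι) (hc : 0 < b.height c) :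
    {a : ι | 0 < b.height a ∧ b.height (g • a) < 0}.ncard <
      {a : ι | 0 < b.height a ∧ b.height ((Equiv.reflection P c * g) • a) < 0}.ncard ↔
      0 < b.height (g⁻¹ • c) := by
  obtain ⟨δ, hδ⟩ : ∃ δ : ι, δ = g⁻¹ • c := ⟨_, rfl⟩
  have hgδ : g • δ = c := by rw [hδ, smul_inv_smul]
  have hmul : Equiv.reflection P c * g = g * Equiv.reflection P δ := by
    rw [aut_mul_reflection, hgδ]
  have hact : ∀ a, (Equiv.reflection P c * g) • a = g • P.reflectionPerm δ a := by
    intro a; rw [hmul, mul_smul, reflection_smul_idx]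
  simp only [hact]
  rw [← hδ]
  constructor
  · intro hlt
    by_contra hneg
    have hδneg : b.height δ < 0 := by have := b.height_ne_zero δ; omega
    have H1 : b.height (P.reflectionPerm δ δ) = - b.height δ := by
      rw [height_refl b δ δ, P.pairing_same]; ring
    have hδ'pos : 0 < b.height (P.reflectionPerm δ δ) := by rw [H1]; linarith
    have hg' : (g * Equiv.reflection P δ) • (P.reflectionPerm δ δ) = c := by
      rw [mul_smul, reflection_smul_idx, P.reflectionPerm_self, hgδ]
    have hrefl : Equiv.reflection P (P.reflectionPerm δ δ) = Equiv.reflection P δ := by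
      have := aut_conj_reflection (Equiv.reflection P δ) δ
      rw [reflection_smul_idx] at this
      rw [← this, mul_inv_cancel_right]
    have key := main_count b (g * Equiv.reflection P δ) (P.reflectionPerm δ δ) hδ'pos
      (by rw [hg']; exact hc)
    have e1 : ∀ a, (g * Equiv.reflection P δ) • a = g • P.reflectionPerm δ a :=
      fun a => by rw [mul_smul, reflection_smul_idx]
    have e2 : ∀ a, (g * Equiv.reflection P δ) • P.reflectionPerm (P.reflectionPerm δ δ) a
        = g • a := by
      intro a
      rw [← reflection_smul_idx (P.reflectionPerm δ δ), hrefl, reflection_smul_idx, mul_smul,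
        reflection_smul_idx, P.reflectionPerm_self]
    simp only [e2] at key
    simp only [e1] at key
    exact lt_asymm hlt key
  · intro hpos
    exact main_count b g δ hpos (by rw [hgδ]; exact hc)

lemma wordPerm_eq (l : List ι) (a : ι) : RedSub.wordPerm P l a = wprod P l • a := by
  induction l with
  | nil => simp [RedSub.wordPerm]
  | cons i l ih =>
    have : RedSub.wordPerm P (i :: l) = P.reflectionPerm i * RedSub.wordPerm P l := by
      simp [RedSub.wordPerm]
    rw [this, Equiv.Perm.mul_apply, ih, wprod_cons, mul_smul, reflection_smul_idx]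

theorem length_lt_iff [Finite ι] (b : P.Base) (l : List ι) (c : ι)
    (hc : c ∈ RedSub.posRoots P b) :
    Set.ncard {a : ι | a ∈ RedSub.posRoots P b ∧ RedSub.wordPerm P l a ∈ RedSub.negRoots P b} <
        Set.ncard {a : ι | a ∈ RedSub.posRoots P b ∧
          (P.reflectionPerm c * RedSub.wordPerm P l) a ∈ RedSub.negRoots P b} ↔
      (RedSub.wordPerm P l)⁻¹ c ∈ RedSub.posRoots P b := by
  have hw : ∀ a, RedSub.wordPerm P l a = wprod P l • a := wordPerm_eq l
  have hinv : (RedSub.wordPerm P l)⁻¹ c = (wprod P l)⁻¹ • c := by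
    rw [Equiv.Perm.inv_eq_iff_eq, hw, smul_inv_smul]
  have hset1 : {a : ι | a ∈ RedSub.posRoots P b ∧ RedSub.wordPerm P l a ∈ RedSub.negRoots P b}
      = {a : ι | 0 < b.height a ∧ b.height (wprod P l • a) < 0} := by
    ext a
    simp only [Set.mem_ofPred_eq, mem_posRoots_iff, mem_negRoots_iff, hw]
  have hset2 : {a : ι | a ∈ RedSub.posRoots P b ∧
          (P.reflectionPerm c * RedSub.wordPerm P l) a ∈ RedSub.negRoots P b}
      = {a : ι | 0 < b.height a ∧ b.height ((Equiv.reflection P c * wprod P l) • a) < 0} := by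
    ext a
    have : (P.reflectionPerm c * RedSub.wordPerm P l) a
        = (Equiv.reflection P c * wprod P l) • a := by
      rw [Equiv.Perm.mul_apply, hw, mul_smul, reflection_smul_idx]
    simp only [Set.mem_ofPred_eq, mem_posRoots_iff, mem_negRoots_iff, this]
  rw [hset1, hset2, hinv, mem_posRoots_iff]
  exact length_lt_iff_aux b (wprod P l) c ((mem_posRoots_iff b c).1 hc)

end Groth.Agent.H2.WeylRefl
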