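import Groth.Agent.H2.WeylAut

/-! Words in simple reflections over a general base ring: deletion condition and simple
transitivity of the Weyl group on positive systems (Mathlib `RootPairing.Base`). -/

set_option autoImplicit false

namespace Groth.Agent.H2

open RootPairing Set

variable {ι R M N : Type*} [CommRing R] [AddCommGroup M] [Module R M] [AddCommGroup N] [Module R N]
  {P : RootPairing ι R M N}

lemma refl_mul_self (i : ι) : Equiv.reflection P i * Equiv.reflection P i = 1 := by
  calc Equiv.reflection P i * Equiv.reflection P i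
      = (Equiv.reflection P i)⁻¹ * Equiv.reflection P i := by rw [Equiv.reflection_inv]
    _ = 1 := inv_mul_cancel _

/-- automorphisms commute with negation of indices -/
lemma smul_negIdx (g : P.Aut) (i : ι) :
    g • P.reflectionPerm i i = P.reflectionPerm (g • i) (g • i) := by
  have h := congrArg (fun w : P.Aut => w • i) (aut_mul_reflection g i)
  simp only [mul_smul, reflection_smul_idx] at h
  exact h

/-- The product of the reflections along a word. -/
noncomputable def wprod (P : RootPairing ι R M N) (L : List ι) : P.Aut :=
  (L.map (Equiv.reflection P)).prod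

@[simp] lemma wprod_nil : wprod P [] = 1 := rfl

@[simp] lemma wprod_cons (a : ι) (L : List ι) :
    wprod P (a :: L) = Equiv.reflection P a * wprod P L := by
  simp [wprod]

lemma wprod_append (L L' : List ι) : wprod P (L ++ L') = wprod P L * wprod P L' := by
  simp [wprod]

lemma wprod_reverse (L : List ι) : wprod P L.reverse = (wprod P L)⁻¹ := by
  induction L with
  | nil => simp
  | cons a L ih =>
    rw [List.reverse_cons, wprod_append, ih, wprod_cons, wprod_cons, wprod_nil, mul_one, mul_inv_rev,
      Equiv.reflection_inv]

lemma wprod_mem_closure {Δ : Set ι} {L : List ι} (hL : ∀ a ∈ L, a ∈ Δ) :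
    wprod P L ∈ Subgroup.closure ((fun i : ι => Equiv.reflection P i) '' Δ) := by
  induction L with
  | nil => exact one_mem _
  | cons a L ih =>
    rw [wprod_cons]
    exact mul_mem (Subgroup.subset_closure ⟨a, hL a (by simp), rfl⟩)
      (ih (fun b hb => hL b (by simp [hb])))

lemma exists_word_of_mem_closure {Δ : Set ι} {g : P.Aut}
    (hg : g ∈ Subgroup.closure ((fun i : ι => Equiv.reflection P i) '' Δ)) :
    ∃ L : List ι, (∀ a ∈ L, a ∈ Δ) ∧ g = wprod P L := by
  induction hg using Subgroup.closure_induction with
  | mem g hg =>
    obtain ⟨i, hi, rfl⟩ := hg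
    exact ⟨[i], by simpa using hi, by simp⟩
  | one => exact ⟨[], by simp, rfl⟩
  | mul g h _ _ hg hh =>
    obtain ⟨L, hL, rfl⟩ := hg
    obtain ⟨L', hL', rfl⟩ := hh
    refine ⟨L ++ L', ?_, (wprod_append L L').symm⟩
    intro a ha
    rcases List.mem_append.1 ha with h | h
    · exact hL a h
    · exact hL' a h
  | inv g _ hg =>
    obtain ⟨L, hL, rfl⟩ := hg
    exact ⟨L.reverse, fun a ha => hL a (List.mem_reverse.1 ha), (wprod_reverse L).symm⟩

section base

variable [CharZero R] [IsDomain R] [Finite ι] [P.IsCrystallographic] [P.IsReduced] (b : P.Base)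

lemma isPos_negIdx_iff (i : ι) : b.IsPos (P.reflectionPerm i i) ↔ ¬ b.IsPos i :=
  RootPairing.Base.IsPos.neg_iff_not b i

/-- Deletion condition. -/
lemma deletion {i : ι} (hi : i ∈ b.support) :
    ∀ L : List ι, (∀ a ∈ L, a ∈ b.support) → ¬ b.IsPos (wprod P L • i) →
    ∃ L' : List ι, (∀ a ∈ L', a ∈ b.support) ∧ L'.length < L.length ∧
      wprod P L * Equiv.reflection P i = wprod P L' := by
  intro L
  induction L with
  | nil =>
    intro _ h
    exact absurd (b.isPos_of_mem_support hi) (by simpa using h)
  | cons a L ih =>
    intro hL hneg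
    have ha : a ∈ b.support := hL a (by simp)
    have hL' : ∀ c ∈ L, c ∈ b.support := fun c hc => hL c (by simp [hc])
    by_cases hk : b.IsPos (wprod P L • i)
    · rw [wprod_cons, mul_smul, reflection_smul_idx] at hneg
      have hka : wprod P L • i = a := by
        by_contra hne
        exact hneg (hk.reflectionPerm ha hne)
      refine ⟨L, hL', by simp, ?_⟩
      rw [wprod_cons, ← hka, ← aut_mul_reflection, mul_assoc, refl_mul_self, mul_one]
    · obtain ⟨L'', hL'', hlen, heq⟩ := ih hL' hk
      refine ⟨a :: L'', ?_, by simpa using hlen, ?_⟩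
      · intro c hc
        rcases List.mem_cons.1 hc with rfl | hc
        · exact ha
        · exact hL'' c hc
      · rw [wprod_cons, wprod_cons, mul_assoc, heq]

lemma wprod_eq_one_of_pos : ∀ n : ℕ, ∀ L : List ι, L.length = n →
    (∀ a ∈ L, a ∈ b.support) → (∀ k, b.IsPos k → b.IsPos (wprod P L • k)) → wprod P L = 1 := by
  intro n
  induction n using Nat.strong_induction_on with
  | _ n ih =>
    intro L hn hL hpos
    rcases List.eq_nil_or_concat L with rfl | ⟨L0, i, hLeq⟩
    · rfl
    · rw [List.concat_eq_append] at hLeq
      subst hLeq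
      have hi : i ∈ b.support := hL i (by simp)
      have hL0 : ∀ a ∈ L0, a ∈ b.support := fun a ha => hL a (by simp [ha])
      have hw : wprod P (L0 ++ [i]) = wprod P L0 * Equiv.reflection P i := by
        rw [wprod_append]; simp
      have hneg : ¬ b.IsPos (wprod P L0 • i) := by
        have h1 := hpos i (b.isPos_of_mem_support hi)
        rw [hw, mul_smul, reflection_smul_idx, smul_negIdx, isPos_negIdx_iff] at h1
        exact h1
      obtain ⟨L', hL', hlen, heq⟩ := deletion b hi L0 hL0 hneg
      rw [hw, heq]
      have hlt : L'.length < n := by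
        simp only [List.length_append, List.length_cons, List.length_nil] at hn
        omega
      apply ih L'.length hlt L' rfl hL'
      intro k hk
      rw [← heq, ← hw]
      exact hpos k hk

/-- An element of the Weyl group preserving the positive roots of a base is the identity. -/
theorem weyl_eq_one_of_pos {g : P.Aut} (hg : g ∈ P.weylGroup)
    (hpos : ∀ k, b.IsPos k → b.IsPos (g • k)) : g = 1 := by
  rw [← closure_simple_reflections_eq_weylGroup b] at hg
  obtain ⟨L, hL, rfl⟩ := exists_word_of_mem_closure hg
  exact wprod_eq_one_of_pos b _ L rfl (fun a ha => hL a ha) hpos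

end base

end Groth.Agent.H2
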