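import Mathlib

namespace Groth.Agent.H2.WildBreak

open PowerSeries

variable {k : Type*} [Field k]

lemma dvd_of_order_le {a b : PowerSeries k} (ha : a ≠ 0) (h : a.order ≤ b.order) : a ∣ b := by
  obtain ⟨n, hn⟩ : ∃ n : ℕ, a.order = n := ⟨a.order.toNat, (coe_toNat_order ha).symm⟩
  have hua : IsUnit (divXPowOrder a) := by
    rw [isUnit_iff_constantCoeff]
    exact isUnit_iff_ne_zero.mpr (fun h0 => ha (constantCoeff_divXPowOrder_eq_zero_iff.mp h0))
  have h1 : X ^ n * divXPowOrder a = a := by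
    have := X_pow_order_mul_divXPowOrder (f := a)
    rwa [hn, ENat.toNat_natCast] at this
  have h2 : (X : PowerSeries k) ^ n ∣ b := by
    rw [X_pow_dvd_iff]
    intro i hi
    apply coeff_of_lt_order
    calc (i : ℕ∞) < n := by exact_mod_cast hi
      _ = a.order := hn.symm
      _ ≤ b.order := h
  obtain ⟨c, hc⟩ := h2
  obtain ⟨u, hu⟩ := hua
  refine ⟨↑u⁻¹ * c, ?_⟩
  have hu1 : (u : PowerSeries k) * ↑u⁻¹ = 1 := Units.mul_inv u
  calc b = X ^ n * c := hc
    _ = X ^ n * ((u : PowerSeries k) * ↑u⁻¹) * c := by rw [hu1, mul_one]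
    _ = (X ^ n * divXPowOrder a) * (↑u⁻¹ * c) := by rw [← hu]; ring
    _ = a * (↑u⁻¹ * c) := by rw [h1]

lemma lemA (σ : PowerSeries k ≃ₐ[k] PowerSeries k) (s : PowerSeries k) (hs : s.order = 1) :
    ∀ (N : ℕ) (x : PowerSeries k), ∃ y r, σ x - x = (σ s - s) * y + X ^ N * r := by
  have hs0 : s ≠ 0 := by
    rintro rfl
    simp at hs
  obtain ⟨v, hv⟩ : (X : PowerSeries k) ∣ s := by
    rw [X_dvd_iff, ← one_le_order_iff_constCoeff_eq_zero, hs]
  have hXs : s ∣ (X : PowerSeries k) := dvd_of_order_le hs0 (by rw [hs, order_X])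
  intro N
  induction N with
  | zero =>
    intro x
    exact ⟨0, σ x - x, by simp⟩
  | succ N ih =>
    intro x
    have h1 : s ∣ x - C (constantCoeff x) := by
      apply hXs.trans
      rw [X_dvd_iff]
      simp
    obtain ⟨x', hx'⟩ := h1
    obtain ⟨y', r', h'⟩ := ih x'
    refine ⟨σ x' + s * y', v * r', ?_⟩
    have hx : x = C (constantCoeff x) + s * x' := by rw [← hx']; ring
    have hσC : σ (C (constantCoeff x)) = C (constantCoeff x) := σ.commutes (constantCoeff x)
    have h2 : σ x - x = (σ s - s) * σ x' + s * (σ x' - x') := by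
      conv_lhs => rw [hx]
      rw [map_add, map_mul, hσC]
      ring
    rw [h2, h']
    have h3 : s * (X ^ N * r') = X ^ (N + 1) * (v * r') := by
      conv_lhs => rw [hv]
      ring
    linear_combination h3

lemma lemA' (σ : PowerSeries k ≃ₐ[k] PowerSeries k) (s : PowerSeries k) (hs : s.order = 1)
    (x : PowerSeries k) : (σ s - s).order ≤ (σ x - x).order := by
  rw [← ENat.forall_natCast_le_iff_le]
  intro n hn
  obtain ⟨y, r, h⟩ := lemA σ s hs n x
  rw [h]
  refine le_trans ?_ (min_order_le_order_add _ _)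
  refine le_min ?_ ?_
  · calc (n : ℕ∞) ≤ (σ s - s).order := hn
      _ ≤ (σ s - s).order + y.order := le_self_add
      _ = _ := (order_mul _ _).symm
  · calc (n : ℕ∞) = (X ^ n : PowerSeries k).order := (order_X_pow n).symm
      _ ≤ (X ^ n : PowerSeries k).order + r.order := le_self_add
      _ = _ := (order_mul _ _).symm

lemma eq_one_of_fix (σ : PowerSeries k ≃ₐ[k] PowerSeries k) (s : PowerSeries k)
    (hs : s.order = 1) (h : σ s = s) : σ = 1 := by
  apply AlgEquiv.ext
  intro x
  have h1 := lemA' σ s hs x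
  rw [h, sub_self, order_zero, top_le_iff, order_eq_top, sub_eq_zero] at h1
  rw [h1]
  rfl

lemma lemB (σ : PowerSeries k ≃ₐ[k] PowerSeries k) (s : PowerSeries k) (hs : s.order = 1)
    (m : ℕ) (hm : 1 ≤ m) (hδ : (σ s - s).order = ((m + 1 : ℕ) : ℕ∞))
    (x : PowerSeries k) (n : ℕ) (hx : x.order = n) (hn : (n : k) ≠ 0) :
    (σ x - x).order = ((n + m : ℕ) : ℕ∞) := by
  have hs0 : s ≠ 0 := by
    rintro rfl
    simp at hs
  obtain ⟨ε, hε⟩ : s ∣ σ s - s :=
    dvd_of_order_le hs0 (by rw [hs, hδ]; exact_mod_cast Nat.le_add_left 1 m)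
  have hεo : ε.order = m := by
    have h1 := congrArg order hε
    rw [order_mul, hs, hδ] at h1
    have hε0 : ε ≠ 0 := by
      rintro rfl
      rw [mul_zero] at hε
      rw [hε, order_zero] at hδ
      exact ENat.top_ne_natCast _ hδ
    obtain ⟨e, he⟩ : ∃ e : ℕ, ε.order = e := ⟨_, (coe_toNat_order hε0).symm⟩
    rw [he] at h1 ⊢
    have h2 : m + 1 = 1 + e := by exact_mod_cast h1
    have h3 : e = m := by omega
    rw [h3]
  obtain ⟨w, hw⟩ : s ^ n ∣ x :=
    dvd_of_order_le (pow_ne_zero _ hs0) (le_of_eq (by rw [order_pow, hs, hx, nsmul_one]))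
  have hwo : w.order = 0 := by
    have h1 := congrArg order hw
    rw [order_mul, order_pow, hs, hx, nsmul_one] at h1
    have hw0 : w ≠ 0 := by
      rintro rfl
      rw [mul_zero] at hw
      rw [hw, order_zero] at hx
      exact ENat.top_ne_natCast _ hx
    obtain ⟨e, he⟩ : ∃ e : ℕ, w.order = e := ⟨_, (coe_toNat_order hw0).symm⟩
    rw [he] at h1 ⊢
    have h2 : n = n + e := by exact_mod_cast h1
    have h3 : e = 0 := by omega
    rw [h3]
    rfl
  have hwu : IsUnit w := by
    rw [isUnit_iff_constantCoeff, isUnit_iff_ne_zero]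
    intro h0
    have h1 := one_le_order_iff_constCoeff_eq_zero.mpr h0
    rw [hwo] at h1
    exact absurd h1 (by simp)
  have hσw : (σ w).order = 0 := order_zero_of_unit (hwu.map σ)
  have hnu : ((n : PowerSeries k)).order = 0 := by
    apply order_zero_of_unit
    rw [isUnit_iff_constantCoeff, map_natCast]
    exact isUnit_iff_ne_zero.mpr hn
  obtain ⟨q, hq⟩ := Polynomial.powAddExpansion (1 : PowerSeries k) ε n
  rw [one_pow, one_pow, mul_one] at hq
  have hσs : σ s = s * (1 + ε) := by
    rw [mul_add, mul_one, ← hε]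
    ring
  have key : σ x - x =
      s ^ n * (((σ w - w) + q * ε ^ 2 * σ w) + (n : PowerSeries k) * ε * σ w) := by
    rw [hw, map_mul, map_pow, hσs, mul_pow, hq]
    ring
  have hA : ((m + 1 : ℕ) : ℕ∞) ≤ (σ w - w).order := by
    rw [← hδ]
    exact lemA' σ s hs w
  have hC : ((m + 1 : ℕ) : ℕ∞) ≤ (q * ε ^ 2 * σ w).order := by
    rw [order_mul, order_mul, order_pow, hεo, hσw, add_zero]
    calc ((m + 1 : ℕ) : ℕ∞) ≤ ((2 * m : ℕ) : ℕ∞) := by exact_mod_cast (by omega : m + 1 ≤ 2 * m)
      _ = 2 • (m : ℕ∞) := by rw [nsmul_eq_mul]; push_cast; rfl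
      _ ≤ q.order + 2 • (m : ℕ∞) := le_add_self
  have hD : ((m + 1 : ℕ) : ℕ∞) ≤ ((σ w - w) + q * ε ^ 2 * σ w).order :=
    le_trans (le_min hA hC) (min_order_le_order_add _ _)
  have hB : ((n : PowerSeries k) * ε * σ w).order = m := by
    rw [order_mul, order_mul, hnu, hεo, hσw, zero_add, add_zero]
  have hmlt : (m : ℕ∞) ≤ ((m + 1 : ℕ) : ℕ∞) := by exact_mod_cast Nat.le_succ m
  have hne : ((σ w - w) + q * ε ^ 2 * σ w).order ≠ ((n : PowerSeries k) * ε * σ w).order := by
    intro h
    rw [h, hB] at hD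
    exact absurd hD (by exact_mod_cast Nat.not_succ_le_self m)
  rw [key, order_mul, order_pow, hs, nsmul_one, order_add_of_order_ne _ _ hne, hB,
    inf_eq_right.mpr (hmlt.trans hD)]
  push_cast
  rfl

theorem main
    (p : ℕ) [Fact p.Prime] (k : Type*) [Field k] [CharP k p]
    (σ : PowerSeries k ≃ₐ[k] PowerSeries k) (hσp : σ ^ p = 1) (hσ1 : σ ≠ 1)
    (m : ℕ) (hm : (σ PowerSeries.X - PowerSeries.X).order = ((m + 1 : ℕ) : ℕ∞)) :
    p ∣ m + 1 ↔
      ∃ s a : PowerSeries k, s.order = 1 ∧ σ a = a ∧ σ s = s + a := by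
  have hp2 : 2 ≤ p := (Fact.out : p.Prime).two_le
  constructor
  · intro hpm
    obtain ⟨l, hl⟩ := hpm
    have hm1 : 1 ≤ m := by
      have : 1 ≤ l := by
        rcases Nat.eq_zero_or_pos l with h | h
        · rw [h, mul_zero] at hl; omega
        · exact h
      nlinarith
    obtain ⟨P, hP⟩ : ∃ P, p = P + 2 := ⟨p - 2, by omega⟩
    obtain ⟨Nf, hNfdef⟩ : ∃ Nf : Module.End k (PowerSeries k), Nf = σ.toLinearMap - 1 :=
      ⟨_, rfl⟩
    have hNf : ∀ z, Nf z = σ z - z := by
      intro z
      rw [hNfdef]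
      rfl
    have hchar : CharP (Module.End k (PowerSeries k)) p :=
      charP_of_injective_algebraMap (algebraMap k (Module.End k (PowerSeries k))).injective p
    have hS : (σ.toLinearMap : Module.End k (PowerSeries k)) ^ p = 1 := by
      apply LinearMap.ext
      intro x
      rw [Module.End.pow_apply]
      have h1 : (σ ^ p) x = x := by rw [hσp]; rfl
      rw [AlgEquiv.coe_pow] at h1
      exact h1
    have hNp : Nf ^ p = 0 := by
      rw [hNfdef, sub_pow_char_of_commute p (Commute.one_right _), hS, one_pow, sub_self]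
    have hX1 : (X : PowerSeries k).order = 1 := order_X
    have hiter : ∀ j : ℕ, p ∣ j + 1 → ∀ i : ℕ, i < p →
        ((Nf ^ i) (X ^ j)).order = ((j + i * m : ℕ) : ℕ∞) := by
      intro j hj i
      induction i with
      | zero =>
        intro _
        rw [pow_zero, Module.End.one_apply, order_X_pow, Nat.zero_mul, Nat.add_zero]
      | succ i ih =>
        intro hi
        have ih' := ih (by omega)
        rw [pow_succ', Module.End.mul_apply, hNf]
        have hnk : ((j + i * m : ℕ) : k) ≠ 0 := by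
          rw [Ne, CharP.cast_eq_zero_iff k p]
          intro hdvd
          have h1 : p ∣ (j + i * m) + (i + 1) := by
            have : (j + i * m) + (i + 1) = (j + 1) + i * (m + 1) := by ring
            rw [this]
            exact dvd_add hj (Dvd.dvd.mul_left ⟨l, hl⟩ i)
          have h2 : p ∣ i + 1 := (Nat.dvd_add_right hdvd).mp h1
          have := Nat.le_of_dvd (by omega) h2
          omega
        rw [lemB σ X hX1 m hm1 hm _ _ ih' hnk]
        congr 1
        ring
    -- the invariant b and the element z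
    obtain ⟨b, hbdef⟩ : ∃ b, b = (Nf ^ (P + 1)) (X ^ (P + 1)) := ⟨_, rfl⟩
    obtain ⟨z, hzdef⟩ : ∃ z, z = (Nf ^ P) (X ^ (P + 1 + p * l)) := ⟨_, rfl⟩
    have hbo : b.order = (((P + 1) + (P + 1) * m : ℕ) : ℕ∞) := by
      rw [hbdef]
      exact hiter (P + 1) ⟨1, by omega⟩ (P + 1) (by omega)
    have hzo : z.order = (((P + 1 + p * l) + P * m : ℕ) : ℕ∞) := by
      rw [hzdef]
      exact hiter (P + 1 + p * l) ⟨1 + l, by rw [mul_add, mul_one]; omega⟩ P (by omega)
    have hb0 : b ≠ 0 := by
      rintro rfl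
      rw [order_zero] at hbo
      exact ENat.top_ne_natCast _ hbo
    have hσb : σ b = b := by
      have h1 : Nf b = 0 := by
        rw [hbdef, ← Module.End.mul_apply, ← pow_succ']
        have : P + 1 + 1 = p := by omega
        rw [this, hNp]
        rfl
      rw [hNf] at h1
      exact sub_eq_zero.mp h1
    have hnat : (P + 1 + p * l) + P * m = ((P + 1) + (P + 1) * m) + 1 := by
      rw [← hl]
      ring
    have hzb : z.order = b.order + 1 := by
      rw [hzo, hbo, hnat]
      push_cast
      rfl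
    obtain ⟨s, hs⟩ : b ∣ z := dvd_of_order_le hb0 (by rw [hzb]; exact le_self_add)
    have hs1 : s.order = 1 := by
      have h1 := congrArg order hs
      rw [order_mul, hzo, hbo, hnat] at h1
      have hs0 : s ≠ 0 := by
        rintro rfl
        rw [mul_zero] at hs
        rw [hs, order_zero] at hzo
        exact ENat.top_ne_natCast _ hzo
      obtain ⟨e, he⟩ : ∃ e : ℕ, s.order = e := ⟨_, (coe_toNat_order hs0).symm⟩
      rw [he] at h1 ⊢
      have h2 : ((P + 1) + (P + 1) * m) + 1 = ((P + 1) + (P + 1) * m) + e := by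
        exact_mod_cast h1
      have h3 : e = 1 := by omega
      rw [h3]
      rfl
    refine ⟨s, σ s - s, hs1, ?_, by ring⟩
    -- invariance of a = σ s - s
    have h1 : Nf z = b * (σ s - s) := by
      rw [hNf, hs, map_mul, hσb]
      ring
    have h2 : Nf (Nf z) = b * (σ (σ s - s) - (σ s - s)) := by
      rw [h1, hNf, map_mul, hσb]
      ring
    have h3 : Nf (Nf z) = 0 := by
      have e : Nf (Nf z) = (Nf ^ (P + 1 + 1)) (X ^ (P + 1 + p * l)) := by
        rw [hzdef, pow_succ' Nf (P + 1), pow_succ' Nf P, Module.End.mul_apply,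
          Module.End.mul_apply]
      have : P + 1 + 1 = p := by omega
      rw [e, this, hNp]
      rfl
    rw [h3] at h2
    have h4 := (mul_eq_zero.mp h2.symm).resolve_left hb0
    exact sub_eq_zero.mp h4
  · rintro ⟨s, a, hs1, hσa, hσs⟩
    have hδ : σ s - s = a := by rw [hσs]; ring
    have ha0 : a ≠ 0 := by
      rintro rfl
      apply hσ1
      apply eq_one_of_fix σ s hs1
      rw [hσs, add_zero]
    obtain ⟨n, hn⟩ : ∃ n : ℕ, a.order = n := ⟨_, (coe_toNat_order ha0).symm⟩
    -- n ≥ 1
    have hsnu : ¬ IsUnit s := by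
      intro h
      have := order_zero_of_unit h
      rw [hs1] at this
      exact one_ne_zero this
    have hσsnu : ¬ IsUnit (σ s) := by
      intro h
      apply hsnu
      have := h.map σ.symm
      rwa [AlgEquiv.symm_apply_apply] at this
    have hn1 : 1 ≤ n := by
      have h1 : constantCoeff a = 0 := by
        rw [← hδ, map_sub]
        have e1 : constantCoeff (σ s) = 0 := by
          by_contra h
          exact hσsnu (isUnit_iff_constantCoeff.mpr (isUnit_iff_ne_zero.mpr h))
        have e2 : constantCoeff s = 0 := by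
          by_contra h
          exact hsnu (isUnit_iff_constantCoeff.mpr (isUnit_iff_ne_zero.mpr h))
        rw [e1, e2, sub_zero]
      have h2 := one_le_order_iff_constCoeff_eq_zero.mpr h1
      rw [hn] at h2
      exact_mod_cast h2
    have hn2 : n ≠ 1 := by
      rintro rfl
      apply hσ1
      exact eq_one_of_fix σ a (by rw [hn]; rfl) hσa
    obtain ⟨m', hm'⟩ : ∃ m', n = m' + 1 := ⟨n - 1, by omega⟩
    have hm'1 : 1 ≤ m' := by omega
    have hδo : (σ s - s).order = ((m' + 1 : ℕ) : ℕ∞) := by rw [hδ, hn, hm']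
    have hpd : p ∣ m' + 1 := by
      by_contra hnd
      have hnk : ((m' + 1 : ℕ) : k) ≠ 0 := by
        rw [Ne, CharP.cast_eq_zero_iff k p]
        exact hnd
      have h1 := lemB σ s hs1 m' hm'1 hδo a (m' + 1) (by rw [hn, hm']) hnk
      rw [hσa, sub_self, order_zero] at h1
      exact ENat.top_ne_natCast _ h1
    have h1 := lemB σ s hs1 m' hm'1 hδo X 1 (by rw [order_X]; rfl) (by simp)
    rw [hm] at h1
    have h2 : m + 1 = 1 + m' := by exact_mod_cast h1
    have h3 : m + 1 = m' + 1 := by omega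
    rw [h3]
    exact hpd

end Groth.Agent.H2.WildBreak
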