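import Groth.Agent.H2.WildBreak

namespace Groth.Agent.H2.WildBreak

open PowerSeries

variable {k : Type*} [Field k]

lemma X_dvd_map_X (σ : PowerSeries k ≃ₐ[k] PowerSeries k) : (X : PowerSeries k) ∣ σ X := by
  rw [X_dvd_iff]
  by_contra h
  have hu : IsUnit (σ X) := isUnit_iff_constantCoeff.mpr (isUnit_iff_ne_zero.mpr h)
  have h1 := hu.map σ.symm
  rw [AlgEquiv.symm_apply_apply] at h1
  have h0 := order_zero_of_unit h1
  rw [order_X] at h0
  exact one_ne_zero h0

lemma order_le_map (σ : PowerSeries k ≃ₐ[k] PowerSeries k) (x : PowerSeries k) :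
    x.order ≤ (σ x).order := by
  rw [← ENat.forall_natCast_le_iff_le]
  intro n hn
  have h1 : (X : PowerSeries k) ^ n ∣ x := by
    rw [X_pow_dvd_iff]
    intro i hi
    apply coeff_of_lt_order
    exact lt_of_lt_of_le (by exact_mod_cast hi) hn
  have h2 : (X : PowerSeries k) ^ n ∣ σ x := by
    obtain ⟨c, hc⟩ := h1
    rw [hc, map_mul, map_pow]
    exact Dvd.dvd.mul_right (pow_dvd_pow_of_dvd (X_dvd_map_X σ) n) _
  obtain ⟨c, hc⟩ := h2
  rw [hc, order_mul, order_X_pow]
  exact le_self_add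

lemma order_map (σ : PowerSeries k ≃ₐ[k] PowerSeries k) (x : PowerSeries k) :
    (σ x).order = x.order := by
  apply le_antisymm
  · have h := order_le_map σ.symm (σ x)
    rwa [AlgEquiv.symm_apply_apply] at h
  · exact order_le_map σ x

lemma constantCoeff_map (σ : PowerSeries k ≃ₐ[k] PowerSeries k) (h : PowerSeries k) :
    constantCoeff (σ h) = constantCoeff h := by
  obtain ⟨h₁, hh⟩ : (X : PowerSeries k) ∣ h - C (constantCoeff h) := by
    rw [X_dvd_iff]
    simp
  have e : h = C (constantCoeff h) + X * h₁ := by rw [← hh]; ring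
  have hσC : σ (C (constantCoeff h)) = C (constantCoeff h) := σ.commutes _
  obtain ⟨y, hy⟩ := X_dvd_map_X σ
  conv_lhs => rw [e]
  rw [map_add, map_mul, hσC, hy, map_add, map_mul, map_mul, constantCoeff_C, constantCoeff_X,
    zero_mul, zero_mul, add_zero]

lemma one_le_break (p : ℕ) [Fact p.Prime] [CharP k p]
    (σ : PowerSeries k ≃ₐ[k] PowerSeries k) (hσp : σ ^ p = 1)
    (m : ℕ) (hm : (σ X - X).order = ((m + 1 : ℕ) : ℕ∞)) : 1 ≤ m := by
  by_contra hlt
  have hm0 : m = 0 := by omega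
  subst hm0
  obtain ⟨ε, hε⟩ : (X : PowerSeries k) ∣ σ X - X := dvd_sub (X_dvd_map_X σ) dvd_rfl
  have hε0 : ε ≠ 0 := by
    rintro rfl
    rw [mul_zero] at hε
    rw [hε, order_zero] at hm
    exact ENat.top_ne_natCast _ hm
  have hεo : ε.order = 0 := by
    have h1 := congrArg order hε
    rw [order_mul, order_X, hm] at h1
    obtain ⟨e, he⟩ : ∃ e : ℕ, ε.order = e := ⟨_, (coe_toNat_order hε0).symm⟩
    rw [he] at h1 ⊢
    have h2 : 0 + 1 = 1 + e := by exact_mod_cast h1
    have h3 : e = 0 := by omega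
    rw [h3]
    rfl
  have hc0 : constantCoeff ε ≠ 0 := by
    intro h0
    have h1 := one_le_order_iff_constCoeff_eq_zero.mpr h0
    rw [hεo] at h1
    exact absurd h1 (by simp)
  have hσX : σ X = X * (1 + ε) := by
    rw [mul_add, mul_one, ← hε]
    ring
  have hiter : ∀ i : ℕ, (σ ^ i) X = X * ∏ j ∈ Finset.range i, (1 + (σ ^ j) ε) := by
    intro i
    induction i with
    | zero => simp
    | succ i ih =>
      rw [pow_succ, AlgEquiv.mul_apply, hσX, map_mul, ih, map_add, map_one,
        Finset.prod_range_succ]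
      ring
  have h1 := hiter p
  rw [hσp, AlgEquiv.one_apply] at h1
  have h2 : ∏ j ∈ Finset.range p, (1 + (σ ^ j) ε) = 1 := by
    have h3 : X * ∏ j ∈ Finset.range p, (1 + (σ ^ j) ε) = X * 1 := by
      rw [mul_one]
      exact h1.symm
    exact mul_left_cancel₀ X_ne_zero h3
  have h4 := congrArg constantCoeff h2
  rw [map_prod] at h4
  simp only [map_add, map_one, constantCoeff_map] at h4
  rw [Finset.prod_const, Finset.card_range, add_pow_char, one_pow] at h4
  have h5 : (constantCoeff ε) ^ p = 0 :=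
    add_left_cancel (a := (1 : k)) (h4.trans (add_zero 1).symm)
  exact hc0 ((pow_eq_zero_iff (Fact.out : p.Prime).ne_zero).mp h5)

lemma order_sub_nat {a b : PowerSeries k} {n1 n2 n3 : ℕ} (h1 : a.order = n1)
    (h2 : b.order = n2) (h3 : (a - b).order = n3) :
    min n1 n2 ≤ n3 ∧ (n1 < n2 → n3 = n1) := by
  constructor
  · have h := min_order_le_order_add a (-b)
    rw [order_neg, ← sub_eq_add_neg, h1, h2, h3] at h
    rcases min_le_iff.mp h with h' | h'
    · exact min_le_iff.mpr (Or.inl (by exact_mod_cast h'))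
    · exact min_le_iff.mpr (Or.inr (by exact_mod_cast h'))
  · intro hlt
    have hne : a.order ≠ (-b).order := by
      rw [order_neg, h1, h2]
      exact_mod_cast hlt.ne
    have h := order_add_of_order_ne a (-b) hne
    rw [order_neg, ← sub_eq_add_neg, h1, h2, h3,
      inf_eq_left.mpr (show (n1 : ℕ∞) ≤ n2 by exact_mod_cast hlt.le)] at h
    exact_mod_cast h

theorem main2
    (p : ℕ) [Fact p.Prime] (k : Type*) [Field k] [CharP k p]
    (σ : PowerSeries k ≃ₐ[k] PowerSeries k) (hσp : σ ^ p = 1)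
    (m : ℕ) (hm : (σ PowerSeries.X - PowerSeries.X).order = ((m + 1 : ℕ) : ℕ∞))
    (f : PowerSeries k) (hfσ : σ f = f) (hf0 : PowerSeries.constantCoeff f ≠ 0)
    (μ : ℕ) (hμ : 0 < μ) (hpμ : ¬ p ∣ μ)
    (z : FractionRing (PowerSeries k))
    (hz : z ^ p - z = algebraMap (PowerSeries k) (FractionRing (PowerSeries k)) f /
      algebraMap (PowerSeries k) (FractionRing (PowerSeries k))
        (∏ i ∈ Finset.range p, (σ ^ i) PowerSeries.X) ^ μ) :
    μ = m := by
  have hp2 : 2 ≤ p := (Fact.out : p.Prime).two_le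
  obtain ⟨P, hP⟩ : ∃ P, p = P + 1 := ⟨p - 1, by omega⟩
  have hP1 : 1 ≤ P := by omega
  have hm1 : 1 ≤ m := one_le_break p σ hσp m hm
  have hchar : CharP (PowerSeries k) p :=
    charP_of_injective_algebraMap (algebraMap k (PowerSeries k)).injective p
  -- the norm x
  obtain ⟨x, hxdef⟩ : ∃ x, x = ∏ i ∈ Finset.range p, (σ ^ i) (X : PowerSeries k) := ⟨_, rfl⟩
  rw [← hxdef] at hz
  have hxo : x.order = (p : ℕ∞) := by
    rw [hxdef, order_prod,
      Finset.sum_congr rfl (fun i _ => show ((σ ^ i) (X : PowerSeries k)).order = 1 by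
        rw [order_map, order_X])]
    simp
  have hx0 : x ≠ 0 := by
    rintro rfl
    rw [order_zero] at hxo
    exact ENat.top_ne_natCast _ hxo
  have hσx : σ x = x := by
    rw [hxdef, map_prod]
    have h1 : ∀ i, σ ((σ ^ i) (X : PowerSeries k)) = (σ ^ (i + 1)) X := by
      intro i
      rw [pow_succ', AlgEquiv.mul_apply]
    simp only [h1]
    have h2 := Finset.prod_range_succ' (fun i => (σ ^ i) (X : PowerSeries k)) p
    have h3 := Finset.prod_range_succ (fun i => (σ ^ i) (X : PowerSeries k)) p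
    rw [h3] at h2
    simp only [hσp, pow_zero, AlgEquiv.one_apply] at h2
    exact (mul_right_cancel₀ X_ne_zero h2).symm
  -- write z = w / x ^ β
  obtain ⟨ι, hι⟩ : ∃ ι : PowerSeries k →+* FractionRing (PowerSeries k),
      ι = algebraMap (PowerSeries k) (FractionRing (PowerSeries k)) := ⟨_, rfl⟩
  rw [← hι] at hz
  obtain ⟨a, b, hb, hab⟩ := IsFractionRing.div_surjective (A := PowerSeries k) z
  rw [← hι] at hab
  have hb0 : b ≠ 0 := nonZeroDivisors.ne_zero hb
  obtain ⟨β, hβ⟩ : ∃ β : ℕ, b.order = β := ⟨_, (coe_toNat_order hb0).symm⟩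
  obtain ⟨b', hb'⟩ : b ∣ x ^ β := dvd_of_order_le hb0 (by
    rw [order_pow, hxo, hβ, nsmul_eq_mul]
    exact_mod_cast Nat.le_mul_of_pos_right β (by omega))
  have hιinj : Function.Injective ι := by
    rw [hι]
    exact IsFractionRing.injective _ _
  have hιb : ι b ≠ 0 := fun h => hb0 (hιinj (by rw [h, map_zero]))
  have hιx : ι x ≠ 0 := fun h => hx0 (hιinj (by rw [h, map_zero]))
  obtain ⟨w, hwdef⟩ : ∃ w, w = a * b' := ⟨_, rfl⟩
  have hW : ι w = z * ι x ^ β := by
    rw [hwdef, ← hab, ← map_pow, hb', map_mul, map_mul]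
    field_simp
  have hE : w ^ p * x ^ μ - w * x ^ (P * β + μ) = f * x ^ (p * β) := by
    apply hιinj
    rw [map_sub, map_mul, map_mul, map_mul, map_pow, map_pow, map_pow, map_pow, hW]
    have hz' : z ^ (P + 1) - z = ι f / ι x ^ μ := by
      rw [← hP]
      exact hz
    have h1 : (z * ι x ^ β) ^ p * ι x ^ μ - z * ι x ^ β * ι x ^ (P * β + μ) =
        (z ^ (P + 1) - z) * ι x ^ μ * ι x ^ (p * β) := by
      rw [hP]
      ring
    rw [h1, hz', div_mul_cancel₀ _ (pow_ne_zero _ hιx)]
  have hf1 : f ≠ 0 := by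
    rintro rfl
    simp at hf0
  have hw0 : w ≠ 0 := by
    rintro rfl
    rw [zero_pow (by omega : p ≠ 0), zero_mul, zero_mul, sub_zero] at hE
    exact mul_ne_zero hf1 (pow_ne_zero _ hx0) hE.symm
  obtain ⟨ω, hω⟩ : ∃ ω : ℕ, w.order = ω := ⟨_, (coe_toNat_order hw0).symm⟩
  have hfo : f.order = 0 :=
    order_zero_of_unit (isUnit_iff_constantCoeff.mpr (isUnit_iff_ne_zero.mpr hf0))
  obtain ⟨q, hq⟩ : ∃ q, q = p * β := ⟨_, rfl⟩
  have hT1 : (w ^ p * x ^ μ).order = ((p * (ω + μ) : ℕ) : ℕ∞) := by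
    rw [order_mul, order_pow, order_pow, hω, hxo, nsmul_eq_mul, nsmul_eq_mul]
    push_cast
    ring
  have hT2 : (w * x ^ (P * β + μ)).order = ((ω + (P * β + μ) * p : ℕ) : ℕ∞) := by
    rw [order_mul, order_pow, hω, hxo, nsmul_eq_mul]
    push_cast
    ring
  have hT3 : (w ^ p * x ^ μ - w * x ^ (P * β + μ)).order = ((p * q : ℕ) : ℕ∞) := by
    rw [hE, order_mul, order_pow, hfo, hxo, zero_add, nsmul_eq_mul, hq]
    push_cast
    ring
  obtain ⟨hmin, hlt⟩ := order_sub_nat hT1 hT2 hT3
  have e2 : ω + (P * β + μ) * p = ω + P * q + μ * p := by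
    rw [hq]
    ring
  have e3 : p * q = P * q + q := by
    rw [hP]
    ring
  have hμp : 1 ≤ μ * p := Nat.mul_pos hμ (by omega)
  have hωμ : q = ω + μ := by
    by_cases hcase : ω < q
    · have h1 : P * ω < P * q := (Nat.mul_lt_mul_left (by omega)).mpr hcase
      have e1 : p * (ω + μ) = P * ω + ω + μ * p := by
        rw [hP]
        ring
      have h2 : p * (ω + μ) < ω + (P * β + μ) * p := by
        rw [e1, e2]
        omega
      have h3 := hlt h2
      exact Nat.eq_of_mul_eq_mul_left (by omega : 0 < p) h3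
    · exfalso
      have hge : q ≤ ω := by omega
      have h1 : p * q < p * (ω + μ) := (Nat.mul_lt_mul_left (by omega)).mpr (by omega)
      have h2 : p * q < ω + (P * β + μ) * p := by
        rw [e2, e3]
        omega
      have h3 : p * q < min (p * (ω + μ)) (ω + (P * β + μ) * p) := lt_min h1 h2
      omega
  have hpω : ¬ p ∣ ω := by
    intro hd
    apply hpμ
    have h1 : p ∣ ω + μ := by
      rw [← hωμ, hq]
      exact dvd_mul_right p β
    exact (Nat.dvd_add_right hd).mp h1
  have hnk : (ω : k) ≠ 0 := by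
    rw [Ne, CharP.cast_eq_zero_iff k p]
    exact hpω
  obtain ⟨d, hddef⟩ : ∃ d, d = σ w - w := ⟨_, rfl⟩
  have hdo : d.order = ((ω + m : ℕ) : ℕ∞) := by
    rw [hddef]
    exact lemB σ X order_X m hm1 hm w ω hω hnk
  have hE' : (σ w) ^ p * x ^ μ - σ w * x ^ (P * β + μ) = f * x ^ (p * β) := by
    have h1 := congrArg σ hE
    simp only [map_sub, map_mul, map_pow, hσx, hfσ] at h1
    exact h1
  have hE2 : d ^ p * x ^ μ = d * x ^ (P * β + μ) := by
    rw [hddef, sub_pow_char]
    linear_combination hE' - hE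
  have h1 := congrArg order hE2
  rw [order_mul, order_pow, order_pow, order_mul, order_pow, hdo, hxo, nsmul_eq_mul,
    nsmul_eq_mul, nsmul_eq_mul] at h1
  have hnat : p * (ω + m) + μ * p = (ω + m) + (P * β + μ) * p := by exact_mod_cast h1
  have e4 : p * (ω + m) = P * (ω + m) + (ω + m) := by
    rw [hP]
    ring
  have e5 : (P * β + μ) * p = P * q + μ * p := by
    rw [hq]
    ring
  rw [e4, e5] at hnat
  have h2 : P * (ω + m) = P * q := by omega
  have h3 := Nat.eq_of_mul_eq_mul_left (by omega : 0 < P) h2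
  omega

end Groth.Agent.H2.WildBreak
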